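import Groth.Agent.Props.AmpleQA
import Groth.Agent.AmpleLib.Rel
import Groth.Agent.GrpdLib.FiniteInAffine

/-!
Finite subsets of schemes with an ample module lie in affine opens.
-/

universe u

open CategoryTheory Limits AlgebraicGeometry Opposite TopologicalSpace

noncomputable section

namespace Groth.Agent.GalCohAux.AmpleFinite

open Groth.Agent.Props.GenLocus Groth.Agent.Props.GenTensor Groth.Agent.Props.GenProd
  Groth.Agent.Props.GenExt Groth.Agent.Props.AmpleFrames Groth.Agent.Props.AmpleBase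

variable {X : Scheme.{u}} {L : X.Modules}

theorem exists_notMem_closure {T : Type u} [TopologicalSpace T] [T0Space T] {E : Finset T} (hE : E.Nonempty) :
    ∃ z ∈ E, ∀ y ∈ E, z ∈ closure {y} → y = z := by
  let r : T → Set T := fun y => closure {y}
  classical
  obtain ⟨C, hC⟩ := (E.image r).exists_maximal (hE.image _)
  obtain ⟨z, hz, rfl⟩ := Finset.mem_image.mp hC.1
  refine ⟨z, hz, fun y hy hzy => ?_⟩
  have h1 : r z ≤ r y := closure_minimal (Set.singleton_subset_iff.2 hzy) isClosed_closure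
  have h2 : r z = r y := le_antisymm h1 (hC.2 (Finset.mem_image_of_mem _ hy) h1)
  exact (inseparable_iff_closure_eq.2 h2.symm).eq

/-- A section of a positive power of an ample module generating at finitely many points. -/
theorem exists_nonvanishing (h : CohB1.IsAmple L) (E : Finset X) :
    E.Nonempty → ∃ (K : ℕ) (s : Coh.structureModule X ⟶ CohB1.tensorPow L (K + 1)),
      (E : Set X) ⊆ CohB1.genLocus _ s := by
  classical
  induction hn : E.card using Nat.strong_induction_on generalizing E with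
  | _ n ih =>
    intro hne
    obtain ⟨z, hz, hmax⟩ := exists_notMem_closure hne
    let O : X.Opens := ⟨(⋃ y ∈ (E.erase z : Set X), closure {y})ᶜ,
      ((E.erase z).finite_toSet.isClosed_biUnion fun y _ => isClosed_closure).isOpen_compl⟩
    have hzO : z ∈ O := by
      intro hc
      obtain ⟨y, hy, hzy⟩ := Set.mem_iUnion₂.mp hc
      exact Finset.ne_of_mem_erase hy (hmax y (Finset.mem_of_mem_erase hy) hzy)
    obtain ⟨m, t, hzt, htO, -⟩ := exists_affine_genLocus_le h hzO
    have hty : ∀ y ∈ E.erase z, y ∉ CohB1.genLocus _ t := fun y hy hyt =>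
      htO hyt (Set.mem_iUnion₂.mpr ⟨y, hy, subset_closure rfl⟩)
    rcases (E.erase z).eq_empty_or_nonempty with he | hne'
    · refine ⟨m, t, fun y hy => ?_⟩
      by_cases hyz : y = z
      · exact hyz ▸ hzt
      · exact absurd (Finset.mem_erase.mpr ⟨hyz, hy⟩ : y ∈ E.erase z) (by simp [he])
    obtain ⟨K, s, hs⟩ := ih (E.erase z).card (hn ▸ Finset.card_erase_lt_of_mem hz) _ rfl hne'
    by_cases hzs : z ∈ CohB1.genLocus _ s
    · exact ⟨K, s, fun y hy => if hyz : y = z then hyz ▸ hzs else hs (Finset.mem_erase.mpr ⟨hyz, hy⟩)⟩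
    obtain ⟨N, hN⟩ : ∃ N, N + 1 = (K + 1) * (m + 1) := ⟨K * m + K + m, by ring⟩
    obtain ⟨S, hS⟩ := exists_pow h.1 s (m + 1) (N + 1) hN
    obtain ⟨T, hT⟩ := exists_pow h.1 t (K + 1) (N + 1) (hN.trans (Nat.mul_comm _ _))
    have eS := genLocus_pow h.1 s (Nat.succ_pos m) S hS
    have eT := genLocus_pow h.1 t (Nat.succ_pos K) T hT
    refine ⟨N, S + T, fun y hy => ?_⟩
    by_cases hyz : y = z
    · subst hyz
      exact Props.AmpleQA.mem_genLocus_add h.1 S T (eS ▸ hzs) (eT ▸ hzt)
    · rw [add_comm S T]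
      have hy' : y ∈ E.erase z := Finset.mem_erase.mpr ⟨hyz, hy⟩
      exact Props.AmpleQA.mem_genLocus_add h.1 T S (eT ▸ hty y hy') (eS ▸ hs hy')

/-- A finite subset of a scheme with an ample module lies in an affine open. -/
theorem exists_affine_of_finite (h : CohB1.IsAmple L) {F : Set X} (hF : F.Finite) :
    ∃ V : X.Opens, IsAffineOpen V ∧ F ⊆ V := by
  rcases F.eq_empty_or_nonempty with rfl | hne
  · exact ⟨⊥, isAffineOpen_bot X, Set.empty_subset _⟩
  obtain ⟨K, s, hs⟩ := exists_nonvanishing h hF.toFinset (hF.toFinset_nonempty.2 hne)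
  rw [hF.coe_toFinset] at hs
  have := isQuasiAffine_genLocus h (Nat.succ_pos K) s
  obtain ⟨W, hW, hFW⟩ := GrpdLib.exists_affine_of_finite_of_isQuasiAffine
    (X := (CohB1.genLocus _ s).toScheme) (F := (CohB1.genLocus _ s).ι ⁻¹' F)
    (hF.preimage (CohB1.genLocus _ s).ι.isOpenEmbedding.injective.injOn)
  exact ⟨(CohB1.genLocus _ s).ι ''ᵁ W, hW.image_of_isOpenImmersion _,
    fun x hx => ⟨⟨x, hs hx⟩, hFW hx, rfl⟩⟩

/-- A finite subset of a quasi-projective scheme over an affine base lies in an affine open. -/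
theorem exists_affine_of_finite_of_isRelAmple {S : Scheme.{u}} [IsAffine S] {f : X ⟶ S}
    (h : RelAmple.IsRelAmple f L) {F : Set X} (hF : F.Finite) :
    ∃ V : X.Opens, IsAffineOpen V ∧ F ⊆ V := by
  have := h.1
  exact exists_affine_of_finite ((AmpleLib.isRelAmple_iff_isAmple f).mp h) hF

end Groth.Agent.GalCohAux.AmpleFinite

end
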