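import Groth.Agent.GalCohAux.Descent
import Groth.Prelude.Def_GalDesc
import Mathlib.LinearAlgebra.TensorProduct.Tower

/-!
Forms of a vector space with structure, through cocycles in the automorphisms of the base change.
-/

universe u v w x y

open scoped TensorProduct

namespace Groth.Agent.GalCohAux.Forms

variable {k : Type u} [Field k] {K : Type v} [Field K] [Algebra k K]
variable {V : Type w} [AddCommGroup V] [Module k V] {W : Type x} [AddCommGroup W] [Module k W]
  {W' : Type y} [AddCommGroup W'] [Module k W']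

theorem baseChange_smul (f : V →ₗ[k] W) (σ : K ≃ₐ[k] K) (z : K ⊗[k] V) :
    f.baseChange K (σ • z) = σ • f.baseChange K z := by
  induction z using TensorProduct.induction_on with
  | zero => simp
  | tmul a v => simp only [TensorProduct.smul_tmul', LinearMap.baseChange_tmul]
  | add z z' h h' => simp only [smul_add, map_add, h, h']

theorem smul_one_tmul (σ : K ≃ₐ[k] K) (w : W) : σ • ((1 : K) ⊗ₜ[k] w) = (1 : K) ⊗ₜ[k] w := by
  rw [TensorProduct.smul_tmul', smul_one]

/-- The base change of a linear isomorphism. -/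
noncomputable def bcEquiv (e : W ≃ₗ[k] W') : K ⊗[k] W ≃ₗ[K] K ⊗[k] W' :=
  LinearEquiv.ofLinear ((e : W →ₗ[k] W').baseChange K) ((e.symm : W' →ₗ[k] W).baseChange K)
    (by rw [← LinearMap.baseChange_comp, LinearEquiv.comp_coe, LinearEquiv.symm_trans_self,
      LinearEquiv.refl_toLinearMap, LinearMap.baseChange_id])
    (by rw [← LinearMap.baseChange_comp, LinearEquiv.comp_coe, LinearEquiv.self_trans_symm,
      LinearEquiv.refl_toLinearMap, LinearMap.baseChange_id])

theorem bcEquiv_tmul (e : W ≃ₗ[k] W') (c : K) (w : W) :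
    bcEquiv (K := K) e (c ⊗ₜ[k] w) = c ⊗ₜ[k] e w := rfl

theorem bcEquiv_smul (e : W ≃ₗ[k] W') (σ : K ≃ₐ[k] K) (z : K ⊗[k] W) :
    bcEquiv e (σ • z) = σ • bcEquiv e z :=
  baseChange_smul _ σ z

theorem bcEquiv_symm_smul (e : W ≃ₗ[k] W') (σ : K ≃ₐ[k] K) (z : K ⊗[k] W') :
    (bcEquiv e).symm (σ • z) = σ • (bcEquiv e).symm z :=
  baseChange_smul _ σ z

/-- Forms differing by an isomorphism over `k` have cohomologous cocycles, by an explicit element. -/
theorem cocycle_eq_of_equiv (g : K ⊗[k] V ≃ₗ[K] K ⊗[k] W) (g' : K ⊗[k] V ≃ₗ[K] K ⊗[k] W')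
    (e : W ≃ₗ[k] W') (σ : K ≃ₐ[k] K) :
    GalDesc.cocycle k g σ = ((g.trans (bcEquiv e)).trans g'.symm)⁻¹ * GalDesc.cocycle k g' σ *
      σ • ((g.trans (bcEquiv e)).trans g'.symm) := by
  refine LinearEquiv.ext fun z => ?_
  change g.symm (σ • g (σ⁻¹ • z)) = g.symm ((bcEquiv e).symm (g' (g'.symm
    (σ • g' (σ⁻¹ • (σ • g'.symm (bcEquiv e (g (σ⁻¹ • z)))))))))
  rw [inv_smul_smul, LinearEquiv.apply_symm_apply, LinearEquiv.apply_symm_apply, bcEquiv_symm_smul,
    LinearEquiv.symm_apply_apply]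

/-- Conversely, if `g⁻¹σg = c⁻¹ (g'⁻¹σg') σc` then `g' c g⁻¹` commutes with the Galois action. -/
theorem comm_of_cohomologous (g : K ⊗[k] V ≃ₗ[K] K ⊗[k] W) (g' : K ⊗[k] V ≃ₗ[K] K ⊗[k] W')
    (c : K ⊗[k] V ≃ₗ[K] K ⊗[k] V)
    (h : ∀ σ, GalDesc.cocycle k g σ = c⁻¹ * GalDesc.cocycle k g' σ * σ • c)
    (σ : K ≃ₐ[k] K) (z : K ⊗[k] W) :
    ((g.symm.trans c).trans g') (σ • z) = σ • ((g.symm.trans c).trans g') z := by
  have h1 := LinearEquiv.congr_fun (h σ) (σ • g.symm z)
  change g.symm (σ • g (σ⁻¹ • σ • g.symm z)) =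
    c.symm (g'.symm (σ • g' (σ⁻¹ • σ • c (σ⁻¹ • σ • g.symm z)))) at h1
  rw [inv_smul_smul, inv_smul_smul, LinearEquiv.apply_symm_apply] at h1
  change g' (c (g.symm (σ • z))) = σ • g' (c (g.symm z))
  rw [h1, LinearEquiv.apply_symm_apply, LinearEquiv.apply_symm_apply]

variable [FiniteDimensional k K] [IsGalois k K]

/-- The fixed vectors of a base change are the original vectors. -/
theorem exists_tmul_of_fixed (z : K ⊗[k] W) (hz : ∀ σ : K ≃ₐ[k] K, σ • z = z) :
    ∃ w : W, (1 : K) ⊗ₜ[k] w = z := by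
  let B := Module.Free.chooseBasis k W
  have hrep : ∀ (σ : K ≃ₐ[k] K) y j,
      (B.baseChange K).repr (σ • y) j = σ ((B.baseChange K).repr y j) := by
    intro σ y j
    induction y using TensorProduct.induction_on with
    | zero => simp
    | tmul a w => simp [TensorProduct.smul_tmul', Algebra.smul_def, map_mul, AlgEquiv.commutes]
    | add y y' h h' => simp only [smul_add, map_add, Finsupp.add_apply, h, h']
  have hk : ∀ j, ∃ r : k, algebraMap k K r = (B.baseChange K).repr z j := fun j => by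
    refine (IsGalois.mem_range_algebraMap_iff_fixed _).2 fun σ => ?_
    rw [← hrep, hz]
  choose r hr using hk
  refine ⟨∑ j ∈ ((B.baseChange K).repr z).support, r j • B j, ?_⟩
  conv_rhs => rw [← (B.baseChange K).linearCombination_repr z]
  rw [Finsupp.linearCombination_apply, Finsupp.sum, TensorProduct.tmul_sum]
  refine Finset.sum_congr rfl fun j _ => ?_
  rw [Module.Basis.baseChange_apply, ← hr, TensorProduct.tmul_smul, algebraMap_smul]

theorem one_tmul_injective : Function.Injective fun w : W => (1 : K) ⊗ₜ[k] w := by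
  intro w w' h
  let B := Module.Free.chooseBasis k W
  apply B.repr.injective
  ext j
  have h1 := congrArg (fun z => (B.baseChange K).repr z j) h
  simp only [Module.Basis.baseChange_repr_tmul] at h1
  exact (algebraMap k K).injective (by simpa [Algebra.smul_def] using h1)

/-- An isomorphism of base changes commuting with the Galois action comes from `k`. -/
theorem exists_equiv_of_comm (f : K ⊗[k] W ≃ₗ[K] K ⊗[k] W')
    (hf : ∀ (σ : K ≃ₐ[k] K) z, f (σ • z) = σ • f z) :
    ∃ e : W ≃ₗ[k] W', ∀ w, (1 : K) ⊗ₜ[k] e w = f ((1 : K) ⊗ₜ[k] w) := by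
  have hfs : ∀ (σ : K ≃ₐ[k] K) z, f.symm (σ • z) = σ • f.symm z := fun σ z => f.injective (by
    rw [hf, f.apply_symm_apply, f.apply_symm_apply])
  choose fwd hto using fun w : W => exists_tmul_of_fixed (f ((1 : K) ⊗ₜ[k] w))
    (fun σ => by rw [← hf, smul_one_tmul])
  choose inv hinv using fun w : W' => exists_tmul_of_fixed (f.symm ((1 : K) ⊗ₜ[k] w))
    (fun σ => by rw [← hfs, smul_one_tmul])
  refine ⟨{ toFun := fwd, invFun := inv, map_add' := fun a b => ?_, map_smul' := fun r a => ?_,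
            left_inv := fun w => ?_, right_inv := fun w => ?_ }, hto⟩
  · refine one_tmul_injective (k := k) (K := K) ?_
    change (1 : K) ⊗ₜ[k] fwd (a + b) = (1 : K) ⊗ₜ[k] (fwd a + fwd b)
    simp only [TensorProduct.tmul_add, hto, map_add]
  · refine one_tmul_injective (k := k) (K := K) ?_
    change (1 : K) ⊗ₜ[k] fwd (r • a) = (1 : K) ⊗ₜ[k] (r • fwd a)
    simp only [TensorProduct.tmul_smul, hto]
    rw [← algebraMap_smul K r, map_smul, algebraMap_smul]
  · exact one_tmul_injective (K := K) (by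
      change (1 : K) ⊗ₜ[k] inv (fwd w) = _
      rw [hinv, hto, f.symm_apply_apply])
  · exact one_tmul_injective (K := K) (by
      change (1 : K) ⊗ₜ[k] fwd (inv w) = _
      rw [hto, hinv, f.apply_symm_apply])

/-- The twisted action of a cocycle. -/
noncomputable def twAct (a : GpH1.OneCocycle (K ≃ₐ[k] K) (K ⊗[k] V ≃ₗ[K] K ⊗[k] V)) (σ : K ≃ₐ[k] K) :
    K ⊗[k] V →+ K ⊗[k] V :=
  AddMonoidHom.mk' (fun z => a σ (σ • z)) fun z z' => by rw [smul_add, map_add]

theorem isSemilinear_twAct (a : GpH1.OneCocycle (K ≃ₐ[k] K) (K ⊗[k] V ≃ₗ[K] K ⊗[k] V)) :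
    Descent.IsSemilinearAction (twAct a) where
  mul σ τ z := by
    change a (σ * τ) ((σ * τ) • z) = a σ (σ • a τ (τ • z))
    rw [a.2 σ τ]
    change a σ (σ • a τ (σ⁻¹ • (σ * τ) • z)) = _
    rw [mul_smul, inv_smul_smul]
  one z := by
    have h := a.2 1 1
    rw [mul_one, one_smul] at h
    change a 1 ((1 : K ≃ₐ[k] K) • z) = z
    rw [one_smul, left_eq_mul.1 h]
    rfl
  smul σ c z := by
    change a σ (σ • c • z) = σ c • a σ (σ • z)
    rw [smul_distrib_smul σ c z, map_smul, AlgEquiv.smul_def]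

/-- The trivialisation of the form cut out by a cocycle. -/
noncomputable def formEquiv (a : GpH1.OneCocycle (K ≃ₐ[k] K) (K ⊗[k] V ≃ₗ[K] K ⊗[k] V))
    (ι : W →ₗ[k] K ⊗[k] V) (hι : Function.Injective ι)
    (hW : LinearMap.range ι = GalDesc.fixedSub a) : K ⊗[k] W ≃ₗ[K] K ⊗[k] V :=
  Descent.descentEquiv (isSemilinear_twAct a) ι hι (hW.trans (SetLike.ext fun _ => Iff.rfl))

theorem formEquiv_tmul (a : GpH1.OneCocycle (K ≃ₐ[k] K) (K ⊗[k] V ≃ₗ[K] K ⊗[k] V))
    (ι : W →ₗ[k] K ⊗[k] V) (hι : Function.Injective ι)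
    (hW : LinearMap.range ι = GalDesc.fixedSub a) (c : K) (w : W) :
    formEquiv a ι hι hW (c ⊗ₜ[k] w) = c • ι w :=
  Descent.descentEquiv_tmul ..

theorem cocycle_formEquiv_symm (a : GpH1.OneCocycle (K ≃ₐ[k] K) (K ⊗[k] V ≃ₗ[K] K ⊗[k] V))
    (ι : W →ₗ[k] K ⊗[k] V) (hι : Function.Injective ι)
    (hW : LinearMap.range ι = GalDesc.fixedSub a) :
    GalDesc.cocycle k (formEquiv a ι hι hW).symm = a := by
  refine GpH1.OneCocycle.ext fun σ => LinearEquiv.ext fun z => ?_
  rw [GalDesc.cocycle_apply, LinearEquiv.symm_symm]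
  have key : ∀ y, formEquiv a ι hι hW (σ • y) = a σ (σ • formEquiv a ι hι hW y) := by
    intro y
    induction y using TensorProduct.induction_on with
    | zero => simp
    | tmul c w =>
      have hw : a σ (σ • ι w) = ι w := (hW.le ⟨w, rfl⟩ : ι w ∈ GalDesc.fixedSub a) σ
      rw [TensorProduct.smul_tmul', formEquiv_tmul, formEquiv_tmul, smul_distrib_smul σ c (ι w),
        map_smul, hw]
    | add y y' h h' => simp only [smul_add, map_add, h, h']
  rw [key, LinearEquiv.apply_symm_apply, smul_inv_smul]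

end Groth.Agent.GalCohAux.Forms
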