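import Mathlib.RingTheory.Trace.Basic
import Mathlib.FieldTheory.Fixed
import Mathlib.RingTheory.TensorProduct.Free
import Mathlib.LinearAlgebra.Dual.Lemmas
import Mathlib.LinearAlgebra.TensorProduct.Tower
import Mathlib.RingTheory.TensorProduct.Basic

/-!
Galois descent for vector spaces with a semilinear action of a finite Galois group.
The action is given by a family of additive maps `s`, so that twisted actions need no instance.
-/

universe u v w x

open TensorProduct Module

namespace Groth.Agent.GalCohAux.Descent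

variable {k : Type u} [Field k] {K : Type v} [Field K] [Algebra k K]
variable {V : Type w} [AddCommGroup V] [Module K V] [Module k V] [IsScalarTower k K V]

/-- A semilinear action of the Galois group. -/
structure IsSemilinearAction (s : (K ≃ₐ[k] K) → V →+ V) : Prop where
  mul : ∀ σ τ v, s (σ * τ) v = s σ (s τ v)
  one : ∀ v, s 1 v = v
  smul : ∀ σ (c : K) v, s σ (c • v) = σ c • s σ v

/-- The fixed vectors, as a `k`-subspace. -/
def fixedVec {s : (K ≃ₐ[k] K) → V →+ V} (hs : IsSemilinearAction s) : Submodule k V where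
  carrier := {v | ∀ σ, s σ v = v}
  zero_mem' := fun σ => map_zero _
  add_mem' := fun {a b} ha hb σ => by rw [map_add, ha σ, hb σ]
  smul_mem' := fun r v hv σ => by
    rw [← algebraMap_smul K r v, hs.smul, AlgEquiv.commutes, hv σ]

theorem mem_fixedVec {s : (K ≃ₐ[k] K) → V →+ V} (hs : IsSemilinearAction s) (v : V) :
    v ∈ fixedVec hs ↔ ∀ σ, s σ v = v := Iff.rfl

variable [FiniteDimensional k K]

theorem span_galois_eq_top :
    Submodule.span K (Set.range fun (c : K) (σ : K ≃ₐ[k] K) => σ c) = ⊤ := by
  classical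
  by_contra h
  obtain ⟨f, hf, hmap⟩ := Submodule.exists_dual_map_eq_bot_of_lt_top (lt_top_iff_ne_top.2 h)
    inferInstance
  apply hf
  have hli : LinearIndependent K fun σ : K ≃ₐ[k] K => σ.toAlgHom.toLinearMap :=
    (linearIndependent_toLinearMap k K K).comp (fun σ : K ≃ₐ[k] K => σ.toAlgHom)
      (fun σ τ h => AlgEquiv.ext fun z => AlgHom.congr_fun h z)
  have hzero : ∀ σ, f (Pi.single σ 1) = 0 := by
    refine Fintype.linearIndependent_iff.1 hli (fun σ => f (Pi.single σ 1)) ?_
    ext c
    have hc : f (fun σ : K ≃ₐ[k] K => σ c) = 0 := by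
      have : f (fun σ : K ≃ₐ[k] K => σ c) ∈
          Submodule.map f (Submodule.span K (Set.range fun (c : K) (σ : K ≃ₐ[k] K) => σ c)) :=
        ⟨_, Submodule.subset_span ⟨c, rfl⟩, rfl⟩
      rw [hmap] at this
      exact this
    rw [show (fun σ : K ≃ₐ[k] K => σ c) = ∑ σ : K ≃ₐ[k] K, σ c • (Pi.single σ (1 : K)) from
      pi_eq_sum_univ' _] at hc
    simp only [map_sum, map_smul] at hc
    simp only [LinearMap.sum_apply, LinearMap.smul_apply, AlgHom.toLinearMap_apply,
      smul_eq_mul, LinearMap.zero_apply]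
    refine (Finset.sum_congr rfl fun σ _ => ?_).trans hc
    exact mul_comm _ _
  ext σ
  simpa using hzero σ

variable [IsGalois k K]

theorem span_fixedVec_eq_top {s : (K ≃ₐ[k] K) → V →+ V} (hs : IsSemilinearAction s) :
    Submodule.span K (fixedVec hs : Set V) = ⊤ := by
  classical
  rw [eq_top_iff]
  rintro v -
  let Φ : ((K ≃ₐ[k] K) → K) →ₗ[K] V := ∑ σ, (LinearMap.proj σ).smulRight (s σ v)
  have hle : Submodule.span K (Set.range fun (c : K) (σ : K ≃ₐ[k] K) => σ c) ≤
      (Submodule.span K (fixedVec hs : Set V)).comap Φ := by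
    refine Submodule.span_le.2 ?_
    rintro _ ⟨c, rfl⟩
    refine Submodule.subset_span ?_
    intro τ
    simp only [Φ, LinearMap.sum_apply, LinearMap.smulRight_apply, LinearMap.proj_apply, map_sum,
      hs.smul, ← hs.mul, ← AlgEquiv.mul_apply]
    exact Equiv.sum_comp (Equiv.mulLeft τ) fun σ => σ c • s σ v
  rw [span_galois_eq_top] at hle
  have := hle (Submodule.mem_top (x := Pi.single (1 : K ≃ₐ[k] K) (1 : K)))
  simpa [Φ, LinearMap.sum_apply, Pi.single_apply, hs.one] using this

theorem trace_smul_fixed {s : (K ≃ₐ[k] K) → V →+ V} (hs : IsSemilinearAction s) {v : V}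
    (hv : v ∈ fixedVec hs) (c : K) :
    Algebra.trace k K c • v = ∑ σ, s σ (c • v) := by
  rw [← algebraMap_smul K (Algebra.trace k K c) v, trace_eq_sum_automorphisms, Finset.sum_smul]
  exact Finset.sum_congr rfl fun σ _ => by rw [hs.smul, hv σ]

variable {W : Type x} [AddCommGroup W] [Module k W]

theorem liftBaseChange_injective {s : (K ≃ₐ[k] K) → V →+ V} (hs : IsSemilinearAction s)
    (ι : W →ₗ[k] V) (hι : Function.Injective ι) (hr : LinearMap.range ι ≤ fixedVec hs) :
    Function.Injective (ι.liftBaseChange K) := by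
  rw [← LinearMap.ker_eq_bot, LinearMap.ker_eq_bot']
  intro z hz
  let B := Module.Free.chooseBasis k W
  let Λ : K → K ⊗[k] W →ₗ[k] W := fun c =>
    (TensorProduct.lid k W).toLinearMap ∘ₗ
      ((Algebra.trace k K ∘ₗ LinearMap.mulLeft k c).rTensor W)
  have hΛ : ∀ (c a : K) (w : W), Λ c (a ⊗ₜ w) = Algebra.trace k K (c * a) • w := fun c a w => rfl
  have h1 : ∀ c y, ι (Λ c y) = ∑ σ, s σ (c • ι.liftBaseChange K y) := by
    intro c y
    induction y using TensorProduct.induction_on with
    | zero => simp
    | tmul a w =>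
      rw [hΛ, map_smul, LinearMap.liftBaseChange_tmul, smul_smul]
      exact trace_smul_fixed hs (hr ⟨w, rfl⟩) _
    | add y y' hy hy' => simp only [map_add, hy, hy', smul_add, Finset.sum_add_distrib]
  have h2 : ∀ c, Λ c z = 0 := fun c => hι (by simp [h1, hz])
  have h3 : ∀ c j y, B.repr (Λ c y) j = Algebra.trace k K (c * (B.baseChange K).repr y j) := by
    intro c j y
    induction y using TensorProduct.induction_on with
    | zero => simp
    | tmul a w =>
      rw [hΛ, Module.Basis.baseChange_repr_tmul, map_smul, Finsupp.smul_apply, smul_eq_mul,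
        Algebra.smul_def, mul_left_comm, ← Algebra.smul_def, map_smul, smul_eq_mul, mul_comm]
    | add y y' hy hy' => simp only [map_add, Finsupp.add_apply, hy, hy', mul_add]
  apply (B.baseChange K).repr.injective
  rw [map_zero]
  ext j
  refine (traceForm_nondegenerate k K).1 _ fun c => ?_
  rw [Algebra.traceForm_apply, mul_comm, ← h3, h2, map_zero, Finsupp.zero_apply]

/-- `K ⊗ W ≅ V` for `W` the fixed vectors. -/
theorem liftBaseChange_bijective {s : (K ≃ₐ[k] K) → V →+ V} (hs : IsSemilinearAction s)
    (ι : W →ₗ[k] V) (hι : Function.Injective ι) (hr : LinearMap.range ι = fixedVec hs) :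
    Function.Bijective (ι.liftBaseChange K) := by
  refine ⟨liftBaseChange_injective hs ι hι hr.le, ?_⟩
  rw [← LinearMap.range_eq_top, eq_top_iff, ← span_fixedVec_eq_top hs, Submodule.span_le]
  intro v hv
  rw [SetLike.mem_coe, ← hr] at hv
  obtain ⟨w, rfl⟩ := hv
  exact ⟨1 ⊗ₜ w, by rw [LinearMap.liftBaseChange_tmul, one_smul]⟩

/-- The descended isomorphism. -/
noncomputable def descentEquiv {s : (K ≃ₐ[k] K) → V →+ V} (hs : IsSemilinearAction s)
    (ι : W →ₗ[k] V) (hι : Function.Injective ι) (hr : LinearMap.range ι = fixedVec hs) :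
    K ⊗[k] W ≃ₗ[K] V :=
  LinearEquiv.ofBijective _ (liftBaseChange_bijective hs ι hι hr)

theorem descentEquiv_tmul {s : (K ≃ₐ[k] K) → V →+ V} (hs : IsSemilinearAction s)
    (ι : W →ₗ[k] V) (hι : Function.Injective ι) (hr : LinearMap.range ι = fixedVec hs)
    (c : K) (w : W) : descentEquiv hs ι hι hr (c ⊗ₜ w) = c • ι w :=
  LinearMap.liftBaseChange_tmul ..

theorem finrank_fixedVec {s : (K ≃ₐ[k] K) → V →+ V} (hs : IsSemilinearAction s) :
    Module.finrank k (fixedVec hs) = Module.finrank K V := by
  rw [← LinearEquiv.finrank_eq (descentEquiv hs (fixedVec hs).subtype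
    (Submodule.injective_subtype _) (Submodule.range_subtype _)), Module.finrank_baseChange]

theorem finiteDimensional_fixedVec {s : (K ≃ₐ[k] K) → V →+ V} (hs : IsSemilinearAction s)
    [FiniteDimensional K V] : FiniteDimensional k (fixedVec hs) := by
  haveI : FiniteDimensional k V := Module.Finite.trans K V
  infer_instance

/-- Every semilinear action on a finite-dimensional space has a basis of fixed vectors. -/
theorem exists_basis_fixed {s : (K ≃ₐ[k] K) → V →+ V} (hs : IsSemilinearAction s)
    [FiniteDimensional K V] {n : ℕ} (hn : Module.finrank K V = n) :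
    ∃ b : Module.Basis (Fin n) K V, ∀ i σ, s σ (b i) = b i := by
  haveI := finiteDimensional_fixedVec hs
  let B := Module.finBasisOfFinrankEq k (fixedVec hs) ((finrank_fixedVec hs).trans hn)
  refine ⟨(B.baseChange K).map (descentEquiv hs (fixedVec hs).subtype
    (Submodule.injective_subtype _) (Submodule.range_subtype _)), fun i σ => ?_⟩
  rw [Module.Basis.map_apply, Module.Basis.baseChange_apply, descentEquiv_tmul, one_smul]
  exact (B i).2 σ

end Groth.Agent.GalCohAux.Descent
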