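import Groth.Prelude.Def_EtBase

/-!
Multiplication by integers on étale sheaves and their cohomology.
-/

set_option autoImplicit false

universe u

open CategoryTheory CategoryTheory.Limits AlgebraicGeometry Opposite

noncomputable section

namespace Groth.Agent.GalCohAux.EtNsmul

variable {X : Scheme.{u}}

theorem comp_nsmul_id {F : EtCoh.Ab X} {n : ℕ} (x : EtCoh.H X F n) (m : ℕ) :
    x.comp (Abelian.Ext.mk₀ (m • 𝟙 F)) (add_zero n) = m • x := by
  let Q : (F ⟶ F) →+ EtCoh.H X F n := AddMonoidHom.mk'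
    (fun f => x.comp (Abelian.Ext.mk₀ f) (add_zero n)) fun f g => by
      simp [Abelian.Ext.mk₀_add, Abelian.Ext.comp_add]
  show Q (m • 𝟙 F) = _
  rw [map_nsmul]
  congr 1
  exact Abelian.Ext.comp_mk₀_id x

theorem nsmul_H_eq_zero {F : EtCoh.Ab X} {m : ℕ} (h : m • 𝟙 F = 0) {n : ℕ} (x : EtCoh.H X F n) :
    m • x = 0 := by
  rw [← comp_nsmul_id x m, h, Abelian.Ext.mk₀_zero, Abelian.Ext.comp_zero]

/-- Multiplication by an integer on sections. -/
theorem nsmul_id_app (F : EtCoh.Ab X) (m : ℕ) (U : X.Etale) (s : EtCoh.sect F U) :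
    (m • 𝟙 F).hom.app (op U) s = m • s := by
  induction m with
  | zero => rw [zero_nsmul, zero_nsmul]; rfl
  | succ m ih =>
    rw [succ_nsmul, succ_nsmul, ← ih]
    rfl

theorem nsmul_sect_eq_zero {F : EtCoh.Ab X} {m : ℕ} (h : m • 𝟙 F = 0) (U : X.Etale) (s : EtCoh.sect F U) :
    m • s = 0 := by
  rw [← nsmul_id_app, h]
  rfl

/-- A sheaf killed by a positive integer is torsion. -/
theorem isTorsion_of_nsmul_id {F : EtCoh.Ab X} {m : ℕ} (hm : 0 < m) (h : m • 𝟙 F = 0) : EtCoh.IsTorsion F :=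
  fun U s x => ⟨U, 𝟙 U, ⟨x, rfl⟩, isOfFinAddOrder_iff_nsmul_eq_zero.2 ⟨m, hm, nsmul_sect_eq_zero h U _⟩⟩

theorem nsmul_id_kernel {F : EtCoh.Ab X} (m : ℕ) : m • 𝟙 (kernel (m • 𝟙 F)) = 0 := by
  rw [← cancel_mono (kernel.ι (m • 𝟙 F))]
  simpa [Preadditive.nsmul_comp, Preadditive.comp_nsmul] using kernel.condition (m • 𝟙 F)

theorem nsmul_id_cokernel {F : EtCoh.Ab X} (m : ℕ) : m • 𝟙 (cokernel (m • 𝟙 F)) = 0 := by
  rw [← cancel_epi (cokernel.π (m • 𝟙 F))]
  have h := cokernel.condition (m • 𝟙 F)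
  rw [Preadditive.nsmul_comp, Category.id_comp] at h
  rw [Preadditive.comp_nsmul, Category.comp_id, comp_zero, h]

end Groth.Agent.GalCohAux.EtNsmul
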