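import Groth.Agent.GalCohAux.EtKill
import Groth.Agent.EtaleSite.HpullComp
import Mathlib.FieldTheory.Galois.Basic
import Mathlib.GroupTheory.Sylow

/-!
Pullback of cohomology classes along towers of finite separable extensions.
-/

set_option autoImplicit false

universe u

open CategoryTheory CategoryTheory.Limits AlgebraicGeometry Opposite

noncomputable section

namespace Groth.Agent.GalCohAux.EtTower

open EtaleSite EtTrace

variable {K : Type u} [Field K]

local notation "SK" => Spec (CommRingCat.of K)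

/-- Classes killed by a pullback stay killed along a factorisation. -/
theorem Hpull_eq_zero_iff {X Y Z : Scheme.{u}} (g : X ⟶ Y) (h : Y ⟶ Z) (f : X ⟶ Z) (w : f = g ≫ h)
    (n : ℕ) (G : EtCoh.Ab Z) (e : EtCoh.H Z G n) :
    EtCore.Hpull f G n e = 0 ↔ EtCore.Hpull g ((EtCoh.pull h).obj G) n (EtCore.Hpull h G n e) = 0 := by
  subst w
  rw [← HpullComp.Hpull_comp g h n G e]
  refine ⟨fun he => by rw [he, Abelian.Ext.zero_comp], fun he => ?_⟩
  exact (HpullComp.HF_map_bijective (n := n) ((EtCore.pullComp g h).hom.app G)).1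
    (he.trans (Abelian.Ext.zero_comp _ _ _ _ _).symm)

/-- Classes of positive degree die on a finite separable extension. -/
theorem exists_Hpull_eq_zero {n : ℕ} (hn : 0 < n) (F : EtCoh.Ab SK) (α : EtCoh.H SK F n) :
    ∃ (L : Type u) (_ : Field L) (_ : Algebra K L) (_ : FiniteDimensional K L) (_ : Algebra.IsSeparable K L),
      EtCore.Hpull (Spec.map (CommRingCat.ofHom (algebraMap K L))) F n α = 0 := by
  obtain ⟨m, rfl⟩ : ∃ m, n = m + 1 := ⟨n - 1, by omega⟩
  obtain ⟨L, i1, i2, i3, i4, h⟩ := EtKill.exists_dies m F α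
  exact ⟨L, i1, i2, i3, i4, EtKill.Hpull_eq_zero_of_dies F h⟩

/-- The degree kills classes that die on a finite separable extension. -/
theorem finrank_nsmul (L : Type u) [Field L] [Algebra K L] [FiniteDimensional K L] [Algebra.IsSeparable K L]
    {n : ℕ} {F : EtCoh.Ab SK} {α : EtCoh.H SK F n}
    (h : EtCore.Hpull (Spec.map (CommRingCat.ofHom (algebraMap K L))) F n α = 0) :
    Module.finrank K L • α = 0 :=
  EtTrace.finrank_nsmul_eq_zero L F n α h

/-- Classes of positive degree are torsion. -/
theorem isOfFinAddOrder {n : ℕ} (hn : 0 < n) (F : EtCoh.Ab SK) (α : EtCoh.H SK F n) : IsOfFinAddOrder α := by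
  obtain ⟨L, i1, i2, i3, i4, h⟩ := exists_Hpull_eq_zero hn F α
  exact isOfFinAddOrder_iff_nsmul_eq_zero.2 ⟨_, Module.finrank_pos, finrank_nsmul L h⟩

/-- A class killed on a finite separable extension is killed on a Galois one. -/
theorem exists_galois {n : ℕ} (F : EtCoh.Ab SK) (α : EtCoh.H SK F n) (L : Type u) [Field L] [Algebra K L]
    [FiniteDimensional K L] [Algebra.IsSeparable K L]
    (h : EtCore.Hpull (Spec.map (CommRingCat.ofHom (algebraMap K L))) F n α = 0) :
    ∃ (N : Type u) (_ : Field N) (_ : Algebra K N) (_ : FiniteDimensional K N) (_ : IsGalois K N),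
      EtCore.Hpull (Spec.map (CommRingCat.ofHom (algebraMap K N))) F n α = 0 := by
  let Ω := SeparableClosure K
  let N := IntermediateField.normalClosure K L Ω
  haveI : Algebra.IsSeparable K N := Algebra.isSeparable_tower_bot_of_isSeparable K N Ω
  haveI : IsGalois K N := ⟨⟩
  let ι : L →ₐ[K] Ω := IsSepClosed.lift
  let ι' : L →ₐ[K] N := ι.codRestrict N.toSubalgebra fun y => ι.fieldRange_le_normalClosure ⟨y, rfl⟩
  refine ⟨N, inferInstance, inferInstance, inferInstance, inferInstance, ?_⟩
  rw [Hpull_eq_zero_iff (Spec.map (CommRingCat.ofHom ι'.toRingHom))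
    (Spec.map (CommRingCat.ofHom (algebraMap K L))) _ (by
      rw [← Spec.map_comp]
      congr 1
      exact CommRingCat.hom_ext ι'.comp_algebraMap.symm), h, map_zero]

/-- A class of order prime to `p` dies on an extension of degree prime to `p`. -/
theorem exists_Hpull_eq_zero_not_dvd {n : ℕ} (F : EtCoh.Ab SK) (α : EtCoh.H SK F n) (L : Type u) [Field L]
    [Algebra K L] [FiniteDimensional K L] [Algebra.IsSeparable K L]
    (h : EtCore.Hpull (Spec.map (CommRingCat.ofHom (algebraMap K L))) F n α = 0) {p : ℕ} (hp : p.Prime)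
    (hpα : ¬ p ∣ addOrderOf α) :
    ∃ (L' : Type u) (_ : Field L') (_ : Algebra K L') (_ : FiniteDimensional K L') (_ : Algebra.IsSeparable K L'),
      ¬ p ∣ Module.finrank K L' ∧
        EtCore.Hpull (Spec.map (CommRingCat.ofHom (algebraMap K L'))) F n α = 0 := by
  haveI : Fact p.Prime := ⟨hp⟩
  obtain ⟨N, i1, i2, i3, i4, hN⟩ := exists_galois F α L h
  let P : Sylow p (N ≃ₐ[K] N) := default
  let P' : Subgroup (N ≃ₐ[K] N) := P
  let M : IntermediateField K N := IntermediateField.fixedField P'
  haveI : Algebra.IsSeparable K M := Algebra.isSeparable_tower_bot_of_isSeparable K M N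
  haveI : Algebra.IsSeparable M N := Algebra.isSeparable_tower_top_of_isSeparable K M N
  obtain ⟨e, he⟩ := IsPGroup.iff_card.1 P.2
  have hdeg : Module.finrank M N = p ^ e :=
    (IntermediateField.finrank_fixedField_eq_card P').trans he
  refine ⟨M, inferInstance, inferInstance, inferInstance, inferInstance, ?_, ?_⟩
  · have h1 := Module.finrank_mul_finrank K M N
    rw [hdeg, ← IsGalois.card_aut_eq_finrank K N, Subgroup.card_eq_card_quotient_mul_card_subgroup P', he] at h1
    rw [Nat.eq_of_mul_eq_mul_right (pow_pos hp.pos e) h1]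
    exact P.not_dvd_index
  · rw [Hpull_eq_zero_iff (Spec.map (CommRingCat.ofHom (algebraMap M N)))
      (Spec.map (CommRingCat.ofHom (algebraMap K M))) _ (by
        rw [← Spec.map_comp]
        rfl)] at hN
    set β := EtCore.Hpull (Spec.map (CommRingCat.ofHom (algebraMap K M))) F n α
    have h1 := addOrderOf_dvd_iff_nsmul_eq_zero.2 (finrank_nsmul N hN)
    rw [hdeg] at h1
    have h2 : addOrderOf β ∣ addOrderOf α := addOrderOf_map_dvd _ α
    exact AddMonoid.addOrderOf_eq_one_iff.1
      (Nat.eq_one_of_dvd_coprimes ((hp.coprime_iff_not_dvd.2 hpα).pow_left e) h1 h2)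

/-- Multiplication by an integer invertible on the coefficients is injective on cohomology. -/
theorem nsmul_injective {X : Scheme.{u}} (F : EtCoh.Ab X) (n m : ℕ) [IsIso (m • 𝟙 F)] :
    Function.Injective (fun x : EtCoh.H X F n => m • x) := by
  intro a b hab
  let P : (F ⟶ F) → EtCoh.H X F n →+ EtCoh.H X F n := fun f =>
    AddMonoidHom.mk' (fun x => x.comp (Abelian.Ext.mk₀ f) (add_zero n)) fun x y => Abelian.Ext.add_comp _ _ _ _
  have h : ∀ x : EtCoh.H X F n, x.comp (Abelian.Ext.mk₀ (m • 𝟙 F)) (add_zero n) = m • x := fun x => by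
    let Q : (F ⟶ F) →+ EtCoh.H X F n := AddMonoidHom.mk'
      (fun f => x.comp (Abelian.Ext.mk₀ f) (add_zero n)) fun f g => by
        simp [Abelian.Ext.mk₀_add, Abelian.Ext.comp_add]
    show Q (m • 𝟙 F) = _
    rw [map_nsmul]
    congr 1
    exact Abelian.Ext.comp_mk₀_id x
  apply (HpullComp.HF_map_bijective (n := n) (m • 𝟙 F)).1
  show a.comp _ _ = b.comp _ _
  rw [h, h]
  exact hab

end Groth.Agent.GalCohAux.EtTower
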