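import Groth.Agent.GalCohAux.EtTrace

/-!
Transfer of sections along a finite Galois extension of the base field.
-/

set_option autoImplicit false

universe u

open CategoryTheory CategoryTheory.Limits AlgebraicGeometry Opposite

noncomputable section

namespace Groth.Agent.GalCohAux.EtTransfer

open EtaleSite EtTrace

variable {K : Type u} [Field K] (N : Type u) [Field N] [Algebra K N] [FiniteDimensional K N]
  [Algebra.IsSeparable K N]

local notation "SK" => Spec (CommRingCat.of K)

/-- `U ×_K Spec N` over `K`. -/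
def wObj (U : (SK).Etale) : (SK).Etale :=
  haveI : Etale U.hom := U.prop
  haveI : Etale (fld K N).hom := (fld K N).prop
  haveI : Etale (pullback.fst U.hom (fld K N).hom) := inferInstance
  Scheme.Etale.mk (pullback.fst U.hom (fld K N).hom ≫ U.hom)

/-- The projection to `U`. -/
def wFst (U : (SK).Etale) : wObj N U ⟶ U :=
  MorphismProperty.Over.homMk (pullback.fst U.hom (fld K N).hom) rfl trivial

/-- The projection to `Spec N`. -/
def wSnd (U : (SK).Etale) : wObj N U ⟶ fld K N :=
  MorphismProperty.Over.homMk (pullback.snd U.hom (fld K N).hom) pullback.condition.symm trivial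

variable {N}

theorem wHom_ext {U V : (SK).Etale} {a b : V ⟶ wObj N U} (h₁ : a ≫ wFst N U = b ≫ wFst N U)
    (h₂ : a ≫ wSnd N U = b ≫ wSnd N U) : a = b :=
  MorphismProperty.Over.Hom.ext (pullback.hom_ext (congrArg (fun k => k.left) h₁)
    (congrArg (fun k => k.left) h₂))

/-- The map into `U ×_K Spec N` with given components. -/
def wLift {U V : (SK).Etale} (a : V ⟶ U) (b : V ⟶ fld K N) : V ⟶ wObj N U :=
  MorphismProperty.Over.homMk
    (pullback.lift a.left b.left ((Over.w a.hom).trans (Over.w b.hom).symm)) (by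
      show pullback.lift a.left b.left _ ≫ pullback.fst _ _ ≫ U.hom = V.hom
      rw [← Category.assoc, pullback.lift_fst]
      exact Over.w a.hom) trivial

theorem wLift_fst {U V : (SK).Etale} (a : V ⟶ U) (b : V ⟶ fld K N) : wLift a b ≫ wFst N U = a :=
  MorphismProperty.Over.Hom.ext (pullback.lift_fst _ _ _)

theorem wLift_snd {U V : (SK).Etale} (a : V ⟶ U) (b : V ⟶ fld K N) : wLift a b ≫ wSnd N U = b :=
  MorphismProperty.Over.Hom.ext (pullback.lift_snd _ _ _)

theorem surjective_wFst (U : (SK).Etale) : Function.Surjective (wFst N U).left.base := fun x => by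
  obtain ⟨z, hz, -⟩ := Scheme.Pullback.exists_preimage_pullback (f := U.hom) (g := (fld K N).hom) x
    (⟨⊥, Ideal.isPrime_bot⟩ : PrimeSpectrum N) (Subsingleton.elim (α := PrimeSpectrum K) _ _)
  exact ⟨z, hz⟩

/-- The action of an automorphism of `N`. -/
def act (σ : N →ₐ[K] N) (U : (SK).Etale) : wObj N U ⟶ wObj N U :=
  wLift (wFst N U) (wSnd N U ≫ fldMap σ)

section Fibre

variable {Ω : Type u} [Field Ω] [IsSepClosed Ω] (ξ : Spec (CommRingCat.of Ω) ⟶ Spec (CommRingCat.of K))


theorem fiber_ext {U : (SK).Etale} {z z' : (Scheme.pointSmallEtale ξ).fiber.obj (wObj N U)}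
    (h₁ : (Scheme.pointSmallEtale ξ).fiber.map (wFst N U) z = (Scheme.pointSmallEtale ξ).fiber.map (wFst N U) z')
    (h₂ : (Scheme.pointSmallEtale ξ).fiber.map (wSnd N U) z = (Scheme.pointSmallEtale ξ).fiber.map (wSnd N U) z') : z = z' :=
  Over.OverMorphism.ext (pullback.hom_ext (congrArg (fun k => k.left) h₁) (congrArg (fun k => k.left) h₂))

theorem fiber_map_map {U V W : (SK).Etale} (a : U ⟶ V) (b : V ⟶ W) (z : (Scheme.pointSmallEtale ξ).fiber.obj U) :
    (Scheme.pointSmallEtale ξ).fiber.map b ((Scheme.pointSmallEtale ξ).fiber.map a z) = (Scheme.pointSmallEtale ξ).fiber.map (a ≫ b) z := by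
  rw [Functor.map_comp]
  rfl

variable [Normal K N]

/-- The automorphisms permute the points above a geometric point of `U` simply transitively. -/
theorem exists_equiv {U : (SK).Etale} (z : (Scheme.pointSmallEtale ξ).fiber.obj (wObj N U)) :
    ∃ e : (N →ₐ[K] N) ≃ {z' : (Scheme.pointSmallEtale ξ).fiber.obj (wObj N U) // (Scheme.pointSmallEtale ξ).fiber.map (wFst N U) z' = (Scheme.pointSmallEtale ξ).fiber.map (wFst N U) z},
      ∀ σ, (e σ : (Scheme.pointSmallEtale ξ).fiber.obj (wObj N U)) = (Scheme.pointSmallEtale ξ).fiber.map (act σ U) z := by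
  have hM : ∀ x : N, ((minpoly K x).map (algebraMap K N)).Splits := fun x => Normal.splits inferInstance x
  obtain ⟨hbij, -⟩ := bijective_fiber hM ξ ((Scheme.pointSmallEtale ξ).fiber.map (wSnd N U) z)
  refine ⟨Equiv.ofBijective (fun σ => ⟨(Scheme.pointSmallEtale ξ).fiber.map (act σ U) z, by rw [fiber_map_map, act, wLift_fst]⟩) ⟨?_, ?_⟩,
    fun σ => rfl⟩
  · intro σ τ h
    have h' := congrArg (fun p => (Scheme.pointSmallEtale ξ).fiber.map (wSnd N U) p) (congrArg Subtype.val h)
    simp only [fiber_map_map, act, wLift_snd] at h'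
    rw [← fiber_map_map, ← fiber_map_map] at h'
    exact hbij.1 h'
  · rintro ⟨z', hz'⟩
    obtain ⟨σ, hσ⟩ := hbij.2 ((Scheme.pointSmallEtale ξ).fiber.map (wSnd N U) z')
    refine ⟨σ, Subtype.ext (fiber_ext ξ ?_ ?_)⟩
    · show (Scheme.pointSmallEtale ξ).fiber.map (wFst N U) ((Scheme.pointSmallEtale ξ).fiber.map (act σ U) z) = (Scheme.pointSmallEtale ξ).fiber.map (wFst N U) z'
      rw [fiber_map_map, act, wLift_fst, hz']
    · show (Scheme.pointSmallEtale ξ).fiber.map (wSnd N U) ((Scheme.pointSmallEtale ξ).fiber.map (act σ U) z) = (Scheme.pointSmallEtale ξ).fiber.map (wSnd N U) z'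
      rw [fiber_map_map, act, wLift_snd, ← fiber_map_map]
      exact hσ

end Fibre

variable [Normal K N] (G : EtCoh.Ab (Spec (CommRingCat.of K)))

theorem injective_res (U : (SK).Etale) : Function.Injective (G.obj.map (wFst N U).op) := fun s t h => by
  refine G.property.isSeparated _ _ (Covers.singleton_mem _ (surjective_wFst (N := N) U)) s t ?_
  rintro V g ⟨_, a, _, ⟨⟩, rfl⟩
  simp only [op_comp, Functor.map_comp, ConcreteCategory.comp_apply, h]

/-- The sum of the conjugates of a section descends. -/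
theorem exists_descend (U : (SK).Etale) (s : EtCoh.sect G (wObj N U)) :
    ∃ t : EtCoh.sect G U, G.obj.map (wFst N U).op t = ∑ σ : N →ₐ[K] N, G.obj.map (act σ U).op s := by
  classical
  set S := ∑ σ : N →ₐ[K] N, G.obj.map (act σ U).op s
  have hcov := Covers.singleton_mem _ (surjective_wFst (N := N) U)
  have hG : Presieve.IsSheaf (SK).smallEtaleTopology (G.obj ⋙ forget AddCommGrpCat.{u + 1}) :=
    (isSheaf_iff_isSheaf_of_type _ _).1 (((sheafCompose (SK).smallEtaleTopology (forget AddCommGrpCat.{u + 1})).obj G).property)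
  have hS := (Presieve.isSheafFor_iff_generate _).2 (hG _ hcov)
  rw [Presieve.isSheafFor_singleton] at hS
  obtain ⟨t, ht, -⟩ := hS S fun {V} a b hab => by
    refine sect_ext (U := V) _ _ fun Ω _ _ ξ y => ?_
    show germ ξ G V y (G.obj.map a.op S) = germ ξ G V y (G.obj.map b.op S)
    rw [germ_res, germ_res]
    simp only [S, map_sum, germ_res]
    obtain ⟨ea, hea⟩ := exists_equiv ξ ((Scheme.pointSmallEtale ξ).fiber.map a y)
    obtain ⟨eb, heb⟩ := exists_equiv ξ ((Scheme.pointSmallEtale ξ).fiber.map b y)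
    have hx : (Scheme.pointSmallEtale ξ).fiber.map (wFst N U) ((Scheme.pointSmallEtale ξ).fiber.map a y) =
        (Scheme.pointSmallEtale ξ).fiber.map (wFst N U) ((Scheme.pointSmallEtale ξ).fiber.map b y) := by
      rw [fiber_map_map, fiber_map_map, hab]
    let eab := ea.trans (Equiv.subtypeEquivRight fun z => by rw [hx])
    rw [← (eab.trans eb.symm).sum_comp
      (fun σ => germ ξ G (wObj N U) ((Scheme.pointSmallEtale ξ).fiber.map (act σ U)
        ((Scheme.pointSmallEtale ξ).fiber.map b y)) s)]
    refine Finset.sum_congr rfl fun σ _ => ?_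
    rw [← hea σ, ← heb, Equiv.trans_apply, Equiv.apply_symm_apply]
    rfl
  exact ⟨t, ht⟩

/-- The transfer of a section. -/
def tr (U : (SK).Etale) (s : EtCoh.sect G (wObj N U)) : EtCoh.sect G U :=
  (exists_descend G U s).choose

theorem res_tr (U : (SK).Etale) (s : EtCoh.sect G (wObj N U)) :
    G.obj.map (wFst N U).op (tr G U s) = ∑ σ : N →ₐ[K] N, G.obj.map (act σ U).op s :=
  (exists_descend G U s).choose_spec

theorem tr_add (U : (SK).Etale) (s t : EtCoh.sect G (wObj N U)) : tr G U (s + t) = tr G U s + tr G U t :=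
  injective_res (N := N) G U (by simp only [map_add, res_tr, Finset.sum_add_distrib])

theorem tr_natural {U V : (SK).Etale} (g : V ⟶ U) (s : EtCoh.sect G (wObj N U)) :
    G.obj.map g.op (tr G U s) = tr G V (G.obj.map (wLift (wFst N V ≫ g) (wSnd N V)).op s) := by
  apply injective_res (N := N) G V
  rw [res_tr, ← ConcreteCategory.comp_apply, ← Functor.map_comp, ← op_comp,
    ← wLift_fst (wFst N V ≫ g) (wSnd N V), op_comp, Functor.map_comp, ConcreteCategory.comp_apply, res_tr,
    map_sum]
  refine Finset.sum_congr rfl fun σ _ => ?_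
  simp only [← ConcreteCategory.comp_apply, ← Functor.map_comp, ← op_comp, wLift_fst]
  congr 4
  exact wHom_ext (by simp [act, Category.assoc, wLift_fst, reassoc_of% (wLift_fst (N := N) (K := K))])
    (by simp [act, Category.assoc, wLift_snd, reassoc_of% (wLift_snd (N := N) (K := K))])

end Groth.Agent.GalCohAux.EtTransfer
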