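import Groth.Agent.GalCohAux.EtFin
import Groth.Agent.GalCohAux.EtTower
import Groth.Agent.GalCohAux.EtTransfer
import Groth.Agent.GalCohAux.EtNsmul
import Groth.Agent.EtSupp.Basic
import Mathlib.CategoryTheory.Adjunction.Additive
import Mathlib.GroupTheory.PGroup
import Mathlib.Data.ZMod.Basic

/-!
Dévissage of torsion étale sheaves on fields: cohomological dimension is detected by `ℤ/p`.
-/

set_option autoImplicit false
set_option backward.isDefEq.respectTransparency false

universe u

open CategoryTheory CategoryTheory.Limits AlgebraicGeometry Opposite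

noncomputable section

namespace Groth.Agent.GalCohAux.EtDev

open EtaleSite EtTrace EtFin

section Aux

variable {X : Scheme.{u}}

theorem constAdj_apply_cst {M : AddCommGrpCat.{u + 1}} {G : EtCoh.Ab X}
    (χ : (constantSheaf X.smallEtaleTopology AddCommGrpCat.{u + 1}).obj M ⟶ G) (c : M) :
    χ.hom.app (op (EtCoh.top X)) (ConstSections.cst (EtCoh.top X) c) = (EtCore.constAdj X).homEquiv _ _ χ c := by
  rw [Adjunction.homEquiv_unit]
  simp [constantSheafAdj, constantPresheafAdj, ConstSections.cst, ConstSections.etaConst]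

theorem freeSec_zero (W : X.Etale) (G : EtCoh.Ab X) : Flasque.freeSec W G 0 = 0 := by
  have h := Flasque.freeSec_comp W (0 : Flasque.freeOn W ⟶ Flasque.freeOn W) (0 : Flasque.freeOn W ⟶ G)
  rw [zero_comp] at h
  exact h

theorem evTop_zero (G : EtCoh.Ab X) : Flasque.evTop G 0 = 0 := by
  have h := Flasque.evTop_comp (0 : EtCoh.const X ℤ ⟶ EtCoh.const X ℤ) (0 : EtCoh.const X ℤ ⟶ G)
  rw [zero_comp] at h
  exact h

theorem nsmul_id_const_zmod {p : ℕ} : p • 𝟙 (EtCoh.const X (ZMod p)) = 0 := by
  let L := constantSheaf X.smallEtaleTopology AddCommGrpCat.{u + 1}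
  haveI : PreservesFiniteLimits L := comp_preservesFiniteLimits _ _
  haveI : L.Additive := Functor.additive_of_preserves_binary_products _
  have h : p • 𝟙 (AddCommGrpCat.of (ULift.{u + 1} (ZMod p))) = 0 := by
    refine AddCommGrpCat.hom_ext (AddMonoidHom.ext fun c => ?_)
    let E : (AddCommGrpCat.of (ULift.{u + 1} (ZMod p)) ⟶ AddCommGrpCat.of (ULift.{u + 1} (ZMod p))) →+
        ULift.{u + 1} (ZMod p) := AddMonoidHom.mk' (fun a => a.hom c) fun a b => rfl
    show E (p • 𝟙 _) = 0
    rw [map_nsmul]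
    show p • c = 0
    exact ULift.ext _ _ (by simp [nsmul_eq_mul])
  have h2 := congrArg L.map h
  rw [Functor.map_nsmul, CategoryTheory.Functor.map_id, Functor.map_zero] at h2
  exact h2

end Aux

section Descend

variable {K : Type u} [Field K] {N : Type u} [Field N] [Algebra K N] [FiniteDimensional K N] [IsGalois K N]

theorem bijective_fiber_self {Ω : Type u} [Field Ω] [IsSepClosed Ω]
    (ξ : Spec (CommRingCat.of Ω) ⟶ Spec (CommRingCat.of K)) (z : (Scheme.pointSmallEtale ξ).fiber.obj (fld K N)) :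
    Function.Bijective (fun σ : N →ₐ[K] N => (Scheme.pointSmallEtale ξ).fiber.map (fldMap σ) z) :=
  (bijective_fiber (fun x : N => Normal.splits inferInstance x) ξ z).1

/-- A section over `N` invariant under the automorphisms fixing `M` descends to `M`. -/
theorem exists_sect_of_fixed (F : EtCoh.Ab (Spec (CommRingCat.of K))) (M : IntermediateField K N)
    [Algebra.IsSeparable K M] (u : EtCoh.sect F (fld K N))
    (hu : ∀ σ : N ≃ₐ[K] N, σ ∈ M.fixingSubgroup → F.obj.map (fldMap σ.toAlgHom).op u = u) :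
    ∃ v : EtCoh.sect F (fld K M), F.obj.map (fldMap M.val).op v = u := by
  have hsurj : Function.Surjective (fldMap M.val).left.base := fun x =>
    ⟨(⟨⊥, Ideal.isPrime_bot⟩ : PrimeSpectrum N), Subsingleton.elim (α := PrimeSpectrum M) _ _⟩
  have hcov := Covers.singleton_mem _ hsurj
  have hF : Presieve.IsSheaf _ (F.obj ⋙ forget AddCommGrpCat.{u + 1}) :=
    (isSheaf_iff_isSheaf_of_type _ _).1 (((sheafCompose (Spec (CommRingCat.of K)).smallEtaleTopology
      (forget AddCommGrpCat.{u + 1})).obj F).property)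
  have hS := (Presieve.isSheafFor_iff_generate _).2 (hF _ hcov)
  rw [Presieve.isSheafFor_singleton] at hS
  obtain ⟨v, hv, -⟩ := hS u fun {V} a b hab => by
    refine sect_ext (U := V) _ _ fun Ω _ _ ξ y => ?_
    show germ ξ F V y (F.obj.map a.op u) = germ ξ F V y (F.obj.map b.op u)
    rw [germ_res, germ_res]
    let za := (Scheme.pointSmallEtale ξ).fiber.map a y
    obtain ⟨σ, hσ⟩ := (bijective_fiber_self ξ za).2 ((Scheme.pointSmallEtale ξ).fiber.map b y)
    replace hσ : (Scheme.pointSmallEtale ξ).fiber.map (fldMap σ) za =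
        (Scheme.pointSmallEtale ξ).fiber.map b y := hσ
    have hσ' : (AlgEquiv.ofBijective σ (σ.bijective)) ∈ M.fixingSubgroup := by
      rw [IntermediateField.mem_fixingSubgroup_iff]
      intro m hm
      have h1 : (Scheme.pointSmallEtale ξ).fiber.map (fldMap M.val)
          ((Scheme.pointSmallEtale ξ).fiber.map (fldMap σ) za) =
          (Scheme.pointSmallEtale ξ).fiber.map (fldMap M.val) za := by
        rw [hσ]
        simp only [za, EtTransfer.fiber_map_map, hab]
      have h2 : za.left ≫ Spec.map (CommRingCat.ofHom σ.toRingHom) ≫ Spec.map (CommRingCat.ofHom M.val.toRingHom) =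
          za.left ≫ Spec.map (CommRingCat.ofHom M.val.toRingHom) :=
        (Category.assoc _ _ _).symm.trans (congrArg (fun k => k.left) h1)
      let z' : Spec (CommRingCat.of Ω) ⟶ Spec (CommRingCat.of N) := za.left
      obtain ⟨c, hc⟩ := Spec.map_surjective z'
      change z' ≫ Spec.map (CommRingCat.ofHom σ.toRingHom) ≫ Spec.map (CommRingCat.ofHom M.val.toRingHom) =
          z' ≫ Spec.map (CommRingCat.ofHom M.val.toRingHom) at h2
      rw [← hc, ← Spec.map_comp, ← Spec.map_comp, ← Spec.map_comp, Spec.map_inj] at h2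
      exact c.hom.injective (DFunLike.congr_fun (congrArg CommRingCat.Hom.hom h2) (⟨m, hm⟩ : M))
    conv_lhs => rw [show germ ξ F (fld K N) za u =
      germ ξ F (fld K N) za (F.obj.map (fldMap σ).op u) from congrArg _ (hu _ hσ').symm, germ_res]
    exact congrArg (fun w => germ ξ F (fld K N) w u) hσ
  exact ⟨v, hv⟩

/-- A nonzero `p`-torsion section is fixed by the `p`-Sylow group after replacing it. -/
theorem exists_fixed {p : ℕ} [Fact p.Prime] (F : EtCoh.Ab (Spec (CommRingCat.of K)))
    {Ω : Type u} [Field Ω] [IsSepClosed Ω] (ξ : Spec (CommRingCat.of Ω) ⟶ Spec (CommRingCat.of K))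
    (hfin : Finite ((EtCoh.stalk ξ).obj F)) (z : (Scheme.pointSmallEtale ξ).fiber.obj (fld K N))
    (s : EtCoh.sect F (fld K N)) (hs : s ≠ 0) (hps : p • s = 0) (P : Sylow p (N ≃ₐ[K] N)) :
    ∃ u : EtCoh.sect F (fld K N), u ≠ 0 ∧ p • u = 0 ∧
      ∀ σ ∈ (P : Subgroup (N ≃ₐ[K] N)), F.obj.map (fldMap σ.toAlgHom).op u = u := by
  classical
  let W := {u : EtCoh.sect F (fld K N) // p • u = 0}
  have hinj : Function.Injective (germ ξ F (fld K N) z) := fun a b h => by
    obtain ⟨V, g, y, -, e⟩ := (germ_eq_iff ξ F (fld K N) z a b).1 h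
    refine F.property.isSeparated _ _ (Covers.singleton_mem g fun x =>
      ⟨(show Spec (CommRingCat.of Ω) ⟶ V.left from y.left) default, Subsingleton.elim (α := PrimeSpectrum N) _ _⟩) a b ?_
    rintro V' g' ⟨_, c, _, ⟨⟩, rfl⟩
    simp only [op_comp, Functor.map_comp, ConcreteCategory.comp_apply, e]
  haveI : Finite W := Finite.of_injective (fun u => germ ξ F (fld K N) z u.1)
    fun a b h => Subtype.ext (hinj h)
  letI : MulAction (P : Subgroup (N ≃ₐ[K] N)) W :=
    { smul := fun σ u => ⟨F.obj.map (fldMap (σ : N ≃ₐ[K] N).toAlgHom).op u.1, by rw [← map_nsmul, u.2, map_zero]⟩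
      one_smul := fun u => Subtype.ext (by
        show F.obj.map (fldMap (AlgHom.id K N)).op u.1 = u.1
        have : fldMap (AlgHom.id K N) = 𝟙 (fld K N) := MorphismProperty.Over.Hom.ext (Spec.map_id _)
        rw [this, op_id, F.obj.map_id]
        rfl)
      mul_smul := fun σ τ u => Subtype.ext (by
        show F.obj.map (fldMap ((σ : N ≃ₐ[K] N).toAlgHom.comp (τ : N ≃ₐ[K] N).toAlgHom)).op u.1 =
          F.obj.map (fldMap (σ : N ≃ₐ[K] N).toAlgHom).op (F.obj.map (fldMap (τ : N ≃ₐ[K] N).toAlgHom).op u.1)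
        rw [← ConcreteCategory.comp_apply, ← Functor.map_comp, ← op_comp]
        congr 4
        refine MorphismProperty.Over.Hom.ext ?_
        show Spec.map _ = Spec.map _ ≫ Spec.map _
        rw [← Spec.map_comp]
        rfl) }
  let A : AddSubgroup (EtCoh.sect F (fld K N)) :=
    { carrier := {u | p • u = 0}
      add_mem' := fun {a b} ha hb => by
        show p • (a + b) = 0
        rw [nsmul_add, ha, hb, add_zero]
      zero_mem' := nsmul_zero p
      neg_mem' := fun {a} ha => by
        show p • (-a) = 0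
        rw [neg_nsmul, ha, neg_zero] }
  have hdvd : p ∣ Nat.card W := by
    have h1 : addOrderOf (⟨s, hps⟩ : A) = p := addOrderOf_eq_prime (Subtype.ext hps)
      fun h => hs (congrArg Subtype.val h)
    exact h1 ▸ addOrderOf_dvd_natCard (⟨s, hps⟩ : A)
  obtain ⟨b, hb, hne⟩ := P.2.exists_fixed_point_of_prime_dvd_card_of_fixed_point (α := W) hdvd
    (a := ⟨0, nsmul_zero p⟩) (fun σ => Subtype.ext (map_zero _))
  exact ⟨b.1, fun h => hne (Subtype.ext h.symm), b.2, fun σ hσ => congrArg Subtype.val (hb ⟨σ, hσ⟩)⟩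

end Descend

/-! ### Maps from the constant sheaf `ℤ/p` -/

section Const

variable {M : Type u} [Field M] {p : ℕ} [Fact p.Prime]

theorem exists_mono_const (G : EtCoh.Ab (Spec (CommRingCat.of M))) (v : EtCoh.sect G (EtCoh.top (Spec (CommRingCat.of M))))
    (hv : v ≠ 0) (hpv : p • v = 0) :
    ∃ χ : EtCoh.const (Spec (CommRingCat.of M)) (ZMod p) ⟶ G, Mono χ ∧
      Nontrivial ((EtCoh.stalk (pt M)).obj (EtCoh.const (Spec (CommRingCat.of M)) (ZMod p))) ∧
      χ.hom.app (op (EtCoh.top (Spec (CommRingCat.of M)))) (ConstSections.cst (EtCoh.top (Spec (CommRingCat.of M)))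
        (M := AddCommGrpCat.of (ULift.{u + 1} (ZMod p))) (ULift.up (1 : ZMod p))) = v := by
  let S := Spec (CommRingCat.of M)
  let f : ZMod p →+ EtCoh.sect G (EtCoh.top S) := ZMod.lift p ⟨zmultiplesHom _ v, by
    rw [zmultiplesHom_apply, natCast_zsmul, hpv]⟩
  have hf : Function.Injective f := by
    refine (injective_iff_map_eq_zero f).2 fun c hc => by_contra fun h => hv ?_
    obtain ⟨m, rfl⟩ := ZMod.intCast_surjective c
    simp only [f, ZMod.lift_coe, zmultiplesHom_apply] at hc
    have hcop : ¬ (p : ℤ) ∣ m := fun hd => h ((ZMod.intCast_zmod_eq_zero_iff_dvd m p).2 hd)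
    obtain ⟨a, b, hab⟩ := (Nat.prime_iff_prime_int.1 Fact.out).coprime_iff_not_dvd.2 hcop
    have := congrArg (fun k : ℤ => k • v) hab
    simp only [add_smul, mul_smul, hc, natCast_zsmul, hpv, smul_zero, add_zero, one_smul] at this
    exact this.symm
  let f' : AddCommGrpCat.of (ULift.{u + 1} (ZMod p)) ⟶ G.obj.obj (op (EtCoh.top S)) :=
    AddCommGrpCat.ofHom (f.comp AddEquiv.ulift.toAddMonoidHom)
  let χ : EtCoh.const S (ZMod p) ⟶ G := ((EtCore.constAdj S).homEquiv _ _).symm f'
  have hχ : ∀ (U : S.Etale) (c : ULift.{u + 1} (ZMod p)), χ.hom.app (op U) (ConstSections.cst U c) =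
      G.obj.map ((EtCore.topIsTerminal S).from U).op (f c.down) := fun U c => by
    have h1 : (EtCore.constAdj S).homEquiv _ _ χ = f' := Equiv.apply_symm_apply _ _
    refine (congrArg (χ.hom.app (op U)) (ConstSections.map_cst ((EtCore.topIsTerminal S).from U)
      (M := AddCommGrpCat.of (ULift.{u + 1} (ZMod p))) c).symm).trans
        ((NatTrans.naturality_apply χ.hom _ _).trans ?_)
    refine congrArg _ ?_
    exact (constAdj_apply_cst χ c).trans (ConcreteCategory.congr_hom h1 c)
  have hgerm : ∀ (Ω : Type u) [Field Ω] [IsSepClosed Ω] (ξ : Spec (CommRingCat.of Ω) ⟶ S),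
      Function.Injective ((EtCoh.stalk ξ).map χ) := fun Ω _ _ ξ => by
    refine (injective_iff_map_eq_zero ((EtCoh.stalk ξ).map χ).hom).2 fun q hq => ?_
    obtain ⟨U, x, t, rfl⟩ := exists_germ_eq ξ _ q
    obtain ⟨V, g, y, c, hy, hc⟩ := ConstSections.exists_eq_cst ξ U x t
    have e : germ ξ _ U x t = germ ξ _ V y (ConstSections.cst V c) := by rw [← hc, germ_res, hy]
    rw [e] at hq ⊢
    have hq' : germ ξ G V y (G.obj.map ((EtCore.topIsTerminal S).from V).op (f c.down)) = germ ξ G V y 0 := by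
      rw [map_zero, ← hχ]
      exact (germ_naturality ξ χ V y _).symm.trans hq
    obtain ⟨W, g', w, -, hW⟩ := (germ_eq_iff ξ G V y _ _).1 hq'
    have h0 : f c.down = 0 := by
      refine G.property.isSeparated _ _ (Covers.singleton_mem (g' ≫ (EtCore.topIsTerminal S).from V) fun a =>
        ⟨(show Spec (CommRingCat.of Ω) ⟶ W.left from w.left) default, Subsingleton.elim (α := PrimeSpectrum M) _ _⟩) _ _ ?_
      rintro W' g'' ⟨_, d, _, ⟨⟩, rfl⟩
      simp only [op_comp, Functor.map_comp, ConcreteCategory.comp_apply, hW, map_zero]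
    have : c = 0 := ULift.ext _ _ (hf (h0.trans (map_zero f).symm))
    rw [this]
    exact (congrArg _ (map_zero _)).trans (map_zero _)
  refine ⟨χ, mono_of_stalk χ hgerm, ?_, ?_⟩
  swap
  · refine (constAdj_apply_cst χ _).trans ((ConcreteCategory.congr_hom (Equiv.apply_symm_apply _ f') _).trans ?_)
    show f (1 : ZMod p) = v
    rw [show (1 : ZMod p) = ((1 : ℤ) : ZMod p) from Int.cast_one.symm]
    simp only [f, ZMod.lift_coe, zmultiplesHom_apply, one_smul]
  let y : (Scheme.pointSmallEtale (pt M)).fiber.obj (EtCoh.top S) :=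
    (Over.homMk (pt M) (Category.comp_id _) : Over.mk (pt M) ⟶ (Scheme.Etale.forget S).obj (EtCoh.top S))
  exact ⟨⟨germ (pt M) _ _ y (ConstSections.cst _ (ULift.up (1 : ZMod p))),
    germ (pt M) _ _ y (ConstSections.cst _ (ULift.up (0 : ZMod p))),
    fun h => one_ne_zero (congrArg ULift.down (ConstSections.germ_cst_injective (pt M) _ y h))⟩⟩

end Const

/-- A geometric neighbourhood contains a finite Galois extension. -/
theorem exists_galois_nbhd {K : Type u} [Field K] (V : (Spec (CommRingCat.of K)).Etale)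
    (y : (Scheme.pointSmallEtale (pt K)).fiber.obj V) :
    ∃ (N : IntermediateField K (SeparableClosure K)) (_ : FiniteDimensional K N) (_ : IsGalois K N)
      (z : (Scheme.pointSmallEtale (pt K)).fiber.obj (fld K N)) (g : fld K N ⟶ V),
      (Scheme.pointSmallEtale (pt K)).fiber.map g z = y := by
  let Ω := SeparableClosure K
  have : Etale V.hom := V.prop
  let X : Over (Spec (CommRingCat.of K)) := Over.mk V.hom
  have : LocallyOfFiniteType X.hom := inferInstanceAs (LocallyOfFiniteType V.hom)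
  let x₀ : SGA7.pt (K := K) Ω ⟶ X := Over.homMk y.left (Over.w y)
  obtain ⟨L, hL, hx⟩ := StackLevels.exists_isAt (k' := K) x₀
  let N := IntermediateField.normalClosure K L Ω
  haveI : Algebra.IsSeparable K N := Algebra.isSeparable_tower_bot_of_isSeparable K N Ω
  haveI : IsGalois K N := ⟨⟩
  obtain ⟨x', hx'⟩ := StackLevels.isAt_mono L.le_normalClosure hx
  refine ⟨N, inferInstance, inferInstance, (Over.homMk (Spec.map (CommRingCat.ofHom N.val.toRingHom)) (by
      show Spec.map _ ≫ Spec.map _ = Spec.map _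
      rw [← Spec.map_comp]
      congr 1) : Over.mk (pt K) ⟶ (Scheme.Etale.forget _).obj (fld K N)),
    MorphismProperty.Over.homMk x'.left (Over.w x') trivial, ?_⟩
  exact Over.OverMorphism.ext (congrArg (fun k => k.left) hx')

/-! ### Dévissage -/

/-- `H^q(M, ℤ/p) = 0` for all finite separable `M/K` of degree prime to `p`. -/
def GoodZ (K : Type u) [Field K] (p q : ℕ) [Fact p.Prime] : Prop :=
  ∀ (M : Type u) [Field M] [Algebra K M] [FiniteDimensional K M] [Algebra.IsSeparable K M],
    ¬ p ∣ Module.finrank K M →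
      Subsingleton (EtCoh.H (Spec (CommRingCat.of M)) (EtCoh.const (Spec (CommRingCat.of M)) (ZMod p)) q)

variable {p : ℕ} [Fact p.Prime]

theorem GoodZ.ext {K : Type u} [Field K] {q : ℕ} (h : GoodZ K p q) (M : Type u) [Field M] [Algebra K M]
    [FiniteDimensional K M] [Algebra.IsSeparable K M] (hM : ¬ p ∣ Module.finrank K M) : GoodZ M p q := by
  intro M' _ _ _ _ hM'
  letI : Algebra K M' := ((algebraMap M M').comp (algebraMap K M)).toAlgebra
  haveI : IsScalarTower K M M' := .of_algebraMap_eq' rfl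
  haveI : FiniteDimensional K M' := FiniteDimensional.trans K M M'
  haveI : Algebra.IsSeparable K M' := Algebra.IsSeparable.trans K M M'
  refine h M' ?_
  rw [← Module.finrank_mul_finrank K M M']
  exact fun hd => ((Fact.out (p := p.Prime)).dvd_mul.1 hd).elim hM hM'

set_option maxHeartbeats 1000000 in
/-- Vanishing for sheaves with finite stalks. -/
theorem fin_vanish {q : ℕ} (hq : 0 < q) : ∀ (c : ℕ) (K : Type u) [Field K], GoodZ K p q →
    ∀ (F : EtCoh.Ab (Spec (CommRingCat.of K))), FinStalk F c →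
    ∀ (x : EtCoh.H (Spec (CommRingCat.of K)) F q) (m : ℕ), p ^ m • x = 0 → x = 0 := by
  intro c
  induction c using Nat.strong_induction_on with
  | _ c ih =>
  intro K _ hgood F hF x m hx
  have hp : p.Prime := Fact.out
  haveI := hF.1
  by_cases hdvd : p ∣ Nat.card ((EtCoh.stalk (pt K)).obj F)
  swap
  · -- multiplication by `p` is invertible
    haveI : IsIso ((p ^ m) • 𝟙 F) := by
      refine isIso_of_stalk _ fun Ω _ _ ξ => ?_
      haveI := (hF.stalk ξ).1
      obtain ⟨e⟩ := nonempty_stalk_iso ξ F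
      have hcop : (Nat.card ((EtCoh.stalk ξ).obj F)).Coprime (p ^ m) := by
        rw [Nat.card_congr e.addCommGroupIsoToAddEquiv.toEquiv]
        exact ((hp.coprime_iff_not_dvd.2 hdvd).symm).pow_right m
      rw [ConcreteCategory.isIso_iff_bijective, Functor.map_nsmul, CategoryTheory.Functor.map_id]
      let E : ((EtCoh.stalk ξ).obj F ⟶ (EtCoh.stalk ξ).obj F) →+ ((EtCoh.stalk ξ).obj F →+ (EtCoh.stalk ξ).obj F) :=
        AddMonoidHom.mk' (fun a => a.hom) fun a b => rfl
      show Function.Bijective (E ((p ^ m) • 𝟙 _))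
      rw [map_nsmul]
      exact (nsmulCoprime hcop).bijective
    exact EtTower.nsmul_injective F q (p ^ m) (hx.trans (nsmul_zero (p ^ m)).symm)
  · obtain ⟨e, he⟩ := exists_prime_addOrderOf_dvd_card' p hdvd
    obtain ⟨U, x₀, t, rfl⟩ := exists_germ_eq (pt K) F e
    have hpt : germ (pt K) F U x₀ (p • t) = germ (pt K) F U x₀ 0 := by
      rw [map_nsmul, map_zero, ← he, addOrderOf_nsmul_eq_zero]
    obtain ⟨V, g, y, hy, hV⟩ := (germ_eq_iff (pt K) F U x₀ _ _).1 hpt
    obtain ⟨N, hN, hN', z, g', hz⟩ := exists_galois_nbhd V y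
    haveI : Algebra.IsSeparable K N := inferInstance
    let s := F.obj.map (g' ≫ g).op t
    have hs : s ≠ 0 := fun h => by
      have h1 : germ (pt K) F (fld K N) z s = germ (pt K) F U x₀ t := by
        show germ (pt K) F (fld K N) z (F.obj.map (g' ≫ g).op t) = _
        rw [germ_res, ← EtTransfer.fiber_map_map, hz, hy]
      rw [h, map_zero] at h1
      rw [← h1, addOrderOf_zero] at he
      exact hp.one_lt.ne he
    have hps : p • s = 0 := by
      show p • F.obj.map (g' ≫ g).op t = 0
      rw [op_comp, Functor.map_comp, ConcreteCategory.comp_apply, ← map_nsmul, ← map_nsmul, hV, map_zero, map_zero]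
    let P : Sylow p (N ≃ₐ[K] N) := default
    let P' : Subgroup (N ≃ₐ[K] N) := P
    obtain ⟨u, hu, hpu, hfix⟩ := exists_fixed F (pt K) hF.1 z s hs hps P
    let M : IntermediateField K N := IntermediateField.fixedField P'
    haveI : Algebra.IsSeparable K M := Algebra.isSeparable_tower_bot_of_isSeparable K M N
    haveI : Algebra.IsSeparable M N := Algebra.isSeparable_tower_top_of_isSeparable K M N
    obtain ⟨v, rfl⟩ := exists_sect_of_fixed F M u fun σ hσ => hfix σ (by
      rwa [IntermediateField.fixingSubgroup_fixedField] at hσ)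
    have hdeg : ¬ p ∣ Module.finrank K M := by
      obtain ⟨a, ha⟩ := IsPGroup.iff_card.1 P.2
      have h1 := Module.finrank_mul_finrank K M N
      rw [IntermediateField.finrank_fixedField_eq_card P', ha, ← IsGalois.card_aut_eq_finrank K N,
        Subgroup.card_eq_card_quotient_mul_card_subgroup P', ha] at h1
      rw [Nat.eq_of_mul_eq_mul_right (pow_pos hp.pos a) h1]
      exact P.not_dvd_index
    have hv : v ≠ 0 := fun h => hu (by rw [h, map_zero])
    have hpv : p • v = 0 := by
      refine F.property.isSeparated _ _ (Covers.singleton_mem (fldMap M.val) fun a =>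
        ⟨(⟨⊥, Ideal.isPrime_bot⟩ : PrimeSpectrum N), Subsingleton.elim (α := PrimeSpectrum M) _ _⟩) _ _ ?_
      rintro W g'' ⟨_, d, _, ⟨⟩, rfl⟩
      simp only [op_comp, Functor.map_comp, ConcreteCategory.comp_apply, map_nsmul, map_zero]
      rw [← map_nsmul, hpu, map_zero]
    -- over `M`
    let f : Spec (CommRingCat.of M) ⟶ Spec (CommRingCat.of K) := (fld K M).hom
    haveI : Etale f := (fld K M).prop
    obtain ⟨φ, rfl⟩ := (Flasque.freeSec_bijective (fld K M) F).2 v
    have hφ : φ ≠ 0 := fun h => hv (by rw [h]; exact freeSec_zero _ _)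
    have hpφ : p • φ = 0 := (Flasque.freeSec_bijective (fld K M) F).1 (by
      rw [freeSec_zero, ← hpv]
      have : p • φ = φ ≫ (p • 𝟙 F) := by rw [Preadditive.comp_nsmul, Category.comp_id]
      rw [this, Flasque.freeSec_comp]
      exact EtNsmul.nsmul_id_app F p _ _)
    haveI : (EtShriek.extZero f).Additive := (EtSupp.extPullAdj f).left_adjoint_additive
    let ψ : EtCoh.const (Spec (CommRingCat.of M)) ℤ ⟶ (EtCoh.pull f).obj F :=
      (EtSupp.extPullAdj f).homAddEquiv _ _ φ
    have hw : Flasque.evTop _ ψ ≠ 0 := fun h => hφ (((EtSupp.extPullAdj f).homAddEquiv _ _).injective (by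
      refine (Flasque.evTop_bijective _).1 ?_
      rw [map_zero, evTop_zero]
      exact h))
    have hpw : p • Flasque.evTop _ ψ = 0 := by
      refine (EtNsmul.nsmul_id_app _ p _ _).symm.trans ((Flasque.evTop_comp ψ _).symm.trans ?_)
      rw [Preadditive.comp_nsmul, Category.comp_id]
      show Flasque.evTop _ (p • ((EtSupp.extPullAdj f).homAddEquiv _ _ φ)) = 0
      rw [← map_nsmul, hpφ, map_zero]
      exact evTop_zero _
    obtain ⟨χ, hχ, hnt, -⟩ := exists_mono_const ((EtCoh.pull f).obj F) _ hw hpw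
    let S : ShortComplex (EtCoh.Ab (Spec (CommRingCat.of M))) :=
      ShortComplex.mk χ (cokernel.π χ) (cokernel.condition χ)
    have hS : S.ShortExact := by
      have : Mono S.f := hχ
      exact { exact := ShortComplex.exact_cokernel χ }
    have hFM : FinStalk ((EtCoh.pull f).obj F) c := by
      let e := ((stalkPullIso f (pt M)).app F).addCommGroupIsoToAddEquiv
      haveI : Finite ((EtCoh.stalk (pt M ≫ f)).obj F) := (hF.stalk _).1
      exact ⟨Finite.of_equiv _ e.symm.toEquiv, (Nat.card_congr e.toEquiv).trans_le (hF.stalk _).2⟩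
    let c' := Nat.card ((EtCoh.stalk (pt M)).obj S.X₃)
    haveI := hFM.1
    haveI : Epi S.g := hS.epi_g
    have hsurj : Function.Surjective ((EtCoh.stalk (pt M)).map S.g) := (epi_iff_stalk S.g).1 inferInstance _ _
    have hlt : c' < c := by
      refine lt_of_lt_of_le ?_ hFM.2
      refine lt_of_le_of_ne (Nat.card_le_card_of_surjective _ hsurj) fun h => ?_
      have hb : Function.Injective ((EtCoh.stalk (pt M)).map S.g) :=
        ((Nat.bijective_iff_surjective_and_card _).2 ⟨hsurj, h.symm⟩).1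
      obtain ⟨a, b, hab⟩ := hnt
      refine hab (((mono_iff_stalk χ).1 hχ _ (pt M)) (hb ?_))
      have h0 : (EtCoh.stalk (pt M)).map S.f ≫ (EtCoh.stalk (pt M)).map S.g = 0 := by
        rw [← Functor.map_comp, S.zero, Functor.map_zero]
      exact (ConcreteCategory.congr_hom h0 a).trans (ConcreteCategory.congr_hom h0 b).symm
    have hQ : FinStalk S.X₃ c' := ⟨Finite.of_surjective _ hsurj, le_rfl⟩
    have hgM := hgood.ext M hdeg
    let x' := EtCore.Hpull f F q x
    have h3 : x'.comp (Abelian.Ext.mk₀ S.g) (add_zero q) = 0 := by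
      refine ih c' hlt M hgM S.X₃ hQ _ m ?_
      let T : EtCoh.H _ ((EtCoh.pull f).obj F) q →+ EtCoh.H _ S.X₃ q := AddMonoidHom.mk'
        (fun w => w.comp (Abelian.Ext.mk₀ S.g) (add_zero q)) fun a b => Abelian.Ext.add_comp _ _ _ _
      show p ^ m • T x' = 0
      rw [← map_nsmul, ← map_nsmul, hx, map_zero, map_zero]
    obtain ⟨w, hw'⟩ := Abelian.Ext.covariant_sequence_exact₂ _ hS x' h3
    have hw0 : w = 0 := (hgood M hdeg).elim w 0
    rw [hw0, Abelian.Ext.zero_comp] at hw'
    have h1 := addOrderOf_dvd_iff_nsmul_eq_zero.2 (EtTower.finrank_nsmul M hw'.symm)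
    have h2 := addOrderOf_dvd_iff_nsmul_eq_zero.2 hx
    exact AddMonoid.addOrderOf_eq_one_iff.1
      (Nat.eq_one_of_dvd_coprimes ((hp.coprime_iff_not_dvd.2 hdeg).pow_left m) h2 h1)

set_option maxHeartbeats 1000000 in
/-- Vanishing of the `p`-primary part for torsion sheaves. -/
theorem torsion_vanish {q : ℕ} (hq : 0 < q) {K : Type u} [Field K] (hgood : GoodZ K p q)
    (F : EtCoh.Ab (Spec (CommRingCat.of K))) (hF : EtCoh.IsTorsion F)
    (x : EtCoh.H (Spec (CommRingCat.of K)) F q) (m : ℕ) (hx : p ^ m • x = 0) : x = 0 := by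
  obtain ⟨hc⟩ := nonempty_isColimit hF
  obtain ⟨hs, hz⟩ := EtColimBig.coh_colimit q hc
  obtain ⟨B, y, rfl⟩ := hs x
  obtain ⟨C, φ, hC⟩ := hz B (p ^ m • y) (by
    rw [map_nsmul]
    exact hx)
  rw [map_nsmul] at hC
  have h0 := fin_vanish hq _ K hgood _ (finStalk_sub C) _ m hC
  rw [← (cocone F).w φ]
  show y.comp (Abelian.Ext.mk₀ ((diagram F).map φ ≫ (cocone F).ι.app C)) (add_zero q) = 0
  rw [← Abelian.Ext.mk₀_comp_mk₀, ← Abelian.Ext.comp_assoc_of_second_deg_zero]
  change (Sheaf.H.map ((diagram F).map φ) q y).comp _ (add_zero q) = 0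
  rw [h0, Abelian.Ext.zero_comp]

/-- Multiplication by a positive integer is injective on free sheaves. -/
theorem mono_nsmul_const {X : Scheme.{u}} {m : ℕ} (hm : 0 < m) : Mono (m • 𝟙 (EtCoh.const X ℤ)) := by
  refine mono_of_stalk _ fun Ω _ _ ξ => (injective_iff_map_eq_zero _).2 fun q hq => ?_
  obtain ⟨U, x, t, rfl⟩ := exists_germ_eq ξ _ q
  obtain ⟨V, g, y, c, hy, hc⟩ := ConstSections.exists_eq_cst ξ U x t
  have e : germ ξ _ U x t = germ ξ _ V y (ConstSections.cst V c) := by rw [← hc, germ_res, hy]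
  rw [e] at hq ⊢
  have h1 : germ ξ _ V y (ConstSections.cst V (m • c)) = germ ξ _ V y (ConstSections.cst V (0 : _)) := by
    refine Eq.trans ?_ ((hq.trans (map_zero _).symm).trans (congrArg _ (map_zero _).symm))
    refine Eq.trans ?_ (germ_naturality ξ (m • 𝟙 (EtCoh.const X ℤ)) V y _).symm
    rw [EtNsmul.nsmul_id_app]
    exact congrArg _ (map_nsmul _ m c)
  have h2 := ConstSections.germ_cst_injective ξ V y h1
  have : c = 0 := by
    have h3 : m • c.down = 0 := congrArg ULift.down h2
    exact ULift.ext _ _ ((smul_eq_zero.1 h3).resolve_left hm.ne')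
  rw [this]
  exact (congrArg _ (map_zero _)).trans (map_zero _)

theorem surjective_nsmul_injective {X : Scheme.{u}} (I : EtCoh.Ab X) [Injective I] {m : ℕ} (hm : 0 < m)
    (U : X.Etale) (t : EtCoh.sect I U) : ∃ s, m • s = t := by
  obtain ⟨φ, rfl⟩ := (Flasque.freeSec_bijective U I).2 t
  haveI : (EtShriek.extZero U.hom).Additive := (EtSupp.extPullAdj U.hom).left_adjoint_additive
  have : Mono (m • 𝟙 (Flasque.freeOn U)) := by
    have := mono_nsmul_const (X := U.left) hm
    have h := (EtShriek.extZero U.hom).map_mono (m • 𝟙 (EtCoh.const U.left ℤ))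
    rw [Functor.map_nsmul, CategoryTheory.Functor.map_id] at h
    exact h
  refine ⟨Flasque.freeSec U I (Injective.factorThru φ (m • 𝟙 (Flasque.freeOn U))), ?_⟩
  rw [← EtNsmul.nsmul_id_app, ← Flasque.freeSec_comp]
  congr 1
  rw [Preadditive.comp_nsmul, Category.comp_id]
  have h2 := Injective.comp_factorThru φ (m • 𝟙 (Flasque.freeOn U))
  rwa [Preadditive.nsmul_comp, Category.id_comp] at h2

/-- Vanishing in one degree gives vanishing in the next. -/
theorem good_succ {q : ℕ} (hq : 0 < q) {K : Type u} [Field K] (hgood : GoodZ K p q) : GoodZ K p (q + 1) := by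
  intro M _ _ _ _ hM
  refine subsingleton_of_forall_eq 0 fun x => ?_
  have hp : 0 < p := (Fact.out : p.Prime).pos
  let F := EtCoh.const (Spec (CommRingCat.of M)) (ZMod p)
  have hF : p • 𝟙 F = 0 := nsmul_id_const_zmod
  let I := Injective.under F
  let S : ShortComplex (EtCoh.Ab (Spec (CommRingCat.of M))) :=
    ShortComplex.mk (kernel.ι (p • 𝟙 I)) (p • 𝟙 I) (kernel.condition _)
  have hepi : Epi (p • 𝟙 I) := by
    have : ∀ U, Epi (((sheafToPresheaf _ AddCommGrpCat.{u + 1}).map (p • 𝟙 I)).app U) := fun U =>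
      (AddCommGrpCat.epi_iff_surjective _).2 fun t => by
        obtain ⟨s, hs⟩ := surjective_nsmul_injective I hp U.unop t
        exact ⟨s, (EtNsmul.nsmul_id_app I p U.unop s).trans hs⟩
    have : Epi ((sheafToPresheaf (Spec (CommRingCat.of M)).smallEtaleTopology AddCommGrpCat.{u + 1}).map (p • 𝟙 I)) :=
      NatTrans.epi_of_epi_app _
    exact (sheafToPresheaf _ AddCommGrpCat.{u + 1}).epi_of_epi_map this
  have hS : S.ShortExact := { exact := ShortComplex.exact_kernel (p • 𝟙 I) }
  let i : F ⟶ kernel (p • 𝟙 I) := kernel.lift _ (Injective.ι F) (by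
    have h : (p • 𝟙 F) ≫ Injective.ι F = 0 := by rw [hF, zero_comp]
    rwa [Preadditive.nsmul_comp, Category.id_comp, ← Category.comp_id (Injective.ι F),
      ← Preadditive.comp_nsmul] at h)
  have : Mono i := mono_of_mono_fac (kernel.lift_ι _ _ _)
  let T : ShortComplex (EtCoh.Ab (Spec (CommRingCat.of M))) := ShortComplex.mk i (cokernel.π i) (cokernel.condition i)
  have hT : T.ShortExact := { exact := ShortComplex.exact_cokernel i }
  have hxi : x.comp (Abelian.Ext.mk₀ T.f) (add_zero (q + 1)) = 0 := by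
    obtain ⟨w, hw⟩ := Abelian.Ext.covariant_sequence_exact₁ _ hS (x.comp (Abelian.Ext.mk₀ T.f) (add_zero (q + 1)))
      (Abelian.Ext.eq_zero_of_injective _) rfl
    obtain ⟨r, rfl⟩ : ∃ r, q = r + 1 := ⟨q - 1, by omega⟩
    have hw0 : w = 0 := Abelian.Ext.eq_zero_of_injective w
    rw [← hw, hw0, Abelian.Ext.zero_comp]
  obtain ⟨w, hw⟩ := Abelian.Ext.covariant_sequence_exact₁ _ hT x hxi rfl
  have hC : p • 𝟙 T.X₃ = 0 := by
    show p • 𝟙 (cokernel i) = 0
    rw [← cancel_epi (cokernel.π i)]
    have hk : p • 𝟙 (kernel (p • 𝟙 I)) = 0 := EtNsmul.nsmul_id_kernel p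
    calc cokernel.π i ≫ (p • 𝟙 (cokernel i)) = (p • 𝟙 (kernel (p • 𝟙 I))) ≫ cokernel.π i := by
          rw [Preadditive.comp_nsmul, Category.comp_id, Preadditive.nsmul_comp, Category.id_comp]
      _ = 0 := by rw [hk, zero_comp]
      _ = cokernel.π i ≫ 0 := comp_zero.symm
  have hw0 : w = 0 := torsion_vanish hq (hgood.ext M hM) _ (EtNsmul.isTorsion_of_nsmul_id hp hC) w 1 (by
    rw [pow_one]
    exact EtNsmul.nsmul_H_eq_zero hC w)
  rw [← hw, hw0, Abelian.Ext.zero_comp]

/-- `cd_p ≤ n` follows from the vanishing of `H^{n+1}(M, ℤ/p)`. -/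
theorem cohDim_le {n : ℕ} {K : Type u} [Field K] (hgood : GoodZ K p (n + 1))
    (F : EtCoh.Ab (Spec (CommRingCat.of K))) (hF : EtCoh.IsTorsion F) (q : ℕ) (hq : n < q)
    (x : EtCoh.H (Spec (CommRingCat.of K)) F q) (hx : ∃ m : ℕ, p ^ m • x = 0) : x = 0 := by
  obtain ⟨m, hm⟩ := hx
  have h : ∀ d, GoodZ K p (n + 1 + d) := fun d => by
    induction d with
    | zero => exact hgood
    | succ d ih => exact good_succ (q := n + 1 + d) (by omega) ih
  obtain ⟨d, rfl⟩ := Nat.exists_eq_add_of_le (show n + 1 ≤ q from hq)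
  exact torsion_vanish (by omega) (h d) F hF x m hm

end Groth.Agent.GalCohAux.EtDev
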