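import Groth.Agent.EtaleSite.Pull
import Groth.Agent.EtaleSite.Stalk

/-!
Torsion étale sheaves are the sheaves with torsion stalks; inverse images of torsion sheaves are torsion.
-/

set_option autoImplicit false

universe u

open CategoryTheory CategoryTheory.Limits AlgebraicGeometry Opposite

noncomputable section

namespace Groth.Agent.GalCohAux.EtTorsion

open EtaleSite

variable {X Y : Scheme.{u}}

theorem isOfFinAddOrder_stalk {F : EtCoh.Ab X} (hF : EtCoh.IsTorsion F) {Ω : Type u} [Field Ω] [IsSepClosed Ω]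
    (ξ : Spec (CommRingCat.of Ω) ⟶ X) (p : ↑((EtCoh.stalk ξ).obj F)) : IsOfFinAddOrder p := by
  obtain ⟨U, x, s, rfl⟩ := exists_germ_eq ξ F p
  let S : Sieve U :=
    { arrows := fun V => setOf (fun g : V ⟶ U => IsOfFinAddOrder (F.obj.map g.op s))
      downward_closed := fun {V W} g hg h => by
        show IsOfFinAddOrder (F.obj.map (h ≫ g).op s)
        rw [op_comp, Functor.map_comp, CategoryTheory.comp_apply]
        exact (F.obj.map h.op).hom.isOfFinAddOrder hg }
  have hS : S ∈ X.smallEtaleTopology U := mem_topology_of_forall_exists S fun u => by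
    obtain ⟨V, g, ⟨v, hv⟩, hg⟩ := hF U s u
    exact ⟨V, g, v, hg, hv⟩
  obtain ⟨V, g, hg, y, rfl⟩ := (Scheme.pointSmallEtale ξ).jointly_surjective S hS x
  rw [← germ_res]
  exact (germ ξ F V y).hom.isOfFinAddOrder hg

theorem isTorsion_of_stalk {F : EtCoh.Ab X}
    (h : ∀ (Ω : Type u) [Field Ω] [IsSepClosed Ω] (ξ : Spec (CommRingCat.of Ω) ⟶ X)
      (p : ↑((EtCoh.stalk ξ).obj F)), IsOfFinAddOrder p) : EtCoh.IsTorsion F := by
  intro U s u
  let ζ := geomPointAt U.left u
  let x : (Scheme.pointSmallEtale (ζ ≫ U.hom)).fiber.obj U :=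
    (Over.homMk ζ rfl : Over.mk (ζ ≫ U.hom) ⟶ (Scheme.Etale.forget X).obj U)
  obtain ⟨m, hm, hs⟩ := isOfFinAddOrder_iff_nsmul_eq_zero.1 (h _ (ζ ≫ U.hom) (germ (ζ ≫ U.hom) F U x s))
  have h1 : germ (ζ ≫ U.hom) F U x (m • s) = germ (ζ ≫ U.hom) F U x 0 := by rw [map_nsmul, hs, map_zero]
  obtain ⟨V, g, y, hy, hg⟩ := (germ_eq_iff _ F U x _ _).1 h1
  let a : Spec (CommRingCat.of (SeparableClosure (U.left.residueField u))) := default
  refine ⟨V, g, ⟨y.left a, ?_⟩, isOfFinAddOrder_iff_nsmul_eq_zero.2 ⟨m, hm, ?_⟩⟩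
  · have e : y.left ≫ g.left = ζ := congrArg (fun k => k.left) hy
    exact (congrArg (fun k => k a) e).trans (geomPointAt_apply U.left u a)
  · rw [← map_nsmul, hg, map_zero]

/-- Inverse image preserves torsion sheaves. -/
theorem isTorsion_pull (f : X ⟶ Y) {F : EtCoh.Ab Y} (hF : EtCoh.IsTorsion F) :
    EtCoh.IsTorsion ((EtCoh.pull f).obj F) := by
  refine isTorsion_of_stalk fun Ω _ _ ξ p => ?_
  let e := ((stalkPullIso f ξ).app F).addCommGroupIsoToAddEquiv
  have := e.symm.toAddMonoidHom.isOfFinAddOrder (isOfFinAddOrder_stalk hF (ξ ≫ f) (e p))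
  simpa using this

end Groth.Agent.GalCohAux.EtTorsion
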