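import Groth.Agent.GalCohAux.EtCdTr
import Groth.Agent.GalCohAux.EtTorsion
import Groth.Prelude.Def_Dix
import Mathlib.FieldTheory.RatFunc.Basic

/-!
Cohomological dimension and transcendence degree.
-/

set_option autoImplicit false
set_option backward.isDefEq.respectTransparency false

universe u

open CategoryTheory CategoryTheory.Limits AlgebraicGeometry Opposite

noncomputable section

namespace Groth.Agent.GalCohAux.EtCdTrDeg

open EtCdTr EtaleSite

theorem cd_adjoin {k : Type u} [Field k] {K : Type u} [Field K] [Algebra k K] {ℓ : ℕ} [Fact ℓ.Prime] {d : ℕ}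
    (h : Cd k ℓ d) {j : ℕ} (x : Fin j → K) (hx : AlgebraicIndependent k x) :
    ∀ m ≤ j, Cd (IntermediateField.adjoin k (x '' {l | (l : ℕ) < m})) ℓ (d + m)
  | 0, _ => by
    have e : IntermediateField.adjoin k (x '' {l | (l : ℕ) < 0}) = ⊥ := by simp
    exact cd_ringEquiv
      (((IntermediateField.equivOfEq e).trans (IntermediateField.botEquiv k K)).symm.toRingEquiv) h
  | m + 1, hm => by
    set s := x '' {l : Fin j | (l : ℕ) < m}
    set F := IntermediateField.adjoin k s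
    let i : Fin j := ⟨m, hm⟩
    have ht : Transcendental F (x i) :=
      IntermediateField.transcendental_adjoin_iff.2
        (hx.transcendental_adjoin (show i ∉ {l : Fin j | (l : ℕ) < m} by simp [i]))
    have he : (IntermediateField.adjoin F ({x i} : Set K)).restrictScalars k =
        IntermediateField.adjoin k (x '' {l | (l : ℕ) < m + 1}) := by
      rw [IntermediateField.adjoin_adjoin_left]
      congr 1
      rw [← Set.image_singleton, ← Set.image_union]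
      congr 1
      ext l
      simp only [Set.mem_union, Set.mem_ofPred_eq, Set.mem_singleton_iff, Fin.ext_iff, i]
      omega
    have e₁ : RatFunc F ≃+* ((IntermediateField.adjoin F ({x i} : Set K)).restrictScalars k) :=
      (RatFunc.algEquivOfTranscendental (x i) ht).toRingEquiv
    exact cd_ringEquiv (e₁.trans (IntermediateField.equivOfEq he).toRingEquiv)
      (cd_ratFunc (cd_adjoin h x hx m (by omega)))

/-- `cd_ℓ(K) ≤ cd_ℓ(k) + trdeg(K/k)`. -/
theorem cd_trdeg {k K : Type u} [Field k] [Field K] [Algebra k K] {ℓ : ℕ} [Fact ℓ.Prime] {d : ℕ}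
    (h : Cd k ℓ d) (j : ℕ) (hj : Algebra.trdeg k K = j) : Cd K ℓ (d + j) := by
  obtain ⟨ι, x, hx⟩ := exists_isTranscendenceBasis' k K
  have hc : Cardinal.mk ι = j := by rw [hx.cardinalMk_eq_trdeg, hj]
  have hfin : Finite ι := Cardinal.lt_aleph0_iff_finite.1 (by rw [hc]; exact Cardinal.natCast_lt_aleph0)
  have hnat : Nat.card ι = j := by simp [Nat.card, hc]
  let e : Fin j ≃ ι := (Finite.equivFinOfCardEq hnat).symm
  have hx' : IsTranscendenceBasis k (x ∘ e) := hx.comp_equiv e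
  have := cd_adjoin h (x ∘ e) hx'.1 j le_rfl
  rw [show {l : Fin j | (l : ℕ) < j} = Set.univ by ext y; simp, Set.image_univ] at this
  have := hx'.isAlgebraic_field
  exact cd_algebraic (k := IntermediateField.adjoin k (Set.range (x ∘ e))) (by assumption)

theorem cd_trdeg_le {k K : Type u} [Field k] [Field K] [Algebra k K] {ℓ : ℕ} [Fact ℓ.Prime] {d : ℕ}
    (h : Cd k ℓ d) (n : ℕ) (hn : Algebra.trdeg k K ≤ n) : Cd K ℓ (d + n) := by
  obtain ⟨j, hj⟩ := Cardinal.lt_aleph0.1 (lt_of_le_of_lt hn Cardinal.natCast_lt_aleph0)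
  exact (cd_trdeg h j hj).mono (Nat.add_le_add_left (Nat.cast_le.1 (hj ▸ hn)) d)

/-- A sheaf killed by `ℓ` is `ℓ`-primary torsion. -/
theorem isPrimaryTorsion_of_nsmul_id {X : Scheme.{u}} {ℓ : ℕ} {F : EtCoh.Ab X} (h : ℓ • 𝟙 F = 0) :
    Dix.IsPrimaryTorsion ℓ F :=
  fun U s x => ⟨U, 𝟙 U, ⟨x, rfl⟩, 1, by rw [pow_one]; exact EtNsmul.nsmul_sect_eq_zero h U _⟩

theorem cd_of_cohDimLEAt {K : Type u} [Field K] {ℓ : ℕ} [Fact ℓ.Prime] {d : ℕ}
    (h : Dix.CohDimLEAt (Spec (CommRingCat.of K)) ℓ d) : Cd K ℓ d := by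
  intro F hF q hq x hx
  refine EtDev.cohDim_le (n := d) (fun M _ _ _ _ _ => ?_) F hF q hq x hx
  let g := Spec.map (CommRingCat.ofHom (algebraMap K M))
  haveI : IsIntegralHom g := IsIntegralHom.SpecMap_iff.2 (by
    rw [CommRingCat.hom_ofHom]
    exact fun x => Algebra.IsIntegral.isIntegral x)
  haveI := additive_push g
  exact subsingleton_of_push g _ _
    (h _ (isPrimaryTorsion_of_nsmul_id (nsmul_id_map (EtCoh.push g) EtDev.nsmul_id_const_zmod)) _
      (Nat.lt_succ_self d))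

section Primary

variable {X : Scheme.{u}}

theorem stalk_primary {ℓ : ℕ} {F : EtCoh.Ab X} (hF : Dix.IsPrimaryTorsion ℓ F) {Ω : Type u} [Field Ω]
    [IsSepClosed Ω] (ξ : Spec (CommRingCat.of Ω) ⟶ X) (p : ↑((EtCoh.stalk ξ).obj F)) :
    ∃ k : ℕ, ℓ ^ k • p = 0 := by
  obtain ⟨U, x, s, rfl⟩ := exists_germ_eq ξ F p
  let S : Sieve U :=
    { arrows := fun V => setOf (fun g : V ⟶ U => ∃ k : ℕ, ℓ ^ k • F.obj.map g.op s = 0)
      downward_closed := fun {V W} g hg h => by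
        obtain ⟨k, hk⟩ := hg
        refine ⟨k, ?_⟩
        rw [op_comp, Functor.map_comp, CategoryTheory.comp_apply, ← map_nsmul, hk, map_zero] }
  have hS : S ∈ X.smallEtaleTopology U := mem_topology_of_forall_exists S fun u => by
    obtain ⟨V, g, ⟨v, hv⟩, hg⟩ := hF U s u
    exact ⟨V, g, v, hg, hv⟩
  obtain ⟨V, g, hg, y, rfl⟩ := (Scheme.pointSmallEtale ξ).jointly_surjective S hS x
  obtain ⟨k, hk⟩ := hg
  refine ⟨k, ?_⟩
  rw [← germ_res, ← map_nsmul, hk, map_zero]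

theorem isIso_nsmul {ℓ : ℕ} {F : EtCoh.Ab X} (hF : Dix.IsPrimaryTorsion ℓ F) {r : ℕ} (hr : r.Coprime ℓ) :
    IsIso (r • 𝟙 F) := by
  refine isIso_of_stalk _ fun Ω _ _ ξ => ?_
  haveI : (EtCoh.stalk ξ).Additive := Functor.additive_of_preserves_binary_products _
  rw [Functor.map_nsmul, CategoryTheory.Functor.map_id, ConcreteCategory.isIso_iff_bijective]
  have happ : ∀ p : ↑((EtCoh.stalk ξ).obj F), (r • 𝟙 ((EtCoh.stalk ξ).obj F) : _ ⟶ _).hom p = r • p :=
    fun p => by simp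
  refine ⟨fun a b hab => ?_, fun p => ?_⟩
  · have h0 : r • (a - b) = 0 := by rw [← happ, map_sub, sub_eq_zero]; exact hab
    obtain ⟨k, hk⟩ := stalk_primary hF ξ (a - b)
    rw [← sub_eq_zero, ← AddMonoid.addOrderOf_eq_one_iff]
    exact Nat.eq_one_of_dvd_coprimes (hr.pow_right k) (addOrderOf_dvd_of_nsmul_eq_zero h0)
      (addOrderOf_dvd_of_nsmul_eq_zero hk)
  · obtain ⟨k, hk⟩ := stalk_primary hF ξ p
    refine ⟨Nat.gcdA r (ℓ ^ k) • p, (happ _).trans ?_⟩
    have hb : (1 : ℤ) = (r : ℤ) * Nat.gcdA r (ℓ ^ k) + (ℓ ^ k : ℕ) * Nat.gcdB r (ℓ ^ k) := by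
      rw [← Nat.gcd_eq_gcd_ab, (hr.pow_right k).gcd_eq_one]; rfl
    calc r • Nat.gcdA r (ℓ ^ k) • p = ((r : ℤ) * Nat.gcdA r (ℓ ^ k)) • p := by
          rw [mul_smul, natCast_zsmul]
      _ = (1 : ℤ) • p := by
          rw [hb, add_smul, mul_comm ((ℓ ^ k : ℕ) : ℤ), mul_smul (Nat.gcdB r (ℓ ^ k)), natCast_zsmul, hk,
            smul_zero, add_zero]
      _ = p := one_smul _ _

theorem isTorsion_of_primary {ℓ : ℕ} (hℓ : 0 < ℓ) {F : EtCoh.Ab X} (hF : Dix.IsPrimaryTorsion ℓ F) :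
    EtCoh.IsTorsion F := fun U s x => by
  obtain ⟨V, g, hv, k, hk⟩ := hF U s x
  exact ⟨V, g, hv, isOfFinAddOrder_iff_nsmul_eq_zero.2 ⟨ℓ ^ k, Nat.pow_pos hℓ, hk⟩⟩

end Primary

theorem cohDimLEAt_of_cd {K : Type u} [Field K] {ℓ : ℕ} [Fact ℓ.Prime] {d : ℕ} (h : Cd K ℓ d) :
    Dix.CohDimLEAt (Spec (CommRingCat.of K)) ℓ d := by
  intro F hF q hq
  refine EtCdOne.subsingleton_of_primary (by omega) fun p hp y hy => ?_
  by_cases hpl : p = ℓ
  · exact h F (isTorsion_of_primary (Fact.out : ℓ.Prime).pos hF) q hq y ⟨1, by rw [pow_one, ← hpl]; exact hy⟩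
  · haveI := isIso_nsmul hF ((Nat.coprime_primes hp (Fact.out : ℓ.Prime)).2 hpl)
    exact EtTower.nsmul_injective F q p (show p • y = p • (0 : EtCoh.H _ F q) by rw [hy, smul_zero])

theorem cd_of_cohDimLE {K : Type u} [Field K] (ℓ : ℕ) {d : ℕ}
    (h : EtCoh.CohDimLE (Spec (CommRingCat.of K)) d) : Cd K ℓ d :=
  fun F hF q hq x _ => @Subsingleton.elim _ (h F hF q hq) x 0

theorem cohDimLE_of_cd {K : Type u} [Field K] {d : ℕ} (h : ∀ ℓ : ℕ, ℓ.Prime → Cd K ℓ d) :
    EtCoh.CohDimLE (Spec (CommRingCat.of K)) d :=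
  fun F hF q hq => EtCdOne.subsingleton_of_primary (by omega) fun p hp y hy =>
    h p hp F hF q hq y ⟨1, by rw [pow_one]; exact hy⟩

end Groth.Agent.GalCohAux.EtCdTrDeg
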