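import Groth.Agent.GalCohAux.EtDimVanC
import Groth.Agent.GalCohAux.EtTorsion
import Groth.Agent.GalCohAux.EtCdTrDeg
import Groth.Agent.EtColim.TorsionPush

/-!
Classes of sheaves for vanishing from a dimension function: torsion sheaves and sheaves of rational
vector spaces.
-/

set_option autoImplicit false
set_option backward.isDefEq.respectTransparency false

universe u

open CategoryTheory CategoryTheory.Limits AlgebraicGeometry Opposite

noncomputable section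

namespace Groth.Agent.GalCohAux.EtDimVanD

open EtaleSite EtDimVanC

attribute [-instance] EtFin.instUniqueCarrierCarrierCommRingCatSpecOf_groth

variable {X Y : Scheme.{u}}

theorem stalk_lTorsion {L : Set ℕ} {F : EtCoh.Ab X} (hF : EtAcyc.IsLTorsion L F) {Ω : Type u} [Field Ω]
    [IsSepClosed Ω] (ξ : Spec (CommRingCat.of Ω) ⟶ X) (p : ↑((EtCoh.stalk ξ).obj F)) :
    ∃ m : ℕ, EtAcyc.PrimesIn L m ∧ m • p = 0 := by
  obtain ⟨U, x, s, rfl⟩ := exists_germ_eq ξ F p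
  let S : Sieve U :=
    { arrows := fun V => setOf (fun g : V ⟶ U => ∃ m : ℕ, EtAcyc.PrimesIn L m ∧ m • F.obj.map g.op s = 0)
      downward_closed := fun {V W} g hg h => by
        obtain ⟨m, hm, hk⟩ := hg
        refine ⟨m, hm, ?_⟩
        rw [op_comp, Functor.map_comp, CategoryTheory.comp_apply, ← map_nsmul, hk, map_zero] }
  have hS : S ∈ X.smallEtaleTopology U := mem_topology_of_forall_exists S fun u => by
    obtain ⟨V, g, m, ⟨v, hv⟩, hm, hz⟩ := hF U s u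
    exact ⟨V, g, v, ⟨m, hm, hz⟩, hv⟩
  obtain ⟨V, g, ⟨m, hm, hk⟩, y, rfl⟩ := (Scheme.pointSmallEtale ξ).jointly_surjective S hS x
  exact ⟨m, hm, by rw [← germ_res, ← map_nsmul, hk, map_zero]⟩

theorem lTorsion_of_stalk {L : Set ℕ} {F : EtCoh.Ab X}
    (h : ∀ (Ω : Type u) [Field Ω] [IsSepClosed Ω] (ξ : Spec (CommRingCat.of Ω) ⟶ X)
      (p : ↑((EtCoh.stalk ξ).obj F)), ∃ m : ℕ, EtAcyc.PrimesIn L m ∧ m • p = 0) :
    EtAcyc.IsLTorsion L F := by
  intro U s u
  let ζ := geomPointAt U.left u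
  let x : (Scheme.pointSmallEtale (ζ ≫ U.hom)).fiber.obj U :=
    (Over.homMk ζ rfl : Over.mk (ζ ≫ U.hom) ⟶ (Scheme.Etale.forget X).obj U)
  obtain ⟨m, hm, hs⟩ := h _ (ζ ≫ U.hom) (germ (ζ ≫ U.hom) F U x s)
  have h1 : germ (ζ ≫ U.hom) F U x (m • s) = germ (ζ ≫ U.hom) F U x 0 := by rw [map_nsmul, hs, map_zero]
  obtain ⟨V, g, y, hy, hg⟩ := (germ_eq_iff _ F U x _ _).1 h1
  let a : Spec (CommRingCat.of (SeparableClosure (U.left.residueField u))) := default
  refine ⟨V, g, m, ⟨y.left a, ?_⟩, hm, ?_⟩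
  · have e : y.left ≫ g.left = ζ := congrArg (fun k => k.left) hy
    exact (congrArg (fun k => k a) e).trans (geomPointAt_apply U.left u a)
  · rw [← map_nsmul, hg, map_zero]

/-- `L`-torsion sheaves. -/
def torsionClass (L : Set ℕ) : VClass.{u} where
  P F := EtAcyc.IsLTorsion L F
  pull f F hF := lTorsion_of_stalk fun Ω _ _ ξ p => by
    let e := ((stalkPullIso f ξ).app F).addCommGroupIsoToAddEquiv
    obtain ⟨m, hm, hz⟩ := stalk_lTorsion hF (ξ ≫ f) (e p)
    exact ⟨m, hm, e.injective ((map_nsmul e m p).trans (hz.trans (map_zero e).symm))⟩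
  push f _ _ F hF := EtColim.TorsionPush.isLTorsion_push L f hF
  Rpush f _ _ i F hF := EtColim.TorsionPush.isLTorsion_Rpush L f i hF
  ker a hF _ := lTorsion_of_stalk fun Ω _ _ ξ p => by
    obtain ⟨m, hm, hz⟩ := stalk_lTorsion hF ξ ((EtCoh.stalk ξ).map (kernel.ι a) p)
    exact ⟨m, hm, (mono_iff_stalk (kernel.ι a)).1 inferInstance Ω ξ (by rw [map_nsmul, hz, map_zero])⟩
  coker a _ hG := EtColim.TorsionPush.isLTorsion_of_epi L (cokernel.π a) hG
  resIn A F hF := lTorsion_of_stalk fun Ω _ _ ξ p => by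
    obtain ⟨m, hm, hz⟩ := stalk_lTorsion hF ξ ((EtCoh.stalk ξ).map (PunctLib.resInι A F) p)
    exact ⟨m, hm, PunctLib.injective_stalk_ι A F ξ (by rw [map_nsmul, hz, map_zero])⟩

theorem isTorsion_iff_lTorsion (F : EtCoh.Ab X) : EtCoh.IsTorsion F ↔ EtAcyc.IsLTorsion Set.univ F := by
  refine ⟨fun h U s x => ?_, fun h U s x => ?_⟩
  · obtain ⟨V, g, hv, hg⟩ := h U s x
    obtain ⟨m, hm, hz⟩ := isOfFinAddOrder_iff_nsmul_eq_zero.1 hg
    exact ⟨V, g, m, hv, ⟨hm, fun _ _ _ => Set.mem_univ _⟩, hz⟩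
  · obtain ⟨V, g, m, hv, hm, hz⟩ := h U s x
    exact ⟨V, g, hv, isOfFinAddOrder_iff_nsmul_eq_zero.2 ⟨m, hm.1, hz⟩⟩

theorem primesIn_singleton_iff {ℓ : ℕ} (hℓ : ℓ.Prime) (m : ℕ) :
    EtAcyc.PrimesIn {ℓ} m ↔ ∃ k, m = ℓ ^ k := by
  constructor
  · rintro ⟨hm, h⟩
    exact ⟨_, Nat.eq_prime_pow_of_unique_prime_dvd hm.ne' fun {d} hd hdvd => h d hd hdvd⟩
  · rintro ⟨k, rfl⟩
    exact ⟨Nat.pow_pos hℓ.pos, fun p hp hd => (Nat.prime_dvd_prime_iff_eq hp hℓ).1 (hp.dvd_of_dvd_pow hd)⟩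

theorem isPrimaryTorsion_iff {ℓ : ℕ} (hℓ : ℓ.Prime) (F : EtCoh.Ab X) :
    Dix.IsPrimaryTorsion ℓ F ↔ EtAcyc.IsLTorsion {ℓ} F := by
  refine ⟨fun h U s x => ?_, fun h U s x => ?_⟩
  · obtain ⟨V, g, hv, k, hk⟩ := h U s x
    exact ⟨V, g, ℓ ^ k, hv, (primesIn_singleton_iff hℓ _).2 ⟨k, rfl⟩, hk⟩
  · obtain ⟨V, g, m, hv, hm, hz⟩ := h U s x
    obtain ⟨k, rfl⟩ := (primesIn_singleton_iff hℓ m).1 hm
    exact ⟨V, g, hv, k, hz⟩

/-- Multiplication by every positive integer is invertible. -/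
def UD {X : Scheme.{u}} (F : EtCoh.Ab X) : Prop := ∀ m : ℕ, 0 < m → IsIso (m • 𝟙 F)

theorem UD.map {F : EtCoh.Ab X} (h : UD F) (L : EtCoh.Ab X ⥤ EtCoh.Ab Y) [L.Additive] : UD (L.obj F) :=
  fun m hm => by
    haveI := h m hm
    have e : m • 𝟙 (L.obj F) = L.map (m • 𝟙 F) := by rw [Functor.map_nsmul, L.map_id]
    rw [e]
    infer_instance

theorem UD.kernel {F G : EtCoh.Ab X} (a : F ⟶ G) (hF : UD F) (hG : UD G) : UD (kernel a) := fun m hm => by
  haveI := hF m hm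
  haveI := hG m hm
  have w : a ≫ (m • 𝟙 G) = (m • 𝟙 F) ≫ a := by
    rw [Preadditive.comp_nsmul, Preadditive.nsmul_comp, Category.comp_id, Category.id_comp]
  have e : m • 𝟙 (Limits.kernel a) = (kernel.mapIso a a (asIso (m • 𝟙 F)) (asIso (m • 𝟙 G)) w).hom := by
    rw [← cancel_mono (kernel.ι a)]
    show _ = kernel.map a a (m • 𝟙 F) (m • 𝟙 G) w ≫ kernel.ι a
    rw [kernel.map, kernel.lift_ι, Preadditive.nsmul_comp, Preadditive.comp_nsmul, Category.id_comp,
      Category.comp_id]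
  rw [e]
  infer_instance

theorem UD.cokernel {F G : EtCoh.Ab X} (a : F ⟶ G) (hF : UD F) (hG : UD G) : UD (cokernel a) := fun m hm => by
  haveI := hF m hm
  haveI := hG m hm
  have w : a ≫ (m • 𝟙 G) = (m • 𝟙 F) ≫ a := by
    rw [Preadditive.comp_nsmul, Preadditive.nsmul_comp, Category.comp_id, Category.id_comp]
  have e : m • 𝟙 (Limits.cokernel a) = (cokernel.mapIso a a (asIso (m • 𝟙 F)) (asIso (m • 𝟙 G)) w).hom := by
    rw [← cancel_epi (cokernel.π a)]
    show _ = cokernel.π a ≫ cokernel.map a a (m • 𝟙 F) (m • 𝟙 G) w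
    rw [cokernel.map, cokernel.π_desc, Preadditive.nsmul_comp, Preadditive.comp_nsmul, Category.id_comp,
      Category.comp_id]
  rw [e]
  infer_instance

theorem UD.sky {F : EtCoh.Ab X} (h : UD F) (y : X) :
    UD (PunctLib.sky (geomPointAt X y) ((EtCoh.stalk (geomPointAt X y)).obj F)) := by
  haveI : ((Scheme.pointSmallEtale (geomPointAt X y)).skyscraperSheafFunctor
      (A := AddCommGrpCat.{u + 1})).Additive :=
    (Scheme.pointSmallEtale (geomPointAt X y)).skyscraperSheafAdjunction.right_adjoint_additive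
  haveI : (EtCoh.stalk (geomPointAt X y)).Additive := Functor.additive_of_preserves_binary_products _
  exact h.map (EtCoh.stalk (geomPointAt X y) ⋙
    (Scheme.pointSmallEtale (geomPointAt X y)).skyscraperSheafFunctor (A := AddCommGrpCat.{u + 1}))

/-- Sheaves of rational vector spaces. -/
def rationalClass : VClass.{u} where
  P F := UD F
  pull f F hF := haveI := EtCdTr.additive_pull f; hF.map _
  push f _ _ F hF := haveI := EtCdTr.additive_push f; hF.map _
  Rpush f _ _ i F hF := hF.map _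
  ker a hF hG := hF.kernel a hG
  coker a hF hG := hF.cokernel a hG
  resIn A F hF := hF.kernel _ (fun m hm => by
    haveI : ∀ y : {y : _ // y ∉ A}, IsIso (m • 𝟙 (PunctLib.sky (geomPointAt _ y.1)
      ((EtCoh.stalk (geomPointAt _ y.1)).obj F))) := fun y => (hF.sky y.1) m hm
    have e : m • 𝟙 (PunctLib.skiesOff A F) = Limits.Pi.map fun y : {y : _ // y ∉ A} => m • 𝟙 _ := by
      refine Pi.hom_ext _ _ fun y => ?_
      rw [Pi.map_π, Preadditive.nsmul_comp, Preadditive.comp_nsmul, Category.id_comp, Category.comp_id]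
    rw [e]
    infer_instance)

end Groth.Agent.GalCohAux.EtDimVanD
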