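import Groth.Agent.GalCohAux.EtDimVanD
import Groth.Agent.CycLib.DivFun
import Mathlib.RingTheory.Unramified.Field
import Mathlib.RingTheory.Ideal.GoingDown

/-!
The residue fields of the fibre of a strict localization, and conversions for dimension functions.
-/

set_option autoImplicit false
set_option backward.isDefEq.respectTransparency false

universe u

open CategoryTheory CategoryTheory.Limits AlgebraicGeometry Opposite TensorProduct

noncomputable section

namespace Groth.Agent.GalCohAux.EtDimVanE

attribute [-instance] EtFin.instUniqueCarrierCarrierCommRingCatSpecOf_groth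

variable {X : Scheme.{u}}

theorem exists_minimalPrime (x y : X) (h : x ⤳ y) :
    ∃ (R : Type u) (_ : CommRing R) (_ : IsLocalRing R) (_ : Algebra (X.presheaf.stalk y) R)
      (_ : IsLocalHom (algebraMap (X.presheaf.stalk y) R))
      (_ : Hensel.IsStrictHenselization (X.presheaf.stalk y) R) (P : Ideal R),
      P ∈ ((RingHom.ker (Cyc.specMap y x h)).map (algebraMap (X.presheaf.stalk y) R)).minimalPrimes := by
  let O := X.presheaf.stalk y
  let R := Hens.StrictHenselization O
  haveI : (RingHom.ker (Cyc.specMap y x h)).IsPrime := RingHom.ker_isPrime _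
  have hne : (RingHom.ker (Cyc.specMap y x h)).map (algebraMap O R) ≠ ⊤ := fun e => by
    have := (Ideal.comap_top (f := algebraMap O R))
    rw [← e, (Hensel.isEtLike_of_isStrictHenselization O R).comap_map_eq] at this
    exact Ideal.IsPrime.ne_top inferInstance this
  obtain ⟨P, hP⟩ := Ideal.nonempty_minimalPrimes hne
  exact ⟨R, inferInstance, inferInstance, inferInstance, inferInstance, inferInstance, P, hP⟩

/-- The fraction field of a branch of the strict localization of the closure of `x` at `y` is an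
algebraic extension of `κ(x)`, compatibly with the maps from the local ring at `y`. -/
theorem exists_algebraic_compat (x y : X) (h : x ⤳ y) (R : Type u) [CommRing R] [IsLocalRing R]
    [Algebra (X.presheaf.stalk y) R] [IsLocalHom (algebraMap (X.presheaf.stalk y) R)]
    [Hensel.IsStrictHenselization (X.presheaf.stalk y) R] (P : Ideal R) [P.IsPrime]
    (hP : P ∈ ((RingHom.ker (Cyc.specMap y x h)).map (algebraMap (X.presheaf.stalk y) R)).minimalPrimes) :
    ∃ ψ : X.residueField x →+* FractionRing (R ⧸ P),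
      @Algebra.IsAlgebraic (X.residueField x) (FractionRing (R ⧸ P)) _ _ ψ.toAlgebra ∧
      ∀ r, ψ (Cyc.specMap y x h r) =
        algebraMap (R ⧸ P) (FractionRing (R ⧸ P)) (Ideal.Quotient.mk P (algebraMap (X.presheaf.stalk y) R r)) := by
  let O := X.presheaf.stalk y
  let p := RingHom.ker (Cyc.specMap y x h)
  haveI : p.IsPrime := RingHom.ker_isPrime _
  let κ := X.residueField x
  let F := FractionRing (R ⧸ P)
  have hE := Hensel.isEtLike_of_isStrictHenselization O R
  have hc : P.comap (algebraMap O R) = p := by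
    refine le_antisymm ?_ (Ideal.map_le_iff_le_comap.1 hP.1.2)
    by_contra hne
    haveI := hE.flat
    have hle : p ≤ P.comap (algebraMap O R) := Ideal.map_le_iff_le_comap.1 hP.1.2
    obtain ⟨Q, hQP, hQ, hQo⟩ := Ideal.exists_ideal_le_liesOver_of_le (p := p) (q := P.under O) P hle
    have hQm : p.map (algebraMap O R) ≤ Q := Ideal.map_le_iff_le_comap.2 hQo.over.le
    exact hne ((Ideal.comap_mono (hP.2 ⟨hQ, hQm⟩ hQP)).trans hQo.over.ge)
  let a : O →+* F := ((algebraMap (R ⧸ P) F).comp (Ideal.Quotient.mk P)).comp (algebraMap O R)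
  have hker : RingHom.ker a = p := by
    rw [← hc]
    show RingHom.ker (((algebraMap (R ⧸ P) F).comp (Ideal.Quotient.mk P)).comp (algebraMap O R)) = _
    rw [← RingHom.comap_ker, RingHom.ker_comp_of_injective _ (IsFractionRing.injective (R ⧸ P) F), Ideal.mk_ker]
  haveI := CycLib.locQuot_isFractionRing y x h
  haveI := CycLib.locQuot_isDomain y x h
  let aq : Cyc.LocQuot y x h →+* F := Ideal.Quotient.lift p a fun r hr => by
    rw [← hker] at hr; exact hr
  let ψ : κ →+* F := IsFractionRing.lift (A := Cyc.LocQuot y x h) (g := aq)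
    (RingHom.lift_injective_of_ker_le_ideal _ _ hker.le)
  refine ⟨ψ, ?_, fun r => IsFractionRing.lift_algebraMap (A := Cyc.LocQuot y x h) (g := aq)
    (RingHom.lift_injective_of_ker_le_ideal _ _ hker.le) (Ideal.Quotient.mk p r)⟩
  letI := ψ.toAlgebra
  letI : Algebra O κ := (Cyc.specMap y x h).toAlgebra
  haveI : IsScalarTower O κ F := .of_algebraMap_eq fun r =>
    (IsFractionRing.lift_algebraMap (A := Cyc.LocQuot y x h) (g := aq)
      (RingHom.lift_injective_of_ker_le_ideal _ _ hker.le) (Ideal.Quotient.mk p r)).symm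
  have hint : ∀ r : R, IsAlgebraic κ (algebraMap (R ⧸ P) F (Ideal.Quotient.mk P r)) := fun r => by
    obtain ⟨A, _, _, hA, θ, s, rfl⟩ := hE.exists_stage₁ r
    let θ' : A →ₐ[O] F := ⟨((algebraMap (R ⧸ P) F).comp (Ideal.Quotient.mk P)).comp θ.toRingHom, fun c => by
      show algebraMap (R ⧸ P) F (Ideal.Quotient.mk P (θ (algebraMap O A c))) = algebraMap O F c
      rw [θ.commutes, IsScalarTower.algebraMap_apply O R F, IsScalarTower.algebraMap_apply R (R ⧸ P) F]
      rfl⟩
    haveI : Module.Finite κ (κ ⊗[O] A) := Algebra.FormallyUnramified.finite_of_free κ (κ ⊗[O] A)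
    let L : κ ⊗[O] A →ₐ[κ] F := Algebra.TensorProduct.lift (Algebra.ofId κ F) θ' fun _ _ => Commute.all _ _
    have hL : L (1 ⊗ₜ[O] s) = algebraMap (R ⧸ P) F (Ideal.Quotient.mk P (θ s)) := by
      simp [L, θ']
    rw [← hL]
    exact ((Algebra.IsIntegral.isIntegral (R := κ) (1 ⊗ₜ[O] s : κ ⊗[O] A)).map L).isAlgebraic
  refine ⟨fun z => ?_⟩
  obtain ⟨u, v, -, rfl⟩ := IsFractionRing.div_surjective (R ⧸ P) z
  obtain ⟨u, rfl⟩ := Ideal.Quotient.mk_surjective u
  obtain ⟨v, rfl⟩ := Ideal.Quotient.mk_surjective v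
  rw [div_eq_mul_inv]
  exact (hint u).mul (hint v).inv

/-- The fraction field of a branch is an algebraic extension of `κ(x)`. -/
theorem exists_algebraic (x y : X) (h : x ⤳ y) (R : Type u) [CommRing R] [IsLocalRing R]
    [Algebra (X.presheaf.stalk y) R] [IsLocalHom (algebraMap (X.presheaf.stalk y) R)]
    [Hensel.IsStrictHenselization (X.presheaf.stalk y) R] (P : Ideal R) [P.IsPrime]
    (hP : P ∈ ((RingHom.ker (Cyc.specMap y x h)).map (algebraMap (X.presheaf.stalk y) R)).minimalPrimes) :
    ∃ ψ : X.residueField x →+* FractionRing (R ⧸ P),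
      letI := ψ.toAlgebra
      Algebra.IsAlgebraic (X.residueField x) (FractionRing (R ⧸ P)) :=
  let ⟨ψ, hψ, _⟩ := exists_algebraic_compat x y h R P hP
  ⟨ψ, hψ⟩

end Groth.Agent.GalCohAux.EtDimVanE
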