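import Groth.Agent.GalCohAux.EtTower
import Groth.Agent.GalCohAux.EtTransfer
import Groth.Agent.EtColim.CohColim
import Groth.Prelude.Def_GSzGalSym
import Mathlib.RepresentationTheory.Homological.GroupCohomology.Hilbert90

/-!
`H¹` of the étale site of a field through crossed homomorphisms, and Hilbert 90.
-/

set_option autoImplicit false
set_option backward.isDefEq.respectTransparency false

universe u

open CategoryTheory CategoryTheory.Limits AlgebraicGeometry Opposite

noncomputable section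

namespace Groth.Agent.GalCohAux.EtH1

open EtaleSite EtTrace

variable {K : Type u} [Field K] {N : Type u} [Field N] [Algebra K N] [FiniteDimensional K N] [IsGalois K N]

theorem fldMap_comp (σ τ : N →ₐ[K] N) : fldMap (σ.comp τ) = fldMap σ ≫ fldMap τ := by
  refine MorphismProperty.Over.Hom.ext ?_
  show Spec.map _ = Spec.map _ ≫ Spec.map _
  rw [← Spec.map_comp]
  rfl

theorem surjective_toTop :
    Function.Surjective ((EtCore.topIsTerminal (Spec (CommRingCat.of K))).from (fld K N)).left.base := fun x =>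
  ⟨(⟨⊥, Ideal.isPrime_bot⟩ : PrimeSpectrum N), Subsingleton.elim (α := PrimeSpectrum K) _ _⟩

theorem injective_res (F : EtCoh.Ab (Spec (CommRingCat.of K))) :
    Function.Injective (F.obj.map ((EtCore.topIsTerminal _).from (fld K N)).op) := fun s t h => by
  refine F.property.isSeparated _ _ (Covers.singleton_mem _ (surjective_toTop (N := N))) s t ?_
  rintro V g ⟨_, a, _, ⟨⟩, rfl⟩
  simp only [op_comp, Functor.map_comp, ConcreteCategory.comp_apply, h]

/-- An invariant section descends. -/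
theorem exists_top_of_fixed (F : EtCoh.Ab (Spec (CommRingCat.of K))) (u : EtCoh.sect F (fld K N))
    (hu : ∀ σ : N →ₐ[K] N, F.obj.map (fldMap σ).op u = u) :
    ∃ v : EtCoh.sect F (EtCoh.top (Spec (CommRingCat.of K))),
      F.obj.map ((EtCore.topIsTerminal _).from (fld K N)).op v = u := by
  have hcov := Covers.singleton_mem _ (surjective_toTop (K := K) (N := N))
  have hF : Presieve.IsSheaf _ (F.obj ⋙ forget AddCommGrpCat.{u + 1}) :=
    (isSheaf_iff_isSheaf_of_type _ _).1 (((sheafCompose (Spec (CommRingCat.of K)).smallEtaleTopology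
      (forget AddCommGrpCat.{u + 1})).obj F).property)
  have hS := (Presieve.isSheafFor_iff_generate _).2 (hF _ hcov)
  rw [Presieve.isSheafFor_singleton] at hS
  obtain ⟨v, hv, -⟩ := hS u fun {V} a b hab => by
    refine sect_ext (U := V) _ _ fun Ω _ _ ξ y => ?_
    show germ ξ F V y (F.obj.map a.op u) = germ ξ F V y (F.obj.map b.op u)
    rw [germ_res, germ_res]
    obtain ⟨σ, hσ⟩ := (bijective_fiber (fun x : N => Normal.splits inferInstance x) ξ
      ((Scheme.pointSmallEtale ξ).fiber.map a y)).1.2 ((Scheme.pointSmallEtale ξ).fiber.map b y)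
    replace hσ : (Scheme.pointSmallEtale ξ).fiber.map (fldMap σ) ((Scheme.pointSmallEtale ξ).fiber.map a y) =
        (Scheme.pointSmallEtale ξ).fiber.map b y := hσ
    conv_lhs => rw [← hu σ, germ_res]
    exact congrArg (fun w => germ ξ F (fld K N) w u) hσ
  exact ⟨v, hv⟩

/-- A class of `H¹` killed on `N` vanishes when crossed homomorphisms into the sections over `N` are coboundaries. -/
theorem eq_zero_of_crossed (G : EtCoh.Ab (Spec (CommRingCat.of K)))
    (hG : ∀ c : (N →ₐ[K] N) → EtCoh.sect G (fld K N),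
      (∀ σ τ, c (σ.comp τ) = G.obj.map (fldMap σ).op (c τ) + c σ) →
        ∃ b, ∀ σ, c σ = G.obj.map (fldMap σ).op b - b)
    (x : EtCoh.H (Spec (CommRingCat.of K)) G 1) (hx : EtCore.Hpull (fld K N).hom G 1 x = 0) : x = 0 := by
  let SK := Spec (CommRingCat.of K)
  let S : ShortComplex (EtCoh.Ab SK) := ShortComplex.mk (Injective.ι G) (cokernel.π _) (cokernel.condition _)
  have hS : S.ShortExact := { exact := ShortComplex.exact_cokernel _ }
  have : Injective S.X₂ := inferInstanceAs (Injective (Injective.under G))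
  obtain ⟨y, hy⟩ := Abelian.Ext.covariant_sequence_exact₁ (EtCoh.const SK ℤ) hS x
    (Abelian.Ext.eq_zero_of_injective _) (rfl : 0 + 1 = 1)
  obtain ⟨q, rfl⟩ := (Abelian.Ext.mk₀_bijective _ _).2 y
  let C := EtCoh.const SK ℤ
  let T := EtCoh.top SK
  let r := (EtCore.topIsTerminal SK).from (fld K N)
  let s := Flasque.evTop S.X₃ q
  obtain ⟨φ₁, hφ₁⟩ := (Flasque.freeSec_bijective (fld K N) C).2 (C.obj.map r.op (Flasque.evTop C (𝟙 C)))
  have h0 : (Abelian.Ext.mk₀ φ₁).comp x (zero_add 1) = 0 := comp_eq_zero_of_Hpull (fld K N) G 1 x hx φ₁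
  rw [← hy, Abelian.Ext.mk₀_comp_mk₀_assoc] at h0
  obtain ⟨ψ, hψ⟩ := Abelian.Ext.covariant_sequence_exact₃ (Flasque.freeOn (fld K N)) hS
    (Abelian.Ext.mk₀ (φ₁ ≫ q)) (rfl : 0 + 1 = 1) h0
  obtain ⟨ψ, rfl⟩ := (Abelian.Ext.mk₀_bijective _ _).2 ψ
  rw [Abelian.Ext.mk₀_comp_mk₀] at hψ
  have hψ' := (Abelian.Ext.mk₀_bijective _ _).1 hψ
  let i := Flasque.freeSec (fld K N) S.X₂ ψ
  have hi : S.g.hom.app (op (fld K N)) i = S.X₃.obj.map r.op s := by
    show S.g.hom.app (op (fld K N)) (Flasque.freeSec (fld K N) S.X₂ ψ) = _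
    rw [← Flasque.freeSec_comp, hψ', Flasque.freeSec_comp, hφ₁, NatTrans.naturality_apply q.hom r.op,
      ← Flasque.evTop_comp, Category.id_comp]
  have hσ : ∀ σ : N →ₐ[K] N, ∃ c, S.f.hom.app (op (fld K N)) c = S.X₂.obj.map (fldMap σ).op i - i := fun σ => by
    refine EtColim.CohColim.exact_app hS (fld K N) _ ?_
    rw [map_sub, NatTrans.naturality_apply S.g.hom (fldMap σ).op, hi, ← ConcreteCategory.comp_apply,
      ← Functor.map_comp, ← op_comp, (EtCore.topIsTerminal SK).hom_ext (fldMap σ ≫ r) r, sub_self]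
  choose c hc using hσ
  have hinj := EtColim.CohColim.injective_app hS (fld K N)
  obtain ⟨b, hb⟩ := hG c fun σ τ => hinj (by
    rw [map_add, NatTrans.naturality_apply S.f.hom (fldMap σ).op, hc, hc, hc, fldMap_comp, op_comp,
      Functor.map_comp, ConcreteCategory.comp_apply, map_sub]
    abel)
  obtain ⟨v, hv⟩ := exists_top_of_fixed S.X₂ (i - S.f.hom.app (op (fld K N)) b) fun σ => by
    have h := hc σ
    rw [hb σ, map_sub, NatTrans.naturality_apply S.f.hom (fldMap σ).op] at h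
    rw [map_sub, sub_eq_sub_iff_sub_eq_sub, h]
  have hz : S.g.hom.app (op (fld K N)) (S.f.hom.app (op (fld K N)) b) = 0 :=
    congrArg (fun k : S.X₁ ⟶ S.X₃ => k.hom.app (op (fld K N)) b) S.zero
  have hgv : S.g.hom.app (op T) v = s := injective_res (N := N) S.X₃ (by
    rw [← NatTrans.naturality_apply S.g.hom, hv, map_sub, hi, hz, sub_zero])
  obtain ⟨ψ', rfl⟩ := (Flasque.evTop_bijective S.X₂).2 v
  rw [← Flasque.evTop_comp] at hgv
  have e : ψ' ≫ S.g = q := (Flasque.evTop_bijective S.X₃).1 hgv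
  rw [← hy, ← e, ← Abelian.Ext.mk₀_comp_mk₀, Abelian.Ext.comp_assoc_of_second_deg_zero,
    ShortComplex.ShortExact.comp_extClass, Abelian.Ext.comp_zero]

/-! ### Hilbert 90 -/

theorem crossed_Gm (c : (N →ₐ[K] N) → EtCoh.sect (EtCoh.Gm (Spec (CommRingCat.of K))) (fld K N))
    (hc : ∀ σ τ, c (σ.comp τ) = (EtCoh.Gm _).obj.map (fldMap σ).op (c τ) + c σ) :
    ∃ b, ∀ σ, c σ = (EtCoh.Gm _).obj.map (fldMap σ).op b - b := by
  let R := Γ(Spec (CommRingCat.of N), ⊤)
  let e : R ≃+* N := (Scheme.ΓSpecIso (CommRingCat.of N)).commRingCatIsoToRingEquiv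
  let E : EtCoh.sect (EtCoh.Gm (Spec (CommRingCat.of K))) (fld K N) ≃+ Additive Nˣ :=
    (AddEquiv.ulift : ULift.{u + 1} (Additive Rˣ) ≃+ Additive Rˣ).trans (Units.mapEquiv e.toMulEquiv).toAdditive
  have hE : ∀ (σ : N →ₐ[K] N) s, ((E ((EtCoh.Gm _).obj.map (fldMap σ).op s)).toMul : Nˣ) =
      Units.map (σ : N →* N) (E s).toMul := fun σ s => Units.ext (by
    show e ((Spec.map (CommRingCat.ofHom σ.toRingHom)).appTop.hom
      (((show ULift.{u + 1} (Additive Rˣ) from s).down.toMul : Rˣ) : R)) = σ (e _)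
    have h := ConcreteCategory.congr_hom (Scheme.ΓSpecIso_naturality (CommRingCat.ofHom σ.toRingHom))
      (((show ULift.{u + 1} (Additive Rˣ) from s).down.toMul : Rˣ) : R)
    exact h)
  let f : (N ≃ₐ[K] N) → Nˣ := fun g => (E (c g.toAlgHom)).toMul
  have hf : groupCohomology.IsMulCocycle₁ f := fun g h => by
    show (E (c ((g * h : N ≃ₐ[K] N)).toAlgHom)).toMul = g • (E (c h.toAlgHom)).toMul * (E (c g.toAlgHom)).toMul
    rw [show ((g * h : N ≃ₐ[K] N)).toAlgHom = g.toAlgHom.comp h.toAlgHom from rfl, hc, map_add, toMul_add, hE]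
    rfl
  obtain ⟨β, hβ⟩ := groupCohomology.isMulCoboundary₁_of_isMulCocycle₁_of_aut_to_units f hf
  refine ⟨E.symm (Additive.ofMul β), fun σ => E.injective (Additive.toMul.injective ?_)⟩
  rw [map_sub, toMul_sub, hE, AddEquiv.apply_symm_apply, toMul_ofMul]
  obtain ⟨g, rfl⟩ : ∃ g : N ≃ₐ[K] N, g.toAlgHom = σ := ⟨(algEquivEquivAlgHom K N).symm σ, (algEquivEquivAlgHom K N).apply_symm_apply σ⟩
  exact (hβ g).symm

/-- Hilbert 90 on the étale site: `H¹(K, G_m) = 0`. -/
theorem subsingleton_H_one_Gm :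
    Subsingleton (EtCoh.H (Spec (CommRingCat.of K)) (EtCoh.Gm (Spec (CommRingCat.of K))) 1) := by
  refine subsingleton_of_forall_eq 0 fun x => ?_
  obtain ⟨L, i1, i2, i3, i4, h⟩ := EtTower.exists_Hpull_eq_zero one_pos _ x
  obtain ⟨N, j1, j2, j3, j4, hN⟩ := EtTower.exists_galois _ x L h
  exact eq_zero_of_crossed (N := N) _ crossed_Gm x hN

end Groth.Agent.GalCohAux.EtH1
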