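import Groth.Agent.GalCohAux.AicSect
import Groth.Agent.GalCohAux.EtTower
import Groth.Agent.S1992
import Groth.Agent.WEtale.Local
import Groth.Agent.EtSection.SH
import Groth.Agent.EtSupp.TateLoc

/-!
Constant finite sheaves on absolutely integrally closed affine schemes are acyclic.
-/

set_option autoImplicit false
set_option backward.isDefEq.respectTransparency false

universe u

open CategoryTheory CategoryTheory.Limits AlgebraicGeometry Opposite TopologicalSpace

noncomputable section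

namespace Groth.Agent.GalCohAux.AicCoh

open EtaleSite

theorem split_monic {R : Type u} [CommRing R] [Nontrivial R] (hR : Curves.IsAIC R) :
    ∀ (n : ℕ) (f : Polynomial R), f.Monic → f.natDegree = n →
      ∃ s : Multiset R, f = (s.map fun a => Polynomial.X - Polynomial.C a).prod := by
  intro n
  induction n with
  | zero =>
    intro f hf hd
    exact ⟨0, by rw [hf.natDegree_eq_zero.1 hd]; simp⟩
  | succ n ih =>
    intro f hf hd
    obtain ⟨r, hr⟩ := hR f hf (by omega)
    obtain ⟨g, rfl⟩ := (Polynomial.dvd_iff_isRoot (p := f)).2 hr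
    have hg : g.Monic := (Polynomial.monic_X_sub_C r).of_mul_monic_left hf
    rw [(Polynomial.monic_X_sub_C r).natDegree_mul hg, Polynomial.natDegree_X_sub_C] at hd
    obtain ⟨s, rfl⟩ := ih g hg (by omega)
    exact ⟨r ::ₘ s, by simp⟩

theorem isAIC_away {R : Type u} [CommRing R] (hR : Curves.IsAIC R) (h : R) : Curves.IsAIC (Localization.Away h) := by
  classical
  intro P hP hdeg
  let S := Localization.Away h
  haveI : Nontrivial S := by
    by_contra hc
    haveI := not_nontrivial_iff_subsingleton.1 hc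
    rw [Subsingleton.elim P 0] at hdeg
    simp at hdeg
  obtain ⟨s, hs⟩ := IsLocalization.exist_integer_multiples_of_finset (Submonoid.powers h)
    (Finset.image P.coeff (Finset.range P.natDegree))
  have hu : IsUnit (algebraMap R S (s : R)) := IsLocalization.map_units S s
  set F := P.scaleRoots (algebraMap R S (s : R)) with hF
  have hlift : F ∈ Polynomial.lifts (algebraMap R S) := by
    rw [Polynomial.lifts_iff_coeff_lifts]
    intro i
    rw [hF, Polynomial.coeff_scaleRoots]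
    rcases lt_trichotomy i P.natDegree with hi | rfl | hi
    · obtain ⟨c, hc⟩ := hs (P.coeff i) (Finset.mem_image_of_mem _ (Finset.mem_range.mpr hi))
      refine ⟨c * (s : R) ^ (P.natDegree - i - 1), ?_⟩
      rw [map_mul, hc, Algebra.smul_def, map_pow, mul_assoc, mul_left_comm, ← pow_succ']
      congr 2
      omega
    · exact ⟨1, by simp [hP.leadingCoeff]⟩
    · exact ⟨0, by simp [Polynomial.coeff_eq_zero_of_natDegree_lt hi]⟩
  have hFm : F.Monic := (Polynomial.monic_scaleRoots_iff _).2 hP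
  obtain ⟨F₀, hF₀, -, hm₀⟩ := Polynomial.lifts_and_natDegree_eq_and_monic hlift hFm
  obtain ⟨r, hr⟩ := hR F₀ hm₀ (by
    rw [← hm₀.natDegree_map (algebraMap R S), hF₀, Polynomial.natDegree_scaleRoots]; exact hdeg)
  refine ⟨hu.unit⁻¹ * algebraMap R S r, ?_⟩
  have h1 : F.eval (algebraMap R S r) = 0 := by
    rw [← hF₀, Polynomial.eval_map_apply, hr, map_zero]
  have h2 := Polynomial.scaleRoots_eval₂_mul (RingHom.id S) (p := P)
    ((hu.unit⁻¹ : Sˣ) * algebraMap R S r) (algebraMap R S (s : R))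
  rw [RingHom.id_apply, ← mul_assoc, IsUnit.mul_val_inv, one_mul] at h2
  change F.eval _ = _ * P.eval _ at h2
  rw [h1] at h2
  exact ((hu.pow P.natDegree).mul_right_eq_zero).1 h2.symm

theorem stalk_sh {R : Type u} [CommRing R] (hR : Curves.IsAIC R) (x : Spec (CommRingCat.of R)) :
    EtCoh.IsStrictlyHenselianLocalRing ((Spec (CommRingCat.of R)).presheaf.stalk x) := by
  haveI : Nontrivial R := ⟨0, 1, fun h => x.isPrime.ne_top ((Ideal.eq_top_iff_one _).2 (h ▸ x.asIdeal.zero_mem))⟩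
  refine WEtale.Local.strictlyHenselian_of_ringEquiv (StructureSheaf.stalkIso (CommRingCat.of R) x).toRingEquiv
    (S1992.result R (fun f hf => split_monic hR _ f hf rfl) x.asIdeal)

variable {R : Type u} [CommRing R]

/-- `Hpull` along an open immersion, tested on the image. -/
theorem Hpull_eq_zero_of_le {X Y : Scheme.{u}} (j : Y ⟶ X) [IsOpenImmersion j] (U : X.Opens)
    (h : Set.range j ⊆ (U : Set X)) {n : ℕ} (F : EtCoh.Ab X) (e : EtCoh.H X F n)
    (he : EtCore.Hpull U.ι F n e = 0) : EtCore.Hpull j F n e = 0 := by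
  rw [EtTower.Hpull_eq_zero_iff (IsOpenImmersion.lift U.ι j (by rw [Scheme.Opens.range_ι]; exact h)) U.ι j
    (IsOpenImmersion.lift_fac _ _ _).symm, he, map_zero]

/-- The basic open as a map from the localisation. -/
abbrev jm (h : R) : Spec (CommRingCat.of (Localization.Away h)) ⟶ Spec (CommRingCat.of R) :=
  Spec.map (CommRingCat.ofHom (algebraMap R (Localization.Away h)))

theorem range_jm (h : R) : Set.range (jm h) = (PrimeSpectrum.basicOpen h : Set (PrimeSpectrum R)) :=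
  PrimeSpectrum.localization_away_comap_range _ h

instance (h : R) : IsOpenImmersion (jm h) := IsOpenImmersion.of_isLocalization h

variable (M : Type) [AddCommGroup M] [Finite M]

/-- `H^n(Spec R, M) = 0` for all aic `R`. -/
def Vanish (n : ℕ) : Prop :=
  ∀ (R : Type u) [CommRing R], Curves.IsAIC R →
    Subsingleton (EtCoh.H (Spec (CommRingCat.of R)) (EtCoh.const (Spec (CommRingCat.of R)) M) n)

variable {M}

theorem subsingleton_open (hR : Curves.IsAIC R) {n : ℕ} (hV : Vanish.{u} M n) (h : R)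
    (W : (Spec (CommRingCat.of R)).Opens) (hW : (W : Set (Spec (CommRingCat.of R))) = Set.range (jm h)) :
    Subsingleton (Abelian.Ext (EtMV.ZZ W.ι) (EtCoh.const (Spec (CommRingCat.of R)) M) n) := by
  let φ : Spec (CommRingCat.of (Localization.Away h)) ⟶ (W : Scheme.{u}) :=
    IsOpenImmersion.lift W.ι (jm h) (by rw [Scheme.Opens.range_ι, hW])
  haveI : IsIso φ := by
    have e : φ = (IsOpenImmersion.isoOfRangeEq (jm h) W.ι (by rw [Scheme.Opens.range_ι, hW])).hom := rfl
    rw [e]; infer_instance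
  haveI := hV _ (isAIC_away hR h)
  haveI : Subsingleton (EtCoh.H (Spec (CommRingCat.of (Localization.Away h)))
      ((EtCoh.pull φ).obj ((EtCoh.pull W.ι).obj (EtCoh.const (Spec (CommRingCat.of R)) M))) n) := by
    let a : (EtCoh.pull φ).obj ((EtCoh.pull W.ι).obj (EtCoh.const (Spec (CommRingCat.of R)) M)) ⟶
        EtCoh.const (Spec (CommRingCat.of (Localization.Away h))) M :=
      (EtCoh.pull φ).map (EtCore.pullConst W.ι M).hom ≫ (EtCore.pullConst φ M).hom
    haveI : IsIso a := IsIso.comp_isIso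
    exact (HpullComp.HF_map_bijective (n := n) a).1.subsingleton
  haveI := (HpullComp.Hpull_bijective_of_isIso φ n ((EtCoh.pull W.ι).obj (EtCoh.const (Spec (CommRingCat.of R)) M))).1.subsingleton
  exact (EtMV.toE_bijective W.ι (EtCoh.const (Spec (CommRingCat.of R)) M) n).2.subsingleton

theorem eq_zero_mv {X : Scheme.{u}} {U V : X.Opens} (hUV : U ⊔ V = ⊤) (F : EtCoh.Ab X) {n : ℕ}
    (e : EtCoh.H X F (n + 1))
    (hU : (Abelian.Ext.mk₀ (EtMV.cMap U.ι)).comp e (zero_add (n + 1)) = 0)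
    (hV : (Abelian.Ext.mk₀ (EtMV.cMap V.ι)).comp e (zero_add (n + 1)) = 0)
    (hW : ∀ y : Abelian.Ext (EtMV.ZZ (U ⊓ V).ι) F n, ∃ (z : Abelian.Ext (EtMV.seq X U V).X₂ F n),
      y = (Abelian.Ext.mk₀ (EtMV.seq X U V).f).comp z (zero_add n)) : e = 0 := by
  have hS := EtMV.shortExact_seq X U V hUV
  have hzero : (Abelian.Ext.mk₀ (EtMV.seq X U V).g).comp e (zero_add (n + 1)) = 0 := by
    refine Abelian.Ext.biprod_ext ?_ ?_ <;>
      rw [Abelian.Ext.mk₀_comp_mk₀_assoc, Abelian.Ext.comp_zero] <;>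
      simp only [EtMV.seq, biprod.inl_desc, biprod.inr_desc]
    · exact hU
    · exact hV
  obtain ⟨y, hy⟩ := Abelian.Ext.contravariant_sequence_exact₃ hS F e hzero (add_comm 1 n)
  obtain ⟨z, hz⟩ := hW y
  rw [← hy, hz]
  exact hS.extClass_comp_assoc z

theorem exists_lift_zero {X : Scheme.{u}} {U V : X.Opens} (F : EtCoh.Ab X)
    (h : ∀ φ : EtMV.ZZ (U ⊓ V).ι ⟶ F, ∃ (a : EtMV.ZZ U.ι ⟶ F) (b : EtMV.ZZ V.ι ⟶ F),
      EtMV.gU X U V ≫ a - EtMV.gV X U V ≫ b = φ)
    (y : Abelian.Ext (EtMV.ZZ (U ⊓ V).ι) F 0) : ∃ (z : Abelian.Ext (EtMV.seq X U V).X₂ F 0),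
      y = (Abelian.Ext.mk₀ (EtMV.seq X U V).f).comp z (zero_add 0) := by
  obtain ⟨φ, rfl⟩ := (Abelian.Ext.mk₀_bijective _ _).2 y
  obtain ⟨a, b, hab⟩ := h φ
  refine ⟨Abelian.Ext.mk₀ (biprod.desc a b), ?_⟩
  refine (congrArg Abelian.Ext.mk₀ ?_).trans (Abelian.Ext.mk₀_comp_mk₀ _ _).symm
  rw [← hab]
  simp only [EtMV.seq, biprod.lift_desc, Preadditive.neg_comp, sub_eq_add_neg]

theorem sup_eq_top {f g : R} (hfg : IsCoprime f g) :
    (PrimeSpectrum.basicOpen f : (Spec (CommRingCat.of R)).Opens) ⊔ PrimeSpectrum.basicOpen g = ⊤ := by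
  obtain ⟨s, t, hst⟩ := hfg
  refine eq_top_iff.2 fun x _ => ?_
  by_contra hx
  have h1 : f ∈ x.asIdeal := by_contra fun h => hx (Or.inl h)
  have h2 : g ∈ x.asIdeal := by_contra fun h => hx (Or.inr h)
  exact x.isPrime.ne_top ((Ideal.eq_top_iff_one _).2 (hst ▸ Submodule.add_mem _
    (x.asIdeal.mul_mem_left s h1) (x.asIdeal.mul_mem_left t h2)))

theorem cMap_comp_eq_zero {a : R} (T : (Spec (CommRingCat.of R)).Opens)
    (hT : (T : Set (Spec (CommRingCat.of R))) = Set.range (jm a)) {n : ℕ} (F : EtCoh.Ab (Spec (CommRingCat.of R)))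
    (e : EtCoh.H (Spec (CommRingCat.of R)) F n) (he : EtCore.Hpull (jm a) F n e = 0) :
    (Abelian.Ext.mk₀ (EtMV.cMap T.ι)).comp e (zero_add n) = 0 := by
  have h' : EtCore.Hpull T.ι F n e = 0 := by
    rw [EtTower.Hpull_eq_zero_iff (IsOpenImmersion.lift (jm a) T.ι (by rw [Scheme.Opens.range_ι, hT])) (jm a) T.ι
      (IsOpenImmersion.lift_fac _ _ _).symm, he, map_zero]
  rw [← EtMV.toE_Hpull, h', map_zero]

/-- Two pieces. -/
theorem eq_zero_two (hR : Curves.IsAIC R) {n : ℕ} (hV : n ≠ 0 → Vanish.{u} M n) {f g : R} (hfg : IsCoprime f g)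
    (e : EtCoh.H (Spec (CommRingCat.of R)) (EtCoh.const (Spec (CommRingCat.of R)) M) (n + 1))
    (hf : EtCore.Hpull (jm f) _ (n + 1) e = 0) (hg : EtCore.Hpull (jm g) _ (n + 1) e = 0) : e = 0 := by
  refine eq_zero_mv (sup_eq_top hfg) _ e (cMap_comp_eq_zero _ (range_jm f).symm _ e hf)
    (cMap_comp_eq_zero _ (range_jm g).symm _ e hg) ?_
  rcases Nat.eq_zero_or_pos n with rfl | hn
  · exact exists_lift_zero _ fun φ => AicSect.exists_sub_eq (M := AddCommGrpCat.of (ULift.{u + 1} M)) hR hfg _ _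
      (fun _ => Iff.rfl) (fun _ => Iff.rfl) φ
  · intro y
    have hr : (((PrimeSpectrum.basicOpen f : (Spec (CommRingCat.of R)).Opens) ⊓ PrimeSpectrum.basicOpen g :
        (Spec (CommRingCat.of R)).Opens) : Set (Spec (CommRingCat.of R))) = Set.range (jm (f * g)) := by
      rw [range_jm]; exact congrArg SetLike.coe (PrimeSpectrum.basicOpen_mul f g).symm
    haveI := subsingleton_open hR (hV hn.ne') (f * g) _ hr
    refine ⟨0, ?_⟩
    rw [Subsingleton.elim y 0]
    exact (Abelian.Ext.comp_zero _ _ _ _ _).symm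

theorem Hpull_mul_eq_zero {n : ℕ} {F : EtCoh.Ab (Spec (CommRingCat.of R))} {e : EtCoh.H _ F n} {a : R}
    (he : EtCore.Hpull (jm a) F n e = 0) (T : Spec (CommRingCat.of R) |>.Opens)
    (hT : (T : Set (Spec (CommRingCat.of R))) = Set.range (jm a)) : EtCore.Hpull T.ι F n e = 0 := by
  rw [EtTower.Hpull_eq_zero_iff (IsOpenImmersion.lift (jm a) T.ι (by rw [Scheme.Opens.range_ι, hT]))
    (jm a) T.ι (IsOpenImmersion.lift_fac _ _ _).symm, he, map_zero]

/-- Finitely many pieces. -/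
theorem eq_zero_cover {n : ℕ} (hV : n ≠ 0 → Vanish.{u} M n) : ∀ (k : ℕ) (R : Type u) [CommRing R], Curves.IsAIC R →
    ∀ (e : EtCoh.H (Spec (CommRingCat.of R)) (EtCoh.const (Spec (CommRingCat.of R)) M) (n + 1)) (a c : Fin (k + 1) → R),
      (∑ i, c i * a i = 1) → (∀ i, EtCore.Hpull (jm (a i)) _ (n + 1) e = 0) → e = 0 := by
  intro k
  induction k with
  | zero =>
    intro R _ hR e a c hc hk
    rw [Fin.sum_univ_one] at hc
    have h : EtCore.Hpull (jm (c 0 * a 0)) _ (n + 1) e = 0 :=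
      Hpull_eq_zero_of_le _ (PrimeSpectrum.basicOpen (a 0))
        (by rw [range_jm]; exact PrimeSpectrum.basicOpen_mul_le_right _ _) _ e
        (Hpull_mul_eq_zero (hk 0) _ (range_jm _).symm)
    exact eq_zero_two hR hV (f := c 0 * a 0) (g := c 0 * a 0) ⟨1, 0, by rw [hc]; simp⟩ e h h
  | succ k ih =>
    intro R _ hR e a c hc hk
    rw [Fin.sum_univ_succ] at hc
    let g := ∑ i : Fin (k + 1), c i.succ * a i.succ
    refine eq_zero_two hR hV (f := c 0 * a 0) (g := g) ⟨1, 1, by rw [one_mul, one_mul]; exact hc⟩ e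
      (Hpull_eq_zero_of_le _ (PrimeSpectrum.basicOpen (a 0))
        (by rw [range_jm]; exact PrimeSpectrum.basicOpen_mul_le_right _ _) _ e
        (Hpull_mul_eq_zero (hk 0) _ (range_jm _).symm)) ?_
    let S := Localization.Away g
    let j := jm g
    let π : (EtCoh.pull j).obj (EtCoh.const (Spec (CommRingCat.of R)) M) ⟶ EtCoh.const (Spec (CommRingCat.of S)) M :=
      (EtCore.pullConst j M).hom
    haveI : IsIso π := Iso.isIso_hom _
    apply (HpullComp.HF_map_bijective (n := n + 1) π).1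
    refine Eq.trans ?_ (Abelian.Ext.zero_comp _ _ _ _ _).symm
    obtain ⟨gi, hgi⟩ := isUnit_iff_exists_inv.1 (IsLocalization.Away.algebraMap_isUnit (S := S) g)
    refine ih S (isAIC_away hR g) _ (fun i => algebraMap R S (a i.succ))
      (fun i => gi * algebraMap R S (c i.succ)) ?_ fun i => ?_
    · rw [← hgi, mul_comm (algebraMap R S g) gi, map_sum, Finset.mul_sum]
      simp only [map_mul, mul_assoc]
    · let j' := jm (algebraMap R S (a i.succ))
      have h0 : EtCore.Hpull j' _ (n + 1) (EtCore.Hpull j _ (n + 1) e) = 0 := by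
        rw [← EtTower.Hpull_eq_zero_iff j' j (j' ≫ j) rfl]
        refine Hpull_eq_zero_of_le (j' ≫ j) (PrimeSpectrum.basicOpen (a i.succ)) ?_ _ e
          (Hpull_mul_eq_zero (hk i.succ) _ (range_jm _).symm)
        rintro _ ⟨y, rfl⟩
        have h1 : j' y ∈ Set.range j' := ⟨y, rfl⟩
        rw [range_jm] at h1
        exact h1
      show EtCore.Hpull j' _ _ ((EtCore.Hpull j _ _ e).comp (Abelian.Ext.mk₀ π) (add_zero (n + 1))) = 0
      rw [HpullSeq.Hpull_postcomp, h0]
      exact Abelian.Ext.zero_comp _ _ _ _ _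

theorem nbhd (hR : Curves.IsAIC R) {n : ℕ} (F : EtCoh.Ab (Spec (CommRingCat.of R)))
    (e : EtCoh.H (Spec (CommRingCat.of R)) F n) {A : Scheme.{u}} (t : A ⟶ Spec (CommRingCat.of R)) [Etale t] (v : A)
    (he : EtCore.Hpull t F n e = 0) :
    ∃ a : R, t v ∈ (PrimeSpectrum.basicOpen a : Set (PrimeSpectrum R)) ∧ EtCore.Hpull (jm a) F n e = 0 := by
  obtain ⟨U, s, hxU, hs, -⟩ := EtSection.exists_section_of_sh t v (stalk_sh hR _)
  obtain ⟨_, ⟨a, rfl⟩, hxa, haU⟩ :=
    PrimeSpectrum.isTopologicalBasis_basic_opens.exists_subset_of_mem_open hxU U.2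
  refine ⟨a, hxa, Hpull_eq_zero_of_le (jm a) U ((range_jm a).le.trans haU) _ e ?_⟩
  rw [EtTower.Hpull_eq_zero_iff s t U.ι hs.symm, he, map_zero]

theorem exists_away (hR : Curves.IsAIC R) {n : ℕ} (F : EtCoh.Ab (Spec (CommRingCat.of R)))
    (e : EtCoh.H (Spec (CommRingCat.of R)) F (n + 1)) (x : Spec (CommRingCat.of R)) :
    ∃ a : R, x ∈ (PrimeSpectrum.basicOpen a : Set (PrimeSpectrum R)) ∧ EtCore.Hpull (jm a) F (n + 1) e = 0 := by
  obtain ⟨A, t, ht, v, hv, hV⟩ := EtLocKill.exists_Hpull_eq_zero' F e x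
  haveI := ht
  obtain ⟨a, hxa, hea⟩ := nbhd hR F e t v hV
  exact ⟨a, hv ▸ hxa, hea⟩

theorem eq_zero_cover' (hR : Curves.IsAIC R) {n : ℕ} (hV : n ≠ 0 → Vanish.{u} M n)
    (e : EtCoh.H (Spec (CommRingCat.of R)) (EtCoh.const (Spec (CommRingCat.of R)) M) (n + 1))
    {ι : Type*} [Fintype ι] (a c : ι → R) (hc : ∑ i, c i * a i = 1)
    (h : ∀ i, EtCore.Hpull (jm (a i)) _ (n + 1) e = 0) : e = 0 := by
  rcases Nat.eq_zero_or_pos (Fintype.card ι) with h0 | h0
  · haveI : IsEmpty ι := Fintype.card_eq_zero_iff.1 h0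
    rw [Finset.univ_eq_empty, Finset.sum_empty] at hc
    haveI : Subsingleton R := subsingleton_of_zero_eq_one hc
    haveI : IsEmpty (Spec (CommRingCat.of R) : Scheme.{u}) := inferInstanceAs (IsEmpty (PrimeSpectrum R))
    exact EtLocKill.eq_zero_of_isEmpty (EtSupp.TateLoc.isZero_of_isEmpty _) e
  · let E := (Fintype.equivFinOfCardEq (show Fintype.card ι = (Fintype.card ι - 1) + 1 by omega)).symm
    refine eq_zero_cover hV (Fintype.card ι - 1) R hR e (fun i => a (E i)) (fun i => c (E i)) ?_ (fun i => h _)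
    rw [← hc]
    exact E.sum_comp fun x => c x * a x

theorem exists_finite_cover (a : PrimeSpectrum R → R) (ha : ∀ x, x ∈ PrimeSpectrum.basicOpen (a x)) :
    ∃ (t : Finset (PrimeSpectrum R)) (c : t → R), ∑ x, c x * a x.1 = 1 := by
  obtain ⟨t, ht⟩ := isCompact_univ.elim_finite_subcover (fun x => (PrimeSpectrum.basicOpen (a x) : Set (PrimeSpectrum R)))
    (fun x => (PrimeSpectrum.basicOpen (a x)).2) fun x _ => Set.mem_iUnion.2 ⟨x, ha x⟩
  have hspan : Ideal.span (Set.range fun x : t => a x.1) = ⊤ := by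
    rw [← PrimeSpectrum.zeroLocus_empty_iff_eq_top, PrimeSpectrum.zeroLocus_span, Set.eq_empty_iff_forall_notMem]
    intro y hy
    obtain ⟨x, hx, hxy⟩ := Set.mem_iUnion₂.1 (ht (Set.mem_univ y))
    exact hxy (hy ⟨⟨x, hx⟩, rfl⟩)
  obtain ⟨c, hc⟩ := Ideal.mem_span_range_iff_exists_fun.1 ((Ideal.eq_top_iff_one _).1 hspan)
  exact ⟨t, c, hc⟩

theorem vanish : ∀ n : ℕ, Vanish.{u} M (n + 1) := by
  intro n
  induction n using Nat.strong_induction_on with
  | _ n ih =>
    intro R _ hR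
    refine subsingleton_of_forall_eq 0 fun e => ?_
    choose a ha hea using fun x : PrimeSpectrum R => exists_away hR _ e x
    obtain ⟨t, c, hc⟩ := exists_finite_cover a ha
    exact eq_zero_cover' hR (fun hn => by obtain ⟨m, rfl⟩ := Nat.exists_eq_succ_of_ne_zero hn; exact ih m (by omega))
      e (fun x : t => a x.1) c hc fun x => hea _

end Groth.Agent.GalCohAux.AicCoh
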