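import Groth.Agent.GalCohAux.AicSplit

/-!
Čech `H¹` of a constant finite group on a two piece cover of the spectrum of an absolutely integrally
closed ring vanishes.
-/

set_option autoImplicit false

universe u v

open PrimeSpectrum

noncomputable section

namespace Groth.Agent.GalCohAux.AicTop

variable {R : Type u} [CommRing R] (f g : R) {M : Type v} [AddCommGroup M]

abbrev Df (f : R) : Set (PrimeSpectrum R) := basicOpen f

/-- `c` is a difference of locally constant functions on `D(f)` and `D(g)`. -/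
def Sol (c : ↥(Df f ∩ Df g) → M) : Prop :=
  ∃ (a : ↥(Df f) → M) (b : ↥(Df g) → M), IsLocallyConstant a ∧ IsLocallyConstant b ∧
    ∀ (x : PrimeSpectrum R) (hf : x ∈ Df f) (hg : x ∈ Df g), c ⟨x, hf, hg⟩ = a ⟨x, hf⟩ - b ⟨x, hg⟩

variable {f g}

theorem Sol.zero : Sol f g (0 : ↥(Df f ∩ Df g) → M) :=
  ⟨fun _ => 0, fun _ => 0, .const _, .const _, fun x _ _ => by simp⟩

theorem Sol.add {c c' : ↥(Df f ∩ Df g) → M} (h : Sol f g c) (h' : Sol f g c') : Sol f g (c + c') := by
  obtain ⟨a, b, ha, hb, hab⟩ := h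
  obtain ⟨a', b', ha', hb', hab'⟩ := h'
  exact ⟨a + a', b + b', ha.add ha', hb.add hb', fun x hf hg => by
    show c _ + c' _ = (a _ + a' _) - (b _ + b' _); rw [hab x hf hg, hab' x hf hg]; abel⟩

theorem Sol.neg {c : ↥(Df f ∩ Df g) → M} (h : Sol f g c) : Sol f g (-c) := by
  obtain ⟨a, b, ha, hb, hab⟩ := h
  exact ⟨-a, -b, ha.neg, hb.neg, fun x hf hg => by show -c _ = -a _ - -b _; rw [hab x hf hg]; abel⟩

theorem isOpenEmbedding_away (h : R) :
    Topology.IsOpenEmbedding (comap (algebraMap R (Localization.Away h))) ∧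
      Set.range (comap (algebraMap R (Localization.Away h))) = Df h :=
  ⟨localization_away_isOpenEmbedding _ h, localization_away_comap_range _ h⟩

theorem exists_numerator {W : Set ↥(Df f ∩ Df g)} (hW : IsClopen W) :
    ∃ (N : ℕ) (q : R), 0 < N ∧ (∀ x : PrimeSpectrum R, f * g ∈ x.asIdeal → q ∈ x.asIdeal) ∧
      (∀ x : PrimeSpectrum R, q ∈ x.asIdeal ∨ q - f ^ N * g ^ N ∈ x.asIdeal) ∧
      ∀ x : ↥(Df f ∩ Df g), x ∈ W ↔ q ∉ x.1.asIdeal := by
  let S := Localization.Away (f * g)
  let i := comap (algebraMap R S)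
  obtain ⟨hemb, hrange⟩ := isOpenEmbedding_away (f * g)
  have hmem : ∀ y, i y ∈ Df f ∩ Df g := fun y => by
    have h1 : i y ∈ Df (f * g) := hrange ▸ Set.mem_range_self y
    simpa [Df, basicOpen_mul] using h1
  let j : PrimeSpectrum S → ↥(Df f ∩ Df g) := fun y => ⟨i y, hmem y⟩
  have hj : Continuous j := hemb.continuous.subtype_mk hmem
  obtain ⟨e, he, heq⟩ := PrimeSpectrum.isClopen_iff.1 (hW.preimage hj)
  obtain ⟨⟨a, ⟨_, n, rfl⟩⟩, hae⟩ := IsLocalization.surj (Submonoid.powers (f * g)) e
  refine ⟨n + 1, a * (f * g), n.succ_pos, fun x hx => x.asIdeal.mul_mem_left a hx, fun x => ?_, fun x => ?_⟩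
  · by_cases hx : f * g ∈ x.asIdeal
    · exact .inl (x.asIdeal.mul_mem_left a hx)
    obtain ⟨y, rfl⟩ : x ∈ Set.range i := hrange.symm ▸ hx
    simp only [i, PrimeSpectrum.comap_asIdeal, Ideal.mem_comap, map_sub, map_mul, map_pow]
    change e * algebraMap R S ((f * g) ^ n) = algebraMap R S a at hae
    rw [← hae, map_pow, map_mul]
    rcases y.isPrime.mem_or_mem (show e * (e - 1) ∈ y.asIdeal by
      rw [mul_sub, he.eq, mul_one, sub_self]; exact y.asIdeal.zero_mem) with h | h
    · exact .inl (y.asIdeal.mul_mem_right _ (y.asIdeal.mul_mem_right _ h))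
    · refine .inr ?_
      have := y.asIdeal.mul_mem_right ((algebraMap R S f * algebraMap R S g) ^ (n + 1)) h
      refine (Eq.subst (motive := fun t => t ∈ y.asIdeal) ?_ this)
      rw [pow_succ, pow_succ, pow_succ, mul_pow]
      ring
  · have hfg : f * g ∉ x.1.asIdeal := fun h => by
      rcases x.1.isPrime.mem_or_mem h with h | h
      · exact x.2.1 h
      · exact x.2.2 h
    obtain ⟨y, hy⟩ : x.1 ∈ Set.range i := hrange.symm ▸ hfg
    have hxy : x = j y := Subtype.ext hy.symm
    have h1 : j y ∈ W ↔ e ∉ y.asIdeal := by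
      rw [← Set.mem_preimage, heq]
      exact PrimeSpectrum.mem_basicOpen _ _
    rw [hxy, h1]
    have hu : IsUnit (algebraMap R S (f * g)) := IsLocalization.Away.algebraMap_isUnit (f * g)
    show _ ↔ algebraMap R S (a * (f * g)) ∉ y.asIdeal
    rw [map_mul, Ideal.mul_unit_mem_iff_mem _ hu]
    change e * algebraMap R S ((f * g) ^ n) = algebraMap R S a at hae
    rw [← hae, map_pow, Ideal.mul_unit_mem_iff_mem _ (hu.pow n)]

theorem sol_indicator (hR : Curves.IsAIC R) (hfg : IsCoprime f g) : ∀ (n : ℕ) (m : M), 0 < n → n • m = 0 →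
    ∀ W : Set ↥(Df f ∩ Df g), IsClopen W → Sol f g (W.indicator fun _ => m) := by
  classical
  intro n
  induction n using Nat.strong_induction_on with
  | _ n ih =>
    intro m hn hnm W hW
    rcases Nat.eq_or_lt_of_le (show 1 ≤ n from hn) with h1 | h1
    · rw [← h1, one_nsmul] at hnm
      convert Sol.zero (f := f) (g := g) (M := M) using 1
      simp [hnm]; rfl
    obtain ⟨p, hp, hpn⟩ := Nat.exists_prime_and_dvd (show n ≠ 1 by omega)
    haveI := Fact.mk hp
    obtain ⟨k, rfl⟩ := hpn
    have hk : 0 < k := Nat.pos_of_mul_pos_left hn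
    obtain ⟨N, q, hN, hq0, hq1, hq⟩ := exists_numerator hW
    obtain ⟨s, t, hst⟩ := (hfg.pow (m := N) (n := N))
    obtain ⟨α, β, hα, hβ, hab⟩ := AicSplit.exists_split hR p (f ^ N) (g ^ N) s t q hst
      (fun x hx => hq0 x (by
        rw [← mul_pow] at hx
        exact x.isPrime.mem_of_pow_mem N hx)) hq1
    have hDf : ∀ (h : R), (basicOpen (h ^ N) : Set (PrimeSpectrum R)) = Df h := fun h => by
      rw [basicOpen_pow _ _ hN]
    let a : ↥(Df f) → ℤ := fun x => (α ⟨x.1, by rw [hDf]; exact x.2⟩).val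
    let b : ↥(Df g) → ℤ := fun x => (β ⟨x.1, by rw [hDf]; exact x.2⟩).val
    have ha : IsLocallyConstant a := ((hα.comp (fun z : ZMod p => ((z.val : ℤ)))).comp_continuous
      (continuous_subtype_val.subtype_mk _) :)
    have hb : IsLocallyConstant b := ((hβ.comp (fun z : ZMod p => ((z.val : ℤ)))).comp_continuous
      (continuous_subtype_val.subtype_mk _) :)
    let K : ↥(Df f ∩ Df g) → ℤ := fun x => (b ⟨x.1, x.2.2⟩ - a ⟨x.1, x.2.1⟩ - W.indicator (fun _ => 1) x)
    have hK : IsLocallyConstant K :=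
      ((hb.comp_continuous (continuous_subtype_val.subtype_mk fun x => x.2.2)).sub
        (ha.comp_continuous (continuous_subtype_val.subtype_mk fun x => x.2.1))).sub
        ((IsLocallyConstant.iff_isOpen_fiber.2 fun z => by
          by_cases hz : z = 1
          · subst hz
            convert hW.isOpen using 1
            ext x; by_cases hx : x ∈ W <;> simp [Set.indicator, hx]
          · by_cases hz0 : z = 0
            · subst hz0
              convert hW.compl.isOpen using 1
              ext x; by_cases hx : x ∈ W <;> simp [Set.indicator, hx]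
            · convert isOpen_empty using 1
              ext x; by_cases hx : x ∈ W <;> simp [Set.indicator, hx, Ne.symm hz, Ne.symm hz0]) :
          IsLocallyConstant (W.indicator fun _ : ↥(Df f ∩ Df g) => (1 : ℤ)))
    have hKv : ∀ x, K x = 0 ∨ K x = -(p : ℤ) := by
      intro x
      have hf' : x.1 ∈ basicOpen (f ^ N) := by rw [← SetLike.mem_coe, hDf]; exact x.2.1
      have hg' : x.1 ∈ basicOpen (g ^ N) := by rw [← SetLike.mem_coe, hDf]; exact x.2.2
      obtain ⟨h0, h1⟩ := hab x.1 hf' hg'
      by_cases hx : x ∈ W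
      · have e := h1 ((hq x).1 hx)
        simp only [K, a, b, Set.indicator_of_mem hx]
        rw [e, ZMod.val_add, ZMod.val_one]
        have hv := (α ⟨x.1, hf'⟩).val_lt
        rcases Nat.lt_or_ge ((α ⟨x.1, hf'⟩).val + 1) p with hlt | hge
        · rw [Nat.mod_eq_of_lt hlt]; left; push_cast; ring
        · rw [show (α ⟨x.1, hf'⟩).val + 1 = p by omega, Nat.mod_self]; right; push_cast; omega
      · have e := h0 (not_not.1 ((hq x).not.1 hx))
        simp only [K, a, b, Set.indicator_of_notMem hx]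
        rw [e]
        left; ring
    let W' : Set ↥(Df f ∩ Df g) := {x | K x = -(p : ℤ)}
    have hsol := ih k (lt_mul_left hk hp.one_lt) (p • m) hk
      (by rw [smul_smul, mul_comm, hnm]) W' (hK.isClopen_fiber _)
    have hmain : Sol f g (fun x => b ⟨x.1, x.2.2⟩ • m - a ⟨x.1, x.2.1⟩ • m) :=
      ⟨fun x => -(a x • m), fun x => -(b x • m), (ha.comp fun z => -(z • m) :), (hb.comp fun z => -(z • m) :),
        fun x hf hg => (neg_sub_neg _ _).symm⟩
    convert hmain.add hsol using 1
    funext x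
    have hxK : b ⟨x.1, x.2.2⟩ - a ⟨x.1, x.2.1⟩ = K x + W.indicator (fun _ => (1 : ℤ)) x := by
      simp only [K]; ring
    have hW1 : W.indicator (fun _ => m) x = (W.indicator (fun _ => (1 : ℤ)) x) • m := by
      by_cases hx : x ∈ W <;> simp [hx]
    rw [Pi.add_apply, ← sub_smul, hxK, hW1, add_smul]
    rcases hKv x with h0 | h0
    · have : x ∉ W' := fun hx => by
        simp only [W', Set.mem_ofPred_eq, h0] at hx
        exact hp.ne_zero (by exact_mod_cast (neg_eq_zero.1 hx.symm))
      rw [Set.indicator_of_notMem this, h0, zero_smul]; abel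
    · rw [Set.indicator_of_mem (show x ∈ W' from h0), h0, neg_smul, natCast_zsmul]; abel

theorem sol_of_finite (hR : Curves.IsAIC R) (hfg : IsCoprime f g) [Finite M] (c : ↥(Df f ∩ Df g) → M)
    (hc : IsLocallyConstant c) : Sol f g c := by
  classical
  haveI := Fintype.ofFinite M
  have hsum : c = ∑ m : M, {x | c x = m}.indicator fun _ => m := by
    funext x
    rw [Finset.sum_apply, Finset.sum_eq_single (c x)] <;> simp +contextual [Set.indicator, eq_comm]
  rw [hsum]
  refine Finset.sum_induction _ (Sol f g) (fun _ _ => Sol.add) Sol.zero fun m _ => ?_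
  exact sol_indicator hR hfg (Nat.card M) m Nat.card_pos card_nsmul_eq_zero' _ (hc.isClopen_fiber m)

end Groth.Agent.GalCohAux.AicTop
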