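import Groth.Agent.GalCohAux.EtLocKill
import Groth.Agent.GalCohAux.AicTop
import Groth.Agent.EtDepthLib.Clopen

/-!
Restriction of sections of a finite constant sheaf on a two piece cover of an aic affine scheme.
-/

set_option autoImplicit false
set_option backward.isDefEq.respectTransparency false

universe u

open CategoryTheory CategoryTheory.Limits AlgebraicGeometry Opposite TopologicalSpace

noncomputable section

namespace Groth.Agent.GalCohAux.AicSect

open EtShriek (sectSupp)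
open EtShriekLib (notMem_sectSupp_iff sectSupp_map eq_zero_of_sectSupp_empty sectSupp_neg sectSupp_add sectSupp_zero)
open EtaleSite.ConstSections (cst cSheaf map_cst)
open EtaleSite (piece pieceHom)
open EtDepthLib (isClopen_sectSupp exists_level level_unique)

variable {X : Scheme.{u}}

theorem mono_cMap (t : X.Opens) : Mono (EtMV.cMap t.ι) := by
  refine (EtaleSite.mono_iff_stalk _).2 fun Ω _ _ ξ => ?_
  by_cases h : ξ default ∈ Set.range t.ι
  · obtain ⟨ζ, rfl⟩ := EtMV.exists_lift t.ι ξ h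
    haveI := EtMV.isIso_stalk_of_pull t.ι ζ (EtMV.cMap t.ι) (EtMV.isIso_pull_cMap t.ι)
    exact ((ConcreteCategory.isIso_iff_bijective _).1 ‹_›).1
  · haveI := AddCommGrpCat.subsingleton_of_isZero (EtMV.isZero_stalk_ZZ t.ι ξ h)
    exact Function.injective_of_subsingleton _

/-- The map of open subschemes as a map of étale objects. -/
def incl {W U : X.Opens} (h : W ≤ U) : Scheme.Etale.mk W.ι ⟶ Scheme.Etale.mk U.ι :=
  MorphismProperty.Over.homMk (X.homOfLE h) (X.homOfLE_ι h) trivial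

theorem freeSec_eq_app (W : X.Etale) {G : EtCoh.Ab X} (φ : EtaleSite.Flasque.freeOn W ⟶ G) :
    EtaleSite.Flasque.freeSec W G φ = φ.hom.app (op W) (EtaleSite.Flasque.freeSec W _ (𝟙 _)) := by
  rw [← EtaleSite.Flasque.freeSec_comp, Category.id_comp]

/-- Precomposition with `gMap` is restriction of sections. -/
theorem freeSec_gMap {W U : X.Opens} (h : W ≤ U) {G : EtCoh.Ab X} (b : EtMV.ZZ U.ι ⟶ G) :
    EtaleSite.Flasque.freeSec (Scheme.Etale.mk W.ι) G (EtMV.gMap (X.homOfLE h) U.ι W.ι (X.homOfLE_ι h) ≫ b) =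
      G.obj.map (incl h).op (EtaleSite.Flasque.freeSec (Scheme.Etale.mk U.ι) G b) := by
  let g := EtMV.gMap (X.homOfLE h) U.ι W.ι (X.homOfLE_ι h)
  let W' := Scheme.Etale.mk W.ι
  let U' := Scheme.Etale.mk U.ι
  have key : EtaleSite.Flasque.freeSec W' (EtMV.ZZ U.ι) g =
      (EtMV.ZZ U.ι).obj.map (incl h).op (EtaleSite.Flasque.freeSec U' _ (𝟙 (EtMV.ZZ U.ι))) := by
    haveI := mono_cMap U
    apply EtaleSite.injective_app_of_stalk (EtMV.cMap U.ι) ((EtaleSite.mono_iff_stalk _).1 inferInstance) (op W')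
    rw [← EtaleSite.Flasque.freeSec_comp, EtMV.gMap_cMap, EtLocKill.freeSec_cMap',
      NatTrans.naturality_apply]
    refine Eq.trans ?_ (congrArg _ (EtaleSite.Flasque.freeSec_comp U' (𝟙 _) (EtMV.cMap U.ι)))
    rw [Category.id_comp, EtLocKill.freeSec_cMap']
    exact (map_cst (incl h) (M := AddCommGrpCat.of (ULift.{u + 1} ℤ)) _).symm
  refine (EtaleSite.Flasque.freeSec_comp W' g b).trans ?_
  rw [key, NatTrans.naturality_apply]
  exact congrArg _ (freeSec_eq_app (Scheme.Etale.mk U.ι) b).symm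

variable {M : AddCommGrpCat.{u + 1}}

/-- Sections of constant sheaves from locally constant functions. -/
theorem exists_sect {U : X.Etale} (a : U.left → M) (ha : IsLocallyConstant a) :
    ∃ s : EtCoh.sect (cSheaf X M) U, ∀ x, x ∉ sectSupp (cSheaf X M) U (s - cst U (a x)) := by
  let W : M → U.left.Opens := fun c => ⟨{x | a x = c}, ha.isOpen_fiber c⟩
  obtain ⟨s, hs⟩ := EtaleSite.exists_glue_disjoint (cSheaf X M) W
    (fun c d hcd => disjoint_iff.2 (Opens.ext (Set.eq_empty_iff_forall_notMem.2 fun x hx => hcd (hx.1.symm.trans hx.2))))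
    (fun x => ⟨a x, rfl⟩) (fun c => cst _ c)
  refine ⟨s, fun x => (notMem_sectSupp_iff _ _ _).2 ⟨_, pieceHom U (W (a x)), ⟨(⟨x, rfl⟩ : W (a x)), rfl⟩, ?_⟩⟩
  rw [map_sub, hs, map_cst, sub_self]

/-- The value of a section at a point. -/
def level {U : X.Etale} (s : EtCoh.sect (cSheaf X M) U) (x : U.left) : M :=
  (exists_level (M := M) U s x).choose

theorem level_spec {U : X.Etale} (s : EtCoh.sect (cSheaf X M) U) (x : U.left) :
    x ∉ sectSupp (cSheaf X M) U (s - cst U (level s x)) :=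
  (exists_level (M := M) U s x).choose_spec

theorem level_eq {U : X.Etale} (s : EtCoh.sect (cSheaf X M) U) {x : U.left} {c : M}
    (h : x ∉ sectSupp (cSheaf X M) U (s - cst U c)) : level s x = c :=
  level_unique s (level_spec s x) h

theorem isLocallyConstant_level {U : X.Etale} (s : EtCoh.sect (cSheaf X M) U) : IsLocallyConstant (level s) := by
  refine IsLocallyConstant.iff_isOpen_fiber.2 fun c => ?_
  convert (isClopen_sectSupp (M := M) U (s - cst U c)).compl.isOpen using 1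
  ext x
  exact ⟨fun h => h ▸ level_spec s x, fun h => level_eq s h⟩

theorem level_map {U' U : X.Etale} (g : U' ⟶ U) (s : EtCoh.sect (cSheaf X M) U) (x : U'.left) :
    level ((cSheaf X M).obj.map g.op s) x = level s (g.left x) := by
  refine level_eq _ ?_
  have h := level_spec s (g.left x)
  rwa [← map_cst g, ← map_sub, sectSupp_map]

theorem sect_ext_level {U : X.Etale} (s t : EtCoh.sect (cSheaf X M) U) (h : ∀ x, level s x = level t x) : s = t := by
  refine sub_eq_zero.1 (eq_zero_of_sectSupp_empty _ _ (Set.eq_empty_iff_forall_notMem.2 fun x hx => ?_))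
  rw [show s - t = (s - cst U (level s x)) + -(t - cst U (level t x)) by rw [h x]; abel] at hx
  rcases sectSupp_add _ _ _ hx with hx | hx
  · exact level_spec s x hx
  · rw [sectSupp_neg] at hx; exact level_spec t x hx

theorem level_sub {U : X.Etale} (s t : EtCoh.sect (cSheaf X M) U) (x : U.left) :
    level (s - t) x = level s x - level t x := by
  refine level_eq _ fun hx => ?_
  rw [EtDepthLib.cst_sub, show s - t - (cst U (level s x) - cst U (level t x)) =
    (s - cst U (level s x)) + -(t - cst U (level t x)) by abel] at hx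
  rcases sectSupp_add _ _ _ hx with hx | hx
  · exact level_spec s x hx
  · rw [sectSupp_neg] at hx; exact level_spec t x hx

theorem exists_sub_of_level (U V : X.Opens) (φ : EtMV.ZZ (U ⊓ V).ι ⟶ cSheaf X M)
    (sa : EtCoh.sect (cSheaf X M) (Scheme.Etale.mk U.ι)) (sb : EtCoh.sect (cSheaf X M) (Scheme.Etale.mk V.ι))
    (h : ∀ x : (Scheme.Etale.mk (U ⊓ V).ι).left,
      level (EtaleSite.Flasque.freeSec (Scheme.Etale.mk (U ⊓ V).ι) _ φ) x =
        level sa ((incl (inf_le_left : U ⊓ V ≤ U)).left x) - level sb ((incl (inf_le_right : U ⊓ V ≤ V)).left x)) :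
    ∃ (a : EtMV.ZZ U.ι ⟶ cSheaf X M) (b : EtMV.ZZ V.ι ⟶ cSheaf X M),
      EtMV.gU X U V ≫ a - EtMV.gV X U V ≫ b = φ := by
  obtain ⟨α, hα⟩ := (EtaleSite.Flasque.freeSec_bijective (Scheme.Etale.mk U.ι) (cSheaf X M)).2 sa
  obtain ⟨β, hβ⟩ := (EtaleSite.Flasque.freeSec_bijective (Scheme.Etale.mk V.ι) (cSheaf X M)).2 sb
  let W' := Scheme.Etale.mk (U ⊓ V).ι
  have hadd : ∀ p q : EtMV.ZZ (U ⊓ V).ι ⟶ cSheaf X M, EtaleSite.Flasque.freeSec W' (cSheaf X M) (p + q) =
      EtaleSite.Flasque.freeSec W' (cSheaf X M) p + EtaleSite.Flasque.freeSec W' (cSheaf X M) q := fun p q =>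
    (freeSec_eq_app W' (p + q)).trans
      (congrArg₂ (· + ·) (freeSec_eq_app W' p) (freeSec_eq_app W' q)).symm
  let P := AddMonoidHom.mk' (EtaleSite.Flasque.freeSec W' (cSheaf X M)) hadd
  have e1 : P (EtMV.gU X U V ≫ α) = (cSheaf X M).obj.map (incl (inf_le_left : U ⊓ V ≤ U)).op sa :=
    (freeSec_gMap (inf_le_left : U ⊓ V ≤ U) α).trans (congrArg _ hα)
  have e2 : P (EtMV.gV X U V ≫ β) = (cSheaf X M).obj.map (incl (inf_le_right : U ⊓ V ≤ V)).op sb :=
    (freeSec_gMap (inf_le_right : U ⊓ V ≤ V) β).trans (congrArg _ hβ)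
  have e3 : P (EtMV.gU X U V ≫ α - EtMV.gV X U V ≫ β) = P φ := by
    rw [map_sub, e1, e2]
    refine sect_ext_level _ _ fun x => ?_
    rw [level_sub, level_map, level_map]
    exact (h x).symm
  exact ⟨α, β, (EtaleSite.Flasque.freeSec_bijective W' (cSheaf X M)).1 e3⟩

/-- Sections on `D(f) ∩ D(g)` are differences of restrictions. -/
theorem exists_sub_eq {R : Type u} [CommRing R] (hR : Curves.IsAIC R) {f g : R} (hfg : IsCoprime f g)
    [Finite M] (U V : (Spec (CommRingCat.of R)).Opens)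
    (hU : ∀ x : Spec (CommRingCat.of R), x ∈ U ↔ x ∈ AicTop.Df f)
    (hV : ∀ x : Spec (CommRingCat.of R), x ∈ V ↔ x ∈ AicTop.Df g)
    (φ : EtMV.ZZ (U ⊓ V).ι ⟶ cSheaf (Spec (CommRingCat.of R)) M) :
    ∃ (a : EtMV.ZZ U.ι ⟶ cSheaf (Spec (CommRingCat.of R)) M) (b : EtMV.ZZ V.ι ⟶ cSheaf (Spec (CommRingCat.of R)) M),
      EtMV.gU _ U V ≫ a - EtMV.gV _ U V ≫ b = φ := by
  let z := EtaleSite.Flasque.freeSec (Scheme.Etale.mk (U ⊓ V).ι) (cSheaf _ M) φ
  have hmem : ∀ x : ↥(AicTop.Df f ∩ AicTop.Df g), (x.1 : Spec (CommRingCat.of R)) ∈ U ⊓ V := fun x =>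
    ⟨(hU _).2 x.2.1, (hV _).2 x.2.2⟩
  let c : ↥(AicTop.Df f ∩ AicTop.Df g) → M := fun x => level z (⟨x.1, hmem x⟩ : ↥(U ⊓ V))
  have hc : IsLocallyConstant c :=
    (isLocallyConstant_level z).comp_continuous (continuous_subtype_val.subtype_mk hmem)
  obtain ⟨a, b, ha, hb, hab⟩ := AicTop.sol_of_finite hR hfg c hc
  obtain ⟨sa, hsa⟩ := exists_sect (U := Scheme.Etale.mk U.ι)
    (fun x : ↥U => a ⟨x.1, (hU _).1 x.2⟩) (ha.comp_continuous (continuous_subtype_val.subtype_mk _))
  obtain ⟨sb, hsb⟩ := exists_sect (U := Scheme.Etale.mk V.ι)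
    (fun x : ↥V => b ⟨x.1, (hV _).1 x.2⟩) (hb.comp_continuous (continuous_subtype_val.subtype_mk _))
  refine exists_sub_of_level U V φ sa sb fun x => ?_
  rw [level_eq sa (hsa _), level_eq sb (hsb _)]
  refine (hab x.1 ((hU _).1 x.2.1) ((hV _).1 x.2.2)).trans (congrArg₂ (· - ·) (congrArg a (Subtype.ext ?_))
    (congrArg b (Subtype.ext ?_)))
  · exact (Scheme.homOfLE_apply inf_le_left x).symm
  · exact (Scheme.homOfLE_apply inf_le_right x).symm

end Groth.Agent.GalCohAux.AicSect
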