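import Groth.Agent.EtMV.Main
import Groth.Agent.EtaleSite.ConstSections
import Groth.Agent.EtaleSite.Flasque

/-!
Classes of positive degree die on an étale neighbourhood of every point.
-/

set_option autoImplicit false
set_option backward.isDefEq.respectTransparency false

universe u

open CategoryTheory CategoryTheory.Limits AlgebraicGeometry Opposite

noncomputable section

namespace Groth.Agent.GalCohAux.EtLocKill

open EtaleSite

variable {X : Scheme.{u}}

/-- The constant section `1`. -/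
def one (U : X.Etale) : EtCoh.sect (EtCoh.const X ℤ) U :=
  ConstSections.cst U (M := AddCommGrpCat.of (ULift.{u + 1} ℤ)) (ULift.up 1)

theorem evTop_eq {M : AddCommGrpCat.{u + 1}} (m : M) :
    ((EtCore.constAdj X).homEquiv M _ (𝟙 ((constantSheaf X.smallEtaleTopology AddCommGrpCat.{u + 1}).obj M))).hom m =
      ConstSections.cst (EtCoh.top X) m := by
  rw [Adjunction.homEquiv_id]
  rfl

theorem map_cst' {U V : X.Etaleᵒᵖ} (h : U ⟶ V) {M : AddCommGrpCat.{u + 1}} (c : M) :
    (ConstSections.cSheaf X M).obj.map h (ConstSections.cst U.unop c) = ConstSections.cst V.unop c :=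
  ConstSections.map_cst h.unop c

theorem freeSec_cMap' {A : Scheme.{u}} (t : A ⟶ X) [Etale t] :
    Flasque.freeSec (Scheme.Etale.mk t) (EtCoh.const X ℤ) (EtMV.cMap t) = one (Scheme.Etale.mk t) := by
  have h1 : (EtShriek.extZeroAdj t).homEquiv (EtCoh.const A ℤ) (EtCoh.const X ℤ) (EtMV.cMap t) =
      (EtCore.pullConst t ℤ).inv ≫ (pullIsoRestrAlong t).hom.app (EtCoh.const X ℤ) := by
    apply ((EtShriek.extZeroAdj t).homEquiv (EtCoh.const A ℤ) (EtCoh.const X ℤ)).symm.injective
    rw [Equiv.symm_apply_apply]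
    simp [EtMV.cMap, EtSupp.extPullAdj, Adjunction.ofNatIsoRight, Adjunction.homEquiv_counit]
  have h2 : (EtCoh.pullPushAdj t).homEquiv _ _ ((pullIsoRestrAlong t).hom.app (EtCoh.const X ℤ)) =
      (restrAlongPushAdj t).unit.app (EtCoh.const X ℤ) :=
    Adjunction.homEquiv_leftAdjointUniq_hom_app _ _ _
  unfold Flasque.freeSec Flasque.evTop
  show (EtCoh.const X ℤ).obj.map _ (((EtCore.constAdj A).homEquiv _ _
    ((EtShriek.extZeroAdj t).homEquiv (EtCoh.const A ℤ) (EtCoh.const X ℤ) (EtMV.cMap t))).hom (ULift.up 1)) = _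
  rw [h1]
  rw [show (EtCore.pullConst t ℤ).inv = (EtCore.pullConstIso t).inv.app _ from rfl,
    HpullComp.pullConst_homEquiv, h2]
  rw [show (restrAlongPushAdj t).unit.app (EtCoh.const X ℤ) =
    𝟙 _ ≫ (restrAlongPushAdj t).unit.app (EtCoh.const X ℤ) from (Category.id_comp _).symm,
    Adjunction.homEquiv_naturality_right]
  simp only [ConcreteCategory.comp_apply, AddCommGrpCat.hom_comp, AddMonoidHom.coe_comp, Function.comp_apply]
  erw [evTop_eq]
  change (EtCoh.const X ℤ).obj.map _ ((EtCoh.const X ℤ).obj.map _ ((EtCoh.const X ℤ).obj.map _ _)) = _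
  exact (congrArg _ ((congrArg _ (map_cst' _ _)).trans (map_cst' _ _))).trans (map_cst' _ _)

theorem freeSec_cMap (W : X.Etale) :
    haveI : Etale W.hom := W.prop
    Flasque.freeSec W (EtCoh.const X ℤ) (EtMV.cMap W.hom) = one W :=
  haveI : Etale W.hom := W.prop
  freeSec_cMap' W.hom

/-- A class of positive degree dies on an étale neighbourhood of each point. -/
theorem exists_nbhd : ∀ (n : ℕ) (F : EtCoh.Ab X) (α : EtCoh.H X F (n + 1)) (x : X),
    ∃ (V : X.Etale) (v : V.left), V.hom v = x ∧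
      haveI : Etale V.hom := V.prop
      (Abelian.Ext.mk₀ (EtMV.cMap V.hom)).comp α (zero_add (n + 1)) = 0 := by
  intro n
  induction n with
  | zero =>
    intro F α x
    let S : ShortComplex (EtCoh.Ab X) := ShortComplex.mk (Injective.ι F) (cokernel.π _) (cokernel.condition _)
    have : Epi S.g := coequalizer.π_epi
    have hS : S.ShortExact := { exact := ShortComplex.exact_cokernel _ }
    have : Injective S.X₂ := inferInstanceAs (Injective (Injective.under F))
    obtain ⟨y, hy⟩ := Abelian.Ext.covariant_sequence_exact₁ (EtCoh.const X ℤ) hS α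
      (Abelian.Ext.eq_zero_of_injective _) (rfl : 0 + 1 = 0 + 1)
    obtain ⟨q, rfl⟩ := (Abelian.Ext.mk₀_bijective _ _).2 y
    have := EtaleSite.isLocallySurjective_of_stalk S.g fun Ω _ _ ξ => ((epi_iff_stalk S.g).1 ‹_› Ω ξ)
    let t := q.hom.app (op (EtCoh.top X)) (one (EtCoh.top X))
    obtain ⟨V, g, v, ⟨i, hi⟩, hv⟩ := Covers.exists_of_mem
      (Presheaf.imageSieve_mem X.smallEtaleTopology S.g.hom t) x
    haveI : Etale V.hom := V.prop
    refine ⟨V, v, ?_, ?_⟩
    · have e : V.hom = g.left := by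
        have := Over.w g.toCommaMorphism
        exact (Over.w ((Scheme.Etale.forget X).map g)).symm.trans (Category.comp_id _)
      rw [e]; exact hv
    obtain ⟨ψ, hψ⟩ := (Flasque.freeSec_bijective V S.X₂).2 i
    have e : EtMV.cMap V.hom ≫ q = ψ ≫ S.g := (Flasque.freeSec_bijective V S.X₃).1 (by
      refine (Flasque.freeSec_comp V _ q).trans ?_
      refine Eq.trans ?_ (Flasque.freeSec_comp V ψ S.g).symm
      rw [hψ, freeSec_cMap]
      refine Eq.trans ?_ hi.symm
      show q.hom.app (op V) (one V) = S.X₃.obj.map g.op (q.hom.app (op (EtCoh.top X)) (one (EtCoh.top X)))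
      rw [← NatTrans.naturality_apply, one, one, ConstSections.map_cst])
    rw [← hy, Abelian.Ext.mk₀_comp_mk₀_assoc]
    refine (congrArg (fun z => (Abelian.Ext.mk₀ z).comp hS.extClass (zero_add 1)) e).trans ?_
    rw [← Abelian.Ext.mk₀_comp_mk₀_assoc, hS.comp_extClass, Abelian.Ext.comp_zero]
  | succ n ih =>
    intro F α x
    let S : ShortComplex (EtCoh.Ab X) := ShortComplex.mk (Injective.ι F) (cokernel.π _) (cokernel.condition _)
    have : Epi S.g := coequalizer.π_epi
    have hS : S.ShortExact := { exact := ShortComplex.exact_cokernel _ }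
    have : Injective S.X₂ := inferInstanceAs (Injective (Injective.under F))
    obtain ⟨y, hy⟩ := Abelian.Ext.covariant_sequence_exact₁ (EtCoh.const X ℤ) hS α
      (Abelian.Ext.eq_zero_of_injective _) (rfl : n + 1 + 1 = n + 1 + 1)
    obtain ⟨V, v, hv, h⟩ := ih S.X₃ y x
    haveI : Etale V.hom := V.prop
    refine ⟨V, v, hv, ?_⟩
    rw [← hy, ← Abelian.Ext.comp_assoc _ _ _ (zero_add (n + 1)) rfl (by omega), h, Abelian.Ext.zero_comp]

/-- The pullback of a class of positive degree to some étale neighbourhood vanishes. -/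
theorem exists_Hpull_eq_zero {n : ℕ} (F : EtCoh.Ab X) (α : EtCoh.H X F (n + 1)) (x : X) :
    ∃ (V : X.Etale) (v : V.left), V.hom v = x ∧
      haveI : Etale V.hom := V.prop
      EtCore.Hpull V.hom F (n + 1) α = 0 := by
  obtain ⟨V, v, hv, h⟩ := exists_nbhd n F α x
  haveI : Etale V.hom := V.prop
  refine ⟨V, v, hv, (EtMV.toE_bijective V.hom F (n + 1)).1 ?_⟩
  rw [EtMV.toE_Hpull, h, map_zero]

/-- The same, with the neighbourhood as a morphism. -/
theorem exists_Hpull_eq_zero' {n : ℕ} (F : EtCoh.Ab X) (α : EtCoh.H X F (n + 1)) (x : X) :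
    ∃ (A : Scheme.{u}) (t : A ⟶ X) (_ : Etale t) (v : A), t v = x ∧ EtCore.Hpull t F (n + 1) α = 0 := by
  obtain ⟨V, v, hv, h⟩ := exists_Hpull_eq_zero F α x
  exact ⟨V.left, V.hom, V.prop, v, hv, h⟩

theorem eq_zero_of_isEmpty [IsEmpty X] {n : ℕ} {F : EtCoh.Ab X} (hz : IsZero F) (α : EtCoh.H X F n) : α = 0 := by
  rw [← Abelian.Ext.comp_mk₀_id α, hz.eq_of_src (𝟙 _) 0, Abelian.Ext.mk₀_zero, Abelian.Ext.comp_zero]

end Groth.Agent.GalCohAux.EtLocKill
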