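import Groth.Agent.GalCohAux.EtTransfer
import Groth.Agent.GalCohAux.EtTower
import Groth.Agent.EtaleSite.HpullSeq
import Groth.Agent.S3054
import Groth.Agent.S14451
import Groth.Prelude.Def_EtLim

/-!
The additive group has no higher cohomology on a field.
-/

set_option autoImplicit false
set_option backward.isDefEq.respectTransparency false

universe u

open CategoryTheory CategoryTheory.Limits AlgebraicGeometry Opposite

noncomputable section

namespace Groth.Agent.GalCohAux.EtGa

open EtaleSite EtTrace EtTransfer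

variable {K : Type u} [Field K] {N : Type u} [Field N] [Algebra K N] [FiniteDimensional K N]
  [Algebra.IsSeparable K N]

local notation "SK" => Spec (CommRingCat.of K)

/-- The ring map `N ⟶ Γ(U ×_K N)`. -/
def toW (U : (Spec (CommRingCat.of K)).Etale) : N →+* Γ((wObj N U).left, ⊤) :=
  ((Scheme.ΓSpecIso (CommRingCat.of N)).inv ≫ (wSnd N U).left.appTop).hom

theorem toW_natural {U V : (Spec (CommRingCat.of K)).Etale} (h : wObj N V ⟶ wObj N U)
    (hs : h ≫ wSnd N U = wSnd N V) (a : N) : h.left.appTop (toW U a) = toW V a := by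
  show ((wSnd N U).left.appTop ≫ h.left.appTop).hom _ = (wSnd N V).left.appTop.hom _
  rw [← Scheme.Hom.comp_appTop]
  have e : h.left ≫ (wSnd N U).left = (wSnd N V).left := congrArg (fun k => k.left) hs
  exact congrArg (fun (m : (wObj N V).left ⟶ Spec (CommRingCat.of N)) => m.appTop.hom ((Scheme.ΓSpecIso (CommRingCat.of N)).inv.hom a)) e

theorem toW_act {U : (Spec (CommRingCat.of K)).Etale} (σ : N →ₐ[K] N) (a : N) :
    (act σ U).left.appTop (toW U a) = toW U (σ a) := by
  show ((wSnd N U).left.appTop ≫ (act σ U).left.appTop).hom _ = (wSnd N U).left.appTop.hom _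
  rw [← Scheme.Hom.comp_appTop]
  have e : (act σ U).left ≫ (wSnd N U).left = (wSnd N U).left ≫ Spec.map (CommRingCat.ofHom σ.toRingHom) :=
    congrArg (fun k => k.left) (wLift_snd (wFst N U) (wSnd N U ≫ fldMap σ))
  refine (congrArg (fun (m : (wObj N U).left ⟶ Spec (CommRingCat.of N)) =>
    m.appTop.hom ((Scheme.ΓSpecIso (CommRingCat.of N)).inv.hom a)) e).trans ?_
  rw [Scheme.Hom.comp_appTop]
  exact congrArg (wSnd N U).left.appTop.hom
    (ConcreteCategory.congr_hom (Scheme.ΓSpecIso_inv_naturality (CommRingCat.ofHom σ.toRingHom)).symm a)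

variable [Normal K N]

/-- Multiply by `a` and take the transfer. -/
def trMul (a : N) (U : (Spec (CommRingCat.of K)).Etale)
    (s : EtCoh.sect (EtCoh.Ga (Spec (CommRingCat.of K))) (wObj N U)) :
    EtCoh.sect (EtCoh.Ga (Spec (CommRingCat.of K))) U :=
  tr (EtCoh.Ga _) U (⟨toW U a * (show ULift.{u + 1} Γ((wObj N U).left, ⊤) from s).down⟩ : ULift.{u + 1} Γ((wObj N U).left, ⊤))

variable (K N) in
/-- The weighted trace `f_* G_a ⟶ G_a`. -/
def trHom (a : N) :
    (EtCoh.push (fld K N).hom).obj (EtCoh.Ga (Spec (CommRingCat.of N))) ⟶ EtCoh.Ga (Spec (CommRingCat.of K)) :=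
  ObjectProperty.homMk
    { app := fun U => AddCommGrpCat.ofHom (AddMonoidHom.mk' (fun s => trMul a U.unop s) fun s t => by
        refine (congrArg (tr (EtCoh.Ga _) U.unop) ?_).trans (tr_add (EtCoh.Ga _) U.unop _ _)
        exact ULift.ext _ _ (mul_add _ _ _))
      naturality := fun U V g => by
        ext s
        show trMul a V.unop _ = (EtCoh.Ga (Spec (CommRingCat.of K))).obj.map g.unop.op (trMul a U.unop s)
        unfold trMul
        rw [tr_natural]
        refine congrArg (tr (EtCoh.Ga _) V.unop) (ULift.ext _ _ ?_)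
        let h := wLift (wFst N V.unop ≫ g.unop) (wSnd N V.unop)
        have he : ((EtCoh.bc (fld K N).hom).map g.unop).left = h.left := by
          apply pullback.hom_ext
          · exact (EtCoh.isPullback_bc_map (fld K N).hom g.unop).w.trans
              (congrArg (fun k => k.left) (wLift_fst (wFst N V.unop ≫ g.unop) (wSnd N V.unop))).symm
          · exact (pullback.lift_snd _ _ _).trans
              (congrArg (fun k => k.left) (wLift_snd (wFst N V.unop ≫ g.unop) (wSnd N V.unop))).symm
        let d : Γ((wObj N U.unop).left, ⊤) := (show ULift.{u + 1} Γ((wObj N U.unop).left, ⊤) from s).down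
        show toW V.unop a * (show Γ((wObj N V.unop).left, ⊤) from ((EtCoh.bc (fld K N).hom).map g.unop).left.appTop.hom d) = h.left.appTop.hom (toW U.unop a * d)
        rw [map_mul, toW_natural h (wLift_snd _ _) a, he]
        rfl }

theorem GaPush_trHom [IsGalois K N] (a : N) (ha : Algebra.trace K N a = 1) :
    EtLim.GaPush (fld K N).hom ≫ trHom K N a = 𝟙 (EtCoh.Ga (Spec (CommRingCat.of K))) := by
  refine Sheaf.hom_ext (NatTrans.ext (funext fun U => ?_))
  ext s
  apply injective_res (N := N) (EtCoh.Ga _) U.unop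
  show (EtCoh.Ga _).obj.map (wFst N U.unop).op (trMul a U.unop _) = (EtCoh.Ga _).obj.map (wFst N U.unop).op s
  unfold trMul
  rw [res_tr]
  let R := Γ((wObj N U.unop).left, ⊤)
  let t : Γ(U.unop.left, ⊤) := (show ULift.{u + 1} Γ(U.unop.left, ⊤) from s).down
  let D : EtCoh.sect (EtCoh.Ga (Spec (CommRingCat.of K))) (wObj N U.unop) →+ R :=
    (AddEquiv.ulift : ULift.{u + 1} R ≃+ R).toAddMonoidHom
  apply (show Function.Injective D from (AddEquiv.ulift : ULift.{u + 1} R ≃+ R).injective)
  rw [map_sum]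
  show ∑ σ : N →ₐ[K] N, (act σ U.unop).left.appTop.hom (toW U.unop a * (wFst N U.unop).left.appTop.hom t) =
    (wFst N U.unop).left.appTop.hom t
  have e : ∀ σ : N →ₐ[K] N, (act σ U.unop).left.appTop.hom ((wFst N U.unop).left.appTop.hom t) =
      (wFst N U.unop).left.appTop.hom t := fun σ => by
    show ((wFst N U.unop).left.appTop ≫ (act σ U.unop).left.appTop).hom t = _
    rw [← Scheme.Hom.comp_appTop]
    exact congrArg (fun (m : (wObj N U.unop).left ⟶ U.unop.left) => m.appTop.hom t)
      (congrArg (fun k => k.left) (wLift_fst (wFst N U.unop) (wSnd N U.unop ≫ fldMap σ)))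
  simp only [map_mul, e, toW_act]
  rw [← Finset.sum_mul, ← map_sum]
  have h1 : ∑ σ : N →ₐ[K] N, σ a = 1 := by
    have h2 := (trace_eq_sum_automorphisms (K := K) a).symm
    rw [ha, map_one] at h2
    rw [← h2]
    exact Fintype.sum_equiv (algEquivEquivAlgHom K N).symm.toEquiv _ _ fun σ => rfl
  rw [h1, map_one, one_mul]

theorem eq_zero_of_Hpull [IsGalois K N] (n : ℕ) (x : EtCoh.H SK (EtCoh.Ga SK) n)
    (h : EtCore.Hpull (fld K N).hom (EtCoh.Ga SK) n x = 0) : x = 0 := by
  let f := (fld K N).hom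
  haveI : IsIntegralHom f := IsIntegralHom.SpecMap_iff.2 (by
    rw [CommRingCat.hom_ofHom]
    exact fun x => Algebra.IsIntegral.isIntegral x)
  obtain ⟨a, ha⟩ := Algebra.trace_surjective K N 1
  have h0 : x.comp (Abelian.Ext.mk₀ (EtLim.GaPush f)) (add_zero n) = 0 := by
    refine (S14451.result f (EtCoh.Ga _) (fun i hi => S3054.result f _ i hi) n).1 ?_
    rw [map_zero]
    show ((EtCoh.HF _ n).map _).hom (EtCore.Hpull f _ n (x.comp (Abelian.Ext.mk₀ (EtLim.GaPush f)) (add_zero n))) = 0
    rw [HpullSeq.Hpull_postcomp, h, Abelian.Ext.zero_comp, map_zero]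
  calc x = x.comp (Abelian.Ext.mk₀ (EtLim.GaPush f ≫ trHom K N a)) (add_zero n) := by
        rw [GaPush_trHom a ha, Abelian.Ext.comp_mk₀_id]
    _ = 0 := by
        rw [← Abelian.Ext.mk₀_comp_mk₀, ← Abelian.Ext.comp_assoc_of_second_deg_zero, h0, Abelian.Ext.zero_comp]

/-- `G_a` has no higher cohomology on a field. -/
theorem subsingleton_H {n : ℕ} (hn : 0 < n) : Subsingleton (EtCoh.H SK (EtCoh.Ga SK) n) := by
  refine subsingleton_of_forall_eq 0 fun x => ?_
  obtain ⟨L, i1, i2, i3, i4, h⟩ := EtTower.exists_Hpull_eq_zero hn (EtCoh.Ga SK) x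
  obtain ⟨N, j1, j2, j3, j4, hN⟩ := EtTower.exists_galois (EtCoh.Ga SK) x L h
  exact eq_zero_of_Hpull (N := N) n x hN

end Groth.Agent.GalCohAux.EtGa
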