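import Groth.Agent.GalCohAux.EtDev
import Groth.Agent.GalCohAux.EtGa
import Groth.Agent.S18415

/-!
`H²(Spec M, ℤ/p) = 0` in characteristic `p` (Artin–Schreier).
-/

set_option autoImplicit false
set_option backward.isDefEq.respectTransparency false

universe u

open CategoryTheory CategoryTheory.Limits AlgebraicGeometry Opposite

noncomputable section

namespace Groth.Agent.GalCohAux.EtAS

open EtaleSite EtTrace EtFin

theorem exists_int_of_pow_eq {R : Type*} [Field R] (p : ℕ) [Fact p.Prime] [CharP R p] {a : R}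
    (h : a ^ p = a) : ∃ c : ℤ, a = c := by
  classical
  let P : Polynomial R := Polynomial.X ^ p - Polynomial.X
  have hp : 1 < p := (Fact.out : p.Prime).one_lt
  have hP : P ≠ 0 := fun h0 => by
    have := congrArg Polynomial.natDegree h0
    rw [FiniteField.X_pow_card_sub_X_natDegree_eq R hp, Polynomial.natDegree_zero] at this
    omega
  let S : Finset R := Finset.univ.image (ZMod.castHom (dvd_refl p) R)
  have hS : S.card = p := by
    rw [Finset.card_image_of_injective _ (ZMod.castHom_injective R), Finset.card_univ, ZMod.card]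
  have hsub : S ⊆ P.roots.toFinset := fun x hx => by
    obtain ⟨z, -, rfl⟩ := Finset.mem_image.1 hx
    rw [Multiset.mem_toFinset, Polynomial.mem_roots hP]
    simp only [P, Polynomial.IsRoot, Polynomial.eval_sub, Polynomial.eval_pow, Polynomial.eval_X]
    rw [← map_pow, ZMod.pow_card, sub_self]
  have heq : S = P.roots.toFinset := Finset.eq_of_subset_of_card_le hsub (by
    rw [hS]
    refine (Multiset.toFinset_card_le _).trans ((Polynomial.card_roots' P).trans ?_)
    exact (FiniteField.X_pow_card_sub_X_natDegree_eq R hp).le)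
  have ha : a ∈ S := by
    rw [heq, Multiset.mem_toFinset, Polynomial.mem_roots hP]
    simp [P, h]
  obtain ⟨z, -, rfl⟩ := Finset.mem_image.1 ha
  obtain ⟨c, rfl⟩ := ZMod.intCast_surjective z
  exact ⟨c, map_intCast _ c⟩

variable (M : Type u) [Field M] (p : ℕ) [Fact p.Prime] [CharP M p]

/-- `H²(Spec M, ℤ/p) = 0` in characteristic `p`. -/
theorem subsingleton_H_two :
    Subsingleton (EtCoh.H (Spec (CommRingCat.of M)) (EtCoh.const (Spec (CommRingCat.of M)) (ZMod p)) 2) := by
  let X := Spec (CommRingCat.of M)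
  have hp : p.Prime := Fact.out
  let e : Γ(X, ⊤) ≅ CommRingCat.of M := Scheme.ΓSpecIso (CommRingCat.of M)
  have h0 : (p : Γ(X, ⊤)) = 0 := by
    apply e.commRingCatIsoToRingEquiv.injective
    rw [map_natCast, map_zero]
    exact CharP.cast_eq_zero M p
  let AS := W4c5etcohweilstudent.artinSchreierEndo X p hp h0
  haveI : Epi AS := Groth.Agent.S18415.result p hp h0
  let S : ShortComplex (EtCoh.Ab X) := ShortComplex.mk (kernel.ι AS) AS (kernel.condition AS)
  have hS : S.ShortExact := { exact := ShortComplex.exact_kernel AS }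
  -- the section `1` of the kernel
  let T := EtCoh.top X
  let one : EtCoh.sect (EtCoh.Ga X) T := (⟨1⟩ : ULift.{u + 1} Γ(T.left, ⊤))
  have hone : AS.hom.app (op T) one = 0 := ULift.ext _ _
    (sub_eq_zero.2 (one_pow (M := Γ(T.left, ⊤)) p) : (1 : Γ(T.left, ⊤)) ^ p - 1 = 0)
  obtain ⟨v, hv⟩ : ∃ v, (kernel.ι AS).hom.app (op T) v = one := by
    obtain ⟨φ, hφ⟩ := (Flasque.freeSec_bijective T (EtCoh.Ga X)).2 one
    have hφ0 : φ ≫ AS = 0 := (Flasque.freeSec_bijective T _).1 (by
      rw [Flasque.freeSec_comp, hφ, hone, EtDev.freeSec_zero])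
    exact ⟨Flasque.freeSec T _ (kernel.lift AS φ hφ0),
      ((Flasque.freeSec_comp T _ _).symm.trans (congrArg _ (kernel.lift_ι _ _ hφ0))).trans hφ⟩
  haveI : Nontrivial Γ(T.left, ⊤) := e.commRingCatIsoToRingEquiv.toEquiv.nontrivial
  have hv0 : v ≠ 0 := fun h => by
    rw [h, map_zero] at hv
    have h1 : (0 : Γ(T.left, ⊤)) = 1 := congrArg ULift.down hv
    exact one_ne_zero h1.symm
  have hpv : p • v = 0 := by
    refine ((EtaleSite.mono_iff_stalk (kernel.ι AS)).1 inferInstance |> fun hm =>
      EtaleSite.injective_app_of_stalk (kernel.ι AS) hm (op T)) ?_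
    rw [map_nsmul, hv, map_zero]
    refine ULift.ext _ _ ?_
    show p • (1 : Γ(T.left, ⊤)) = 0
    rw [nsmul_one]
    exact h0
  obtain ⟨χ, hχ, -, hχ1⟩ := EtDev.exists_mono_const (kernel AS) v hv0 hpv
  haveI := hχ
  haveI : Epi χ := by
    refine epi_of_stalk χ fun Ω _ _ ξ => ?_
    suffices h : Function.Surjective ((EtCoh.stalk (pt M)).map χ) by
      haveI : IsIso ((EtCoh.stalk (pt M)).map χ) := (ConcreteCategory.isIso_iff_bijective _).2
        ⟨(mono_iff_stalk χ).1 hχ _ _, h⟩
      obtain ⟨i⟩ := nonempty_stalkFun_iso ξ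
      haveI := (NatIso.isIso_map_iff i χ).2 ‹_›
      exact (ConcreteCategory.bijective_of_isIso ((EtCoh.stalk ξ).map χ)).2
    intro q
    obtain ⟨U, x, t, rfl⟩ := exists_germ_eq (pt M) _ q
    obtain ⟨N, hN, hN', z, g, hz⟩ := EtDev.exists_galois_nbhd U x
    let t' := (kernel AS).obj.map g.op t
    let W := fld M N
    let a : Γ(W.left, ⊤) := (show ULift.{u + 1} Γ(W.left, ⊤) from (kernel.ι AS).hom.app (op W) t').down
    have ha : a ^ p = a := by
      have h1 : AS.hom.app (op W) ((kernel.ι AS).hom.app (op W) t') = 0 :=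
        congrArg (fun k : kernel AS ⟶ EtCoh.Ga X => k.hom.app (op W) t') (kernel.condition AS)
      exact sub_eq_zero.1 (congrArg ULift.down h1)
    let eN : Γ(W.left, ⊤) ≃+* N := (Scheme.ΓSpecIso (CommRingCat.of N)).commRingCatIsoToRingEquiv
    haveI : CharP N p := charP_of_injective_algebraMap (algebraMap M N).injective p
    obtain ⟨c, hc⟩ := exists_int_of_pow_eq p (a := eN a) (by rw [← map_pow, ha])
    have hac : a = c := eN.injective (by rw [hc, map_intCast])
    let w := (EtCore.topIsTerminal X).from W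
    have ht : t' = c • (kernel AS).obj.map w.op v := by
      refine EtaleSite.injective_app_of_stalk (kernel.ι AS) ((mono_iff_stalk _).1 inferInstance) (op W) ?_
      rw [map_zsmul, NatTrans.naturality_apply (kernel.ι AS).hom w.op v, hv]
      refine ULift.ext _ _ ?_
      show a = c • w.left.appTop.hom (1 : Γ(T.left, ⊤))
      rw [map_one, zsmul_one, hac]
    let C := EtCoh.const X (ZMod p)
    refine ⟨germ (pt M) C W z (c • C.obj.map w.op (ConstSections.cst T
      (M := AddCommGrpCat.of (ULift.{u + 1} (ZMod p))) (ULift.up (1 : ZMod p)))), ?_⟩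
    refine (germ_naturality (pt M) χ W z _).trans ?_
    rw [map_zsmul, NatTrans.naturality_apply, hχ1, ← ht, germ_res, hz]
  haveI : IsIso χ := isIso_of_mono_of_epi χ
  refine subsingleton_of_forall_eq 0 fun x => (HpullComp.HF_map_bijective (n := 2) χ).1 ?_
  show x.comp (Abelian.Ext.mk₀ χ) (add_zero 2) = (0 : EtCoh.H X _ 2).comp (Abelian.Ext.mk₀ χ) (add_zero 2)
  rw [Abelian.Ext.zero_comp]
  obtain ⟨w, hw⟩ := Abelian.Ext.covariant_sequence_exact₁ _ hS (x.comp (Abelian.Ext.mk₀ χ) (add_zero 2))
    ((EtGa.subsingleton_H (K := M) two_pos).elim _ _) rfl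
  rw [← hw, (EtGa.subsingleton_H (K := M) one_pos).elim w 0, Abelian.Ext.zero_comp]

end Groth.Agent.GalCohAux.EtAS
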