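import Groth.Agent.S7732
import Groth.Agent.S7734
import Groth.Agent.GalCohAux.EtAS

/-!
Fields all of whose finite separable extensions have surjective cyclic norms: `cd ≤ 1` and the
cohomology of `G_m` vanishes.
-/

set_option autoImplicit false

universe u

open CategoryTheory AlgebraicGeometry GalCoh

noncomputable section

namespace Groth.Agent.GalCohAux.EtCdOne

open EtBrauer

theorem eq_zero_of_primary {A : Type*} [AddCommGroup A] (n : ℕ) : 0 < n →
    ∀ x : A, n • x = 0 → (∀ p : ℕ, p.Prime → p ∣ n → ∀ y : A, p • y = 0 → y = 0) → x = 0 := by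
  induction n using Nat.strong_induction_on with
  | _ n ih =>
    intro hn x hx h
    rcases Nat.eq_or_lt_of_le (show 1 ≤ n from hn) with h1 | h1
    · rw [← h1, one_nsmul] at hx
      exact hx
    · obtain ⟨p, hp, hpn⟩ := Nat.exists_prime_and_dvd (show n ≠ 1 by omega)
      obtain ⟨m, rfl⟩ := hpn
      have hm : 0 < m := Nat.pos_of_mul_pos_left hn
      have hy : m • x = 0 := h p hp (dvd_mul_right p m) _ (by rw [← mul_nsmul', hx])
      exact ih m (lt_mul_left hm hp.one_lt) hm x hy fun q hq hd => h q hq (hd.mul_left p)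

theorem subsingleton_of_primary {K : Type u} [Field K] {F : EtCoh.Ab (Spec (CommRingCat.of K))} {q : ℕ}
    (hq : 0 < q) (h : ∀ p : ℕ, p.Prime →
      ∀ y : EtCoh.H (Spec (CommRingCat.of K)) F q, p • y = 0 → y = 0) :
    Subsingleton (EtCoh.H (Spec (CommRingCat.of K)) F q) := by
  refine subsingleton_of_forall_eq 0 fun x => ?_
  obtain ⟨n, hn, hnx⟩ := isOfFinAddOrder_iff_nsmul_eq_zero.1 (EtTower.isOfFinAddOrder hq F x)
  exact eq_zero_of_primary n hn x hnx fun p hp _ => h p hp

theorem cohDim_one {K : Type u} [Field K] (p : ℕ) [Fact p.Prime] (hn : NormOK K p)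
    (F : EtCoh.Ab (Spec (CommRingCat.of K))) (hF : EtCoh.IsTorsion F) (q : ℕ) (hq : 1 < q)
    (x : EtCoh.H (Spec (CommRingCat.of K)) F q) (hx : ∃ m : ℕ, p ^ m • x = 0) : x = 0 := by
  refine EtDev.cohDim_le (n := 1) (fun M _ _ _ _ _ => ?_) F hF q hq x hx
  by_cases hp : (p : M) = 0
  · haveI : CharP M p := (CharP.charP_iff_prime_eq_zero (Fact.out : p.Prime)).2 hp
    exact EtAS.subsingleton_H_two M p
  · exact S7732.subsingleton_zmod p hp fun M' _ _ _ _ y hy =>
      brauer_eq_zero ((hn.ext M).ext M') y 1 (by rw [pow_one]; exact hy)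

theorem subsingleton_torsion {K : Type u} [Field K] (hn : ∀ p : ℕ, p.Prime → NormOK K p)
    (F : EtCoh.Ab (Spec (CommRingCat.of K))) (hF : EtCoh.IsTorsion F) {q : ℕ} (hq : 2 ≤ q) :
    Subsingleton (EtCoh.H (Spec (CommRingCat.of K)) F q) :=
  subsingleton_of_primary (by omega) fun p hp y hy =>
    haveI := Fact.mk hp
    cohDim_one p (hn p hp) F hF q hq y ⟨1, by rw [pow_one]; exact hy⟩

theorem subsingleton_Gm {K : Type u} [Field K] (hn : ∀ p : ℕ, p.Prime → NormOK K p) {q : ℕ} (hq : 1 ≤ q) :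
    Subsingleton (EtCoh.H (Spec (CommRingCat.of K)) (EtCoh.Gm (Spec (CommRingCat.of K))) q) := by
  rcases (show q = 1 ∨ q = 2 ∨ 2 < q by omega) with rfl | rfl | hq'
  · exact EtH1.subsingleton_H_one_Gm
  · exact subsingleton_of_primary two_pos fun p hp y hy =>
      haveI := Fact.mk hp
      brauer_eq_zero (hn p hp) y 1 (by rw [pow_one]; exact hy)
  · exact subsingleton_of_primary (by omega) fun p hp y hy =>
      haveI := Fact.mk hp
      S7734.result K p 1 (fun G hG r hr z hz => cohDim_one p (hn p hp) G hG r hr z hz) _ q hq' y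
        ⟨1, by rw [pow_one]; exact hy⟩

end Groth.Agent.GalCohAux.EtCdOne
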