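import Groth.Agent.GalCohAux.ASTwist
import Mathlib.RepresentationTheory.Homological.GroupCohomology.LowDegree
import Mathlib.Data.ZMod.Basic
import Mathlib.GroupTheory.SpecificGroups.Cyclic
import Mathlib.LinearAlgebra.Dimension.Constructions

/-!
`H¹` of a cyclic group of order `p` acting on power series by the twisted substitution.
-/

universe u

open PowerSeries

namespace Groth.Agent.GalCohAux.ASCoh

variable {k : Type u} [Field k] {G : Type u} [Group G] {V : Type u} [AddCommGroup V] [Module k V]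
  (ρ : Representation k G V)

theorem exists_cocycle_of_norm [Finite G] (p : ℕ) (g : G) (hord : orderOf g = p)
    (hg : ∀ x : G, x ∈ Subgroup.zpowers g) (h : V) (hN : ∑ i ∈ Finset.range p, ρ (g ^ i) h = 0) :
    ∃ f : groupCohomology.cocycles₁ (Rep.of ρ), (f : G → V) g = h := by
  let S : ℕ → V := fun a => ∑ j ∈ Finset.range a, ρ (g ^ j) h
  have hS : ∀ a b, S (a + b) = ρ (g ^ a) (S b) + S a := by
    intro a b
    simp only [S, Finset.sum_range_add, map_sum, pow_add, map_mul, Module.End.mul_apply]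
    rw [add_comm]
  have hq : ∀ q r, S (r + p * q) = S r := by
    intro q r
    induction q with
    | zero => simp
    | succ q ih =>
      rw [Nat.mul_succ, ← add_assoc, hS, show S p = 0 from hN, map_zero, zero_add, ih]
  have hmod : ∀ a b, g ^ a = g ^ b → S a = S b := by
    intro a b hab
    rw [pow_eq_pow_iff_modEq, hord] at hab
    rw [← Nat.mod_add_div a p, ← Nat.mod_add_div b p, hq, hq, hab]
  choose e he using fun x => (Submonoid.mem_powers_iff _ _).1 (mem_powers_iff_mem_zpowers.2 (hg x))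
  refine ⟨⟨fun x => S (e x), ?_⟩, ?_⟩
  · rw [groupCohomology.mem_cocycles₁_iff]
    intro x y
    change S (e (x * y)) = ρ x (S (e y)) + S (e x)
    rw [hmod (e (x * y)) (e x + e y) (by rw [pow_add, he, he, he]), hS, he]
  · change S (e g) = h
    rw [hmod (e g) 1 (by rw [he, pow_one])]
    simp [S]

theorem cocycle_ext [Finite G] (g : G) (hg : ∀ x : G, x ∈ Subgroup.zpowers g)
    (f f' : groupCohomology.cocycles₁ (Rep.of ρ)) (h : (f : G → V) g = (f' : G → V) g) : f = f' := by
  refine groupCohomology.cocycles₁_ext fun x => ?_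
  obtain ⟨j, rfl⟩ := (Submonoid.mem_powers_iff _ _).1 (mem_powers_iff_mem_zpowers.2 (hg x))
  induction j with
  | zero =>
    rw [pow_zero, groupCohomology.cocycles₁_map_one, groupCohomology.cocycles₁_map_one]
  | succ j ih =>
    rw [pow_succ', (groupCohomology.mem_cocycles₁_iff f).1 f.2,
      (groupCohomology.mem_cocycles₁_iff f').1 f'.2, ih, h]

theorem H1π_eq_zero_iff' [Finite G] (g : G) (hg : ∀ x : G, x ∈ Subgroup.zpowers g)
    (f : groupCohomology.cocycles₁ (Rep.of ρ)) :
    groupCohomology.H1π (Rep.of ρ) f = 0 ↔ ∃ x, ρ g x - x = (f : G → V) g := by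
  rw [groupCohomology.H1π_eq_zero_iff]
  constructor
  · rintro ⟨x, hx⟩
    exact ⟨x, congrFun hx g⟩
  · rintro ⟨x, hx⟩
    refine ⟨x, ?_⟩
    have h1 := cocycle_ext ρ g hg
      ⟨(groupCohomology.d₀₁ (Rep.of ρ)) x, groupCohomology.d₀₁_apply_mem_cocycles₁ (A := Rep.of ρ) x⟩ f hx
    exact congrArg Subtype.val h1

variable (p : ℕ) [Fact p.Prime] [CharP k p] {n : ℕ} {U : (k⟦X⟧)ˣ}

theorem pow_apply (g : G) (ρ : Representation k G (PowerSeries k)) (a : ℤ)
    (hρ : ∀ h, ρ g h = ASTwist.tw U a h) (i : ℕ) (h : k⟦X⟧) :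
    ρ (g ^ i) h = ((ASTwist.tw U a) ^ i) h := by
  induction i with
  | zero => simp
  | succ i ih => rw [pow_succ', pow_succ', map_mul, Module.End.mul_apply, Module.End.mul_apply, ih, hρ]

/-- `H¹` has the classes of the `cS` as a basis. -/
theorem exists_equiv (hS : ASTwist.Setup n U) [Finite G] (g : G) (hG : Nat.card G = p)
    (hg : ∀ x : G, x ∈ Subgroup.zpowers g) (ρ : Representation k G (PowerSeries k)) (a : ℤ)
    (hρ : ∀ h, ρ g h = ASTwist.tw U a h) :
    ∃ (f : ℕ → groupCohomology.cocycles₁ (Rep.of ρ))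
      (e : ((ASTwist.idx p n a) → k) ≃ₗ[k] groupCohomology.H1 (Rep.of ρ)),
      (∀ m, m ≤ n → (f m : G → k⟦X⟧) g = ASTwist.cS U n a m) ∧
      ∀ coef, e coef = ∑ m, coef m • groupCohomology.H1π (Rep.of ρ) (f m.1) := by
  classical
  have hord : orderOf g = p := (orderOf_eq_card_of_forall_mem_zpowers hg).trans hG
  have hTp : ∀ h, ((ASTwist.tw U a) ^ p) h = h := fun h => by
    rw [← pow_apply g ρ a hρ, ← hord, pow_orderOf_eq_one, map_one]
    rfl
  have hex : ∀ m, ∃ f : groupCohomology.cocycles₁ (Rep.of ρ),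
      m ≤ n → (f : G → k⟦X⟧) g = ASTwist.cS U n a m := by
    intro m
    by_cases hm : m ≤ n
    · obtain ⟨f, hf⟩ := exists_cocycle_of_norm ρ p g hord hg (ASTwist.cS U n a m) (by
        simp only [pow_apply g ρ a hρ]
        rw [← ASTwist.norm_apply]
        exact ASTwist.norm_cS hS p a hm)
      exact ⟨f, fun _ => hf⟩
    · exact ⟨0, fun h => absurd h hm⟩
  choose f hf using hex
  let L : ((ASTwist.idx p n a) → k) →ₗ[k] groupCohomology.H1 (Rep.of ρ) :=
    Fintype.linearCombination k fun m => groupCohomology.H1π (Rep.of ρ) (f m.1)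
  have hL : ∀ coef, L coef = groupCohomology.H1π (Rep.of ρ) (∑ m, coef m • f m.1) := fun coef => by
    rw [map_sum, Fintype.linearCombination_apply]
    exact Finset.sum_congr rfl fun m _ => (map_smul _ _ _).symm
  let ev : groupCohomology.cocycles₁ (Rep.of ρ) →ₗ[k] k⟦X⟧ :=
    (LinearMap.proj g : (G → k⟦X⟧) →ₗ[k] k⟦X⟧) ∘ₗ (groupCohomology.cocycles₁ (Rep.of ρ)).subtype
  have hev : ∀ coef : (ASTwist.idx p n a) → k,
      ((∑ m, coef m • f m.1 : groupCohomology.cocycles₁ (Rep.of ρ)) : G → k⟦X⟧) g =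
        ∑ m ∈ ASTwist.idx p n a,
          (if hm : m ∈ ASTwist.idx p n a then coef ⟨m, hm⟩ else 0) • ASTwist.cS U n a m := by
    intro coef
    rw [← Finset.sum_coe_sort (ASTwist.idx p n a)]
    change ev _ = _
    rw [map_sum]
    refine Finset.sum_congr rfl fun m _ => ?_
    rw [dif_pos m.2, map_smul]
    exact congrArg (coef m • ·) (hf _ (Finset.mem_Icc.1 (Finset.mem_filter.1 m.2).1).2)
  refine ⟨f, LinearEquiv.ofBijective L ⟨?_, ?_⟩, hf, fun coef => ?_⟩
  · rw [← LinearMap.ker_eq_bot, LinearMap.ker_eq_bot']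
    intro coef hc
    rw [hL, H1π_eq_zero_iff' ρ g hg] at hc
    obtain ⟨x, hx⟩ := hc
    rw [hρ, hev] at hx
    funext m
    have := ASTwist.independent hS p a _ x hx m.1 m.2
    rwa [dif_pos m.2] at this
  · intro y
    induction y using groupCohomology.H1_induction_on with
    | h z =>
    have hN : ASTwist.norm U p a ((z : G → k⟦X⟧) g) = 0 := by
      have key : ∀ i, (z : G → k⟦X⟧) (g ^ i) = ∑ j ∈ Finset.range i, ρ (g ^ j) ((z : G → k⟦X⟧) g) := by
        intro i
        induction i with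
        | zero => simpa using groupCohomology.cocycles₁_map_one z
        | succ i ih =>
          rw [pow_succ, (groupCohomology.mem_cocycles₁_iff z).1 z.2, ih, Finset.sum_range_succ,
            add_comm]
      have h1 := key p
      rw [← hord, pow_orderOf_eq_one, groupCohomology.cocycles₁_map_one, hord] at h1
      simp only [pow_apply g ρ a hρ, ← ASTwist.norm_apply] at h1
      exact h1.symm
    obtain ⟨coef, x, hx⟩ := ASTwist.exists_decomp hS p a hTp _ hN
    refine ⟨fun m => coef m.1, ?_⟩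
    rw [hL, ← sub_eq_zero, ← map_sub, H1π_eq_zero_iff' ρ g hg]
    refine ⟨-x, ?_⟩
    change _ = ev (∑ m : ASTwist.idx p n a, coef m.1 • f m.1 - z)
    rw [hρ, map_neg, map_sub, show ev (∑ m : ASTwist.idx p n a, coef m.1 • f m.1) = _ from
      hev (fun m => coef m.1), show ev z = _ from hx]
    rw [Finset.sum_congr rfl (g := fun m => coef m • ASTwist.cS U n a m) fun m hm => by rw [dif_pos hm]]
    ring
  · exact Fintype.linearCombination_apply ..

theorem finrank_H1 (hS : ASTwist.Setup n U) [Finite G] (g : G) (hG : Nat.card G = p)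
    (hg : ∀ x : G, x ∈ Subgroup.zpowers g) (ρ : Representation k G (PowerSeries k)) (a : ℤ)
    (hρ : ∀ h, ρ g h = ASTwist.tw U a h) :
    Module.Finite k (groupCohomology.H1 (Rep.of ρ)) ∧
      Module.finrank k (groupCohomology.H1 (Rep.of ρ)) = (ASTwist.idx p n a).card := by
  obtain ⟨-, e, -, -⟩ := exists_equiv p hS g hG hg ρ a hρ
  refine ⟨Module.Finite.equiv e, ?_⟩
  rw [← e.finrank_eq, Module.finrank_fintype_fun_eq_card, Fintype.card_coe]

omit [Fact p.Prime] [CharP k p] in
/-- Counting multiples of `p` in an interval. -/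
theorem card_dvd (hp : 0 < p) (c : ℤ) (n : ℕ) :
    (((Finset.Icc 1 n).filter fun m : ℕ => (p : ℤ) ∣ c - (m : ℤ)).card : ℤ) =
      (c - 1) / (p : ℤ) - (c - 1 - n) / (p : ℤ) := by
  induction n with
  | zero => simp
  | succ n ih =>
    have hins : Finset.Icc 1 (n + 1) = insert (n + 1) (Finset.Icc 1 n) := by
      ext x
      simp only [Finset.mem_Icc, Finset.mem_insert]
      omega
    rw [hins, Finset.filter_insert]
    have hpz : (0 : ℤ) < p := by exact_mod_cast hp
    set t := c - ((n + 1 : ℕ) : ℤ) with ht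
    have e1 : c - 1 - (n : ℤ) = t := by rw [ht]; push_cast; ring
    have e2 : c - 1 - ((n + 1 : ℕ) : ℤ) = t - 1 := by rw [ht]; ring
    rw [e2]
    rw [e1] at ih
    split_ifs with hd
    · rw [Finset.card_insert_of_notMem (by simp), Nat.cast_succ, ih]
      obtain ⟨q, hq⟩ := hd
      have h1 : t / (p : ℤ) = q := by rw [hq]; exact Int.mul_ediv_cancel_left _ hpz.ne'
      have h2 : (t - 1) / (p : ℤ) = q - 1 := by
        rw [hq, show (p : ℤ) * q - 1 = ((p : ℤ) - 1) + (p : ℤ) * (q - 1) by ring,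
          Int.add_mul_ediv_left _ _ hpz.ne', Int.ediv_eq_zero_of_lt (by omega) (by omega), zero_add]
      rw [h1, h2]
      ring
    · rw [ih]
      have h3 : t % (p : ℤ) ≠ 0 := fun h => hd (Int.dvd_of_emod_eq_zero h)
      have h4 := Int.emod_add_mul_ediv t (p : ℤ)
      have h5 := Int.emod_nonneg t hpz.ne'
      have h6 := Int.emod_lt_of_pos t hpz
      have h2 : (t - 1) / (p : ℤ) = t / (p : ℤ) := by
        conv_lhs => rw [show t - 1 = (t % (p : ℤ) - 1) + (p : ℤ) * (t / (p : ℤ)) by linear_combination -h4]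
        rw [Int.add_mul_ediv_left _ _ hpz.ne', Int.ediv_eq_zero_of_lt (by omega) (by omega), zero_add]
      rw [h2]

end Groth.Agent.GalCohAux.ASCoh
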