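import Mathlib.RingTheory.PowerSeries.Substitution
import Mathlib.RingTheory.PowerSeries.Inverse
import Mathlib.RingTheory.PowerSeries.Derivative
import Mathlib.RingTheory.PowerSeries.NoZeroDivisors
import Mathlib.Algebra.CharP.Lemmas
import Mathlib.Algebra.Field.GeomSum
import Mathlib.RingTheory.Polynomial.Basic
import Mathlib.LinearAlgebra.Dimension.Finrank
import Mathlib.Algebra.Polynomial.AlgebraMap
import Mathlib.Tactic.LinearCombination
import Mathlib.Tactic.FieldSimp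

/-!
The twisted substitution `h ↦ u ^ a · h (X u)` on power series, where `u ^ n (1 + X ^ n) = 1`.
-/

universe v

open PowerSeries

namespace Groth.Agent.GalCohAux.ASTwist

variable {k : Type v} [Field k] (p : ℕ) [Fact p.Prime] [CharP k p]
variable {n : ℕ} {u : k⟦X⟧} (U : (k⟦X⟧)ˣ)

/-- The hypotheses on `u`. -/
structure Setup (n : ℕ) (U : (k⟦X⟧)ˣ) : Prop where
  pos : 0 < n
  ne : (n : k) ≠ 0
  const : constantCoeff (U : k⟦X⟧) = 1
  eqn : (U : k⟦X⟧) ^ n * (1 + X ^ n) = 1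

variable {p} {U}

theorem setup_of (hn : 0 < n) (hpn : ¬ p ∣ n) (hu1 : constantCoeff u = 1)
    (hun : u ^ n * (1 + X ^ n) = 1) (hu : IsUnit u) : Setup n hu.unit :=
  ⟨hn, fun h => hpn ((CharP.cast_eq_zero_iff k p n).1 h), hu1, hun⟩

theorem hasSubst : HasSubst (X * (U : k⟦X⟧)) := HasSubst.of_constantCoeff_zero' (by simp)

variable (U)

/-- The substitution `X ↦ X u`. -/
noncomputable def sub : k⟦X⟧ →ₐ[k] k⟦X⟧ := substAlgHom (hasSubst (U := U))

/-- The twisted operator. -/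
noncomputable def tw (a : ℤ) : k⟦X⟧ →ₗ[k] k⟦X⟧ :=
  LinearMap.mulLeft k ((U ^ a : (k⟦X⟧)ˣ) : k⟦X⟧) ∘ₗ (sub U).toLinearMap

/-- The iterates of the unit. -/
noncomputable def iterUnit : ℕ → (k⟦X⟧)ˣ
  | 0 => 1
  | i + 1 => U * Units.map (sub U : k⟦X⟧ →* k⟦X⟧) (iterUnit i)

variable {U}

theorem sub_X : sub U X = X * (U : k⟦X⟧) := substAlgHom_X _

theorem sub_apply (h : k⟦X⟧) : sub U h = PowerSeries.subst (X * (U : k⟦X⟧)) h := by
  rw [sub, coe_substAlgHom]

theorem tw_apply (a : ℤ) (h : k⟦X⟧) :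
    tw U a h = ((U ^ a : (k⟦X⟧)ˣ) : k⟦X⟧) * sub U h := rfl

theorem zpow_sub_add (a b : ℤ) :
    ((U ^ (a - b) : (k⟦X⟧)ˣ) : k⟦X⟧) * ((U ^ b : (k⟦X⟧)ˣ) : k⟦X⟧) = ((U ^ a : (k⟦X⟧)ˣ) : k⟦X⟧) := by
  rw [← Units.val_mul, ← zpow_add, sub_add_cancel]

theorem sub_X_pow (i : ℕ) : sub U (X ^ i) = X ^ i * ((U ^ (i : ℤ) : (k⟦X⟧)ˣ) : k⟦X⟧) := by
  rw [map_pow, sub_X, mul_pow, zpow_natCast, Units.val_pow_eq_pow_val]

theorem tw_X_pow_mul (a : ℤ) (i : ℕ) (f : k⟦X⟧) :
    tw U a (X ^ i * f) = X ^ i * tw U (a + i) f := by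
  rw [tw_apply, tw_apply, map_mul, sub_X_pow, zpow_add, Units.val_mul]
  ring

/-- `W - 1` is `α X ^ n` to first order. -/
def Lead (n : ℕ) (W : k⟦X⟧) (α : k) : Prop := ∃ r, W - 1 = X ^ n * r ∧ constantCoeff r = α

theorem Lead.mul (hn : 0 < n) {W W' : k⟦X⟧} {α β : k} (h : Lead n W α) (h' : Lead n W' β) :
    Lead n (W * W') (α + β) := by
  obtain ⟨r, hr, hr0⟩ := h
  obtain ⟨s, hs, hs0⟩ := h'
  rw [sub_eq_iff_eq_add] at hr hs
  refine ⟨r + s + X ^ n * (r * s), by rw [hr, hs]; ring, ?_⟩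
  simp [hr0, hs0, zero_pow hn.ne']

theorem Lead.one (n : ℕ) : Lead n (1 : k⟦X⟧) 0 := ⟨0, by simp, map_zero _⟩

theorem Lead.inv {W : (k⟦X⟧)ˣ} {α : k} (hn : 0 < n) (h : Lead n (W : k⟦X⟧) α) :
    Lead n ((W⁻¹ : (k⟦X⟧)ˣ) : k⟦X⟧) (-α) := by
  obtain ⟨r, hr, hr0⟩ := h
  have hW0 : constantCoeff (W : k⟦X⟧) = 1 := by
    have := congrArg constantCoeff hr
    simpa [zero_pow hn.ne', sub_eq_zero] using this
  have hinv : constantCoeff ((W⁻¹ : (k⟦X⟧)ˣ) : k⟦X⟧) = 1 := by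
    have := congrArg constantCoeff W.inv_mul
    simpa [hW0] using this
  refine ⟨-(r * ((W⁻¹ : (k⟦X⟧)ˣ) : k⟦X⟧)), ?_, by simp [hr0, hinv]⟩
  linear_combination (-((W⁻¹ : (k⟦X⟧)ˣ) : k⟦X⟧)) * hr + W.inv_mul

theorem Lead.zpow {W : (k⟦X⟧)ˣ} {α : k} (hn : 0 < n) (h : Lead n (W : k⟦X⟧) α) (z : ℤ) :
    Lead n ((W ^ z : (k⟦X⟧)ˣ) : k⟦X⟧) ((z : k) * α) := by
  induction z using Int.induction_on with
  | zero => simpa using Lead.one (k := k) n
  | succ i ih =>
    rw [zpow_add, zpow_one, Units.val_mul]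
    convert ih.mul hn h using 1
    push_cast
    ring
  | pred i ih =>
    rw [zpow_sub, zpow_one, Units.val_mul]
    convert ih.mul hn (h.inv hn) using 1
    push_cast
    ring

variable (hS : Setup n U)
include hS

theorem constantCoeff_geom : constantCoeff (∑ j ∈ Finset.range n, (U : k⟦X⟧) ^ j) = (n : k) := by
  simp [hS.const]

theorem lead_U : Lead n (U : k⟦X⟧) (-(n : k)⁻¹) := by
  set S := ∑ j ∈ Finset.range n, (U : k⟦X⟧) ^ j with hSdef
  have hS0 : constantCoeff S = (n : k) := constantCoeff_geom hS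
  have hSne : constantCoeff S ≠ 0 := hS0 ▸ hS.ne
  refine ⟨-((U : k⟦X⟧) ^ n) * S⁻¹, ?_, ?_⟩
  · have h1 : ((U : k⟦X⟧) - 1) * S = -((U : k⟦X⟧) ^ n) * X ^ n := by
      rw [mul_comm, geom_sum_mul]
      linear_combination hS.eqn
    calc (U : k⟦X⟧) - 1 = ((U : k⟦X⟧) - 1) * S * S⁻¹ := by
          rw [mul_assoc, PowerSeries.mul_inv_cancel S hSne, mul_one]
      _ = _ := by rw [h1]; ring
  · simp [hS.const, hS0, PowerSeries.constantCoeff_inv]

theorem lead_zpow (z : ℤ) : Lead n ((U ^ z : (k⟦X⟧)ˣ) : k⟦X⟧) ((z : k) * -(n : k)⁻¹) :=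
  (lead_U hS).zpow hS.pos z

theorem dvd_sub_self (f : k⟦X⟧) : X ^ (n + 1) ∣ sub U f - f := by
  obtain ⟨r, hr, -⟩ := lead_U hS
  obtain ⟨g, hg⟩ : X ^ (n + 1) ∣ f - ((trunc (n + 1) f : Polynomial k) : k⟦X⟧) := by
    rw [X_pow_dvd_iff]
    intro d hd
    simp [Polynomial.coeff_coe, coeff_trunc, hd]
  rw [sub_eq_iff_eq_add] at hg
  rw [hg, map_add, map_mul, sub_X_pow, add_sub_add_comm]
  refine dvd_add ?_ ?_
  · rw [mul_assoc]
    exact (dvd_mul_right _ _).sub (dvd_mul_right _ _)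
  · have e1 : sub U ((trunc (n + 1) f : Polynomial k) : k⟦X⟧) =
        Polynomial.aeval (X * (U : k⟦X⟧)) (trunc (n + 1) f) := by
      rw [sub, substAlgHom_coe]
    have e2 : ((trunc (n + 1) f : Polynomial k) : k⟦X⟧) = Polynomial.aeval X (trunc (n + 1) f) := by
      induction trunc (n + 1) f using Polynomial.induction_on' with
      | add P Q hP hQ => simp [hP, hQ]
      | monomial d c => simp [Polynomial.coe_monomial, monomial_eq_C_mul_X_pow, Algebra.algebraMap_eq_smul_one, Algebra.smul_def]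
    rw [e1, e2]
    have hdvd := Polynomial.sub_dvd_eval_sub (X * (U : k⟦X⟧)) X
      ((trunc (n + 1) f).map (algebraMap k k⟦X⟧))
    rw [Polynomial.eval_map_algebraMap, Polynomial.eval_map_algebraMap] at hdvd
    refine Dvd.dvd.trans ⟨r, ?_⟩ hdvd
    linear_combination X * hr

/-- The first order behaviour of the twisted operator. -/
theorem tw_sub_self (b : ℤ) (f : k⟦X⟧) :
    ∃ s, tw U b f - f = X ^ n * s ∧
      constantCoeff s = (b : k) * -(n : k)⁻¹ * constantCoeff f := by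
  obtain ⟨r, hr, hr0⟩ := lead_zpow hS b
  obtain ⟨t, ht⟩ := dvd_sub_self hS f
  have hc : constantCoeff (sub U f) = constantCoeff f := by
    have := congrArg constantCoeff ht
    simpa [sub_eq_zero] using this
  refine ⟨r * sub U f + X * t, ?_, by simp [hr0, hc]⟩
  rw [tw_apply]
  linear_combination (sub U f) * hr + ht

theorem tw_sub_X_pow_mul (a : ℤ) (i : ℕ) (f : k⟦X⟧) :
    ∃ s, tw U a (X ^ i * f) - X ^ i * f = X ^ (i + n) * s ∧
      constantCoeff s = ((a + i : ℤ) : k) * -(n : k)⁻¹ * constantCoeff f := by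
  obtain ⟨s, hs, hs0⟩ := tw_sub_self hS (a + i) f
  refine ⟨s, ?_, hs0⟩
  rw [tw_X_pow_mul, ← mul_sub, hs, pow_add, mul_assoc]

theorem dvd_tw_sub (a : ℤ) (i : ℕ) {f : k⟦X⟧} (hf : X ^ i ∣ f) :
    X ^ (i + n) ∣ tw U a f - f := by
  obtain ⟨g, rfl⟩ := hf
  obtain ⟨s, hs, -⟩ := tw_sub_X_pow_mul hS a i g
  exact ⟨s, hs⟩

theorem pow_tw_sub (a : ℤ) (t : ℕ) (j : ℕ) (f : k⟦X⟧) :
    ∃ s, ((tw U a - 1) ^ t) (X ^ j * f) = X ^ (j + t * n) * s ∧
      constantCoeff s = (∏ i ∈ Finset.range t,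
        ((a + (j + i * n : ℕ) : ℤ) : k) * -(n : k)⁻¹) * constantCoeff f := by
  induction t with
  | zero => exact ⟨f, by simp, by simp⟩
  | succ t ih =>
    obtain ⟨s, hs, hs0⟩ := ih
    obtain ⟨s', hs', hs'0⟩ := tw_sub_X_pow_mul hS a (j + t * n) s
    refine ⟨s', ?_, ?_⟩
    · rw [pow_succ', Module.End.mul_apply, hs, LinearMap.sub_apply, Module.End.one_apply, hs',
        Nat.succ_mul, add_assoc]
    · rw [hs'0, hs0, Finset.prod_range_succ]
      ring

theorem eqn_iterUnit (i : ℕ) : (iterUnit U i : k⟦X⟧) ^ n * (1 + (i : k⟦X⟧) * X ^ n) = 1 := by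
  induction i with
  | zero => simp [iterUnit]
  | succ i ih =>
    have h := congrArg (sub U) ih
    rw [map_mul, map_add, map_pow, map_mul, map_natCast, sub_X_pow, map_one,
      zpow_natCast, Units.val_pow_eq_pow_val] at h
    simp only [iterUnit, Units.val_mul, Units.coe_map, MonoidHom.coe_coe]
    push_cast
    linear_combination h + (sub U (iterUnit U i : k⟦X⟧)) ^ n * hS.eqn

theorem constantCoeff_sub (f : k⟦X⟧) : constantCoeff (sub U f) = constantCoeff f := by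
  obtain ⟨t, ht⟩ := dvd_sub_self hS f
  have := congrArg constantCoeff ht
  simpa [sub_eq_zero] using this

theorem constantCoeff_iterUnit (i : ℕ) : constantCoeff (iterUnit U i : k⟦X⟧) = 1 := by
  induction i with
  | zero => simp [iterUnit]
  | succ i ih => simp [iterUnit, hS.const, constantCoeff_sub hS, ih]

theorem iterUnit_p (p : ℕ) [CharP k p] : iterUnit U p = 1 := by
  have hp : ((p : ℕ) : k⟦X⟧) = 0 := by
    rw [← map_natCast (PowerSeries.C (R := k)), CharP.cast_eq_zero, map_zero]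
  have h := eqn_iterUnit hS p
  rw [hp, zero_mul, add_zero, mul_one] at h
  have hgeom : (∑ j ∈ Finset.range n, (iterUnit U p : k⟦X⟧) ^ j) *
      ((iterUnit U p : k⟦X⟧) - 1) = 0 := by rw [geom_sum_mul, h, sub_self]
  refine Units.ext ?_
  rcases mul_eq_zero.1 hgeom with h0 | h0
  · exfalso
    have := congrArg constantCoeff h0
    simp [constantCoeff_iterUnit hS] at this
    exact hS.ne this
  · exact sub_eq_zero.1 h0

/-- The basic cocycle series `c m`, with `X ^ m * c m = U ^ (a - m) - 1`, are killed by the norm. -/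
theorem norm_eq_zero (p : ℕ) [CharP k p] (a : ℤ) (m : ℕ) (c : k⟦X⟧)
    (hc : X ^ m * c = ((U ^ (a - m) : (k⟦X⟧)ˣ) : k⟦X⟧) - 1) :
    ∑ i ∈ Finset.range p, ((tw U a) ^ i) c = 0 := by
  have key : ∀ i, X ^ m * ((tw U a) ^ i) c =
      ((iterUnit U (i + 1) ^ (a - m) : (k⟦X⟧)ˣ) : k⟦X⟧) -
        ((iterUnit U i ^ (a - m) : (k⟦X⟧)ˣ) : k⟦X⟧) := by
    intro i
    induction i with
    | zero =>
      have : iterUnit U 1 = U := by
        refine Units.ext ?_
        simp [iterUnit]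
      simp [this, iterUnit, hc]
    | succ i ih =>
      have e : ∀ j, ((iterUnit U (j + 1) ^ (a - m) : (k⟦X⟧)ˣ) : k⟦X⟧) =
          ((U ^ (a - m) : (k⟦X⟧)ˣ) : k⟦X⟧) *
            sub U ((iterUnit U j ^ (a - m) : (k⟦X⟧)ˣ) : k⟦X⟧) := fun j => by
        rw [iterUnit, mul_zpow, Units.val_mul, ← map_zpow]
        rfl
      rw [pow_succ', Module.End.mul_apply, e (i + 1)]
      nth_rw 2 [e i]
      rw [← mul_sub, ← map_sub, ← ih, map_mul,
        sub_X_pow, tw_apply, ← zpow_sub_add a (m : ℤ)]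
      ring
  have h : X ^ m * ∑ i ∈ Finset.range p, ((tw U a) ^ i) c = 0 := by
    rw [Finset.mul_sum, Finset.sum_congr rfl fun i _ => key i,
      Finset.sum_range_sub (fun i => ((iterUnit U i ^ (a - m) : (k⟦X⟧)ˣ) : k⟦X⟧)), iterUnit_p hS p]
    simp [iterUnit]
  exact (mul_eq_zero.1 h).resolve_left (pow_ne_zero _ X_ne_zero)

omit hS in
theorem sub_one_pow_eq_sum (p : ℕ) [Fact p.Prime] [CharP k p] :
    ((Polynomial.X : Polynomial k) - 1) ^ (p - 1) = ∑ i ∈ Finset.range p, Polynomial.X ^ i := by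
  refine mul_right_cancel₀ (b := (Polynomial.X : Polynomial k) - 1)
    (by rw [← Polynomial.C_1]; exact Polynomial.X_sub_C_ne_zero 1) ?_
  rw [geom_sum_mul, ← pow_succ, Nat.sub_add_cancel (Fact.out : p.Prime).one_le, sub_pow_char,
    one_pow]

variable (U) in
/-- The norm. -/
noncomputable def norm (p : ℕ) (a : ℤ) : k⟦X⟧ →ₗ[k] k⟦X⟧ :=
  ∑ i ∈ Finset.range p, (tw U a) ^ i

omit hS in
theorem norm_apply (p : ℕ) (a : ℤ) (h : k⟦X⟧) :
    norm U p a h = ∑ i ∈ Finset.range p, ((tw U a) ^ i) h := by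
  simp [norm, LinearMap.sum_apply]

omit hS in
theorem norm_eq_pow (p : ℕ) [Fact p.Prime] [CharP k p] (a : ℤ) :
    norm U p a = (tw U a - 1) ^ (p - 1) := by
  have := congrArg (Polynomial.aeval (R := k) (tw U a)) (sub_one_pow_eq_sum (k := k) p)
  simpa [norm] using this.symm

omit hS in
theorem norm_tw_sub (p : ℕ) [Fact p.Prime] [CharP k p] (a : ℤ) (h : k⟦X⟧)
    (hT : ((tw U a) ^ p) h = h) : norm U p a (tw U a h - h) = 0 := by
  have := congrArg (fun L : k⟦X⟧ →ₗ[k] k⟦X⟧ => L h) (geom_sum_mul (tw U a) p)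
  simpa [norm, LinearMap.sum_apply, hT] using this

/-- An element of norm zero has no leading coefficient in a degree `j` with `a + j ≡ n`. -/
theorem coeff_eq_zero_of_norm (p : ℕ) [Fact p.Prime] [CharP k p] (a : ℤ) (j : ℕ) (f : k⟦X⟧)
    (hN : norm U p a (X ^ j * f) = 0) (hmod : ((a + j : ℤ) : k) = (n : k)) :
    constantCoeff f = 0 := by
  obtain ⟨s, hs, hs0⟩ := pow_tw_sub hS a (p - 1) j f
  rw [← norm_eq_pow, hN] at hs
  have hs' : s = 0 := (mul_eq_zero.1 hs.symm).resolve_left (pow_ne_zero _ X_ne_zero)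
  rw [hs', map_zero] at hs0
  refine (mul_eq_zero.1 hs0.symm).resolve_left ?_
  refine Finset.prod_ne_zero_iff.2 fun i hi => mul_ne_zero ?_ (neg_ne_zero.2 (inv_ne_zero hS.ne))
  rw [Finset.mem_range] at hi
  push_cast
  push_cast at hmod
  rw [← add_assoc, hmod]
  intro h
  have h' : ((i + 1 : ℕ) : k) * (n : k) = 0 := by push_cast; linear_combination h
  have := (CharP.cast_eq_zero_iff k p (i + 1)).1 ((mul_eq_zero.1 h').resolve_right hS.ne)
  exact absurd (Nat.le_of_dvd (Nat.succ_pos i) this) (by omega)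

/-- The index set. -/
def idx (p n : ℕ) (a : ℤ) : Finset ℕ :=
  (Finset.Icc 1 n).filter (fun m : ℕ => ¬ (p : ℤ) ∣ a - (m : ℤ))

variable (U) in
/-- The cocycle series. -/
noncomputable def cS (n : ℕ) (a : ℤ) (m : ℕ) : k⟦X⟧ :=
  PowerSeries.mk fun i => coeff (i + m) (((U ^ (a - m) : (k⟦X⟧)ˣ) : k⟦X⟧) - 1)

theorem cS_spec (a : ℤ) {m : ℕ} (hm : m ≤ n) :
    X ^ m * cS U n a m = ((U ^ (a - m) : (k⟦X⟧)ˣ) : k⟦X⟧) - 1 ∧
      ∃ r, cS U n a m = X ^ (n - m) * r ∧ constantCoeff r = ((a - m : ℤ) : k) * -(n : k)⁻¹ := by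
  obtain ⟨r, hr, hr0⟩ := lead_zpow hS (a - m)
  have h1 : cS U n a m = X ^ (n - m) * r := by
    ext i
    rw [cS, coeff_mk, hr, show X ^ n * r = X ^ m * (X ^ (n - m) * r) by
      rw [← mul_assoc, ← pow_add, Nat.add_sub_cancel' hm], coeff_X_pow_mul]
  refine ⟨?_, r, h1, hr0⟩
  rw [h1, hr, ← mul_assoc, ← pow_add, Nat.add_sub_cancel' hm]

theorem eq_cS (a : ℤ) {m : ℕ} (hm : m ≤ n) (c : k⟦X⟧)
    (hc : X ^ m * c = ((U ^ (a - m) : (k⟦X⟧)ˣ) : k⟦X⟧) - 1) : c = cS U n a m :=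
  mul_left_cancel₀ (pow_ne_zero m X_ne_zero) (hc.trans (cS_spec hS a hm).1.symm)

theorem norm_cS (p : ℕ) [CharP k p] (a : ℤ) {m : ℕ} (hm : m ≤ n) :
    norm U p a (cS U n a m) = 0 := by
  rw [norm_apply]
  exact norm_eq_zero hS p a m _ (cS_spec hS a hm).1

omit hS in
theorem cast_sub_ne_zero (p : ℕ) [CharP k p] {b : ℤ} (h : ¬ (p : ℤ) ∣ b) : (b : k) ≠ 0 :=
  fun h' => h ((CharP.intCast_eq_zero_iff k p b).1 h')

/-- Every element of norm zero is a combination of the `cS` plus something `(T - 1) g`. -/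
theorem exists_decomp (p : ℕ) [Fact p.Prime] [CharP k p] (a : ℤ)
    (hTp : ∀ h, ((tw U a) ^ p) h = h) (h : k⟦X⟧) (hN : norm U p a h = 0) :
    ∃ (coef : ℕ → k) (g : k⟦X⟧),
      h = ∑ m ∈ idx p n a, coef m • cS U n a m + (tw U a g - g) := by
  classical
  have step1 : ∀ j, j ≤ n → ∃ coef : ℕ → k,
      X ^ j ∣ h - ∑ m ∈ idx p n a, coef m • cS U n a m := by
    intro j
    induction j with
    | zero => exact fun _ => ⟨0, by simp⟩
    | succ j ih =>
      intro hj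
      obtain ⟨coef, f, hf⟩ := ih (by omega)
      have hNf : norm U p a (X ^ j * f) = 0 := by
        rw [← hf, map_sub, hN, map_sum, zero_sub, neg_eq_zero]
        refine Finset.sum_eq_zero fun m hm => ?_
        rw [map_smul, norm_cS hS p a (Finset.mem_Icc.1 (Finset.mem_filter.1 hm).1).2, smul_zero]
      obtain ⟨r, hcr, hr0⟩ := (cS_spec hS a (m := n - j) (Nat.sub_le n j)).2
      rw [Nat.sub_sub_self (by omega)] at hcr
      by_cases hd : (p : ℤ) ∣ a - ((n - j : ℕ) : ℤ)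
      · refine ⟨coef, ?_⟩
        have hz := (CharP.intCast_eq_zero_iff k p _).2 hd
        obtain ⟨f', rfl⟩ := X_dvd_iff.2 (coeff_eq_zero_of_norm hS p a j f hNf (by
          rw [Nat.cast_sub (by omega)] at hz
          push_cast at hz ⊢
          linear_combination hz))
        exact ⟨f', by rw [hf, pow_succ, mul_assoc]⟩
      · have hmem : n - j ∈ idx p n a :=
          Finset.mem_filter.2 ⟨Finset.mem_Icc.2 ⟨by omega, Nat.sub_le n j⟩, hd⟩
        have hne : ((a - (n - j : ℕ) : ℤ) : k) * -(n : k)⁻¹ ≠ 0 :=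
          mul_ne_zero (cast_sub_ne_zero p hd) (neg_ne_zero.2 (inv_ne_zero hS.ne))
        set β := constantCoeff f / (((a - (n - j : ℕ) : ℤ) : k) * -(n : k)⁻¹)
        refine ⟨fun m => coef m + if m = n - j then β else 0, ?_⟩
        obtain ⟨f', hf'⟩ : X ∣ f - C β * r := by
          rw [X_dvd_iff, map_sub, map_mul, constantCoeff_C, hr0, div_mul_cancel₀ _ hne, sub_self]
        refine ⟨f', ?_⟩
        simp only [add_smul, ite_smul, zero_smul, Finset.sum_add_distrib, Finset.sum_ite_eq',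
          if_pos hmem]
        rw [← sub_sub, hf, hcr, Algebra.smul_def, show algebraMap k k⟦X⟧ β = C β from rfl, pow_succ]
        linear_combination X ^ j * hf'
  obtain ⟨coef, hcoef⟩ := step1 n le_rfl
  set h' := h - ∑ m ∈ idx p n a, coef m • cS U n a m with hh'
  have hN' : norm U p a h' = 0 := by
    rw [hh', map_sub, hN, map_sum, zero_sub, neg_eq_zero]
    refine Finset.sum_eq_zero fun m hm => ?_
    rw [map_smul, norm_cS hS p a (Finset.mem_Icc.1 (Finset.mem_filter.1 hm).1).2, smul_zero]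
  have step2 : ∀ (j : ℕ) (G : k⟦X⟧), X ^ (n + j) ∣ h' - (tw U a G - G) →
      ∃ β : k, X ^ (n + (j + 1)) ∣ h' - (tw U a (G + β • X ^ j) - (G + β • X ^ j)) := by
    intro j G hG
    obtain ⟨f, hf⟩ := hG
    have hNf : norm U p a (X ^ (n + j) * f) = 0 := by
      rw [← hf, map_sub, hN', norm_tw_sub p a G (hTp G), sub_zero]
    obtain ⟨s, hs, hs0⟩ := tw_sub_X_pow_mul hS a j 1
    rw [mul_one, add_comm j n] at hs
    rw [map_one, mul_one] at hs0
    by_cases hd : (p : ℤ) ∣ a + j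
    · refine ⟨0, ?_⟩
      have hz := (CharP.intCast_eq_zero_iff k p _).2 hd
      obtain ⟨f', rfl⟩ := X_dvd_iff.2 (coeff_eq_zero_of_norm hS p a (n + j) f hNf (by
        push_cast at hz ⊢
        linear_combination hz))
      exact ⟨f', by rw [zero_smul, add_zero, hf, ← add_assoc, pow_succ, mul_assoc]⟩
    · have hne : ((a + j : ℤ) : k) * -(n : k)⁻¹ ≠ 0 :=
        mul_ne_zero (cast_sub_ne_zero p hd) (neg_ne_zero.2 (inv_ne_zero hS.ne))
      set β := constantCoeff f / (((a + j : ℤ) : k) * -(n : k)⁻¹)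
      refine ⟨β, ?_⟩
      obtain ⟨f', hf'⟩ : X ∣ f - C β * s := by
        rw [X_dvd_iff, map_sub, map_mul, constantCoeff_C, hs0, div_mul_cancel₀ _ hne, sub_self]
      refine ⟨f', ?_⟩
      rw [map_add, map_smul, add_sub_add_comm, ← sub_sub, hf, ← smul_sub, hs, Algebra.smul_def,
        show algebraMap k k⟦X⟧ β = C β from rfl, ← add_assoc, pow_succ]
      linear_combination X ^ (n + j) * hf'
  choose β hβ using step2
  let G : ∀ j : ℕ, {G : k⟦X⟧ // X ^ (n + j) ∣ h' - (tw U a G - G)} := fun j =>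
    Nat.rec (motive := fun j => {G : k⟦X⟧ // X ^ (n + j) ∣ h' - (tw U a G - G)})
      ⟨0, by simpa using hcoef⟩ (fun j G => ⟨_, hβ j G.1 G.2⟩) j
  have hG : ∀ j, (G (j + 1)).1 = (G j).1 + β j (G j).1 (G j).2 • X ^ j := fun j => rfl
  have hstab : ∀ i j, i < j → coeff i (G j).1 = coeff i (G (i + 1)).1 := by
    intro i j hij
    induction j, hij using Nat.le_induction with
    | base => rfl
    | succ j hj ih =>
      rw [hG, map_add, map_smul, coeff_X_pow, if_neg (by omega), smul_zero, add_zero, ih]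
  let g : k⟦X⟧ := PowerSeries.mk fun i => coeff i (G (i + 1)).1
  refine ⟨coef, g, ?_⟩
  have hall : ∀ j, X ^ (n + j) ∣ h' - (tw U a g - g) := by
    intro j
    have hd : X ^ j ∣ g - (G j).1 := by
      rw [X_pow_dvd_iff]
      intro i hi
      rw [map_sub, coeff_mk, hstab i j hi, sub_self]
    have h2 := dvd_tw_sub hS a j hd
    rw [add_comm j n, map_sub] at h2
    have h3 := (G j).2.sub h2
    convert h3 using 1
    ring
  have hzero : h' - (tw U a g - g) = 0 := by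
    ext i
    exact (X_pow_dvd_iff.1 (hall (i + 1))) i (by omega)
  rw [hh', sub_eq_zero, sub_eq_iff_eq_add'] at hzero
  exact hzero

/-- The `cS` of non-excluded index are independent modulo the image of `T - 1`. -/
theorem independent (p : ℕ) [Fact p.Prime] [CharP k p] (a : ℤ) (coef : ℕ → k) (h : k⟦X⟧)
    (hh : tw U a h - h = ∑ m ∈ idx p n a, coef m • cS U n a m) :
    ∀ m ∈ idx p n a, coef m = 0 := by
  classical
  by_contra hne
  push Not at hne
  obtain ⟨m₀, hm₀, hc₀⟩ := hne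
  obtain ⟨M, hM, hMmax⟩ := ((idx p n a).filter fun m => coef m ≠ 0).exists_max_image id
    ⟨m₀, Finset.mem_filter.2 ⟨hm₀, hc₀⟩⟩
  rw [Finset.mem_filter] at hM
  obtain ⟨hMI, hMc⟩ := hM
  have hMb := Finset.mem_Icc.1 (Finset.mem_filter.1 hMI).1
  have hgt : ∀ m ∈ idx p n a, M < m → coef m = 0 := fun m hm hlt => by
    by_contra hc
    exact absurd (hMmax m (Finset.mem_filter.2 ⟨hm, hc⟩)) (not_le.2 hlt)
  set f : k⟦X⟧ := ∑ m ∈ idx p n a, coef m • X ^ (M - m) - X ^ M * h with hf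
  have hfix : tw U (a - M) f = f := by
    rw [hf, map_sub, map_sum]
    have e2 : tw U (a - M) (X ^ M * h) = X ^ M * tw U a h := by
      rw [tw_X_pow_mul, sub_add_cancel]
    have e1 : ∀ m ∈ idx p n a, tw U (a - M) (coef m • X ^ (M - m)) =
        coef m • X ^ (M - m) + X ^ M * (coef m • cS U n a m) := by
      intro m hm
      rcases lt_or_ge M m with hlt | hle
      · simp [hgt m hm hlt]
      · have h1 := tw_X_pow_mul (U := U) (a - M) (M - m) 1
        rw [mul_one, tw_apply (a - M + _), map_one, mul_one,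
          show a - (M : ℤ) + ((M - m : ℕ) : ℤ) = a - m by omega] at h1
        rw [map_smul, h1, mul_smul_comm, ← smul_add,
          show X ^ M * cS U n a m = X ^ (M - m) * (X ^ m * cS U n a m) by
            rw [← mul_assoc, ← pow_add, Nat.sub_add_cancel hle],
          (cS_spec hS a (hle.trans hMb.2)).1]
        congr 1
        ring
    rw [e2, Finset.sum_congr rfl e1, Finset.sum_add_distrib, ← Finset.mul_sum, ← hh]
    ring
  obtain ⟨s, hs, hs0⟩ := tw_sub_self hS (a - M) f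
  rw [hfix, sub_self] at hs
  have hs' : s = 0 := (mul_eq_zero.1 hs.symm).resolve_left (pow_ne_zero _ X_ne_zero)
  rw [hs', map_zero] at hs0
  have hf0 : constantCoeff f = coef M := by
    rw [hf, map_sub, map_mul, map_pow, constantCoeff_X, zero_pow (by omega), zero_mul, sub_zero,
      map_sum, Finset.sum_eq_single M]
    · simp [Algebra.smul_def]
    · intro m hm hmne
      rcases lt_or_gt_of_ne hmne with hlt | hgt'
      · simp [Algebra.smul_def, zero_pow (Nat.sub_ne_zero_of_lt hlt)]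
      · simp [hgt m hm hgt']
    · exact fun h => absurd hMI h
  rw [hf0] at hs0
  exact mul_ne_zero (mul_ne_zero (cast_sub_ne_zero p (Finset.mem_filter.1 hMI).2)
    (neg_ne_zero.2 (inv_ne_zero hS.ne))) hMc hs0.symm

/-- An excluded index gives a coboundary. -/
theorem coboundary_of_dvd (p : ℕ) [Fact p.Prime] [CharP k p] (a : ℤ) (m : ℕ) (hmn : m ≤ n)
    (hd : (p : ℤ) ∣ a - m) (c : k⟦X⟧)
    (hc : X ^ m * c = ((U ^ (a - m) : (k⟦X⟧)ˣ) : k⟦X⟧) - 1) :
    ∃ h, tw U a h - h = c := by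
  obtain ⟨b, hb⟩ := hd
  let Ws : (k⟦X⟧)ˣ := ∏ i ∈ Finset.range p, iterUnit U i
  have hW : ((U ^ (p : ℤ) : (k⟦X⟧)ˣ)) * Units.map (sub U : k⟦X⟧ →* k⟦X⟧) Ws = Ws := by
    simp only [Ws, map_prod, zpow_natCast]
    rw [show U ^ p = ∏ i ∈ Finset.range p, U by simp, ← Finset.prod_mul_distrib]
    have e : ∀ i, U * Units.map (sub U : k⟦X⟧ →* k⟦X⟧) (iterUnit U i) = iterUnit U (i + 1) := fun i => rfl
    rw [Finset.prod_congr rfl fun i _ => e i]
    have h1 := Finset.prod_range_succ' (iterUnit U) p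
    rw [Finset.prod_range_succ, iterUnit_p hS p] at h1
    simpa [iterUnit] using h1.symm
  have hlead : Lead n (((Ws ^ b) : (k⟦X⟧)ˣ) : k⟦X⟧)
      ((b : k) * ∑ i ∈ Finset.range p, (i : k) * -(n : k)⁻¹) := by
    refine Lead.zpow hS.pos ?_ b
    simp only [Ws]
    have hi : ∀ i, Lead n (iterUnit U i : k⟦X⟧) ((i : k) * -(n : k)⁻¹) := by
      intro i
      induction i with
      | zero => simpa [iterUnit] using Lead.one (k := k) n
      | succ i ih =>
        obtain ⟨r, hr, hr0⟩ := ih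
        have h2 : Lead n (sub U (iterUnit U i : k⟦X⟧)) ((i : k) * -(n : k)⁻¹) := by
          refine ⟨((U ^ (n : ℤ) : (k⟦X⟧)ˣ) : k⟦X⟧) * sub U r, ?_, ?_⟩
          · rw [← map_one (sub U), ← map_sub, hr, map_mul, sub_X_pow, mul_assoc]
          · rw [map_mul, constantCoeff_sub hS, hr0, zpow_natCast, Units.val_pow_eq_pow_val, map_pow,
              hS.const, one_pow, one_mul]
        convert (lead_U hS).mul hS.pos h2 using 1
        · rfl
        · push_cast; ring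
    induction Finset.range p using Finset.induction_on with
    | empty => simpa using Lead.one (k := k) n
    | @insert i s hi' ih =>
      rw [Finset.prod_insert hi', Finset.sum_insert hi', Units.val_mul]
      exact (hi i).mul hS.pos ih
  obtain ⟨r, hr, -⟩ := hlead
  refine ⟨-(X ^ (n - m) * r), mul_left_cancel₀ (pow_ne_zero m X_ne_zero) ?_⟩
  have hg : X ^ m * -(X ^ (n - m) * r) = 1 - ((Ws ^ b : (k⟦X⟧)ˣ) : k⟦X⟧) := by
    rw [mul_neg, ← mul_assoc, ← pow_add, Nat.add_sub_cancel' hmn, ← hr, neg_sub]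
  have e1 : X ^ m * tw U a (-(X ^ (n - m) * r)) = tw U (a - m) (X ^ m * -(X ^ (n - m) * r)) := by
    rw [tw_X_pow_mul, sub_add_cancel]
  have hWb : ((U ^ (a - m) : (k⟦X⟧)ˣ) : k⟦X⟧) * sub U ((Ws ^ b : (k⟦X⟧)ˣ) : k⟦X⟧) =
      ((Ws ^ b : (k⟦X⟧)ˣ) : k⟦X⟧) := by
    conv_rhs => rw [← hW, mul_zpow, ← zpow_mul, ← hb, ← map_zpow, Units.val_mul]
    rfl
  rw [mul_sub, e1, hg, hc, tw_apply, map_sub, map_one, mul_sub, mul_one, hWb]
  ring

/-- The derivative of `cS` for the untwisted action. -/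
theorem derivative_cS {m : ℕ} (hm : m ≤ n) :
    X ^ (m + 1) * d⁄dX k (cS U n 0 m) =
      C (-(m : k)) * (((U ^ ((n : ℤ) - m) : (k⟦X⟧)ˣ) : k⟦X⟧) - 1) := by
  have hu' : d⁄dX k (U : k⟦X⟧) = -(X ^ (n - 1) * (U : k⟦X⟧) ^ (n + 1)) := by
    have h := congrArg (d⁄dX k) hS.eqn
    rw [Derivation.leibniz, map_add, derivative_pow, derivative_pow, Derivation.map_one_eq_zero,
      derivative_X, smul_eq_mul, smul_eq_mul] at h
    have hn0 : (n : k⟦X⟧) ≠ 0 := by
      intro h0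
      have := congrArg constantCoeff h0
      simp at this
      exact hS.ne this
    refine mul_left_cancel₀ (mul_ne_zero hn0 (pow_ne_zero (n - 1) U.ne_zero)) ?_
    have hpow : (U : k⟦X⟧) ^ n = (U : k⟦X⟧) ^ (n - 1) * U := by
      rw [← pow_succ, Nat.sub_add_cancel hS.pos]
    linear_combination (U : k⟦X⟧) ^ n * h
      - ((n : k⟦X⟧) * (U : k⟦X⟧) ^ (n - 1) * d⁄dX k (U : k⟦X⟧)) * hS.eqn
      + ((n : k⟦X⟧) * (U : k⟦X⟧) ^ (n + 1) * X ^ (n - 1)) * 0 * hpow
      - ((n : k⟦X⟧) * X ^ (n - 1) * (U : k⟦X⟧) ^ n) * hpow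
  obtain ⟨hc, -⟩ := cS_spec hS 0 hm
  rw [zero_sub, zpow_neg, zpow_natCast] at hc
  set Wm : k⟦X⟧ := (((U ^ m)⁻¹ : (k⟦X⟧)ˣ) : k⟦X⟧) with hWm
  have hWmul : (U : k⟦X⟧) ^ m * Wm = 1 := by
    rw [hWm, ← Units.val_pow_eq_pow_val, ← Units.val_mul, mul_inv_cancel, Units.val_one]
  have hUnm : ((U ^ ((n : ℤ) - m) : (k⟦X⟧)ˣ) : k⟦X⟧) = (U : k⟦X⟧) ^ n * Wm := by
    rw [zpow_sub, zpow_natCast, zpow_natCast, Units.val_mul, Units.val_pow_eq_pow_val]
  rcases Nat.eq_zero_or_pos m with rfl | hm0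
  · have h0 : cS U n 0 0 = 0 := by simpa [hWm] using hc
    simp [h0]
  have hd := congrArg (d⁄dX k) hWmul
  rw [Derivation.leibniz, Derivation.map_one_eq_zero, derivative_pow, hu', smul_eq_mul,
    smul_eq_mul] at hd
  have hd' := congrArg (d⁄dX k) hc
  rw [Derivation.leibniz, map_sub, derivative_pow, derivative_X, Derivation.map_one_eq_zero,
    smul_eq_mul, smul_eq_mul, sub_zero, mul_one] at hd'
  have hXm : (X : k⟦X⟧) ^ m = X ^ (m - 1) * X := by rw [← pow_succ, Nat.sub_add_cancel hm0]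
  have hXn : (X : k⟦X⟧) ^ n = X ^ (n - 1) * X := by rw [← pow_succ, Nat.sub_add_cancel hS.pos]
  have hUm : (U : k⟦X⟧) ^ m = (U : k⟦X⟧) ^ (m - 1) * U := by rw [← pow_succ, Nat.sub_add_cancel hm0]
  have hdW : X * d⁄dX k Wm = (m : k⟦X⟧) * X ^ n * (U : k⟦X⟧) ^ n * Wm := by
    linear_combination (X * Wm) * hd - (X * d⁄dX k Wm) * hWmul
      + ((m : k⟦X⟧) * X ^ n * (U : k⟦X⟧) ^ n * Wm) * hWmul
      - ((m : k⟦X⟧) * (U : k⟦X⟧) ^ m * (U : k⟦X⟧) ^ n * Wm * Wm) * hXn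
      - ((m : k⟦X⟧) * X * X ^ (n - 1) * (U : k⟦X⟧) ^ n * Wm * Wm) * hUm
  have h0 : X ^ n * (U : k⟦X⟧) ^ n = 1 - (U : k⟦X⟧) ^ n := by linear_combination hS.eqn
  rw [hUnm, map_neg, map_natCast, pow_succ]
  linear_combination X * hd' + hdW + ((m : k⟦X⟧) * Wm) * h0 - ((m : k⟦X⟧)) * hc
    + ((m : k⟦X⟧) * cS U n 0 m) * hXm

theorem derivative_cS_eq {m : ℕ} (hm : m < n) :
    d⁄dX k (cS U n 0 m) = (-(m : k)) • cS U n ((n : ℤ) + 1) (m + 1) := by
  refine mul_left_cancel₀ (pow_ne_zero (m + 1) X_ne_zero) ?_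
  rw [derivative_cS hS hm.le, Algebra.smul_def, show algebraMap k k⟦X⟧ (-(m : k)) = C (-(m : k)) from rfl,
    mul_left_comm, (cS_spec hS ((n : ℤ) + 1) hm).1,
    show ((n : ℤ) + 1 - ((m + 1 : ℕ) : ℤ)) = (n : ℤ) - m by omega]

theorem derivative_cS_self : d⁄dX k (cS U n 0 n) = 0 := by
  refine mul_left_cancel₀ (pow_ne_zero (n + 1) X_ne_zero) ?_
  rw [derivative_cS hS le_rfl, sub_self, zpow_zero, Units.val_one, sub_self, mul_zero, mul_zero]

end Groth.Agent.GalCohAux.ASTwist
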