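import Mathlib

/-!
Families of pairwise comaximal monic polynomials realising a cyclic permutation of their labels along
two polynomial paths (continued fraction products of `2 × 2` blocks).
-/

set_option autoImplicit false

universe u v

open Polynomial

noncomputable section

namespace Groth.Agent.GalCohAux.AicConfig

/-- The matrix `[[A, -V], [B, U]]`. -/
@[ext] structure Q (K : Type u) [CommRing K] where
  A : K[X]
  B : K[X]
  V : K[X]
  U : K[X]

namespace Q

variable {K : Type u} [CommRing K] {L : Type v} [CommRing L]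

instance : One (Q K) := ⟨⟨1, 0, 0, 1⟩⟩
instance : Mul (Q K) :=
  ⟨fun P P' => ⟨P.A * P'.A - P.V * P'.B, P.B * P'.A + P.U * P'.B, P.A * P'.V + P.V * P'.U,
    P.U * P'.U - P.B * P'.V⟩⟩

theorem one_def : (1 : Q K) = ⟨1, 0, 0, 1⟩ := rfl
theorem mul_def (P P' : Q K) : P * P' = ⟨P.A * P'.A - P.V * P'.B, P.B * P'.A + P.U * P'.B,
    P.A * P'.V + P.V * P'.U, P.U * P'.U - P.B * P'.V⟩ := rfl

instance : Monoid (Q K) where
  mul_assoc P P' P'' := by ext1 <;> simp only [mul_def] <;> ring
  one_mul P := by ext1 <;> simp only [mul_def, one_def] <;> ring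
  mul_one P := by ext1 <;> simp only [mul_def, one_def] <;> ring

def det (P : Q K) : K[X] := P.A * P.U + P.B * P.V

theorem det_mul (P P' : Q K) : (P * P').det = P.det * P'.det := by simp only [det, mul_def]; ring

structure Good (d : ℕ) (P : Q K) : Prop where
  monic : P.A.Monic
  degA : P.A.natDegree = d
  degB : P.B.degree < d
  degV : P.V.degree < d
  degU : P.U.degree ≤ d
  det_eq : P.det = 1

theorem good_one [Nontrivial K] : Good 0 (1 : Q K) where
  monic := monic_one
  degA := natDegree_one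
  degB := by simp [one_def]
  degV := by simp [one_def]
  degU := by simp [one_def]
  det_eq := by simp [det, one_def]

theorem Good.mul [Nontrivial K] {d d' : ℕ} {P P' : Q K} (h : Good d P) (h' : Good d' P') : Good (d + d') (P * P') := by
  have hA : P.A.degree = d := by rw [degree_eq_natDegree h.monic.ne_zero, h.degA]
  have hA' : P'.A.degree = d' := by rw [degree_eq_natDegree h'.monic.ne_zero, h'.degA]
  have hAA : (P.A * P'.A).degree = ((d + d' : ℕ) : WithBot ℕ) := by
    rw [h'.monic.degree_mul, hA, hA']; norm_cast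
  have lt1 : ∀ {a b : K[X]}, a.degree < d → b.degree ≤ d' → (a * b).degree < ((d + d' : ℕ) : WithBot ℕ) := by
    intro a b ha hb
    refine lt_of_le_of_lt (degree_mul_le a b) ?_
    rcases eq_or_ne b.degree ⊥ with hb0 | hb0
    · rw [hb0, WithBot.add_bot]; exact WithBot.bot_lt_coe _
    · push_cast
      exact WithBot.add_lt_add_of_lt_of_le hb0 ha hb
  have lt2 : ∀ {a b : K[X]}, a.degree ≤ d → b.degree < d' → (a * b).degree < ((d + d' : ℕ) : WithBot ℕ) := by
    intro a b ha hb
    refine lt_of_le_of_lt (degree_mul_le a b) ?_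
    rcases eq_or_ne a.degree ⊥ with ha0 | ha0
    · rw [ha0, WithBot.bot_add]; exact WithBot.bot_lt_coe _
    · push_cast
      exact WithBot.add_lt_add_of_le_of_lt ha0 ha hb
  have hV : (P.V * P'.B).degree < (P.A * P'.A).degree := hAA ▸ lt1 h.degV h'.degB.le
  refine ⟨?_, ?_, ?_, ?_, ?_, ?_⟩
  · exact (h.monic.mul h'.monic).sub_of_left hV
  · refine natDegree_eq_of_degree_eq_some ?_
    exact (degree_sub_eq_left_of_degree_lt hV).trans hAA
  · exact lt_of_le_of_lt (degree_add_le _ _) (max_lt (lt1 h.degB hA'.le) (lt2 h.degU h'.degB))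
  · exact lt_of_le_of_lt (degree_add_le _ _) (max_lt (lt2 hA.le h'.degV) (lt1 h.degV h'.degU))
  · refine (degree_sub_le _ _).trans (max_le ?_ (lt1 h.degB h'.degV.le).le)
    refine (degree_mul_le _ _).trans ?_
    push_cast
    exact add_le_add h.degU h'.degU
  · rw [det_mul, h.det_eq, h'.det_eq, mul_one]

theorem good_pow [Nontrivial K] {d : ℕ} {P : Q K} (h : Good d P) : ∀ n : ℕ, Good (n * d) (P ^ n)
  | 0 => by rw [zero_mul, pow_zero]; exact good_one
  | n + 1 => by rw [pow_succ, add_mul, one_mul]; exact (good_pow h n).mul h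

def map (φ : K →+* L) (P : Q K) : Q L := ⟨P.A.map φ, P.B.map φ, P.V.map φ, P.U.map φ⟩

def mapHom (φ : K →+* L) : Q K →* Q L where
  toFun := map φ
  map_one' := by ext1 <;> simp [map, one_def]
  map_mul' P P' := by ext1 <;> simp [map, mul_def]

/-- Conjugation by `diag(1, c)`. -/
def scale (c ci : K) (h : c * ci = 1) : Q K →* Q K where
  toFun P := ⟨P.A, C c * P.B, C ci * P.V, P.U⟩
  map_one' := by ext1 <;> simp [one_def]
  map_mul' P P' := by
    have hC : C c * C ci = (1 : K[X]) := by rw [← map_mul, h, map_one]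
    ext1 <;> simp only [mul_def]
    · linear_combination (P.V * P'.B) * hC
    · ring
    · ring
    · linear_combination (P.B * P'.V) * hC

theorem Good.scale {d : ℕ} {P : Q K} (hP : Good d P) (c ci : K) (h : c * ci = 1) : Good d (Q.scale c ci h P) where
  monic := hP.monic
  degA := hP.degA
  degB := lt_of_le_of_lt (degree_C_mul_le c) hP.degB
  degV := lt_of_le_of_lt (degree_C_mul_le ci) hP.degV
  degU := hP.degU
  det_eq := by
    have hC : C c * C ci = (1 : K[X]) := by rw [← map_mul, h, map_one]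
    have := hP.det_eq
    simp only [det] at this ⊢
    show P.A * P.U + C c * P.B * (C ci * P.V) = 1
    linear_combination (P.B * P.V) * hC + this
where
  degree_C_mul_le {p : K[X]} (c : K) : (C c * p).degree ≤ p.degree := by
    refine (degree_mul_le _ _).trans ?_
    exact (add_le_add degree_C_le le_rfl).trans_eq (zero_add _)

def one1 (u ui : K) : Q K := ⟨X, C u, C ui, 0⟩

theorem good_one1 [Nontrivial K] (u ui : K) (h : u * ui = 1) : Good 1 (one1 u ui) where
  monic := monic_X
  degA := natDegree_X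
  degB := lt_of_le_of_lt degree_C_le (by exact_mod_cast Nat.one_pos)
  degV := lt_of_le_of_lt degree_C_le (by exact_mod_cast Nat.one_pos)
  degU := by simp [one1]
  det_eq := by simp only [det, one1, mul_zero, zero_add, ← map_mul, h, map_one]

def pair (P c e : K) : Q K :=
  ⟨X ^ 2 - (C (P * e) * X + C (P ^ 2)), C c * X + C e, C c * X - C (e * (P * c + 1)), -C (c ^ 2)⟩

theorem good_pair [Nontrivial K] (P c e : K) (h : P * c - e * e = 1) : Good 2 (pair P c e) where
  monic := monic_X_pow_sub (degree_linear_le.trans_lt (by exact_mod_cast Nat.one_lt_two))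
  degA := by
    refine natDegree_eq_of_degree_eq_some ?_
    show (X ^ 2 - (C (P * e) * X + C (P ^ 2))).degree = _
    rw [degree_sub_eq_left_of_degree_lt, degree_X_pow]
    rw [degree_X_pow]
    exact degree_linear_le.trans_lt (by exact_mod_cast Nat.one_lt_two)
  degB := degree_linear_le.trans_lt (by exact_mod_cast Nat.one_lt_two)
  degV := by
    show (C c * X - C (e * (P * c + 1))).degree < _
    rw [sub_eq_add_neg, ← map_neg]
    exact degree_linear_le.trans_lt (by exact_mod_cast Nat.one_lt_two)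
  degU := by
    show (-C (c ^ 2)).degree ≤ _
    rw [degree_neg]
    exact degree_C_le.trans (by exact_mod_cast Nat.zero_le _)
  det_eq := by
    have h' : C P * C c - C e * C e = (1 : K[X]) := by rw [← map_mul, ← map_mul, ← map_sub, h, map_one]
    simp only [det, pair, map_mul, map_pow, map_add, map_one]
    linear_combination (C P * C c + 1) * h'

/-- A path from `(1, 1)` to `(wi², w²)`. -/
def seg (w wi t : K) : Q K :=
  let a := (wi - 1) * t
  let b := t
  let c := (w - 1) * t
  let d := -wi * t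
  let M00 := 1 + b * c
  let M01 := (1 + b * c) * d + b
  let M10 := a + (a * b + 1) * c
  let M11 := (a + (a * b + 1) * c) * d + (a * b + 1)
  pair (M00 ^ 2 + M10 ^ 2) (M01 ^ 2 + M11 ^ 2) (M00 * M01 + M10 * M11)

theorem good_seg [Nontrivial K] (w wi t : K) : Good 2 (seg w wi t) := good_pair _ _ _ (by ring)

theorem map_one1 (φ : K →+* L) (u ui : K) : mapHom φ (one1 u ui) = one1 (φ u) (φ ui) := by
  ext1 <;> simp [mapHom, map, one1]

theorem map_seg (φ : K →+* L) (w wi t : K) : mapHom φ (seg w wi t) = seg (φ w) (φ wi) (φ t) := by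
  ext1 <;> simp [mapHom, map, seg, pair]

theorem map_scale (φ : K →+* L) (c ci : K) (h : c * ci = 1) (P : Q K) :
    mapHom φ (scale c ci h P) = scale (φ c) (φ ci) (by rw [← map_mul, h, map_one]) (mapHom φ P) := by
  ext1 <;> simp [mapHom, map, scale]

theorem scale_one1 (c ci : K) (h : c * ci = 1) (u ui : K) : scale c ci h (one1 u ui) = one1 (c * u) (ci * ui) := by
  ext1 <;> simp [scale, one1]

theorem one1_mul_one1 (u ui v vi : K) :
    one1 u ui * one1 v vi = ⟨X ^ 2 - C (ui * v), C u * X, C vi * X, -C (u * vi)⟩ := by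
  ext1 <;> simp only [mul_def, one1, map_mul] <;> ring

theorem seg_zero (w wi : K) : seg w wi 0 = one1 1 1 * one1 1 1 := by
  rw [one1_mul_one1]
  ext1 <;> simp [seg, pair]

theorem seg_one (w wi : K) (h : w * wi = 1) :
    seg w wi 1 = one1 (wi ^ 2) (w ^ 2) * one1 (w ^ 2) (wi ^ 2) := by
  have hseg : seg w wi 1 = pair (w ^ 2) (wi ^ 2) 0 := by
    show pair _ _ _ = _
    refine congr (congr (congrArg pair ?_) ?_) ?_
    · linear_combination (w * wi - 1) * h
    · linear_combination ((w * wi - 1) * (1 + wi ^ 2) - 2 * wi ^ 2) * h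
    · linear_combination (-w + wi - (w * wi - 1) * wi) * h
  rw [one1_mul_one1, hseg]
  ext1 <;> simp only [pair, map_mul, map_pow, map_add, map_zero, map_one, mul_zero, zero_mul, add_zero, zero_add,
    sub_zero] <;> ring

end Q

/-- Geometric sums. -/
def gs {R : Type u} [CommRing R] (ζ : R) (n : ℕ) : R := ∑ i ∈ Finset.range n, ζ ^ i

section

variable {R : Type u} [CommRing R] {p : ℕ} {ζ : R} (hζ : gs ζ p = 0)
include hζ

theorem pow_p : ζ ^ p = 1 := by
  have h := geom_sum_mul ζ p
  rw [show (∑ i ∈ Finset.range p, ζ ^ i) = 0 from hζ, zero_mul] at h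
  exact sub_eq_zero.1 h.symm

theorem gs_add (a b : ℕ) : gs ζ (a + b) = gs ζ a + ζ ^ a * gs ζ b := by
  simp only [gs, Finset.sum_range_add, pow_add, Finset.mul_sum]

theorem gs_mod (n : ℕ) : gs ζ n = gs ζ (n % p) := by
  induction n using Nat.strong_induction_on with
  | _ n ih =>
    rcases lt_or_ge n p with h | h
    · rw [Nat.mod_eq_of_lt h]
    rcases Nat.eq_zero_or_pos p with h0 | h0
    · simp [h0]
    obtain ⟨k, rfl⟩ := Nat.exists_eq_add_of_le h
    rw [gs_add hζ, hζ, zero_add, pow_p hζ, one_mul, ih k (by omega), Nat.add_mod_left]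

theorem isUnit_gs [hp : Fact p.Prime] {n : ℕ} (hn : 0 < n) (hn' : n < p) : IsUnit (gs ζ n) := by
  have hne : (n : ZMod p) ≠ 0 := by
    rw [Ne, ZMod.natCast_eq_zero_iff]
    exact fun h => absurd (Nat.le_of_dvd hn h) (not_le.2 hn')
  set m := ((n : ZMod p)⁻¹).val
  have h1 : n * m % p = 1 := by
    have : ((n * m : ℕ) : ZMod p) = 1 := by
      rw [Nat.cast_mul, ZMod.natCast_zmod_val, mul_inv_cancel₀ hne]
    have h2 := congrArg ZMod.val this
    rwa [ZMod.val_natCast, ZMod.val_one] at h2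
  have h2 : gs ζ (n * m) = gs ζ n * ∑ i ∈ Finset.range m, (ζ ^ n) ^ i := by
    clear_value m
    clear h1
    induction m with
    | zero => simp [gs]
    | succ m ih => rw [Nat.mul_succ, gs_add hζ, ih, Finset.sum_range_succ, pow_mul]; ring
  refine IsUnit.of_mul_eq_one (∑ i ∈ Finset.range m, (ζ ^ n) ^ i) ?_
  rw [← h2, gs_mod hζ, h1]
  simp [gs]

theorem isUnit_gs_sub [hp : Fact p.Prime] {a b : ZMod p} (h : a ≠ b) : IsUnit (gs ζ a.val - gs ζ b.val) := by
  wlog hab : b.val ≤ a.val generalizing a b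
  · have := this h.symm (by omega)
    simpa using this.neg
  obtain ⟨k, hk⟩ := Nat.exists_eq_add_of_le hab
  have hk0 : 0 < k := Nat.pos_of_ne_zero fun h0 => h (ZMod.val_injective p (by rw [hk, h0, add_zero]))
  rw [hk, gs_add hζ, add_sub_cancel_left]
  refine IsUnit.mul (IsUnit.pow _ ?_) (isUnit_gs hζ hk0 (by have := a.val_lt; omega))
  exact IsUnit.of_pow_eq_one (pow_p hζ) hp.out.ne_zero

theorem gs_val_add_one [hp : Fact p.Prime] (a : ZMod p) : gs ζ (a + 1).val = ζ * gs ζ a.val + 1 := by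
  rw [ZMod.val_add, ZMod.val_one, ← gs_mod hζ, gs, Finset.sum_range_succ', pow_zero, gs, Finset.mul_sum]
  simp [pow_succ']

end

theorem exists_paths (R : Type u) [CommRing R] [Nontrivial R] (p : ℕ) [hp : Fact p.Prime]
    (ζ : R) (hζ : gs ζ p = 0) (ι : R) (hι : ι ^ 2 + 1 = 0) :
    ∃ (d : ℕ) (Q₀ Q₁ : Q R[X]), 0 < d ∧ Q.Good d Q₀ ∧ Q.Good d Q₁ ∧
      Q.mapHom (evalRingHom 0) Q₀ = Q.mapHom (evalRingHom 0) Q₁ ∧
      (Q.mapHom (evalRingHom 1) Q₁).A = (Q.mapHom (evalRingHom 1) Q₀).A ∧
      (Q.mapHom (evalRingHom 1) Q₁).B = C ζ * (Q.mapHom (evalRingHom 1) Q₀).B := by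
  let ev : R → Q R[X] →* Q R := fun a => Q.mapHom (evalRingHom a)
  have ev_seg : ∀ (a : R) (w wi : R) (t : R[X]), ev a (Q.seg (C w) (C wi) t) = Q.seg w wi (t.eval a) := by
    intro a w wi t
    simp [ev, Q.map_seg]
  have ev_one1 : ∀ (a u ui : R), ev a (Q.one1 (C u) (C ui)) = Q.one1 u ui := by
    intro a u ui
    simp [ev, Q.map_one1]
  rcases hp.out.eq_two_or_odd' with h2 | ⟨m, hm⟩
  · have hζ1 : ζ = -1 := by
      subst h2
      simp only [gs, Finset.sum_range_succ, Finset.sum_range_zero, zero_add, pow_zero, pow_one] at hζ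
      linear_combination hζ
    refine ⟨2, Q.one1 (C 1) (C 1) * Q.one1 (C 1) (C 1), Q.seg (C ι) (C (-ι)) X, two_pos,
      (Q.good_one1 _ _ (by simp)).mul (Q.good_one1 _ _ (by simp)), Q.good_seg _ _ _, ?_, ?_, ?_⟩
    · show ev 0 _ = ev 0 _
      rw [map_mul, ev_one1, ev_seg, eval_X, Q.seg_zero]
    all_goals
      have hw : ι * -ι = 1 := by linear_combination -hι
      have hs : ι ^ 2 = -1 := by linear_combination hι
      have hev : ev 1 (Q.seg (C ι) (C (-ι)) X) = Q.scale (-1) (-1) (by ring) (Q.one1 1 1 * Q.one1 1 1) := by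
        rw [ev_seg, eval_X, Q.seg_one _ _ hw, neg_sq, hs, map_mul, Q.scale_one1, mul_one]
      have hev' : ev 1 (Q.one1 (C 1) (C 1) * Q.one1 (C 1) (C 1)) = Q.one1 1 1 * Q.one1 1 1 := by
        rw [map_mul, ev_one1]
    · show (ev 1 _).A = (ev 1 _).A
      rw [hev, hev']; rfl
    · show (ev 1 _).B = C ζ * (ev 1 _).B
      rw [hev, hev', hζ1]; rfl
  · let η := ζ ^ (m + 1)
    let ηi := η ^ (2 * m)
    have hp1 : ζ ^ (2 * m + 1) = 1 := hm ▸ pow_p hζ
    have hη : η ^ 2 = ζ := by
      simp only [η]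
      rw [← pow_mul, show (m + 1) * 2 = (2 * m + 1) + 1 by ring, pow_succ, hp1, one_mul]
    have hηi : η * ηi = 1 := by
      simp only [ηi, η]
      rw [← pow_succ', ← pow_mul, mul_comm, pow_mul, hp1, one_pow]
    let ζi := ηi ^ 2
    have hζi : ζ * ζi = 1 := by rw [← hη, ← mul_pow, hηi, one_pow]
    have hpow : ∀ n : ℕ, η ^ n * ηi ^ n = 1 := fun n => by rw [← mul_pow, hηi, one_pow]
    have hz : ∀ n : ℕ, (η ^ n) ^ 2 = ζ ^ n := fun n => by rw [← pow_mul, mul_comm, pow_mul, hη]
    have hzi : ∀ n : ℕ, (ηi ^ n) ^ 2 = ζi ^ n := fun n => by rw [← pow_mul, mul_comm, pow_mul]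
    have hC : C ζ * C ζi = (1 : R[X]) := by rw [← map_mul, hζi, map_one]
    let f : ℕ → R[X] → Q R[X] := fun i t => Q.seg (C (ηi ^ (2 * i + 1))) (C (η ^ (2 * i + 1))) t
    let g : ℕ → R[X] → Q R[X] := fun i t =>
      Q.scale (C ζ) (C ζi) hC (Q.seg (C (η ^ (2 * i + 2))) (C (ηi ^ (2 * i + 2))) t)
    let I : ℕ → R[X] → Q R[X] := fun n t => ((List.range n).map fun i => f i t).prod
    let J : ℕ → R[X] → Q R[X] := fun n t => ((List.range n).map fun i => g i t).prod
    have I_succ : ∀ n t, I (n + 1) t = I n t * f n t := fun n t => by simp [I, List.range_succ]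
    have J_succ : ∀ n t, J (n + 1) t = J n t * g n t := fun n t => by simp [J, List.range_succ]
    have goodI : ∀ n t, Q.Good (n * 2) (I n t) := by
      intro n t
      induction n with
      | zero => simpa [I] using Q.good_one (K := R[X])
      | succ n ih => rw [I_succ, add_mul, one_mul]; exact ih.mul (Q.good_seg _ _ _)
    have goodJ : ∀ n t, Q.Good (n * 2) (J n t) := by
      intro n t
      induction n with
      | zero => simpa [J] using Q.good_one (K := R[X])
      | succ n ih => rw [J_succ, add_mul, one_mul]; exact ih.mul ((Q.good_seg _ _ _).scale _ _ _)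
    have evg : ∀ (a : R) i t, ev a (g i t) =
        Q.scale ζ ζi hζi (Q.seg (η ^ (2 * i + 2)) (ηi ^ (2 * i + 2)) (t.eval a)) := by
      intro a i t
      simp [g, ev, Q.map_scale, Q.map_seg]
    have hmid : ∀ n,
        ev 0 (I n (1 - X)) * Q.one1 (ζ ^ (2 * n + 1)) (ζi ^ (2 * n + 1)) =
          Q.one1 ζ ζi * ev 0 (J n (1 - X)) := by
      intro n
      induction n with
      | zero => simp [I, J, ev, Q.one_def.symm]
      | succ n ih =>
        rw [I_succ, J_succ, map_mul, map_mul, evg]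
        have e1 : ev 0 (f n (1 - X)) = Q.one1 (ζ ^ (2 * n + 1)) (ζi ^ (2 * n + 1)) *
            Q.one1 (ζi ^ (2 * n + 1)) (ζ ^ (2 * n + 1)) := by
          simp only [f]
          rw [ev_seg, show (1 - X : R[X]).eval 0 = 1 by simp, Q.seg_one _ _ (by rw [mul_comm]; exact hpow _), hz, hzi]
        have e2 : Q.scale ζ ζi hζi (Q.seg (η ^ (2 * n + 2)) (ηi ^ (2 * n + 2)) ((1 - X : R[X]).eval 0)) =
            Q.one1 (ζi ^ (2 * n + 1)) (ζ ^ (2 * n + 1)) * Q.one1 (ζ ^ (2 * (n + 1) + 1)) (ζi ^ (2 * (n + 1) + 1)) := by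
          rw [show (1 - X : R[X]).eval 0 = 1 by simp, Q.seg_one _ _ (hpow _), hz, hzi, map_mul,
            Q.scale_one1, Q.scale_one1]
          have h1 : ζ * ζi ^ (2 * n + 2) = ζi ^ (2 * n + 1) := by
            linear_combination ζi ^ (2 * n + 1) * hζi
          have h2 : ζi * ζ ^ (2 * n + 2) = ζ ^ (2 * n + 1) := by
            linear_combination ζ ^ (2 * n + 1) * hζi
          rw [h1, h2, ← pow_succ', ← pow_succ']
          rfl
        rw [e1, e2]
        simp only [← mul_assoc]
        rw [ih]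
    have hE0 : ∀ n, ev 1 (I n (1 - X)) = (Q.one1 1 1 * Q.one1 1 1) ^ n := by
      intro n
      induction n with
      | zero => simp [I]
      | succ n ih =>
        rw [I_succ, map_mul, ih, pow_succ]
        simp only [f]
        rw [ev_seg]
        rw [show (1 - X : R[X]).eval 1 = 0 by simp, Q.seg_zero]
    have hE1 : ∀ n, ev 1 (J n (1 - X)) = Q.scale ζ ζi hζi ((Q.one1 1 1 * Q.one1 1 1) ^ n) := by
      intro n
      induction n with
      | zero => simp [J]
      | succ n ih =>
        simp only [J_succ, map_mul, ih, evg, pow_succ]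
        rw [show (1 - X : R[X]).eval 1 = 0 by simp, Q.seg_zero, map_mul]
    have hlast : Q.one1 (ζ ^ (2 * m + 1)) (ζi ^ (2 * m + 1)) = Q.one1 (1 : R) 1 := by
      have hi1 : ζi ^ (2 * m + 1) = 1 := by
        calc ζi ^ (2 * m + 1) = (ζ * ζi) ^ (2 * m + 1) := by rw [mul_pow, hp1, one_mul]
          _ = 1 := by rw [hζi, one_pow]
      rw [hp1, hi1]
    have hfin : Q.mapHom (evalRingHom 1) (Q.one1 (C ζ) (C ζi) * J m (1 - X)) =
        Q.scale ζ ζi hζi (ev 1 (I m (1 - X) * Q.one1 (C 1) (C 1))) := by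
      show ev 1 _ = _
      rw [map_mul, map_mul, ev_one1, ev_one1, hE0, hE1]
      have hc : Commute (Q.one1 (1 : R) 1) ((Q.one1 1 1 * Q.one1 1 1) ^ m) :=
        ((Commute.refl _).mul_right (Commute.refl _)).pow_right m
      rw [← hc.eq, map_mul, Q.scale_one1, mul_one, mul_one]
    refine ⟨m * 2 + 1, I m (1 - X) * Q.one1 (C 1) (C 1), Q.one1 (C ζ) (C ζi) * J m (1 - X),
      Nat.succ_pos _, (goodI _ _).mul (Q.good_one1 _ _ (by simp)), ?_, ?_, ?_, ?_⟩
    · rw [add_comm]
      exact (Q.good_one1 _ _ hC).mul (goodJ _ _)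
    · show ev 0 _ = ev 0 _
      rw [map_mul, map_mul, ev_one1, ev_one1, ← hlast]
      exact hmid m
    · rw [hfin]; rfl
    · rw [hfin]; rfl

end Groth.Agent.GalCohAux.AicConfig
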