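import Groth.Agent.GalCohAux.AicConfig
import Groth.Prelude.Def_Curves

/-!
Over an absolutely integrally closed ring a clopen of `D(f) ∩ D(g)`, `(f, g) = 1`, is modulo `p` the
difference of locally constant functions on `D(f)` and `D(g)`.
-/

set_option autoImplicit false

universe u

open Polynomial

noncomputable section

namespace Groth.Agent.GalCohAux.AicSplit

open AicConfig

theorem exists_gs_eq_zero {R : Type u} [CommRing R] [Nontrivial R] (hR : Curves.IsAIC R) (p : ℕ) (hp : 2 ≤ p) :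
    ∃ ζ : R, gs ζ p = 0 := by
  obtain ⟨n, rfl⟩ : ∃ n, p = n + 1 := ⟨p - 1, by omega⟩
  obtain ⟨r, hr⟩ := hR (∑ i ∈ Finset.range (n + 1), X ^ i)
    (monic_geom_sum_X (Nat.succ_ne_zero n)) (by
      refine lt_of_lt_of_le (show 0 < n by omega) (le_natDegree_of_ne_zero ?_)
      simp [coeff_X_pow])
  exact ⟨r, by simpa [gs, eval_finsetSum] using hr⟩

/-- A point of `D(f)` gets a label. -/
theorem exists_split {R : Type u} [CommRing R] (hR : Curves.IsAIC R) (p : ℕ) [hp : Fact p.Prime]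
    (f g s t q : R) (hst : s * f + t * g = 1)
    (hq0 : ∀ x : PrimeSpectrum R, f * g ∈ x.asIdeal → q ∈ x.asIdeal)
    (hq1 : ∀ x : PrimeSpectrum R, q ∈ x.asIdeal ∨ q - f * g ∈ x.asIdeal) :
    ∃ (α : ↥(PrimeSpectrum.basicOpen f : Set (PrimeSpectrum R)) → ZMod p)
      (β : ↥(PrimeSpectrum.basicOpen g : Set (PrimeSpectrum R)) → ZMod p),
      IsLocallyConstant α ∧ IsLocallyConstant β ∧
      ∀ (x : PrimeSpectrum R) (hf : x ∈ PrimeSpectrum.basicOpen f) (hg : x ∈ PrimeSpectrum.basicOpen g),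
        (q ∈ x.asIdeal → β ⟨x, hg⟩ = α ⟨x, hf⟩) ∧ (q ∉ x.asIdeal → β ⟨x, hg⟩ = α ⟨x, hf⟩ + 1) := by
  classical
  cases subsingleton_or_nontrivial R with
  | inl h =>
    haveI := h
    exact ⟨fun _ => 0, fun _ => 0, .const _, .const _,
      fun x => absurd (Ideal.IsPrime.ne_top x.isPrime) (fun h' => h' (Ideal.eq_top_iff_one _ |>.2
        (Subsingleton.elim (0 : R) 1 ▸ x.asIdeal.zero_mem)))⟩
  | inr h =>
  haveI := h
  obtain ⟨ζ, hζ⟩ := exists_gs_eq_zero hR p hp.out.two_le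
  obtain ⟨ι, hι⟩ := hR (X ^ 2 + C 1) (monic_X_pow_add_C _ two_ne_zero) (by rw [natDegree_X_pow_add_C]; exact two_pos)
  rw [eval_add, eval_pow, eval_X, eval_C] at hι
  obtain ⟨d, Q₀, Q₁, hd, hg₀, hg₁, h0, hA, hB⟩ := exists_paths R p ζ hζ ι hι
  obtain ⟨ζi, hζi⟩ := isUnit_iff_exists_inv.1 (IsUnit.of_pow_eq_one (pow_p hζ) hp.out.ne_zero : IsUnit ζ)
  let cc : ZMod p → R := fun j => gs ζ j.val
  -- the levels along the two paths
  let H₀ : ZMod p → R[X][X] := fun j => Q₀.A - C (C (cc j)) * Q₀.B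
  let H₁ : ZMod p → R[X][X] := fun j => Q₁.A - C (C (cc j) + C ζi * X) * Q₁.B
  let ev : R → R[X][X] →+* R[X] := fun a => mapRingHom (evalRingHom a)
  have hH0 : ∀ j, ev 0 (H₁ j) = ev 0 (H₀ j) := fun j => by
    have e1 : Q₀.A.map (evalRingHom 0) = Q₁.A.map (evalRingHom 0) := congrArg Q.A h0
    have e2 : Q₀.B.map (evalRingHom 0) = Q₁.B.map (evalRingHom 0) := congrArg Q.B h0
    simp [ev, H₀, H₁, e1, e2]
  have hH1 : ∀ j, ev 1 (H₁ j) = ev 1 (H₀ (j + 1)) := fun j => by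
    have e1 : Q₁.A.map (evalRingHom 1) = Q₀.A.map (evalRingHom 1) := hA
    have e2 : Q₁.B.map (evalRingHom 1) = C ζ * Q₀.B.map (evalRingHom 1) := hB
    simp only [ev, H₀, H₁, coe_mapRingHom, Polynomial.map_sub, Polynomial.map_mul, map_C, e1, e2, coe_evalRingHom,
      eval_add, eval_C, eval_mul, eval_X, mul_one]
    rw [show cc (j + 1) = ζ * cc j + 1 from gs_val_add_one hζ j, ← mul_assoc, ← map_mul]
    congr 3
    linear_combination hζi
  have hmon : ∀ (P : Q R[X]) (c : R[X]), Q.Good d P → (P.A - C c * P.B).Monic ∧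
      (P.A - C c * P.B).natDegree = d := fun P c hQ => by
    have hlt : (C c * P.B).degree < P.A.degree := by
      rw [degree_eq_natDegree hQ.monic.ne_zero, hQ.degA]
      refine lt_of_le_of_lt ((degree_mul_le _ _).trans ?_) hQ.degB
      exact (add_le_add degree_C_le le_rfl).trans_eq (zero_add _)
    exact ⟨hQ.monic.sub_of_left hlt, natDegree_eq_of_degree_eq_some
      ((degree_sub_eq_left_of_degree_lt hlt).trans (by rw [degree_eq_natDegree hQ.monic.ne_zero, hQ.degA]))⟩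
  let G₀ := ∏ j, H₀ j
  let G₁ := ∏ j, H₁ j
  have hG₀ : G₀.Monic := monic_prod_of_monic _ _ fun j _ => (hmon _ _ hg₀).1
  have hG₁ : G₁.Monic := monic_prod_of_monic _ _ fun j _ => (hmon _ _ hg₁).1
  have hG₀d : G₀.natDegree = p * d := by
    rw [natDegree_prod_of_monic _ _ fun j _ => (hmon _ _ hg₀).1,
      Finset.sum_congr rfl fun j _ => (hmon _ _ hg₀).2]
    simp
  have hG₁d : G₁.natDegree = p * d := by
    rw [natDegree_prod_of_monic _ _ fun j _ => (hmon _ _ hg₁).1,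
      Finset.sum_congr rfl fun j _ => (hmon _ _ hg₁).2]
    simp
  have hev : ∀ a, (a = 0 ∨ a = 1) → ev a G₁ = ev a G₀ := by
    rintro a (rfl | rfl)
    · rw [map_prod, map_prod]; exact Finset.prod_congr rfl fun j _ => hH0 j
    · rw [map_prod, map_prod, Finset.prod_congr rfl fun j _ => hH1 j]
      exact Equiv.prod_comp (Equiv.addRight (1 : ZMod p)) fun j => ev 1 (H₀ j)
  have hdiv : ∀ i, ∃ e : R[X], (G₁ - G₀).coeff i = X * (1 - X) * e := by
    intro i
    have h00 : ∀ a, (a = 0 ∨ a = 1) → ((G₁ - G₀).coeff i).eval a = 0 := fun a ha => by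
      have := congrArg (fun P : R[X] => P.coeff i) (hev a ha)
      simp only [ev, coe_mapRingHom, coeff_map, coe_evalRingHom] at this
      rw [coeff_sub, eval_sub, this, sub_self]
    obtain ⟨e, he⟩ : X ∣ (G₁ - G₀).coeff i := X_dvd_iff.2 (by rw [coeff_zero_eq_eval_zero]; exact h00 0 (.inl rfl))
    obtain ⟨e', he'⟩ : (X - C 1) ∣ e := dvd_iff_isRoot.2 (by
      have := h00 1 (.inr rfl)
      rwa [he, eval_mul, eval_X, one_mul] at this)
    exact ⟨-e', by rw [he, he', map_one]; ring⟩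
  choose e he using hdiv
  let D : R[X][X] := ∑ i ∈ Finset.range (p * d), C (e i) * X ^ i
  have hD : G₁ = G₀ + C (X * (1 - X)) * D := by
    rw [← sub_eq_iff_eq_add']
    ext1 i
    rw [coeff_C_mul, finset_sum_coeff]
    simp only [coeff_C_mul, coeff_X_pow, mul_ite, mul_one, mul_zero, Finset.sum_ite_eq, Finset.mem_range]
    split_ifs with hi
    · exact he i
    · rw [coeff_sub]
      rcases (not_lt.1 hi).lt_or_eq with hi' | hi'
      · rw [coeff_eq_zero_of_natDegree_lt (hG₁d ▸ hi'), coeff_eq_zero_of_natDegree_lt (hG₀d ▸ hi'), sub_zero]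
      · rw [← hi']
        nth_rw 1 [← hG₁d]
        rw [← hG₀d, hG₁.coeff_natDegree, hG₀.coeff_natDegree, sub_self]
  have hDdeg : D.degree < ((p * d : ℕ) : WithBot ℕ) := by
    refine lt_of_le_of_lt (degree_sum_le _ _) ((Finset.sup_lt_iff (WithBot.bot_lt_coe _)).2 fun i hi => ?_)
    exact lt_of_le_of_lt (degree_C_mul_X_pow_le i _) (WithBot.coe_lt_coe.2 (Finset.mem_range.1 hi))
  let b := t * g
  let G : R[X] := ev b G₀ + C (q * (s * t)) * ev b D
  have hGlt : (C (q * (s * t)) * ev b D).degree < (ev b G₀).degree := by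
    show (C (q * (s * t)) * D.map (evalRingHom b)).degree < (G₀.map (evalRingHom b)).degree
    rw [degree_eq_natDegree (hG₀.map _).ne_zero, hG₀.natDegree_map, hG₀d]
    refine lt_of_le_of_lt ((degree_mul_le _ _).trans ?_) hDdeg
    exact (add_le_add degree_C_le degree_map_le).trans_eq (zero_add _)
  have hGm : G.Monic := (hG₀.map _).add_of_left hGlt
  obtain ⟨r, hr⟩ := hR G hGm (by
    rw [natDegree_eq_of_degree_eq (degree_add_eq_left_of_degree_lt hGlt), coe_mapRingHom, hG₀.natDegree_map, hG₀d]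
    exact Nat.mul_pos hp.out.pos hd)
  let val : R[X][X] →+* R := (evalRingHom r).comp (ev b)
  let z₀ : ZMod p → R := fun j => val (H₀ j)
  let z₁ : ZMod p → R := fun j => val (H₁ j)
  -- congruences
  have hcong : ∀ (a : R) (x : PrimeSpectrum R), b - a ∈ x.asIdeal → ∀ P P' : R[X][X], ev a P = ev a P' →
      val P - val P' ∈ x.asIdeal := by
    intro a x hba P P' hP
    have h1 : ∀ P : R[X][X], val P - (ev a P).eval r ∈ x.asIdeal := fun P => by
      rw [← Ideal.Quotient.eq]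
      show Ideal.Quotient.mk _ ((P.map (evalRingHom b)).eval r) = Ideal.Quotient.mk _ ((P.map (evalRingHom a)).eval r)
      rw [eval_map, eval_map, hom_eval₂, hom_eval₂]
      congr 1
      ext1
      · ext c; simp
      · simp [Ideal.Quotient.eq.2 hba]
    have := Submodule.sub_mem _ (h1 P) (h1 P')
    rw [hP] at this
    simpa using this
  have huniq : ∀ (x : PrimeSpectrum R) (P : Q R[X]) (c : R[X]), Q.Good d P → ∀ j k,
      val (P.A - C (C (cc j) + c) * P.B) ∈ x.asIdeal → val (P.A - C (C (cc k) + c) * P.B) ∈ x.asIdeal → j = k := by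
    intro x P c hQ j k hj hk
    by_contra hne
    have hu := isUnit_gs_sub hζ hne
    have hvc : ∀ a : R, val (C (C a)) = a := fun a => by simp [val, ev]
    simp only [map_sub, map_mul, map_add, hvc] at hj hk
    have hBx : val P.B ∈ x.asIdeal := by
      have h1 := Submodule.sub_mem _ hk hj
      rw [show val P.A - (cc k + val (C c)) * val P.B - (val P.A - (cc j + val (C c)) * val P.B) =
        (cc j - cc k) * val P.B by ring] at h1
      exact (x.isPrime.mem_or_mem h1).resolve_left fun h => x.isPrime.ne_top (Ideal.eq_top_of_isUnit_mem _ h hu)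
    have hAx : val P.A ∈ x.asIdeal := by
      have h1 := Submodule.add_mem _ hj (x.asIdeal.mul_mem_left (cc j + val (C c)) hBx)
      rwa [sub_add_cancel] at h1
    have h1 : val P.A * val P.U + val P.B * val P.V = 1 := by
      rw [← map_mul, ← map_mul, ← map_add, show P.A * P.U + P.B * P.V = 1 from hQ.det_eq, map_one]
    exact x.isPrime.ne_top ((Ideal.eq_top_iff_one _).2 (h1 ▸ Submodule.add_mem _
      (x.asIdeal.mul_mem_right _ hAx) (x.asIdeal.mul_mem_right _ hBx)))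
  have hu₀ : ∀ (x : PrimeSpectrum R) j k, z₀ j ∈ x.asIdeal → z₀ k ∈ x.asIdeal → j = k := fun x j k hj hk => by
    refine huniq x Q₀ 0 hg₀ j k ?_ ?_ <;> rw [add_zero] <;> assumption
  have hu₁ : ∀ (x : PrimeSpectrum R) j k, z₁ j ∈ x.asIdeal → z₁ k ∈ x.asIdeal → j = k := fun x j k hj hk =>
    huniq x Q₁ (C ζi * X) hg₁ j k hj hk
  have hb : ∀ x : PrimeSpectrum R, g ∈ x.asIdeal → b - 0 ∈ x.asIdeal := fun x hx => by
    rw [sub_zero]; exact x.asIdeal.mul_mem_left t hx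
  have hb' : ∀ x : PrimeSpectrum R, f ∈ x.asIdeal → b - 1 ∈ x.asIdeal := fun x hx => by
    rw [show b - 1 = -(s * f) by linear_combination hst]
    exact x.asIdeal.neg_mem (x.asIdeal.mul_mem_left s hx)
  have hG : val G₀ + q * (s * t) * val D = 0 := by
    simpa [G, val] using hr
  have hval1 : val G₁ = val G₀ + b * (1 - b) * val D := by
    rw [hD, map_add, map_mul]
    simp [val, ev]
  have hex₀ : ∀ x : PrimeSpectrum R, q ∈ x.asIdeal → ∃ j, z₀ j ∈ x.asIdeal := fun x hx => by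
    have h1 : val G₀ ∈ x.asIdeal := by
      rw [show val G₀ = -(q * (s * t) * val D) by linear_combination hG]
      exact x.asIdeal.neg_mem (x.asIdeal.mul_mem_right _ (x.asIdeal.mul_mem_right _ hx))
    rw [map_prod] at h1
    obtain ⟨j, -, hj⟩ := (x.isPrime.prod_mem_iff).1 h1
    exact ⟨j, hj⟩
  have hex₁ : ∀ x : PrimeSpectrum R, q - f * g ∈ x.asIdeal → ∃ j, z₁ j ∈ x.asIdeal := fun x hx => by
    have h1 : val G₁ ∈ x.asIdeal := by
      rw [show val G₁ = -((q - f * g) * (s * t * val D)) by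
        rw [hval1]; linear_combination hG + (-(t * g * val D)) * hst]
      exact x.asIdeal.neg_mem (x.asIdeal.mul_mem_right _ hx)
    rw [map_prod] at h1
    obtain ⟨j, -, hj⟩ := (x.isPrime.prod_mem_iff).1 h1
    exact ⟨j, hj⟩
  have hboth : ∀ x : PrimeSpectrum R, q ∈ x.asIdeal → q - f * g ∈ x.asIdeal → f ∈ x.asIdeal ∨ g ∈ x.asIdeal :=
    fun x h1 h2 => x.isPrime.mem_or_mem (by simpa using Submodule.sub_mem _ h1 h2)
  let Z₀ : ZMod p → Set (PrimeSpectrum R) := fun j => {x | q ∈ x.asIdeal ∧ z₀ j ∈ x.asIdeal}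
  let Z₁ : ZMod p → Set (PrimeSpectrum R) := fun j => {x | q - f * g ∈ x.asIdeal ∧ z₁ j ∈ x.asIdeal}
  have hcl₀ : ∀ j, IsClosed (Z₀ j) := fun j => by
    have : Z₀ j = PrimeSpectrum.zeroLocus {q, z₀ j} := by
      ext x; simp [Z₀, PrimeSpectrum.mem_zeroLocus, Set.insert_subset_iff]
    rw [this]; exact PrimeSpectrum.isClosed_zeroLocus _
  have hcl₁ : ∀ j, IsClosed (Z₁ j) := fun j => by
    have : Z₁ j = PrimeSpectrum.zeroLocus {q - f * g, z₁ j} := by
      ext x; simp [Z₁, PrimeSpectrum.mem_zeroLocus, Set.insert_subset_iff]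
    rw [this]; exact PrimeSpectrum.isClosed_zeroLocus _
  have mk : ∀ (U : Set (PrimeSpectrum R)) (S : ZMod p → Set (PrimeSpectrum R)), (∀ j, IsClosed (S j)) →
      (∀ x ∈ U, ∃ j, x ∈ S j) → (∀ x ∈ U, ∀ j k, x ∈ S j → x ∈ S k → j = k) →
      ∃ α : U → ZMod p, IsLocallyConstant α ∧ ∀ (x : U) j, x.1 ∈ S j → α x = j := by
    intro U S hS hcov hdis
    choose j hj using fun x : U => hcov x.1 x.2
    refine ⟨j, ?_, fun x k hk => hdis x.1 x.2 _ _ (hj x) hk⟩
    rw [IsLocallyConstant.iff_isOpen_fiber]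
    intro k
    have heq : {x | j x = k}ᶜ = ⋃ l ∈ ({k}ᶜ : Set (ZMod p)), Subtype.val ⁻¹' S l := by
      ext x
      simp only [Set.mem_compl_iff, Set.mem_ofPred_eq, Set.mem_iUnion, Set.mem_singleton_iff, Set.mem_preimage,
        exists_prop]
      exact ⟨fun h => ⟨j x, h, hj x⟩, fun ⟨l, hl, hxl⟩ h => hl ((hdis x.1 x.2 _ _ hxl (hj x)).trans h)⟩
    rw [← isClosed_compl_iff]
    show IsClosed {x | j x = k}ᶜ
    rw [heq]
    exact (Set.toFinite _).isClosed_biUnion fun l _ => (hS l).preimage continuous_subtype_val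
  have hαc : ∀ x ∈ (PrimeSpectrum.basicOpen f : Set (PrimeSpectrum R)), ∃ j, x ∈ Z₀ j ∪ Z₁ j := by
    intro x _
    rcases hq1 x with hx | hx
    · obtain ⟨j, hj⟩ := hex₀ x hx; exact ⟨j, .inl ⟨hx, hj⟩⟩
    · obtain ⟨j, hj⟩ := hex₁ x hx; exact ⟨j, .inr ⟨hx, hj⟩⟩
  have hαd : ∀ x ∈ (PrimeSpectrum.basicOpen f : Set (PrimeSpectrum R)), ∀ j k, x ∈ Z₀ j ∪ Z₁ j → x ∈ Z₀ k ∪ Z₁ k → j = k := by
    intro x hxf j k hj hk
    rcases hj with ⟨a1, a2⟩ | ⟨a1, a2⟩ <;> rcases hk with ⟨b1, b2⟩ | ⟨b1, b2⟩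
    · exact hu₀ x j k a2 b2
    · have := hcong 0 x (hb x ((hboth x a1 b1).resolve_left hxf)) _ _ (hH0 k)
      exact hu₀ x j k a2 (by simpa [z₀, z₁] using Submodule.sub_mem _ b2 this)
    · have := hcong 0 x (hb x ((hboth x b1 a1).resolve_left hxf)) _ _ (hH0 j)
      exact hu₀ x j k (by simpa [z₀, z₁] using Submodule.sub_mem _ a2 this) b2
    · exact hu₁ x j k a2 b2
  have hβc : ∀ x ∈ (PrimeSpectrum.basicOpen g : Set (PrimeSpectrum R)), ∃ j, x ∈ Z₀ j ∪ Z₁ (j - 1) := by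
    intro x _
    rcases hq1 x with hx | hx
    · obtain ⟨j, hj⟩ := hex₀ x hx; exact ⟨j, .inl ⟨hx, hj⟩⟩
    · obtain ⟨j, hj⟩ := hex₁ x hx; exact ⟨j + 1, .inr ⟨hx, by rw [add_sub_cancel_right]; exact hj⟩⟩
  have hβd : ∀ x ∈ (PrimeSpectrum.basicOpen g : Set (PrimeSpectrum R)), ∀ j k, x ∈ Z₀ j ∪ Z₁ (j - 1) → x ∈ Z₀ k ∪ Z₁ (k - 1) → j = k := by
    intro x hxg j k hj hk
    rcases hj with ⟨a1, a2⟩ | ⟨a1, a2⟩ <;> rcases hk with ⟨b1, b2⟩ | ⟨b1, b2⟩
    · exact hu₀ x j k a2 b2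
    · have hfx : f ∈ x.asIdeal := (hboth x a1 b1).resolve_right hxg
      have := hcong 1 x (hb' x hfx) _ _ (hH1 (k - 1))
      rw [sub_add_cancel] at this
      exact hu₀ x j k a2 (by simpa [z₀, z₁] using Submodule.sub_mem _ b2 this)
    · have hfx : f ∈ x.asIdeal := (hboth x b1 a1).resolve_right hxg
      have := hcong 1 x (hb' x hfx) _ _ (hH1 (j - 1))
      rw [sub_add_cancel] at this
      exact hu₀ x j k (by simpa [z₀, z₁] using Submodule.sub_mem _ a2 this) b2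
    · exact sub_left_injective (hu₁ x _ _ a2 b2)
  obtain ⟨α, hα, hα'⟩ := mk (PrimeSpectrum.basicOpen f : Set (PrimeSpectrum R)) (fun j => Z₀ j ∪ Z₁ j)
    (fun j => (hcl₀ j).union (hcl₁ j)) hαc hαd
  obtain ⟨β, hβ, hβ'⟩ := mk (PrimeSpectrum.basicOpen g : Set (PrimeSpectrum R)) (fun j => Z₀ j ∪ Z₁ (j - 1))
    (fun j => (hcl₀ j).union (hcl₁ _)) hβc hβd
  refine ⟨α, β, hα, hβ, fun x hf hg => ⟨fun hx => ?_, fun hx => ?_⟩⟩
  · obtain ⟨j, hj⟩ := hex₀ x hx
    rw [hα' ⟨x, hf⟩ j (.inl ⟨hx, hj⟩), hβ' ⟨x, hg⟩ j (.inl ⟨hx, hj⟩)]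
  · have hx' := (hq1 x).resolve_left hx
    obtain ⟨j, hj⟩ := hex₁ x hx'
    rw [hα' ⟨x, hf⟩ j (.inr ⟨hx', hj⟩), hβ' ⟨x, hg⟩ (j + 1) (.inr ⟨hx', by rw [add_sub_cancel_right]; exact hj⟩)]

end Groth.Agent.GalCohAux.AicSplit
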