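import Groth.Prelude.Def_GSzCSA
import Groth.Agent.GalCohAux.Descent
import Groth.Agent.GalCohAux.Forms
import Groth.Agent.GalCohAux.CountIso
import Mathlib.Algebra.MvPolynomial.Funext
import Mathlib.LinearAlgebra.Matrix.ToLin
import Mathlib.LinearAlgebra.Determinant
import Mathlib.LinearAlgebra.FiniteDimensional.Basic

/-!
`H¹` of the units of `K ⊗ A` for a finite-dimensional algebra `A` is trivial.
-/

universe u v w

open TensorProduct Module

namespace Groth.Agent.GalCohAux.AlgUnitsH1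

attribute [local instance] CSAGal.tensorAction GpH1.unitsAction

variable {k : Type u} [Field k] {K : Type v} [Field K] [Algebra k K] [FiniteDimensional k K]
variable {A : Type w} [Ring A] [Algebra k A] [FiniteDimensional k A]

theorem smul_smul_eq (σ : K ≃ₐ[k] K) (c : K) (z : K ⊗[k] A) : σ • (c • z) = σ c • σ • z := by
  induction z using TensorProduct.induction_on with
  | zero => simp
  | tmul a b => simp [TensorProduct.smul_tmul', smul_eq_mul]
  | add x y hx hy => simp only [smul_add, hx, hy]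

theorem smul_one_tmul (σ : K ≃ₐ[k] K) (b : A) :
    σ • ((1 : K) ⊗ₜ[k] b) = (1 : K) ⊗ₜ[k] b := by
  rw [CSAGal.smul_eq_map]; simp

/-- The twisted action. -/
noncomputable def tw (a : (K ≃ₐ[k] K) → (K ⊗[k] A)ˣ) (σ : K ≃ₐ[k] K) : K ⊗[k] A →+ K ⊗[k] A :=
  AddMonoidHom.mk' (fun x => (a σ : K ⊗[k] A) * σ • x) fun x y => by rw [smul_add, mul_add]

theorem tw_apply (a : (K ≃ₐ[k] K) → (K ⊗[k] A)ˣ) (σ : K ≃ₐ[k] K) (x : K ⊗[k] A) :
    tw a σ x = (a σ : K ⊗[k] A) * σ • x := rfl

theorem isSemilinear_tw {a : (K ≃ₐ[k] K) → (K ⊗[k] A)ˣ}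
    (ha : ∀ σ τ : K ≃ₐ[k] K, a (σ * τ) = a σ * σ • a τ) : Descent.IsSemilinearAction (tw a) where
  mul σ τ x := by
    simp only [tw_apply, ha, Units.val_mul]
    rw [show ((σ • a τ : (K ⊗[k] A)ˣ) : K ⊗[k] A) = σ • (a τ : K ⊗[k] A) from rfl, smul_mul', mul_smul,
      mul_assoc]
  one x := by
    have h := ha 1 1
    rw [one_mul, one_smul] at h
    have h1 : a 1 = 1 := mul_eq_left.1 h.symm
    simp [tw_apply, h1]
  smul σ c x := by
    simp only [tw_apply, smul_smul_eq, mul_smul_comm]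

/-- A finite-dimensional algebra has two-sided inverses of right invertible elements. -/
theorem isUnit_of_range_mulLeft {w : K ⊗[k] A} (h : LinearMap.range (LinearMap.mulLeft K w) = ⊤) :
    IsUnit w := by
  have hs : Function.Surjective (LinearMap.mulLeft K w) := LinearMap.range_eq_top.1 h
  have hi := (LinearMap.injective_iff_surjective).2 hs
  obtain ⟨y, hy⟩ := hs 1
  rw [LinearMap.mulLeft_apply] at hy
  have hy' : y * w = 1 := hi (by
    rw [LinearMap.mulLeft_apply, LinearMap.mulLeft_apply, ← mul_assoc, hy, one_mul, mul_one])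
  exact ⟨⟨w, y, hy, hy'⟩, rfl⟩

variable [IsGalois k K] {s : (K ≃ₐ[k] K) → K ⊗[k] A →+ K ⊗[k] A}
  (hs : Descent.IsSemilinearAction s)

include hs in
theorem exists_unit_of_infinite [Infinite k] :
    ∃ w ∈ Descent.fixedVec hs, IsUnit w := by
  classical
  obtain ⟨Bb, hBb⟩ := Descent.exists_basis_fixed hs (n := Module.finrank K (K ⊗[k] A)) rfl
  let ι := Fin (Module.finrank K (K ⊗[k] A))
  let M : ι → Matrix ι ι K := fun i => LinearMap.toMatrix Bb Bb (LinearMap.mulLeft K (Bb i))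
  let P : MvPolynomial ι K := Matrix.det (∑ i, (MvPolynomial.X i : MvPolynomial ι K) • (M i).map (MvPolynomial.C : K →+* MvPolynomial ι K))
  have heval : ∀ c : ι → K, MvPolynomial.eval c P =
      LinearMap.det (LinearMap.mulLeft K (∑ i, c i • Bb i)) := by
    intro c
    rw [← LinearMap.det_toMatrix Bb, RingHom.map_det]
    congr 1
    ext i j
    simp [M, Matrix.sum_apply, LinearMap.toMatrix_apply, Algebra.leftMulMatrix_eq_repr_mul, Finset.sum_mul]
  have hP : P ≠ 0 := fun h => by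
    have h1 := heval (fun i => Bb.repr 1 i)
    rw [h, map_zero, Bb.sum_repr, LinearMap.mulLeft_one, LinearMap.det_id] at h1
    exact zero_ne_one h1
  obtain ⟨x, hx⟩ : ∃ x : ι → k, MvPolynomial.eval (fun i => algebraMap k K (x i)) P ≠ 0 := by
    by_contra! hcon
    refine hP (MvPolynomial.funext_set (fun _ => Set.range (algebraMap k K))
      (fun _ => Set.infinite_range_of_injective (algebraMap k K).injective) fun c hc => ?_)
    choose x hx using fun i => hc i (Set.mem_univ i)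
    rw [map_zero, ← hcon x]
    simp [hx]
  refine ⟨∑ i, x i • Bb i, Submodule.sum_mem _ fun i _ =>
    Submodule.smul_mem _ _ (fun σ => hBb i σ), isUnit_of_range_mulLeft ?_⟩
  rw [heval] at hx
  simp only [algebraMap_smul] at hx
  exact LinearMap.range_eq_top.2
    (LinearMap.equivOfDetNeZero _ hx).surjective

/-- Right multiplication by `A`. -/
noncomputable def rightHom : Aᵐᵒᵖ →+* (K ⊗[k] A)ᵐᵒᵖ :=
  RingHom.op (Algebra.TensorProduct.includeRight : A →ₐ[k] K ⊗[k] A).toRingHom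

theorem exists_unit_of_finite [Finite k]
    (hright : ∀ σ x (b : A), s σ (x * (1 : K) ⊗ₜ[k] b) = s σ x * (1 : K) ⊗ₜ[k] b)
    (hs₀ : Descent.IsSemilinearAction (tw (fun _ : K ≃ₐ[k] K => (1 : (K ⊗[k] A)ˣ)))) :
    ∃ w ∈ Descent.fixedVec hs, IsUnit w := by
  classical
  let _ : Module Aᵐᵒᵖ (K ⊗[k] A) := Module.compHom _ (rightHom (k := k) (K := K) (A := A))
  have hR : ∀ (r : Aᵐᵒᵖ) (x : K ⊗[k] A), r • x = x * (1 : K) ⊗ₜ[k] r.unop := fun _ _ => rfl
  have : Finite K := Module.finite_of_finite k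
  have : FiniteDimensional K (K ⊗[k] A) := inferInstance
  have : Finite (K ⊗[k] A) := Module.finite_of_finite K
  let e := Module.finBasis k K
  -- the powers of a fixed subspace
  have power : ∀ {t : (K ≃ₐ[k] K) → K ⊗[k] A →+ K ⊗[k] A} (ht : Descent.IsSemilinearAction t)
      (hr : ∀ σ x (b : A), t σ (x * (1 : K) ⊗ₜ[k] b) = t σ x * (1 : K) ⊗ₜ[k] b),
      ∃ W : Submodule Aᵐᵒᵖ (K ⊗[k] A), (∀ x, x ∈ W ↔ x ∈ Descent.fixedVec ht) ∧
        Nonempty ((Fin (Module.finrank k K) → W) ≃ₗ[Aᵐᵒᵖ] K ⊗[k] A) := by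
    intro t ht hr
    let W : Submodule Aᵐᵒᵖ (K ⊗[k] A) :=
      { carrier := Descent.fixedVec ht
        add_mem' := (Descent.fixedVec ht).add_mem
        zero_mem' := (Descent.fixedVec ht).zero_mem
        smul_mem' := fun r x hx σ => by rw [hR, hr, hx σ] }
    refine ⟨W, fun x => Iff.rfl, ?_⟩
    let f : (Fin (Module.finrank k K) → W) →ₗ[Aᵐᵒᵖ] K ⊗[k] A :=
      { toFun := fun w => ∑ i, e i • (w i : K ⊗[k] A)
        map_add' := fun w w' => by simp [smul_add, Finset.sum_add_distrib]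
        map_smul' := fun r w => by
          rw [RingHom.id_apply, hR, Finset.sum_mul]
          refine Finset.sum_congr rfl fun i _ => ?_
          rw [Pi.smul_apply, SetLike.val_smul, hR, smul_mul_assoc] }
    have hsurj : Function.Surjective f := by
      intro z
      have hz : z ∈ Submodule.span K (Descent.fixedVec ht : Set (K ⊗[k] A)) := by
        rw [Descent.span_fixedVec_eq_top ht]; trivial
      induction hz using Submodule.closure_induction with
      | zero => exact ⟨0, map_zero f⟩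
      | add x y _ _ hx hy =>
        obtain ⟨a, rfl⟩ := hx
        obtain ⟨b, rfl⟩ := hy
        exact ⟨a + b, map_add f a b⟩
      | smul_mem c x hx =>
        refine ⟨fun i => ⟨e.repr c i • x, (Descent.fixedVec ht).smul_mem _ hx⟩, ?_⟩
        show ∑ i, e i • (e.repr c i • x) = c • x
        conv_rhs => rw [← e.sum_repr c, Finset.sum_smul]
        refine Finset.sum_congr rfl fun i _ => ?_
        rw [smul_comm, smul_assoc]
    have hcard : Nat.card (Fin (Module.finrank k K) → W) = Nat.card (K ⊗[k] A) := by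
      have h1 : Nat.card W = Nat.card k ^ Module.finrank k (Descent.fixedVec ht) := by
        rw [← Module.natCard_eq_pow_finrank (K := k)]
        rfl
      have h2 : Module.finrank k (Descent.fixedVec ht) = Module.finrank K (K ⊗[k] A) :=
        Descent.finrank_fixedVec ht
      rw [Nat.card_pi, Finset.prod_const, Finset.card_univ, Fintype.card_fin, h1, h2, ← pow_mul,
        Module.natCard_eq_pow_finrank (K := K) (V := K ⊗[k] A),
        Module.natCard_eq_pow_finrank (K := k) (V := K), ← pow_mul, mul_comm]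
    exact ⟨LinearEquiv.ofBijective f (hsurj.bijective_of_nat_card_le hcard.le)⟩
  obtain ⟨W, hW, ⟨φ⟩⟩ := power hs hright
  obtain ⟨W₀, hW₀, ⟨φ₀⟩⟩ := power hs₀ (fun σ x b => by
    simp only [tw_apply, Units.val_one, one_mul, smul_mul', smul_one_tmul])
  have hn : Module.finrank k K ≠ 0 := Module.finrank_pos.ne'
  obtain ⟨θ⟩ := CountIso.nonempty_equiv_of_pi_equiv hn (φ.trans φ₀.symm)
  have h1 : (1 : K ⊗[k] A) ∈ W₀ := (hW₀ _).2 fun σ => by simp [tw_apply]
  let u := θ.symm ⟨1, h1⟩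
  refine ⟨u, (hW _).1 u.2, isUnit_of_range_mulLeft ?_⟩
  rw [eq_top_iff, ← Descent.span_fixedVec_eq_top hs, Submodule.span_le]
  intro x hx
  have hfix : ∀ σ : K ≃ₐ[k] K, σ • ((θ ⟨x, (hW x).2 hx⟩ : W₀) : K ⊗[k] A) =
      (θ ⟨x, (hW x).2 hx⟩ : W₀) := fun σ => by
    have := (hW₀ _).1 (θ ⟨x, (hW x).2 hx⟩).2 σ
    simpa [tw_apply] using this
  obtain ⟨b, hb⟩ := Forms.exists_tmul_of_fixed _ hfix
  have hxu : (⟨x, (hW x).2 hx⟩ : W) = MulOpposite.op b • u := by
    apply θ.injective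
    rw [map_smul, LinearEquiv.apply_symm_apply]
    apply Subtype.ext
    rw [SetLike.val_smul, hR, one_mul]
    exact hb.symm
  exact ⟨(1 : K) ⊗ₜ[k] b, (congrArg Subtype.val hxu).symm⟩

omit s hs in
theorem exists_unit {a : (K ≃ₐ[k] K) → (K ⊗[k] A)ˣ}
    (ha : ∀ σ τ : K ≃ₐ[k] K, a (σ * τ) = a σ * σ • a τ) :
    ∃ u : (K ⊗[k] A)ˣ, ∀ σ : K ≃ₐ[k] K, a σ * σ • u = u := by
  have hs := isSemilinear_tw ha
  obtain ⟨w, hw, ⟨u, rfl⟩⟩ : ∃ w ∈ Descent.fixedVec hs, IsUnit w := by
    rcases finite_or_infinite k with h | h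
    · exact exists_unit_of_finite hs
        (fun σ x b => by rw [tw_apply, tw_apply, smul_mul', smul_one_tmul, mul_assoc])
        (isSemilinear_tw (fun _ _ => by simp))
    · exact exists_unit_of_infinite hs
  exact ⟨u, fun σ => Units.ext (hw σ)⟩

omit s hs in
theorem isTrivial : GpH1.H1.IsTrivial (K ≃ₐ[k] K) (K ⊗[k] A)ˣ := by
  intro x
  obtain ⟨a, rfl⟩ := Quotient.exists_rep x
  obtain ⟨u, hu⟩ := exists_unit (a := fun σ => a σ) (fun σ τ => a.2 σ τ)
  refine Quotient.sound ⟨u⁻¹, fun σ => ?_⟩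
  rw [smul_inv', inv_inv]
  show a.1 σ = u * 1 * (σ • u)⁻¹
  rw [mul_one]
  exact eq_mul_inv_iff_mul_eq.2 (hu σ)

end Groth.Agent.GalCohAux.AlgUnitsH1
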