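import Groth.Prelude.Def_W4c1btstackcountsChain
import Mathlib.LinearAlgebra.FiniteDimensional.Lemmas
import Mathlib.LinearAlgebra.Matrix.ToLin
import Mathlib.LinearAlgebra.Dimension.OrzechProperty
import Mathlib.LinearAlgebra.Basis.VectorSpace
import Mathlib.LinearAlgebra.FiniteDimensional.Basic
import Mathlib.Algebra.BigOperators.Intervals
import Mathlib.Tactic.Ring

/-!
Chains of matrices: the rank arrays classify the orbits of the base change groups.
-/

universe u

open W4c1btstackcounts Module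

namespace Groth.Agent.GalCohAux.Chain

variable {k : Type u} [Field k] {d : ℕ → ℕ}

/-- The space at a vertex. -/
abbrev V (k : Type u) [Field k] (d : ℕ → ℕ) (i : ℕ) := Fin (d i) → k

variable (L : ∀ i, V k d i →ₗ[k] V k d (i + 1))

/-- The composite from `i` to `j` (zero if `j < i`). -/
noncomputable def P (i : ℕ) : (j : ℕ) → (V k d i →ₗ[k] V k d j)
  | 0 => if h : i = 0 then h ▸ LinearMap.id else 0
  | j + 1 => if h : i = j + 1 then h ▸ LinearMap.id else (L j).comp (P i j)

theorem P_self (i : ℕ) : P L i i = LinearMap.id := by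
  cases i <;> simp [P]

theorem P_succ {i j : ℕ} (h : i ≤ j) : P L i (j + 1) = (L j).comp (P L i j) := by
  rw [P, dif_neg (by omega)]

theorem P_comp {i : ℕ} : ∀ {j : ℕ}, i + 1 ≤ j → P L i j = (P L (i + 1) j).comp (L i)
  | 0, h => by omega
  | j + 1, h => by
    rcases Nat.eq_or_lt_of_le h with h' | h'
    · obtain rfl : i = j := by omega
      rw [P_self, P_succ L le_rfl, P_self]
      rfl
    · have h1 : i + 1 ≤ j := by omega
      rw [P_succ L (by omega : i ≤ j), P_succ L h1, P_comp h1, LinearMap.comp_assoc]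

theorem iterImage_eq (f : (i : ℕ) → Matrix (Fin (d (i + 1))) (Fin (d i)) k) (i : ℕ) :
    ∀ n, iterImage f i n = LinearMap.range (P (fun i => Matrix.toLin' (f i)) i (i + n))
  | 0 => by
    show (⊤ : Submodule k (V k d i)) = LinearMap.range (P _ i i)
    rw [P_self, LinearMap.range_id]
  | n + 1 => by
    show (iterImage f i n).map (Matrix.toLin' (f (i + n))) = LinearMap.range (P _ i (i + n + 1))
    rw [iterImage_eq f i n, P_succ _ (by omega), LinearMap.range_comp]

theorem rankArray_eq (f : (i : ℕ) → Matrix (Fin (d (i + 1))) (Fin (d i)) k) {i j : ℕ} (h : i ≤ j) :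
    rankArray f i j = finrank k (LinearMap.range (P (fun i => Matrix.toLin' (f i)) i j)) := by
  obtain ⟨n, rfl⟩ := Nat.exists_eq_add_of_le h
  rw [rankArray, if_pos h, Nat.add_sub_cancel_left, iterImage_eq]

theorem finrank_map_add {A B : Type u} [AddCommGroup A] [Module k A] [FiniteDimensional k A]
    [AddCommGroup B] [Module k B] (φ : A →ₗ[k] B) (S : Submodule k A) :
    finrank k (S.map φ) + finrank k (S ⊓ LinearMap.ker φ : Submodule k A) = finrank k S := by
  have h := LinearMap.finrank_range_add_finrank_ker (φ.domRestrict S)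
  rw [LinearMap.range_domRestrict] at h
  have h' : LinearMap.ker (φ.domRestrict S) = (LinearMap.ker φ).comap S.subtype := LinearMap.ker_comp _ _
  have e : finrank k ((LinearMap.ker φ).comap S.subtype) = finrank k (S ⊓ LinearMap.ker φ : Submodule k A) := by
    rw [← Submodule.finrank_map_subtype_eq, Submodule.map_comap_subtype]
  rw [h', e] at h
  exact h

/-- The rank of a composite, extended by zero to `i = 0` and beyond `r`. -/
noncomputable def rk (r i j : ℕ) : ℕ :=
  if 1 ≤ i ∧ j ≤ r then finrank k (LinearMap.range (P L i j)) else 0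

theorem isRankArray (r : ℕ) (a : ℕ → ℕ → ℕ)
    (ha : ∀ i j, i ≤ j → a i j = finrank k (LinearMap.range (P L i j))) : IsRankArray d r a := by
  refine ⟨fun j _ _ => ?_, fun i j _ hij _ => ?_, fun i j _ hij _ => ?_, fun i j hi hij _ => ?_⟩
  · rw [ha j j le_rfl, P_self, LinearMap.range_id, finrank_top, finrank_fin_fun]
  · rw [ha i j hij.le, ha (i + 1) j hij, P_comp L hij]
    exact Submodule.finrank_mono (LinearMap.range_comp_le_range _ _)
  · rw [ha i (j + 1) (by omega), ha i j hij, P_succ L hij, LinearMap.range_comp]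
    exact Submodule.finrank_map_le _ _
  · obtain ⟨i, rfl⟩ : ∃ i', i = i' + 1 := ⟨i - 1, by omega⟩
    rw [Nat.add_sub_cancel, ha _ _ hij, ha _ (j + 1) (by omega), ha i j (by omega),
      ha i (j + 1) (by omega), P_succ L hij, P_succ L (by omega : i ≤ j), LinearMap.range_comp,
      LinearMap.range_comp]
    have h1 := finrank_map_add (L j) (LinearMap.range (P L (i + 1) j))
    have h2 := finrank_map_add (L j) (LinearMap.range (P L i j))
    have hle : LinearMap.range (P L i j) ≤ LinearMap.range (P L (i + 1) j) := by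
      rw [P_comp L hij]; exact LinearMap.range_comp_le_range _ _
    have h3 := Submodule.finrank_mono (inf_le_inf_right (LinearMap.ker (L j)) hle)
    omega

/-- The multiplicity of the interval `[i, m]` in an array. -/
def mult (A : ℕ → ℕ → ℕ) (i m : ℕ) : ℕ :=
  ((A i m : ℤ) + A (i - 1) (m + 1) - A i (m + 1) - A (i - 1) m).toNat

/-- The indices of the basis vectors born not after `i` and alive at `j`. -/
abbrev Idx (r : ℕ) (A : ℕ → ℕ → ℕ) (i j : ℕ) : Type :=
  Σ i' : ↥(Finset.Icc 1 i), Σ m : ↥(Finset.Icc j r), Fin (mult A i'.1 m.1)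

theorem Idx.birth_mem {r : ℕ} {A : ℕ → ℕ → ℕ} {i j : ℕ} (x : Idx r A i j) :
    1 ≤ x.1.1 ∧ x.1.1 ≤ i := Finset.mem_Icc.1 x.1.2

theorem Idx.death_mem {r : ℕ} {A : ℕ → ℕ → ℕ} {i j : ℕ} (x : Idx r A i j) :
    j ≤ x.2.1.1 ∧ x.2.1.1 ≤ r := Finset.mem_Icc.1 x.2.1.2

/-- The transition of indices. -/
def Idx.change {r : ℕ} {A : ℕ → ℕ → ℕ} {i i₁ j j₁ : ℕ} (x : Idx r A i j) (hi : x.1.1 ≤ i₁)
    (hj : j₁ ≤ x.2.1.1) : Idx r A i₁ j₁ :=
  ⟨⟨x.1.1, Finset.mem_Icc.2 ⟨x.birth_mem.1, hi⟩⟩,
    ⟨x.2.1.1, Finset.mem_Icc.2 ⟨hj, x.death_mem.2⟩⟩, x.2.2⟩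

/-- An array has nonnegative multiplicities. -/
def Admissible (r : ℕ) (A : ℕ → ℕ → ℕ) : Prop :=
  (∀ j, A 0 j = 0) ∧ (∀ i, A i (r + 1) = 0) ∧
    ∀ i m, 1 ≤ i → i ≤ m → m ≤ r → A i (m + 1) + A (i - 1) m ≤ A i m + A (i - 1) (m + 1)

theorem card_idx {r : ℕ} {A : ℕ → ℕ → ℕ} (h : Admissible r A) {i j : ℕ} (hij : i ≤ j) (hj : j ≤ r) :
    Fintype.card (Idx r A i j) = A i j := by
  simp only [Fintype.card_sigma, Fintype.card_fin]
  rw [Finset.sum_coe_sort (Finset.Icc 1 i)
    (fun i' => ∑ m : ↥(Finset.Icc j r), mult A i' m.1)]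
  refine (Finset.sum_congr rfl fun i' _ =>
    Finset.sum_coe_sort (Finset.Icc j r) (fun m => mult A i' m)).trans ?_
  have inner : ∀ i', 1 ≤ i' → ∀ n j, i' ≤ j → j + n = r + 1 →
      (∑ m ∈ Finset.Icc j r, (mult A i' m : ℤ)) = (A i' j : ℤ) - A (i' - 1) j := by
    intro i' h1 n
    induction n with
    | zero =>
      intro j h2 hn
      obtain rfl : j = r + 1 := by omega
      rw [Finset.Icc_eq_empty (by omega), Finset.sum_empty, h.2.1, h.2.1]
      simp
    | succ n ih =>
      intro j h2 hn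
      rw [← Finset.insert_Icc_succ_left_eq_Icc (a := j) (by omega), Finset.sum_insert (by simp),
        Nat.succ_eq_succ, ih (j + 1) (by omega) (by omega)]
      have := h.2.2 i' j h1 h2 (by omega)
      rw [mult, Int.toNat_of_nonneg (by omega)]
      ring
  have key : ∀ i₀, i₀ ≤ i → (∑ i' ∈ Finset.Icc 1 i₀, ∑ m ∈ Finset.Icc j r, (mult A i' m : ℤ)) = A i₀ j := by
    intro i₀
    induction i₀ with
    | zero => intro _; simp [h.1 j]
    | succ i₀ ih =>
      intro hle
      rw [Finset.sum_Icc_succ_top (by omega), ih (by omega),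
        inner (i₀ + 1) (by omega) (r + 1 - j) j (by omega) (by omega)]
      simp
  exact_mod_cast key i le_rfl

section basis

variable (r : ℕ)

theorem rk_admissible : Admissible r (rk L r) := by
  refine ⟨fun j => by simp [rk], fun i => by simp [rk], fun i m hi him hm => ?_⟩
  obtain ⟨-, h2, h3, h4⟩ := isRankArray L r (fun i j => finrank k (LinearMap.range (P L i j)))
    fun _ _ _ => rfl
  rcases Nat.lt_or_ge m r with hmr | hmr
  · rcases Nat.lt_or_ge 1 i with hi1 | hi1
    · simp only [rk, if_pos (show 1 ≤ i ∧ m + 1 ≤ r by omega), if_pos (show 1 ≤ i ∧ m ≤ r by omega),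
        if_pos (show 1 ≤ i - 1 ∧ m ≤ r by omega), if_pos (show 1 ≤ i - 1 ∧ m + 1 ≤ r by omega)]
      exact h4 i m hi1 him hmr
    · simp only [rk, if_pos (show 1 ≤ i ∧ m + 1 ≤ r by omega), if_pos (show 1 ≤ i ∧ m ≤ r by omega),
        if_neg (show ¬(1 ≤ i - 1 ∧ m ≤ r) by omega), if_neg (show ¬(1 ≤ i - 1 ∧ m + 1 ≤ r) by omega),
        add_zero]
      exact h3 i m hi him hmr
  · obtain rfl : m = r := by omega
    rcases Nat.lt_or_ge 1 i with hi1 | hi1
    · simp only [rk, if_neg (show ¬(1 ≤ i ∧ m + 1 ≤ m) by omega), if_pos (show 1 ≤ i ∧ m ≤ m by omega),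
        if_pos (show 1 ≤ i - 1 ∧ m ≤ m by omega),
        if_neg (show ¬(1 ≤ i - 1 ∧ m + 1 ≤ m) by omega), add_zero, zero_add]
      have := h2 (i - 1) m (by omega) (by omega) le_rfl
      rwa [Nat.sub_add_cancel (by omega)] at this
    · simp only [rk, if_neg (show ¬(1 ≤ i ∧ m + 1 ≤ m) by omega),
        if_neg (show ¬(1 ≤ i - 1 ∧ m ≤ m) by omega),
        if_neg (show ¬(1 ≤ i - 1 ∧ m + 1 ≤ m) by omega)]
      exact Nat.zero_le _

/-- The vectors of `V i` dead after `m`. -/
noncomputable def K (i m : ℕ) : Submodule k (V k d i) :=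
  if m < r then LinearMap.ker (P L i (m + 1)) else ⊤

/-- The image of the previous space. -/
noncomputable def Fp : (i : ℕ) → Submodule k (V k d i)
  | 0 => ⊥
  | i + 1 => if i = 0 then ⊥ else LinearMap.range (L i)

theorem finrank_K {i m : ℕ} (hi : 1 ≤ i) (him : i ≤ m + 1) :
    (finrank k (K L r i m) : ℤ) = d i - rk L r i (m + 1) := by
  unfold K rk
  rcases Nat.lt_or_ge m r with h | h
  · rw [if_pos h, if_pos (show 1 ≤ i ∧ m + 1 ≤ r from ⟨hi, h⟩)]
    have := LinearMap.finrank_range_add_finrank_ker (P L i (m + 1))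
    rw [finrank_fin_fun] at this
    omega
  · rw [if_neg (by omega), if_neg (by omega), finrank_top, finrank_fin_fun]
    simp

theorem finrank_FK {i m : ℕ} (hi : 1 ≤ i) (him : i ≤ m + 1) :
    (finrank k (Fp L i ⊓ K L r i m : Submodule k (V k d i)) : ℤ) =
      finrank k (Fp L i) - rk L r (i - 1) (m + 1) := by
  obtain ⟨i, rfl⟩ : ∃ i', i = i' + 1 := ⟨i - 1, by omega⟩
  rw [Nat.add_sub_cancel]
  rcases Nat.eq_zero_or_pos i with hi0 | hi0
  · subst hi0
    have e : Fp L (0 + 1) = ⊥ := by simp [Fp]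
    have e' : Fp L (0 + 1) ⊓ K L r (0 + 1) m = ⊥ := by rw [e, bot_inf_eq]
    rw [e', e]
    simp [rk]
  · unfold K rk
    rcases Nat.lt_or_ge m r with h | h
    · rw [if_pos h, if_pos (show 1 ≤ i ∧ m + 1 ≤ r from ⟨hi0, h⟩)]
      have h1 := finrank_map_add (P L (i + 1) (m + 1)) (Fp L (i + 1))
      have h2 : (Fp L (i + 1)).map (P L (i + 1) (m + 1)) = LinearMap.range (P L i (m + 1)) := by
        rw [Fp, if_neg hi0.ne', ← LinearMap.range_comp, ← P_comp L him]
      rw [h2] at h1
      omega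
    · rw [if_neg (by omega), if_neg (by omega), inf_top_eq]
      simp

theorem K_mono {i m : ℕ} (hi : i ≤ m) : K L r i (m - 1) ≤ K L r i m ∨ m = 0 := by
  rcases Nat.eq_zero_or_pos m with h | h
  · exact Or.inr h
  left
  unfold K
  rw [Nat.sub_add_cancel h]
  split_ifs with h1 h2
  · rw [P_succ L hi]; exact LinearMap.ker_le_ker_comp _ _
  · exact le_top
  · omega
  · exact le_rfl

/-- The part of `K` coming from shorter intervals. -/
noncomputable def Old (i m : ℕ) : Submodule k (V k d i) :=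
  K L r i (m - 1) ⊔ (Fp L i ⊓ K L r i m)

theorem old_le {i m : ℕ} (hi : 1 ≤ i) (him : i ≤ m) : Old L r i m ≤ K L r i m :=
  sup_le ((K_mono L r him).resolve_right (by omega)) inf_le_right

theorem exists_new (i m : ℕ) : ∃ e : Fin (mult (rk L r) i m) → V k d i,
    1 ≤ i → i ≤ m → m ≤ r →
      (∀ l, e l ∈ K L r i m) ∧ K L r i m ≤ Old L r i m ⊔ Submodule.span k (Set.range e) := by
  by_cases h : 1 ≤ i ∧ i ≤ m ∧ m ≤ r
  swap
  · exact ⟨0, fun a b c => absurd ⟨a, b, c⟩ h⟩
  obtain ⟨hi, him, hmr⟩ := h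
  obtain ⟨T, hT⟩ := Submodule.exists_isCompl (Old L r i m)
  have hsup : K L r i m ≤ Old L r i m ⊔ (T ⊓ K L r i m) := by
    rw [sup_inf_assoc_of_le T (old_le L r hi him) |>.symm, hT.sup_eq_top, top_inf_eq]
  have hdim : finrank k (T ⊓ K L r i m : Submodule k (V k d i)) = mult (rk L r) i m := by
    have h1 := Submodule.finrank_sup_add_finrank_inf_eq (Old L r i m) (T ⊓ K L r i m)
    rw [le_antisymm (sup_le (old_le L r hi him) inf_le_right) hsup, ← inf_assoc, hT.inf_eq_bot,
      bot_inf_eq, finrank_bot, add_zero] at h1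
    have h3 := Submodule.finrank_sup_add_finrank_inf_eq (K L r i (m - 1)) (Fp L i ⊓ K L r i m)
    have h4 : K L r i (m - 1) ⊓ (Fp L i ⊓ K L r i m) = Fp L i ⊓ K L r i (m - 1) := by
      rw [← inf_assoc, inf_comm (K L r i (m - 1)), inf_assoc,
        inf_eq_left.2 ((K_mono L r him).resolve_right (by omega))]
    rw [h4] at h3
    have a1 := finrank_K L r hi (show i ≤ m + 1 by omega)
    have a2 := finrank_K L r hi (show i ≤ m - 1 + 1 by omega)
    have a3 := finrank_FK L r hi (show i ≤ m + 1 by omega)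
    have a4 := finrank_FK L r hi (show i ≤ m - 1 + 1 by omega)
    rw [Nat.sub_add_cancel (show 1 ≤ m by omega)] at a2 a4
    unfold mult
    rw [show Old L r i m = K L r i (m - 1) ⊔ (Fp L i ⊓ K L r i m) from rfl] at h1
    omega
  let b := Module.finBasisOfFinrankEq k (T ⊓ K L r i m : Submodule k (V k d i)) hdim
  refine ⟨fun l => (b l : V k d i), fun _ _ _ => ⟨fun l => (b l).2.2,
    hsup.trans (sup_le_sup_left (le_of_eq ?_) _)⟩⟩
  conv_lhs => rw [← Submodule.map_subtype_top (T ⊓ K L r i m), ← b.span_eq, Submodule.map_span,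
    ← Set.range_comp]
  rfl

/-- The chosen new vectors. -/
noncomputable def new (i m : ℕ) : Fin (mult (rk L r) i m) → V k d i := (exists_new L r i m).choose

/-- The vector at `j` of an index. -/
noncomputable def vec (i j : ℕ) (x : Idx r (rk L r) i j) : V k d j :=
  P L x.1.1 j (new L r x.1.1 x.2.1.1 x.2.2)

theorem L_vec {j : ℕ} (x : Idx r (rk L r) j j) (hj : j < r) :
    L j (vec L r j j x) =
      if h : j + 1 ≤ x.2.1.1 then vec L r (j + 1) (j + 1) (x.change (by have := x.birth_mem; omega) h)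
      else 0 := by
  have hb := x.birth_mem
  have hd := x.death_mem
  have e : L j (vec L r j j x) = P L x.1.1 (j + 1) (new L r x.1.1 x.2.1.1 x.2.2) := by
    rw [P_succ L hb.2]; rfl
  rw [e]
  split_ifs with h
  · rfl
  · have hmem := ((exists_new L r x.1.1 x.2.1.1).choose_spec hb.1 (by omega) hd.2).1 x.2.2
    have hm : x.2.1.1 = j := by omega
    have hK : K L r x.1.1 x.2.1.1 = LinearMap.ker (P L x.1.1 (x.2.1.1 + 1)) := if_pos (by omega)
    have h' : P L x.1.1 (x.2.1.1 + 1) _ = 0 := hK.le hmem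
    have key : ∀ n, n = j + 1 → P L x.1.1 n (new L r x.1.1 x.2.1.1 x.2.2) = 0 →
        P L x.1.1 (j + 1) (new L r x.1.1 x.2.1.1 x.2.2) = 0 := by
      rintro n rfl h''
      exact h''
    exact key _ (by omega) h'

theorem span_vec : ∀ j, 1 ≤ j → j ≤ r → ⊤ ≤ Submodule.span k (Set.range (vec L r j j)) := by
  intro j
  induction j with
  | zero => intro h; omega
  | succ j ih =>
    intro _ hjr
    have hF : Fp L (j + 1) ≤ Submodule.span k (Set.range (vec L r (j + 1) (j + 1))) := by
      rw [Fp]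
      split_ifs with h
      · exact bot_le
      · rw [← Submodule.map_top (L j), Submodule.map_le_iff_le_comap]
        refine le_trans (ih (by omega) (by omega)) (Submodule.span_le.2 ?_)
        rintro _ ⟨x, rfl⟩
        rw [SetLike.mem_coe, Submodule.mem_comap, L_vec L r x (by omega)]
        split_ifs with h'
        · exact Submodule.subset_span ⟨_, rfl⟩
        · exact Submodule.zero_mem _
    have key : ∀ m, j ≤ m → m ≤ r →
        K L r (j + 1) m ≤ Submodule.span k (Set.range (vec L r (j + 1) (j + 1))) := by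
      intro m hm
      induction m, hm using Nat.le_induction with
      | base =>
        intro _
        rw [K, if_pos (by omega), P_self, LinearMap.ker_id]
        exact bot_le
      | succ m hm ihm =>
        intro hmr
        refine le_trans ((exists_new L r (j + 1) (m + 1)).choose_spec (by omega) (by omega) hmr).2
          (sup_le (sup_le (ihm (by omega)) (inf_le_left.trans hF)) (Submodule.span_le.2 ?_))
        rintro _ ⟨l, rfl⟩
        refine Submodule.subset_span ⟨⟨⟨j + 1, by simp⟩, ⟨m + 1, by simp; omega⟩, l⟩, ?_⟩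
        show P L (j + 1) (j + 1) _ = _
        rw [P_self]
        rfl
    have := key r (by omega) le_rfl
    rwa [K, if_neg (lt_irrefl r)] at this

theorem card_vec {j : ℕ} (h1 : 1 ≤ j) (h2 : j ≤ r) :
    Fintype.card (Idx r (rk L r) j j) = finrank k (V k d j) := by
  rw [card_idx (rk_admissible L r) le_rfl h2, rk, if_pos ⟨h1, h2⟩, P_self, LinearMap.range_id,
    finrank_top]

/-- The adapted basis. -/
noncomputable def basis {j : ℕ} (h1 : 1 ≤ j) (h2 : j ≤ r) :
    Module.Basis (Idx r (rk L r) j j) k (V k d j) :=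
  basisOfTopLeSpanOfCardEqFinrank (vec L r j j) (span_vec L r j h1 h2) (card_vec L r h1 h2)

theorem basis_apply {j : ℕ} (h1 : 1 ≤ j) (h2 : j ≤ r) (x : Idx r (rk L r) j j) :
    basis L r h1 h2 x = vec L r j j x := by
  simp [basis]

end basis

/-- The invertible matrix of a linear automorphism. -/
noncomputable def toGL {n : ℕ} (e : (Fin n → k) ≃ₗ[k] (Fin n → k)) :
    Matrix.GeneralLinearGroup (Fin n) k where
  val := LinearMap.toMatrix' e.toLinearMap
  inv := LinearMap.toMatrix' e.symm.toLinearMap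
  val_inv := by rw [← LinearMap.toMatrix'_comp, LinearEquiv.comp_symm, LinearMap.toMatrix'_id]
  inv_val := by rw [← LinearMap.toMatrix'_comp, LinearEquiv.symm_comp, LinearMap.toMatrix'_id]

/-- Bases with matching combinatorics intertwine. -/
theorem exists_conj (r : ℕ) (f f' : (i : ℕ) → Matrix (Fin (d (i + 1))) (Fin (d i)) k)
    (h : ∀ i j : ℕ, 1 ≤ i → i ≤ j → j ≤ r → rankArray f i j = rankArray f' i j) :
    ∃ g : (j : ℕ) → Matrix.GeneralLinearGroup (Fin (d j)) k,
      ∀ i : ℕ, 1 ≤ i → i + 1 ≤ r → conj g f i = f' i := by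
  classical
  have hA : ∀ i j, 1 ≤ i → i ≤ j → rk (fun i => Matrix.toLin' (f' i)) r i j =
      rk (fun i => Matrix.toLin' (f i)) r i j := fun i j hi hij => by
    unfold rk
    split_ifs with h'
    · rw [← rankArray_eq f' hij, ← rankArray_eq f hij, h i j hi hij h'.2]
    · rfl
  let L := fun i => Matrix.toLin' (f i)
  let L' := fun i => Matrix.toLin' (f' i)
  have hmult : ∀ i m, 1 ≤ i → i ≤ m → mult (rk L r) i m = mult (rk L' r) i m := by
    intro i m hi him
    rcases Nat.lt_or_ge 1 i with hi1 | hi1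
    · unfold mult
      rw [hA i m hi him, hA i (m + 1) hi (by omega), hA (i - 1) m (by omega) (by omega),
        hA (i - 1) (m + 1) (by omega) (by omega)]
    · obtain rfl : i = 1 := by omega
      unfold mult
      rw [hA 1 m hi him, hA 1 (m + 1) hi (by omega)]
      simp [rk, L]
  -- the index bijection
  let σ : ∀ j, Idx r (rk L r) j j → Idx r (rk L' r) j j := fun j x =>
    ⟨x.1, x.2.1, Fin.cast (hmult _ _ x.birth_mem.1
      (by have := x.birth_mem; have := x.death_mem; omega)) x.2.2⟩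
  let τ : ∀ j, Idx r (rk L' r) j j → Idx r (rk L r) j j := fun j x =>
    ⟨x.1, x.2.1, Fin.cast (hmult _ _ x.birth_mem.1
      (by have := x.birth_mem; have := x.death_mem; omega)).symm x.2.2⟩
  let σe : ∀ j, Idx r (rk L r) j j ≃ Idx r (rk L' r) j j := fun j =>
    ⟨σ j, τ j, fun x => rfl, fun x => rfl⟩
  let G : ∀ j, V k d j ≃ₗ[k] V k d j := fun j =>
    if hj : 1 ≤ j ∧ j ≤ r then (basis L r hj.1 hj.2).equiv (basis L' r hj.1 hj.2) (σe j)
    else LinearEquiv.refl k _
  have hGv : ∀ j, 1 ≤ j → j ≤ r → ∀ x, G j (vec L r j j x) = vec L' r j j (σ j x) := by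
    intro j h1 h2 x
    show G j _ = _
    rw [← basis_apply L r h1 h2, ← basis_apply L' r h1 h2]
    simp only [G, dif_pos (And.intro h1 h2), Module.Basis.equiv_apply]
    rfl
  refine ⟨fun j => toGL (G j), fun i hi hir => ?_⟩
  have key : (G (i + 1)).toLinearMap.comp (L i) = (L' i).comp (G i).toLinearMap := by
    refine (basis L r hi (by omega)).ext fun x => ?_
    rw [basis_apply, LinearMap.comp_apply, LinearMap.comp_apply, LinearEquiv.coe_coe,
      LinearEquiv.coe_coe, hGv i hi (by omega), L_vec L r x (by omega), L_vec L' r _ (by omega)]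
    by_cases hm : i + 1 ≤ x.2.1.1
    · rw [dif_pos hm, dif_pos (show i + 1 ≤ (σ i x).2.1.1 from hm), hGv (i + 1) (by omega) hir]
      rfl
    · rw [dif_neg hm, dif_neg (show ¬ i + 1 ≤ (σ i x).2.1.1 from hm), map_zero]
  show LinearMap.toMatrix' (G (i + 1)).toLinearMap * f i * LinearMap.toMatrix' (G i).symm.toLinearMap = f' i
  rw [← LinearMap.toMatrix'_toLin' (f i), ← LinearMap.toMatrix'_comp, ← LinearMap.toMatrix'_comp]
  rw [show Matrix.toLin' (f i) = L i from rfl, key, LinearMap.comp_assoc, LinearEquiv.comp_symm,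
    LinearMap.comp_id]
  exact LinearMap.toMatrix'_toLin' (f' i)

theorem rankArray_conj (g : (j : ℕ) → Matrix.GeneralLinearGroup (Fin (d j)) k)
    (f : (i : ℕ) → Matrix (Fin (d (i + 1))) (Fin (d i)) k) {i j : ℕ} (hij : i ≤ j) :
    rankArray (conj g f) i j = rankArray f i j := by
  let G : ∀ j, V k d j ≃ₗ[k] V k d j := fun j =>
    LinearEquiv.ofLinearMap (Matrix.toLin' (g j : Matrix (Fin (d j)) (Fin (d j)) k))
      (Matrix.toLin' (((g j)⁻¹ : Matrix.GeneralLinearGroup (Fin (d j)) k) : Matrix (Fin (d j)) (Fin (d j)) k))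
      (by rw [← Matrix.toLin'_mul, ← Units.val_mul, mul_inv_cancel, Units.val_one, Matrix.toLin'_one])
      (by rw [← Matrix.toLin'_mul, ← Units.val_mul, inv_mul_cancel, Units.val_one, Matrix.toLin'_one])
  have hL : ∀ i, Matrix.toLin' (conj g f i) =
      (G (i + 1)).toLinearMap.comp ((Matrix.toLin' (f i)).comp (G i).symm.toLinearMap) := fun i => by
    simp only [conj, Matrix.toLin'_mul, LinearMap.comp_assoc]
    rfl
  have hP : ∀ j, i ≤ j → P (fun i => Matrix.toLin' (conj g f i)) i j =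
      (G j).toLinearMap.comp ((P (fun i => Matrix.toLin' (f i)) i j).comp (G i).symm.toLinearMap) := by
    intro j hj
    induction j, hj using Nat.le_induction with
    | base => rw [P_self, P_self, LinearMap.id_comp, LinearEquiv.comp_symm]
    | succ j hj ih =>
      rw [P_succ _ hj, P_succ _ hj, ih, hL]
      refine LinearMap.ext fun v => ?_
      simp
  rw [rankArray_eq _ hij, rankArray_eq _ hij, hP j hij, LinearMap.range_comp,
    LinearMap.range_comp_of_range_eq_top _ (LinearEquiv.range _)]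
  exact LinearEquiv.finrank_map_eq _ _

theorem exists_chain (r : ℕ) (a : ℕ → ℕ → ℕ) (ha : IsRankArray d r a) :
    ∃ f : (i : ℕ) → Matrix (Fin (d (i + 1))) (Fin (d i)) k,
      ∀ i j : ℕ, 1 ≤ i → i ≤ j → j ≤ r → rankArray f i j = a i j := by
  classical
  let A : ℕ → ℕ → ℕ := fun i j => if 1 ≤ i ∧ j ≤ r then a i j else 0
  obtain ⟨h1, h2, h3, h4⟩ := ha
  have hA : Admissible r A := by
    refine ⟨fun j => by simp [A], fun i => by simp [A], fun i m hi him hm => ?_⟩
    rcases Nat.lt_or_ge m r with hmr | hmr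
    · rcases Nat.lt_or_ge 1 i with hi1 | hi1
      · simp only [A, if_pos (show 1 ≤ i ∧ m + 1 ≤ r by omega), if_pos (show 1 ≤ i ∧ m ≤ r by omega),
          if_pos (show 1 ≤ i - 1 ∧ m ≤ r by omega), if_pos (show 1 ≤ i - 1 ∧ m + 1 ≤ r by omega)]
        exact h4 i m hi1 him hmr
      · simp only [A, if_pos (show 1 ≤ i ∧ m + 1 ≤ r by omega), if_pos (show 1 ≤ i ∧ m ≤ r by omega),
          if_neg (show ¬(1 ≤ i - 1 ∧ m ≤ r) by omega), if_neg (show ¬(1 ≤ i - 1 ∧ m + 1 ≤ r) by omega),
          add_zero]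
        exact h3 i m hi him hmr
    · obtain rfl : m = r := by omega
      rcases Nat.lt_or_ge 1 i with hi1 | hi1
      · simp only [A, if_neg (show ¬(1 ≤ i ∧ m + 1 ≤ m) by omega), if_pos (show 1 ≤ i ∧ m ≤ m by omega),
          if_pos (show 1 ≤ i - 1 ∧ m ≤ m by omega),
          if_neg (show ¬(1 ≤ i - 1 ∧ m + 1 ≤ m) by omega), add_zero, zero_add]
        have := h2 (i - 1) m (by omega) (by omega) le_rfl
        rwa [Nat.sub_add_cancel (by omega)] at this
      · simp [A, if_neg (show ¬(1 ≤ i - 1 ∧ m ≤ m) by omega)]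
  have hcard : ∀ j, 1 ≤ j → j ≤ r → Fintype.card (Idx r A j j) = d j := fun j hj hjr => by
    rw [card_idx hA le_rfl hjr]
    simp only [A, if_pos (And.intro hj hjr)]
    exact h1 j hj hjr
  let B : ∀ j, 1 ≤ j → j ≤ r → Module.Basis (Idx r A j j) k (V k d j) := fun j hj hjr =>
    (Pi.basisFun k (Fin (d j))).reindex (Fintype.equivFinOfCardEq (hcard j hj hjr)).symm
  let L : ∀ i, V k d i →ₗ[k] V k d (i + 1) := fun i =>
    if h : 1 ≤ i ∧ i + 1 ≤ r then (B i h.1 (by omega)).constr k fun x =>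
      if hm : i + 1 ≤ x.2.1.1 then
        B (i + 1) (by omega) h.2 (x.change (by have := x.birth_mem; omega) hm) else 0
    else 0
  refine ⟨fun i => LinearMap.toMatrix' (L i), fun i j hi hij hjr => ?_⟩
  rw [rankArray_eq _ hij]
  have hL : (fun i => Matrix.toLin' (LinearMap.toMatrix' (L i))) = L :=
    funext fun i => Matrix.toLin'_toMatrix' (L i)
  rw [hL]
  have hP : ∀ n, ∀ hn : i ≤ n, ∀ hnr : n ≤ r, ∀ x : Idx r A i i,
      P L i n (B i hi (hij.trans hjr) x) = if hm : n ≤ x.2.1.1 then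
        B n (hi.trans hn) hnr (x.change (by have := x.birth_mem; omega) hm) else 0 := by
    intro n hn
    induction n, hn using Nat.le_induction with
    | base =>
      intro _ x
      rw [P_self, dif_pos x.death_mem.1]
      rfl
    | succ n hn ih =>
      intro hnr x
      rw [P_succ _ hn, LinearMap.comp_apply, ih (by omega) x]
      by_cases hm : n ≤ x.2.1.1
      · rw [dif_pos hm]
        simp only [L, dif_pos (show 1 ≤ n ∧ n + 1 ≤ r by omega), Module.Basis.constr_basis]
        rfl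
      · rw [dif_neg hm, dif_neg (by omega), map_zero]
  let w : Idx r A i j → V k d j := fun y =>
    B j (hi.trans hij) hjr (y.change (by have := y.birth_mem; omega) y.death_mem.1)
  have hrange : LinearMap.range (P L i j) = Submodule.span k (Set.range w) := by
    refine le_antisymm ?_ (Submodule.span_le.2 ?_)
    · rw [← Submodule.map_top (P L i j), ← (B i hi (hij.trans hjr)).span_eq, Submodule.map_span,
        Submodule.span_le]
      rintro _ ⟨_, ⟨x, rfl⟩, rfl⟩
      rw [SetLike.mem_coe, hP j hij hjr x]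
      split_ifs with hm
      · exact Submodule.subset_span ⟨x.change x.birth_mem.2 hm, rfl⟩
      · exact Submodule.zero_mem _
    · rintro _ ⟨y, rfl⟩
      refine ⟨B i hi (hij.trans hjr) (y.change y.birth_mem.2 (by have := y.death_mem; omega)), ?_⟩
      rw [hP j hij hjr]
      exact (dif_pos y.death_mem.1).trans rfl
  have hw : LinearIndependent k w := by
    refine (B j (hi.trans hij) hjr).linearIndependent.comp _ ?_
    rintro ⟨⟨a, ha⟩, ⟨b, hb⟩, l⟩ ⟨⟨a', ha'⟩, ⟨b', hb'⟩, l'⟩ e
    simp only [Idx.change, Sigma.mk.injEq, Subtype.mk.injEq] at e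
    obtain ⟨rfl, e⟩ := e
    simp only [heq_eq_eq, Sigma.mk.injEq, Subtype.mk.injEq] at e
    obtain ⟨rfl, rfl⟩ := e
    rfl
  rw [hrange, finrank_span_eq_card hw, card_idx hA hij hjr]
  simp only [A, if_pos (And.intro hi hjr)]

end Groth.Agent.GalCohAux.Chain
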