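import Groth.Agent.GalCohAux.EtGm
import Mathlib.RingTheory.Polynomial.Cyclotomic.Roots

/-!
The `p`-primary part of `H²(K, G_m)`, norms, and `μ_p`.
-/

set_option autoImplicit false
set_option backward.isDefEq.respectTransparency false

universe u

open CategoryTheory CategoryTheory.Limits AlgebraicGeometry Opposite

noncomputable section

namespace Groth.Agent.GalCohAux.EtBrauer

open EtaleSite EtTrace EtFin

variable {p : ℕ} [Fact p.Prime]

/-- Norms are surjective for cyclic extensions of degree `p` of all finite separable extensions. -/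
def NormOK (K : Type u) [Field K] (p : ℕ) : Prop :=
  ∀ (K' : Type u) [Field K'] [Algebra K K'] [FiniteDimensional K K'] [Algebra.IsSeparable K K']
    (L : Type u) [Field L] [Algebra K' L] [FiniteDimensional K' L] [IsGalois K' L],
    Module.finrank K' L = p → ∀ x : K', x ≠ 0 → ∃ y : L, Algebra.norm K' y = x

omit [Fact p.Prime] in
theorem NormOK.ext {K : Type u} [Field K] (h : NormOK K p) (M : Type u) [Field M] [Algebra K M]
    [FiniteDimensional K M] [Algebra.IsSeparable K M] : NormOK M p := by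
  intro K' _ _ _ _ L _ _ _ _ hdeg
  letI : Algebra K K' := ((algebraMap M K').comp (algebraMap K M)).toAlgebra
  haveI : IsScalarTower K M K' := .of_algebraMap_eq' rfl
  haveI : FiniteDimensional K K' := FiniteDimensional.trans K M K'
  haveI : Algebra.IsSeparable K K' := Algebra.IsSeparable.trans K M K'
  exact h K' L hdeg

/-- A pullback to an étale cover of a class with values in `G_m`, with coefficients identified. -/
def resGm {X Y : Scheme.{u}} (f : Y ⟶ X) [Etale f] (n : ℕ) :
    EtCoh.H X (EtCoh.Gm X) n →+ EtCoh.H Y (EtCoh.Gm Y) n :=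
  ((EtCoh.HF Y n).map (EtGm.pullGmIso f).hom).hom.comp (EtCore.Hpull f (EtCoh.Gm X) n)

theorem resGm_eq_zero_iff {X Y : Scheme.{u}} (f : Y ⟶ X) [Etale f] (n : ℕ) (x : EtCoh.H X (EtCoh.Gm X) n) :
    resGm f n x = 0 ↔ EtCore.Hpull f (EtCoh.Gm X) n x = 0 := by
  refine ⟨fun h => (HpullComp.HF_map_bijective (n := n) (EtGm.pullGmIso f).hom).1 ?_, fun h => ?_⟩
  · exact h.trans (Abelian.Ext.zero_comp _ _ _ _ _).symm
  · show (EtCoh.HF Y n).map _ (EtCore.Hpull f _ n x) = 0
    rw [h, map_zero]

theorem tower : ∀ (e : ℕ) (K : Type u) [Field K], NormOK K p →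
    ∀ (N : Type u) [Field N] [Algebra K N] [FiniteDimensional K N] [IsGalois K N], Module.finrank K N = p ^ e →
    ∀ x : EtCoh.H (Spec (CommRingCat.of K)) (EtCoh.Gm _) 2, EtCore.Hpull (fld K N).hom _ 2 x = 0 → x = 0 := by
  intro e
  induction e with
  | zero =>
    intro K _ _ N _ _ _ _ hdeg x hx
    have h := EtTower.finrank_nsmul N hx
    rwa [hdeg, pow_zero, one_nsmul] at h
  | succ e ih =>
    intro K _ hn N _ _ _ _ hdeg x hx
    have hp : p.Prime := Fact.out
    have hcard : Nat.card (N ≃ₐ[K] N) = p ^ (e + 1) := (IsGalois.card_aut_eq_finrank K N).trans hdeg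
    obtain ⟨H, hH⟩ := Sylow.exists_subgroup_card_pow_prime (G := N ≃ₐ[K] N) p
      (hcard ▸ pow_dvd_pow p (Nat.le_succ e))
    have hidx : H.index = p := by
      have h1 := H.card_mul_index
      rw [hH, hcard, pow_succ] at h1
      exact Nat.eq_of_mul_eq_mul_left (pow_pos hp.pos e) h1
    haveI : H.Normal := Subgroup.normal_of_index_eq_minFac_card (by
      rw [hidx, hcard, Nat.Prime.pow_minFac hp e.succ_ne_zero])
    let L : IntermediateField K N := IntermediateField.fixedField H
    haveI : IsGalois K L := IsGalois.of_fixedField_normal_subgroup H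
    haveI : Algebra.IsSeparable K L := Algebra.isSeparable_tower_bot_of_isSeparable K L N
    haveI : Algebra.IsSeparable L N := Algebra.isSeparable_tower_top_of_isSeparable K L N
    have hLN : Module.finrank L N = p ^ e := (IntermediateField.finrank_fixedField_eq_card H).trans hH
    have hKL : Module.finrank K L = p := by
      have h1 := Module.finrank_mul_finrank K L N
      rw [hLN, hdeg, pow_succ'] at h1
      exact Nat.eq_of_mul_eq_mul_right (pow_pos hp.pos e) h1
    let f : Spec (CommRingCat.of L) ⟶ Spec (CommRingCat.of K) := (fld K L).hom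
    haveI : Etale f := (fld K L).prop
    have h0 : resGm f 2 x = 0 := by
      refine ih L (hn.ext L) N hLN _ ?_
      let g : Spec (CommRingCat.of N) ⟶ Spec (CommRingCat.of L) := (fld L N).hom
      haveI : Etale g := (fld L N).prop
      have hx' := (EtTower.Hpull_eq_zero_iff g f (Spec.map (CommRingCat.ofHom (algebraMap K N))) (by
        show Spec.map _ = Spec.map _ ≫ Spec.map _
        rw [← Spec.map_comp]
        rfl) 2 (EtCoh.Gm _) x).1 hx
      show EtCore.Hpull g _ 2 ((EtCore.Hpull f _ 2 x).comp (Abelian.Ext.mk₀ (EtGm.pullGmIso f).hom) (add_zero 2)) = 0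
      rw [HpullSeq.Hpull_postcomp, hx']
      exact Abelian.Ext.zero_comp _ _ _ _ _
    exact EtGm.eq_zero_of_norm_surjective (p := p) hKL (hn K L hKL) x ((resGm_eq_zero_iff f 2 x).1 h0)

/-- The norm condition kills the `p`-primary part of `H²(G_m)`. -/
theorem brauer_eq_zero {K : Type u} [Field K] (hn : NormOK K p) (x : EtCoh.H (Spec (CommRingCat.of K)) (EtCoh.Gm _) 2)
    (m : ℕ) (hx : p ^ m • x = 0) : x = 0 := by
  have hp : p.Prime := Fact.out
  obtain ⟨L, i1, i2, i3, i4, h⟩ := EtTower.exists_Hpull_eq_zero two_pos _ x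
  obtain ⟨N, j1, j2, j3, j4, hN⟩ := EtTower.exists_galois _ x L h
  let P : Sylow p (N ≃ₐ[K] N) := default
  let P' : Subgroup (N ≃ₐ[K] N) := P
  let M : IntermediateField K N := IntermediateField.fixedField P'
  haveI : Algebra.IsSeparable K M := Algebra.isSeparable_tower_bot_of_isSeparable K M N
  haveI : Algebra.IsSeparable M N := Algebra.isSeparable_tower_top_of_isSeparable K M N
  haveI : IsGalois M N := IsGalois.tower_top_of_isGalois K M N
  obtain ⟨e, he⟩ := IsPGroup.iff_card.1 P.2
  have hMN : Module.finrank M N = p ^ e := (IntermediateField.finrank_fixedField_eq_card P').trans he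
  have hdeg : ¬ p ∣ Module.finrank K M := by
    have h1 := Module.finrank_mul_finrank K M N
    rw [hMN, ← IsGalois.card_aut_eq_finrank K N, Subgroup.card_eq_card_quotient_mul_card_subgroup P', he] at h1
    rw [Nat.eq_of_mul_eq_mul_right (pow_pos hp.pos e) h1]
    exact P.not_dvd_index
  let f : Spec (CommRingCat.of M) ⟶ Spec (CommRingCat.of K) := (fld K M).hom
  haveI : Etale f := (fld K M).prop
  have h0 : resGm f 2 x = 0 := by
    refine tower e M (hn.ext M) N hMN _ ?_
    let g : Spec (CommRingCat.of N) ⟶ Spec (CommRingCat.of M) := (fld M N).hom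
    haveI : Etale g := (fld M N).prop
    have hx' := (EtTower.Hpull_eq_zero_iff g f (Spec.map (CommRingCat.ofHom (algebraMap K N))) (by
      show Spec.map _ = Spec.map _ ≫ Spec.map _
      rw [← Spec.map_comp]
      rfl) 2 (EtCoh.Gm _) x).1 hN
    show EtCore.Hpull g _ 2 ((EtCore.Hpull f _ 2 x).comp (Abelian.Ext.mk₀ (EtGm.pullGmIso f).hom) (add_zero 2)) = 0
    rw [HpullSeq.Hpull_postcomp, hx']
    exact Abelian.Ext.zero_comp _ _ _ _ _
  have h1 := addOrderOf_dvd_iff_nsmul_eq_zero.2 (EtTower.finrank_nsmul M ((resGm_eq_zero_iff f 2 x).1 h0))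
  have h2 := addOrderOf_dvd_iff_nsmul_eq_zero.2 hx
  exact AddMonoid.addOrderOf_eq_one_iff.1
    (Nat.eq_one_of_dvd_coprimes ((hp.coprime_iff_not_dvd.2 hdeg).pow_left m) h2 h1)

/-- When `M` has a primitive `p`-th root of unity, `μ_p` is the constant sheaf `ℤ/p`. -/
theorem nonempty_mu_iso (M : Type u) [Field M] {ζ : M} (hζ : IsPrimitiveRoot ζ p) :
    Nonempty (EtCoh.const (Spec (CommRingCat.of M)) (ZMod p) ≅ EtCoh.mu (Spec (CommRingCat.of M)) p) := by
  let X := Spec (CommRingCat.of M)
  let T := EtCoh.top X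
  let A := EtCoh.powMap X p
  have hp : p.Prime := Fact.out
  let e : Γ(T.left, ⊤) ≃+* M := (Scheme.ΓSpecIso (CommRingCat.of M)).commRingCatIsoToRingEquiv
  let uζ : (Γ(T.left, ⊤))ˣ := Units.map (e.symm : M →* Γ(T.left, ⊤)) (hζ.isUnit hp.ne_zero).unit
  let z : EtCoh.sect (EtCoh.Gm X) T := (⟨Additive.ofMul uζ⟩ : ULift.{u + 1} (Additive (Γ(T.left, ⊤))ˣ))
  have hz : A.hom.app (op T) z = 0 := by
    refine (EtNsmul.nsmul_id_app (EtCoh.Gm X) p T z).trans ?_
    show p • (⟨Additive.ofMul uζ⟩ : ULift.{u + 1} (Additive (Γ(T.left, ⊤))ˣ)) = 0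
    refine ULift.ext _ _ ?_
    show Additive.ofMul (uζ ^ p) = Additive.ofMul 1
    congr 1
    show Units.map _ _ ^ p = 1
    rw [← map_pow, show (hζ.isUnit hp.ne_zero).unit ^ p = 1 from Units.ext hζ.pow_eq_one, map_one]
  obtain ⟨v, hv⟩ : ∃ v, (kernel.ι A).hom.app (op T) v = z := by
    obtain ⟨φ, hφ⟩ := (Flasque.freeSec_bijective T (EtCoh.Gm X)).2 z
    have hφ0 : φ ≫ A = 0 := (Flasque.freeSec_bijective T _).1 (by
      rw [Flasque.freeSec_comp, hφ, hz, EtDev.freeSec_zero])
    exact ⟨Flasque.freeSec T _ (kernel.lift A φ hφ0),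
      ((Flasque.freeSec_comp T _ _).symm.trans (congrArg _ (kernel.lift_ι _ _ hφ0))).trans hφ⟩
  have hinj : ∀ W, Function.Injective ((kernel.ι A).hom.app W) := fun W =>
    injective_app_of_stalk (kernel.ι A) ((mono_iff_stalk _).1 inferInstance) W
  have hv0 : v ≠ 0 := fun h => by
    rw [h, map_zero] at hv
    have h1 : uζ = 1 := (congrArg (fun q : ULift.{u + 1} (Additive (Γ(T.left, ⊤))ˣ) => q.down.toMul) hv).symm
    have h2 : ζ = 1 := by
      have := congrArg (fun q : (Γ(T.left, ⊤))ˣ => e q) h1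
      simpa [uζ] using this
    exact hζ.ne_one hp.one_lt h2
  have hpv : p • v = 0 := hinj (op T) (by
    rw [map_nsmul, hv, map_zero, ← hz]
    exact (EtNsmul.nsmul_id_app (EtCoh.Gm X) p T z).symm)
  obtain ⟨χ, hχ, -, hχ1⟩ := EtDev.exists_mono_const (kernel A) v hv0 hpv
  haveI := hχ
  haveI : Epi χ := by
    refine epi_of_stalk χ fun Ω _ _ ξ => ?_
    suffices h : Function.Surjective ((EtCoh.stalk (pt M)).map χ) by
      haveI : IsIso ((EtCoh.stalk (pt M)).map χ) := (ConcreteCategory.isIso_iff_bijective _).2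
        ⟨(mono_iff_stalk χ).1 hχ _ _, h⟩
      obtain ⟨i⟩ := nonempty_stalkFun_iso ξ
      haveI := (NatIso.isIso_map_iff i χ).2 ‹_›
      exact (ConcreteCategory.bijective_of_isIso ((EtCoh.stalk ξ).map χ)).2
    intro q
    obtain ⟨U, x, t, rfl⟩ := exists_germ_eq (pt M) _ q
    obtain ⟨N, hN, hN', zN, g, hzN⟩ := EtDev.exists_galois_nbhd U x
    let t' := (kernel A).obj.map g.op t
    let W := fld M N
    let a : (Γ(W.left, ⊤))ˣ := (show ULift.{u + 1} (Additive (Γ(W.left, ⊤))ˣ) from (kernel.ι A).hom.app (op W) t').down.toMul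
    have ha : a ^ p = 1 := by
      have h1 : A.hom.app (op W) ((kernel.ι A).hom.app (op W) t') = 0 :=
        congrArg (fun k : kernel A ⟶ EtCoh.Gm X => k.hom.app (op W) t') (kernel.condition A)
      have h2 := (EtNsmul.nsmul_id_app (EtCoh.Gm X) p W _).symm.trans h1
      exact congrArg (fun q : ULift.{u + 1} (Additive (Γ(W.left, ⊤))ˣ) => q.down.toMul) h2
    let eN : Γ(W.left, ⊤) ≃+* N := (Scheme.ΓSpecIso (CommRingCat.of N)).commRingCatIsoToRingEquiv
    let w := (EtCore.topIsTerminal X).from W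
    have hw : ∀ r : M, eN (w.left.appTop.hom (e.symm r)) = algebraMap M N r := fun r => by
      have hwl : w.left = Spec.map (CommRingCat.ofHom (algebraMap M N)) :=
        (Category.comp_id w.left).symm.trans (MorphismProperty.Over.w w)
      show eN ((w.left.appTop).hom (e.symm r)) = _
      have h3 := ConcreteCategory.congr_hom (Scheme.ΓSpecIso_naturality (CommRingCat.ofHom (algebraMap M N)))
        (e.symm r)
      rw [hwl]
      exact h3.trans (congrArg (algebraMap M N) (e.apply_symm_apply r))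
    have hζN : IsPrimitiveRoot (algebraMap M N ζ) p := hζ.map_of_injective (algebraMap M N).injective
    obtain ⟨i, -, hi⟩ := hζN.eq_pow_of_pow_eq_one (ξ := eN a) (by rw [← map_pow, ← Units.val_pow_eq_pow_val, ha, Units.val_one, map_one])
    have ht : t' = i • (kernel A).obj.map w.op v := by
      refine hinj (op W) ?_
      rw [map_nsmul, NatTrans.naturality_apply (kernel.ι A).hom w.op v, hv]
      refine ULift.ext _ _ (Additive.toMul.injective (Units.ext ?_))
      show (a : Γ(W.left, ⊤)) = ((Units.map (w.left.appTop.hom : _ →* Γ(W.left, ⊤)) uζ) ^ i : (Γ(W.left, ⊤))ˣ)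
      apply eN.injective
      rw [Units.val_pow_eq_pow_val, map_pow, ← hi]
      show _ = eN (w.left.appTop.hom (e.symm ζ)) ^ i
      rw [hw]
    let C := EtCoh.const X (ZMod p)
    refine ⟨germ (pt M) C W zN (i • C.obj.map w.op (ConstSections.cst T
      (M := AddCommGrpCat.of (ULift.{u + 1} (ZMod p))) (ULift.up (1 : ZMod p)))), ?_⟩
    refine (germ_naturality (pt M) χ W zN _).trans ?_
    rw [map_nsmul, NatTrans.naturality_apply, hχ1, ← ht, germ_res, hzN]
  haveI : IsIso χ := isIso_of_mono_of_epi χ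
  exact ⟨asIso χ⟩

end Groth.Agent.GalCohAux.EtBrauer
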