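import Groth.Agent.CSA.CyclicPresent
import Groth.Agent.GalCohAux.EtBrauer

/-!
Trivial Brauer groups of all finite extensions give surjective cyclic norms.
-/

set_option autoImplicit false

universe u



namespace Groth.Agent.GalCohAux.EtBrTriv

open CSA

theorem normOK {K : Type u} [Field K]
    (hBr : ∀ (K' : Type u) [Field K'] [Algebra K K'] [FiniteDimensional K K']
      (D : Type u) [DivisionRing D] [Algebra K' D] [Algebra.IsCentral K' D] [FiniteDimensional K' D],
      Module.finrank K' D = 1)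
    (p : ℕ) [Fact p.Prime] : EtBrauer.NormOK K p := by
  intro K' _ _ _ _ L _ _ _ _ hdeg x hx
  haveI : IsCyclic (L ≃ₐ[K'] L) :=
    isCyclic_of_prime_card (p := p) ((IsGalois.card_aut_eq_finrank K' L).trans hdeg)
  obtain ⟨σ, hσ⟩ := IsCyclic.exists_generator (α := L ≃ₐ[K'] L)
  have hA := isCyclicAlg_cycModel hσ (Units.mk0 x hx)
  have hcsa := (isCSA_of_isCyclicAlg hA hσ).1
  refine (brEq_self_iff_norm hA hσ).1 ((ind_eq_one_iff hcsa).1 ?_)
  obtain ⟨n, hn, D, _, _, h1, h2, hd, -⟩ := exists_divisionPart hcsa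
  rw [hBr K' D] at hd
  exact (Nat.pow_left_injective two_ne_zero (hd.symm.trans (one_pow 2).symm))

end Groth.Agent.GalCohAux.EtBrTriv
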