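import Groth.Agent.GalCohAux.TsenNorm
import Groth.Agent.GalCohAux.EtCdOne
import Mathlib.FieldTheory.SeparableClosure
import Mathlib.FieldTheory.PurelyInseparable.PerfectClosure
import Mathlib.RingTheory.AlgebraicIndependent.TranscendenceBasis

/-!
Fields of transcendence degree one over a separably closed field: norms and `cd ≤ 1`.
-/

set_option autoImplicit false

universe u

noncomputable section

open AlgebraicGeometry

namespace Groth.Agent.GalCohAux.EtCdTrAlg

open MvPolynomial

/-- If a purely inseparable extension is C₁, norms hit every element up to a power of the exponential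
characteristic. -/
theorem exists_norm_pow {K' P : Type u} [Field K'] [Field P] [Algebra K' P] [IsPurelyInseparable K' P]
    (hP : Curves.IsCi P 1) {L : Type u} [Field L] [Algebra K' L] [FiniteDimensional K' L]
    [Algebra.IsSeparable K' L] (q : ℕ) [ExpChar K' q] (x : K') (hx : x ≠ 0) :
    ∃ (e : ℕ) (y : L), Algebra.norm K' y = x ^ (q ^ e) := by
  classical
  haveI : ExpChar P q := expChar_of_injective_ringHom (algebraMap K' P).injective q
  haveI : ExpChar L q := expChar_of_injective_ringHom (algebraMap K' L).injective q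
  set n := Module.finrank K' L
  have hn : 0 < n := Module.finrank_pos
  let b := Module.finBasis K' L
  let g : MvPolynomial (Option (Fin n)) K' :=
    rename some (CiFields.genMat b).det - C x * X none ^ n
  have h0 : ((CiFields.genMat b).det).IsHomogeneous n := by
    have := CiFields.det_isHomogeneous (CiFields.genMat b) 1 fun i j => by
      simp only [CiFields.genMat, Matrix.of_apply]
      exact IsHomogeneous.sum _ _ _ fun l _ => (isHomogeneous_X K' l).C_mul _
    simpa using this
  have hg : g.IsHomogeneous n :=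
    h0.rename_isHomogeneous.sub ((isHomogeneous_X_pow (R := K') none n).C_mul x)
  obtain ⟨v, hv, hz⟩ := CiFields.isCr_exists (CiFields.isCr_of_isCi hP) (map (algebraMap K' P) g) n
    (hg.map _) hn (by simp)
  have hpow : ∀ o, ∃ e : ℕ, ∀ e' ≥ e, v o ^ (q ^ e') ∈ (algebraMap K' P).range := fun o => by
    obtain ⟨e, he⟩ := IsPurelyInseparable.pow_mem K' q (v o)
    refine ⟨e, fun e' h => ?_⟩
    obtain ⟨d, rfl⟩ := Nat.exists_eq_add_of_le h
    rw [pow_add, pow_mul]
    exact pow_mem he _
  choose e he using hpow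
  let E := Finset.univ.sup e
  have hw : ∀ o, ∃ w : K', algebraMap K' P w = v o ^ (q ^ E) := fun o =>
    he o E (Finset.le_sup (Finset.mem_univ o))
  choose w hw using hw
  let φ : K' →+* K' := iterateFrobenius K' q E
  have hφ : ∀ a, φ a = a ^ (q ^ E) := fun a => iterateFrobenius_def q E a
  let b' : Module.Basis (Fin n) K' L := basisOfLinearIndependentOfCardEqFinrank'
    (fun i => b i ^ (q ^ E))
    (b.linearIndependent.map_pow_expChar_pow_of_isSeparable q E)
    (by simp [n])
  have hb' : ∀ i, b' i = b i ^ (q ^ E) := fun i => by simp [b', coe_basisOfLinearIndependentOfCardEqFinrank']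
  have hrepr : ∀ i j l, b'.repr (b' l * b' j) i = φ (b.repr (b l * b j) i) := fun i j l => by
    have h1 : b' l * b' j = ∑ k, φ (b.repr (b l * b j) k) • b' k := by
      conv_lhs => rw [hb', hb', ← mul_pow, ← b.sum_repr (b l * b j)]
      rw [sum_pow_char_pow]
      exact Finset.sum_congr rfl fun k _ => by rw [smul_pow, hφ, hb']
    rw [h1, Module.Basis.repr_sum_self]
  have hev : eval w (map φ g) = 0 := by
    apply (algebraMap K' P).injective
    rw [map_zero, eval_map, eval₂_comp_left (algebraMap K' P)]
    have h2 : (algebraMap K' P).comp φ = (iterateFrobenius P q E).comp (algebraMap K' P) := by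
      ext a
      simp [hφ, iterateFrobenius_def]
    have h3 : (algebraMap K' P) ∘ w = (iterateFrobenius P q E) ∘ v := funext fun o => by
      simp [hw, iterateFrobenius_def]
    rw [h2, h3, ← eval₂_comp_left (iterateFrobenius P q E), ← eval_map, hz, map_zero]
  have hgen : (map φ (CiFields.genMat b).det) = (CiFields.genMat b').det := by
    rw [RingHom.map_det]
    congr 1
    ext1 i j
    simp [CiFields.genMat, RingHom.mapMatrix_apply, map_sum, hrepr]
    rfl
  simp only [g, map_sub, map_mul, map_pow, map_C, map_X, eval_C, eval_X, map_rename, hgen, eval_rename,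
    sub_eq_zero, hφ] at hev
  have hN : eval (w ∘ some) (CiFields.genMat b').det = Algebra.norm K' (∑ l, w (some l) • b' l) := by
    rw [RingHom.map_det, CiFields.genMat_eval, LinearMap.det_toMatrix, Algebra.norm_apply]
    rfl
  rcases eq_or_ne (w none) 0 with h | h
  · rw [h, zero_pow hn.ne', mul_zero] at hev
    refine absurd hev (CiFields.genMat_det_eval_ne_zero b' fun e => hv (funext fun o => ?_))
    refine (pow_eq_zero_iff (expChar_pow_pos K' q E).ne').1 ?_
    rw [← hw o, map_eq_zero]
    cases o with
    | none => exact h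
    | some l => exact congrFun e l
  · refine ⟨E, (w none)⁻¹ • ∑ l, w (some l) • b' l, ?_⟩
    rw [Algebra.smul_def, map_mul, Algebra.norm_algebraMap, ← hN, hev, inv_pow]
    field_simp
    ring

theorem coprime_of_expChar {K : Type*} [Field K] (q : ℕ) [h : ExpChar K q] {ℓ : ℕ} (hℓ : ℓ.Prime)
    (hne : (ℓ : K) ≠ 0) : Nat.Coprime q ℓ := by
  cases h with
  | zero => exact Nat.coprime_one_left ℓ
  | prime hp => exact (Nat.coprime_primes hp hℓ).2 fun e => hne (by rw [← e, CharP.cast_eq_zero K _])

/-- A C₁ purely inseparable extension gives surjective norms in degrees prime to the exponential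
characteristic. -/
theorem exists_norm {K' P : Type u} [Field K'] [Field P] [Algebra K' P] [IsPurelyInseparable K' P]
    (hP : Curves.IsCi P 1) {L : Type u} [Field L] [Algebra K' L] [FiniteDimensional K' L]
    [Algebra.IsSeparable K' L] {ℓ : ℕ} (hℓ : ℓ.Prime) (hdeg : Module.finrank K' L = ℓ) (hne : (ℓ : K') ≠ 0)
    (x : K') (hx : x ≠ 0) : ∃ y : L, Algebra.norm K' y = x := by
  let q := ringExpChar K'
  obtain ⟨e, y, hy⟩ := exists_norm_pow (P := P) hP (L := L) q x hx
  have hco : Nat.Coprime (q ^ e) ℓ := by
    refine Nat.Coprime.pow_left e ?_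
    exact coprime_of_expChar q hℓ hne
  obtain ⟨a, b, hab⟩ : ∃ a b : ℤ, (q ^ e : ℕ) * a + (ℓ : ℤ) * b = 1 :=
    ⟨Nat.gcdA (q ^ e) ℓ, Nat.gcdB (q ^ e) ℓ, by rw [← Nat.gcd_eq_gcd_ab, hco.gcd_eq_one]; rfl⟩
  refine ⟨y ^ a * algebraMap K' L x ^ b, ?_⟩
  have hN : ∀ (z : L) (c : ℤ), Algebra.norm K' (z ^ c) = Algebra.norm K' z ^ c := fun z c => by
    have hinv : ∀ z : L, Algebra.norm K' z⁻¹ = (Algebra.norm K' z)⁻¹ := fun z => Algebra.norm_inv z
    obtain ⟨m, rfl | rfl⟩ := c.eq_nat_or_neg
    · rw [zpow_natCast, zpow_natCast, map_pow]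
    · rw [zpow_neg, zpow_neg, zpow_natCast, zpow_natCast, hinv, map_pow]
  rw [map_mul, hN, hN, hy, Algebra.norm_algebraMap, hdeg, ← zpow_natCast, ← zpow_natCast,
    ← zpow_mul, ← zpow_mul, ← zpow_add₀ hx, hab, zpow_one]

theorem isPurelyInseparable_of_isSepClosed {R : Type u} [Field R] [IsSepClosed R] {Ω : Type u} [Field Ω]
    [Algebra R Ω] (z : Ω) (hz : IsAlgebraic R z) (q : ℕ) [ExpChar R q] :
    ∃ e, z ^ (q ^ e) ∈ (algebraMap R Ω).range := by
  let F := algebraicClosure R Ω
  haveI : IsPurelyInseparable R F := inferInstance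
  obtain ⟨e, a, ha⟩ := IsPurelyInseparable.pow_mem R q (⟨z, mem_algebraicClosure_iff.2 hz⟩ : F)
  exact ⟨e, a, congrArg (Subtype.val) ha⟩

/-- The perfect closure of a field of transcendence degree one over a separably closed field is C₁. -/
theorem isCi_perfectClosure {R K' : Type u} [Field R] [IsSepClosed R] [Field K'] [Algebra R K']
    (htr : Algebra.trdeg R K' = 1) : Curves.IsCi (perfectClosure K' (AlgebraicClosure K')) 1 := by
  let Ω := AlgebraicClosure K'
  let P := perfectClosure K' Ω
  let q := ringExpChar R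
  haveI : ExpChar K' q := expChar_of_injective_ringHom (algebraMap R K').injective q
  let B := algebraicClosure R Ω
  haveI : IsAlgClosed B := IsAlgClosure.isAlgClosed R
  have hmem : ∀ b : B, (b : Ω) ∈ P := fun b => by
    obtain ⟨e, a, ha⟩ := isPurelyInseparable_of_isSepClosed (R := R) (b : Ω) (mem_algebraicClosure_iff.1 b.2) q
    exact (mem_perfectClosure_iff_pow_mem q).2 ⟨e, algebraMap R K' a, by
      rw [← IsScalarTower.algebraMap_apply, ha]⟩
  let χ : B →+* P := RingHom.codRestrict (B.val : B →+* Ω) P.toSubring hmem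
  letI : Algebra B P := χ.toAlgebra
  haveI : IsScalarTower R B P := .of_algebraMap_eq fun r => Subtype.ext rfl
  haveI : Algebra.IsAlgebraic R B := inferInstance
  have h1 : Algebra.trdeg R P = 1 := by
    have h := trdeg_add_eq R K' (A := P)
    rw [htr, trdeg_eq_zero (R := K') (A := P), add_zero] at h
    exact h.symm
  haveI : FaithfulSMul B P := (faithfulSMul_iff_algebraMap_injective B P).2 χ.injective
  have h2 : Algebra.trdeg B P = ((1 : ℕ) : Cardinal) := by
    have h := trdeg_add_eq R B (A := P)
    rw [h1, trdeg_eq_zero (R := R) (A := B), zero_add] at h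
    simpa using h
  exact CiFields.tsen_lang 1 h2

theorem trdeg_one_of_finite {R L : Type u} [Field R] [Field L] [Algebra R L] (h : Algebra.trdeg R L = 1)
    (M : Type u) [Field M] [Algebra L M] [Algebra R M] [IsScalarTower R L M] [Algebra.IsAlgebraic L M] :
    Algebra.trdeg R M = 1 := by
  have h' := trdeg_add_eq R L (A := M)
  rw [h, trdeg_eq_zero (R := L) (A := M), add_zero] at h'
  exact h'.symm

/-- Cyclic norms are surjective in trdeg one over a separably closed field, away from the characteristic. -/
theorem normOK {R L : Type u} [Field R] [IsSepClosed R] [Field L] [Algebra R L]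
    (h : Algebra.trdeg R L = 1) {ℓ : ℕ} (hℓ : ℓ.Prime) (hne : (ℓ : L) ≠ 0) : EtBrauer.NormOK L ℓ := by
  intro K' _ _ _ _ M _ _ _ _ hdeg x hx
  letI : Algebra R K' := ((algebraMap L K').comp (algebraMap R L)).toAlgebra
  haveI : IsScalarTower R L K' := .of_algebraMap_eq' rfl
  refine exists_norm (isCi_perfectClosure (R := R) (trdeg_one_of_finite h K')) hℓ hdeg ?_ x hx
  rw [← map_natCast (algebraMap L K')]
  exact (map_ne_zero _).2 hne

/-- `cd ≤ 1` in transcendence degree one over a separably closed field. -/
theorem cd_one {R L : Type u} [Field R] [IsSepClosed R] [Field L] [Algebra R L]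
    (h : Algebra.trdeg R L = 1) (p : ℕ) [Fact p.Prime]
    (F : EtCoh.Ab (Spec (CommRingCat.of L))) (hF : EtCoh.IsTorsion F) (q : ℕ) (hq : 1 < q)
    (x : EtCoh.H (Spec (CommRingCat.of L)) F q) (hx : ∃ m : ℕ, p ^ m • x = 0) : x = 0 := by
  refine EtDev.cohDim_le (n := 1) (fun M _ _ _ _ _ => ?_) F hF q hq x hx
  by_cases hp : (p : M) = 0
  · haveI : CharP M p := (CharP.charP_iff_prime_eq_zero (Fact.out : p.Prime)).2 hp
    exact EtAS.subsingleton_H_two M p
  · have hn : EtBrauer.NormOK L p := normOK h (Fact.out : p.Prime) fun e => hp (by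
      rw [← map_natCast (algebraMap L M), e, map_zero])
    exact S7732.subsingleton_zmod p hp fun M' _ _ _ _ y hy =>
      EtBrauer.brauer_eq_zero ((hn.ext M).ext M') y 1 (by rw [pow_one]; exact hy)

end Groth.Agent.GalCohAux.EtCdTrAlg
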