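import Mathlib.FieldTheory.RatFunc.Basic
import Mathlib.RingTheory.AlgebraicIndependent.TranscendenceBasis
import Mathlib.RingTheory.Localization.Module
import Mathlib.RingTheory.TensorProduct.Free
import Mathlib.RingTheory.IntegralClosure.IntegrallyClosed
import Mathlib.RingTheory.IntegralClosure.Algebra.Basic

/-!
Base change of a rational function field along an algebraic extension of the constants.
-/

set_option autoImplicit false

universe u

noncomputable section

open scoped TensorProduct
open Polynomial

namespace Groth.Agent.GalCohAux.EtCdTrTensor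

variable (K R : Type u) [Field K] [Field R] [Algebra K R]

/-- `K(X) → R(X)`. -/
def mapRF : RatFunc K →+* RatFunc R :=
  IsFractionRing.lift (A := K[X]) (g := (algebraMap R[X] (RatFunc R)).comp (Polynomial.mapRingHom (algebraMap K R)))
    ((RatFunc.algebraMap_injective R).comp (Polynomial.map_injective _ (algebraMap K R).injective))

theorem mapRF_algebraMap (p : K[X]) :
    mapRF K R (algebraMap K[X] (RatFunc K) p) = algebraMap R[X] (RatFunc R) (p.map (algebraMap K R)) :=
  IsFractionRing.lift_algebraMap _ p

theorem linearIndependent_rf {ι : Type u} (b : Module.Basis ι K R) :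
    letI := (mapRF K R).toAlgebra
    LinearIndependent (RatFunc K) (fun i => algebraMap R (RatFunc R) (b i)) := by
  letI := (mapRF K R).toAlgebra
  letI : Module K[X] (RatFunc R) := Module.compHom _ (algebraMap K[X] (RatFunc K))
  haveI : IsScalarTower K[X] (RatFunc K) (RatFunc R) := ⟨fun p a c => by
    show (p • a) • c = algebraMap K[X] (RatFunc K) p • (a • c)
    rw [Algebra.smul_def p a, mul_smul]⟩
  refine LinearIndependent.localization (R := K[X]) (RatFunc K) (nonZeroDivisors K[X]) ?_
  rw [linearIndependent_iff']
  intro s g hg i hi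
  have h1 : ∑ j ∈ s, (g j).map (algebraMap K R) * C (b j) = 0 := by
    apply RatFunc.algebraMap_injective R
    rw [map_zero, ← hg, map_sum]
    refine Finset.sum_congr rfl fun j _ => ?_
    show _ = mapRF K R (algebraMap K[X] (RatFunc K) (g j)) * algebraMap R (RatFunc R) (b j)
    rw [map_mul, mapRF_algebraMap, IsScalarTower.algebraMap_apply R R[X] (RatFunc R)]
    rfl
  ext n
  have h2 := congrArg (fun p : R[X] => p.coeff n) h1
  simp only [finsetSum_coeff, coeff_mul_C, coeff_map, coeff_zero] at h2
  have h3 := linearIndependent_iff'.1 b.linearIndependent s (fun j => (g j).coeff n)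
    (by simpa [Algebra.smul_def] using h2) i hi
  simpa using h3

/-- `K(X) ⊗ R` is a domain. -/
theorem isDomain_tensor : IsDomain (RatFunc K ⊗[K] R) := by
  letI := (mapRF K R).toAlgebra
  haveI : IsScalarTower K R (RatFunc R) := inferInstance
  haveI : IsScalarTower K (RatFunc K) (RatFunc R) := .of_algebraMap_eq fun k => by
    show algebraMap K (RatFunc R) k = mapRF K R (algebraMap K (RatFunc K) k)
    rw [IsScalarTower.algebraMap_apply K R (RatFunc R)]
    rw [IsScalarTower.algebraMap_apply K K[X] (RatFunc K), mapRF_algebraMap,
      IsScalarTower.algebraMap_apply R R[X] (RatFunc R)]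
    simp
  let ψ : RatFunc K ⊗[K] R →ₐ[RatFunc K] RatFunc R :=
    Algebra.TensorProduct.lift (Algebra.ofId (RatFunc K) (RatFunc R)) (IsScalarTower.toAlgHom K R (RatFunc R))
      fun _ _ => Commute.all _ _
  let b := Module.Basis.ofVectorSpace K R
  let B := Algebra.TensorProduct.basis (RatFunc K) b
  have h : LinearIndependent (RatFunc K) (ψ.toLinearMap ∘ B) := by
    have h' := linearIndependent_rf K R b
    convert h' using 2 with i
    simp [B, ψ]
  have hinj : Function.Injective ψ := by
    show Function.Injective ψ.toLinearMap
    exact LinearMap.ker_eq_bot.1 (LinearMap.ker_eq_bot'.2 fun m hm => by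
      apply B.repr.injective
      rw [map_zero]
      refine h ?_
      rw [map_zero, ← Finsupp.apply_linearCombination, B.linearCombination_repr, hm])
  exact hinj.isDomain ψ

/-- `K(X) ⊗ R` is a field for algebraic `R/K`. -/
theorem isField_tensor [Algebra.IsAlgebraic K R] : IsField (RatFunc K ⊗[K] R) := by
  haveI := isDomain_tensor K R
  haveI : Algebra.IsIntegral K R := Algebra.IsAlgebraic.isIntegral
  exact isField_of_isIntegral_of_isField' (R := RatFunc K) (Field.toIsField _)

theorem trdeg_ratFunc : Algebra.trdeg K (RatFunc K) = 1 := by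
  haveI : Algebra.IsAlgebraic K[X] (RatFunc K) := IsLocalization.isAlgebraic _ (nonZeroDivisors K[X])
  have h := trdeg_add_eq K K[X] (A := RatFunc K)
  rw [Polynomial.trdeg_of_isDomain, trdeg_eq_zero, add_zero] at h
  exact h.symm

/-- A field which is algebraic over `K(X)` and contains an algebraic extension `R` has trdeg one over `R`. -/
theorem trdeg_over {M : Type u} [Field M] [Algebra K M] [Algebra (RatFunc K) M] [IsScalarTower K (RatFunc K) M]
    [Algebra.IsAlgebraic (RatFunc K) M] [Algebra R M] [IsScalarTower K R M] [Algebra.IsAlgebraic K R] :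
    Algebra.trdeg R M = 1 := by
  have h1 := trdeg_add_eq K (RatFunc K) (A := M)
  rw [trdeg_ratFunc, trdeg_eq_zero (R := RatFunc K) (A := M), add_zero] at h1
  have h2 := trdeg_add_eq K R (A := M)
  rw [trdeg_eq_zero (R := K) (A := R), zero_add, ← h1] at h2
  exact h2

end Groth.Agent.GalCohAux.EtCdTrTensor
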