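import Groth.Agent.S3054
import Groth.Agent.S14451
import Groth.Agent.S7735
import Groth.Agent.EtLimit.RpushStalk
import Groth.Agent.Hens.Local
import Groth.Agent.EtaleSite.Points
import Groth.Agent.EtaleSite.Pull
import Groth.Agent.GalCohAux.EtCdTrAlg
import Groth.Agent.GalCohAux.EtCdTrTensor

/-!
Cohomological dimension under field extensions: algebraic and rational function fields.
-/

set_option autoImplicit false
set_option backward.isDefEq.respectTransparency false

universe u

open CategoryTheory CategoryTheory.Limits AlgebraicGeometry Opposite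

noncomputable section

namespace Groth.Agent.GalCohAux.EtCdTr

/-- The `ℓ`-primary part of the cohomology of torsion sheaves vanishes above degree `d`. -/
def Cd (K : Type u) [Field K] (ℓ d : ℕ) : Prop :=
  ∀ F : EtCoh.Ab (Spec (CommRingCat.of K)), EtCoh.IsTorsion F → ∀ q : ℕ, d < q →
    ∀ x : EtCoh.H (Spec (CommRingCat.of K)) F q, (∃ m : ℕ, ℓ ^ m • x = 0) → x = 0

theorem Cd.vanish {K : Type u} [Field K] {ℓ d : ℕ} (h : Cd K ℓ d) (hℓ : 0 < ℓ)
    {F : EtCoh.Ab (Spec (CommRingCat.of K))} (hF : ℓ • 𝟙 F = 0) {q : ℕ} (hq : d < q)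
    (x : EtCoh.H (Spec (CommRingCat.of K)) F q) : x = 0 :=
  h F (EtNsmul.isTorsion_of_nsmul_id hℓ hF) q hq x ⟨1, by rw [pow_one]; exact EtNsmul.nsmul_H_eq_zero hF x⟩

theorem Cd.mono {K : Type u} [Field K] {ℓ d e : ℕ} (h : Cd K ℓ d) (hde : d ≤ e) : Cd K ℓ e :=
  fun F hF q hq => h F hF q (lt_of_le_of_lt hde hq)

theorem nsmul_id_map {C D : Type*} [Category C] [Category D] [Preadditive C] [Preadditive D] (L : C ⥤ D)
    [L.Additive] {F : C} {m : ℕ} (h : m • 𝟙 F = 0) : m • 𝟙 (L.obj F) = 0 := by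
  have := congrArg L.map h
  rwa [Functor.map_nsmul, L.map_id, L.map_zero] at this

section Scheme

variable {X Y : Scheme.{u}}

theorem additive_push (f : X ⟶ Y) : (EtCoh.push f).Additive :=
  (EtCoh.pullPushAdj f).right_adjoint_additive

theorem additive_pull (f : X ⟶ Y) : (EtCoh.pull f).Additive :=
  (EtCoh.pullPushAdj f).left_adjoint_additive

/-- Cohomology along an integral morphism. -/
theorem subsingleton_of_push (f : X ⟶ Y) [IsIntegralHom f] (F : EtCoh.Ab X) (q : ℕ)
    (h : Subsingleton (EtCoh.H Y ((EtCoh.push f).obj F) q)) : Subsingleton (EtCoh.H X F q) :=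
  (Equiv.ofBijective _ (S14451.result f F (fun i hi => S3054.result f F i hi) q)).symm.subsingleton

theorem H_eq_zero_of_injective (I : EtCoh.Ab X) [Injective I] {n : ℕ} (x : EtCoh.H X I (n + 1)) : x = 0 :=
  Abelian.Ext.eq_zero_of_injective x

end Scheme

/-- Algebraic extensions do not raise the cohomological dimension. -/
theorem cd_algebraic {k K : Type u} [Field k] [Field K] [Algebra k K] [Algebra.IsAlgebraic k K] {ℓ d : ℕ}
    (h : Cd k ℓ d) : Cd K ℓ d := by
  intro F hF q hq x hx
  obtain ⟨m, hm⟩ := hx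
  let f := Spec.map (CommRingCat.ofHom (algebraMap k K))
  haveI : IsIntegralHom f := IsIntegralHom.SpecMap_iff.2 (by
    rw [CommRingCat.hom_ofHom]
    exact fun x => Algebra.IsIntegral.isIntegral x)
  obtain ⟨hinj, hsurj⟩ := S14451.result f F (fun i hi => S3054.result f F i hi) q
  obtain ⟨y, rfl⟩ := hsurj x
  have hy : ℓ ^ m • y = 0 := hinj (by rw [map_nsmul, hm, map_zero])
  rw [h _ (S7735.isTorsion_push f hF) q hq y ⟨m, hy⟩, map_zero]

theorem cd_ringEquiv {k K : Type u} [Field k] [Field K] (e : k ≃+* K) {ℓ d : ℕ} (h : Cd k ℓ d) :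
    Cd K ℓ d :=
  letI : Algebra k K := e.toRingHom.toAlgebra
  haveI : Algebra.IsAlgebraic k K := ⟨fun x => by
    obtain ⟨a, rfl⟩ := e.surjective x
    exact isAlgebraic_algebraMap a⟩
  cd_algebraic h

/-- Dimension shifting along a morphism with `R^j f_* = 0`, `j > 0`, on the cokernel of an injective
envelope. -/
theorem shift {X Y : Scheme.{u}} (f : X ⟶ Y) {ℓ d : ℕ}
    (hY : ∀ G : EtCoh.Ab Y, ℓ • 𝟙 G = 0 → ∀ i, d < i → ∀ x : EtCoh.H Y G i, x = 0)
    {S : ShortComplex (EtCoh.Ab X)} (hS : S.ShortExact) (hI : Injective S.X₂) (hF : ℓ • 𝟙 S.X₁ = 0)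
    (hR : ∀ j, 0 < j → IsZero ((EtCoh.Rpush f j).obj S.X₃)) (q : ℕ) (hq : d + 1 < q)
    (x : EtCoh.H X S.X₁ q) : x = 0 := by
  haveI := hI
  obtain ⟨i, rfl⟩ : ∃ i, q = i + 1 := ⟨q - 1, by omega⟩
  obtain ⟨y, rfl⟩ := Abelian.Ext.covariant_sequence_exact₁ _ hS x (H_eq_zero_of_injective _ _) (rfl : i + 1 = i + 1)
  suffices y = 0 by rw [this]; simp
  haveI : PreservesFiniteLimits (EtCoh.pull f) := inferInstance
  obtain ⟨y', rfl⟩ := (S14451.result f S.X₃ hR i).2 y
  suffices y' = 0 by rw [this, map_zero]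
  haveI := additive_push f
  haveI hinj : Injective ((EtCoh.push f).obj S.X₂) := EtSupp.injective_push f S.X₂
  haveI := hS.mono_f
  haveI := hS.epi_g
  -- multiplication by `ℓ` on `Q` factors through `I`
  have hker : S.f ≫ (ℓ • 𝟙 S.X₂) = 0 := by
    rw [Preadditive.comp_nsmul, Category.comp_id, ← Category.id_comp S.f, ← Preadditive.nsmul_comp, hF, zero_comp]
  obtain ⟨h, hh⟩ := CokernelCofork.IsColimit.desc' hS.gIsCokernel (ℓ • 𝟙 S.X₂) hker
  replace hh : S.g ≫ h = ℓ • 𝟙 S.X₂ := hh
  have hQ : h ≫ S.g = ℓ • 𝟙 S.X₃ := by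
    rw [← cancel_epi S.g, reassoc_of% hh, Preadditive.nsmul_comp, Category.id_comp, Preadditive.comp_nsmul,
      Category.comp_id]
  let fg := (EtCoh.push f).map S.g
  have hC : ℓ • 𝟙 (cokernel fg) = 0 := by
    rw [← cancel_epi (cokernel.π fg), comp_zero, Preadditive.comp_nsmul, Category.comp_id,
      ← Category.id_comp (cokernel.π fg), ← Preadditive.nsmul_comp, ← CategoryTheory.Functor.map_id,
      ← Functor.map_nsmul, ← hQ, Functor.map_comp, Category.assoc, cokernel.condition, comp_zero]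
  let T₂ : ShortComplex (EtCoh.Ab Y) := ShortComplex.mk (Abelian.image.ι fg) (cokernel.π fg) (kernel.condition _)
  have hT₂ : T₂.ShortExact :=
    { exact := ShortComplex.exact_of_f_is_kernel _ (kernelIsKernel (cokernel.π fg)) }
  obtain ⟨w, rfl⟩ := Abelian.Ext.covariant_sequence_exact₂ _ hT₂ y' (hY _ hC i (by omega) _)
  suffices w = 0 by rw [this]; simp
  let fac : (EtCoh.push f).obj S.X₂ ⟶ Abelian.image fg := Abelian.factorThruImage fg
  have hkill : (EtCoh.push f).map S.f ≫ fac = 0 := by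
    rw [← cancel_mono (Abelian.image.ι fg), Category.assoc, zero_comp]
    show _ ≫ Abelian.factorThruImage fg ≫ _ = 0
    rw [Abelian.image.fac, ← Functor.map_comp, S.zero, Functor.map_zero]
  let T₁ : ShortComplex (EtCoh.Ab Y) := ShortComplex.mk ((EtCoh.push f).map S.f) fac hkill
  haveI : PreservesLimitsOfSize.{0, 0} (EtCoh.push f) := (EtCoh.pullPushAdj f).rightAdjoint_preservesLimits
  haveI : PreservesFiniteLimits (EtCoh.push f) := PreservesLimitsOfSize.preservesFiniteLimits _
  haveI hm : Mono ((EtCoh.push f).map S.f) := inferInstance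
  have hE : (S.map (EtCoh.push f)).Exact :=
    hS.exact.map_of_mono_of_preservesKernel (EtCoh.push f) hS.mono_f inferInstance
  haveI : Mono (S.map (EtCoh.push f)).f := hm
  have hT₁ : T₁.ShortExact :=
    { exact := ShortComplex.exact_of_f_is_kernel _
        (Limits.isKernelOfComp (f := fac) (Abelian.image.ι fg) ((EtCoh.push f).map S.g) hE.fIsKernel hkill (Abelian.image.fac fg))
      mono_f := hm }
  have hw : w.comp hT₁.extClass (rfl : i + 1 = i + 1) = 0 :=
    hY _ (nsmul_id_map (EtCoh.push f) hF) (i + 1) (by omega) _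
  obtain ⟨v, rfl⟩ := Abelian.Ext.covariant_sequence_exact₃ _ hT₁ w rfl hw
  obtain ⟨i', rfl⟩ : ∃ i', i = i' + 1 := ⟨i - 1, by omega⟩
  rw [H_eq_zero_of_injective _ v]
  simp

section Step

variable (K : Type u) [Field K]

/-- The stalk of `Spec K` at a point is `K`. -/
theorem bijective_toStalk (s : Spec (CommRingCat.of K)) :
    Function.Bijective (StructureSheaf.toStalk (CommRingCat.of K) s).hom := by
  letI : Algebra K ((Spec (CommRingCat.of K)).presheaf.stalk s) := (StructureSheaf.toStalk (CommRingCat.of K) s).hom.toAlgebra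
  haveI : IsLocalization.AtPrime ((Spec (CommRingCat.of K)).presheaf.stalk s) s.asIdeal :=
    StructureSheaf.IsLocalization.to_stalk (CommRingCat.of K) s
  exact (IsLocalization.atUnits K s.asIdeal.primeCompl
    (S := (Spec (CommRingCat.of K)).presheaf.stalk s) fun x hx =>
      (IsUnit.mk0 x fun e => hx (by rw [e]; exact zero_mem _) : IsUnit x)).bijective

/-- A strict henselization at the point of `Spec K` is an algebraic separably closed extension of `K`. -/
theorem exists_strictHens (s : Spec (CommRingCat.of K)) :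
    ∃ (R : Type u) (_ : Field R) (_ : IsSepClosed R) (_ : Algebra ((Spec (CommRingCat.of K)).presheaf.stalk s) R)
      (_ : IsLocalHom (algebraMap ((Spec (CommRingCat.of K)).presheaf.stalk s) R))
      (_ : Algebra K R), Hensel.IsStrictHenselization ((Spec (CommRingCat.of K)).presheaf.stalk s) R ∧
      IsSepClosed (IsLocalRing.ResidueField R) ∧ Algebra.IsAlgebraic K R ∧
      Hens2.specOf (Spec (CommRingCat.of K)) s R = Spec.map (CommRingCat.ofHom (algebraMap K R)) := by
  let O := (Spec (CommRingCat.of K)).presheaf.stalk s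
  let φ := (StructureSheaf.toStalk (CommRingCat.of K) s).hom
  have hφ : Function.Bijective φ := bijective_toStalk K s
  have hO : IsField O := MulEquiv.isField (Field.toIsField K) (RingEquiv.ofBijective φ hφ).symm.toMulEquiv
  let S := Hens.StrictHenselization O
  have hm : IsLocalRing.maximalIdeal S = ⊥ := by
    rw [← Hens.map_maximalIdeal_of_isStrictHenselization (R := O) S,
      IsLocalRing.isField_iff_maximalIdeal_eq.1 hO, Ideal.map_bot]
  letI : Field S := (IsLocalRing.isField_iff_maximalIdeal_eq.2 hm).toField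
  have hres : Function.Bijective (IsLocalRing.residue S) :=
    ⟨(IsLocalRing.residue S).injective, IsLocalRing.residue_surjective⟩
  haveI hsc := (inferInstance : Hensel.IsStrictHenselization O S).isSepClosure
  haveI : IsSepClosed (IsLocalRing.ResidueField S) := hsc.sep_closed
  haveI : IsSepClosed S := IsSepClosed.of_exists_root _ fun p hp hirr hsep => by
    let e := RingEquiv.ofBijective _ hres
    obtain ⟨x, hx⟩ := IsSepClosed.exists_root (p.map e.toRingHom)
      (by rw [Polynomial.degree_map]; exact fun h0 => hirr.degree_pos.ne' h0) hsep.map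
    refine ⟨e.symm x, e.injective ?_⟩
    rw [map_zero, ← RingEquiv.coe_toRingHom, ← Polynomial.eval_map_apply, RingEquiv.coe_toRingHom,
      e.apply_symm_apply]
    exact hx
  letI : Algebra K S := ((algebraMap O S).comp φ).toAlgebra
  refine ⟨S, inferInstance, inferInstance, inferInstance, inferInstance, inferInstance, inferInstance,
    inferInstance, ⟨fun x => ?_⟩, ?_⟩
  · obtain ⟨P, hP0, hP⟩ := Algebra.IsAlgebraic.isAlgebraic (R := IsLocalRing.ResidueField O)
      (IsLocalRing.residue S x)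
    obtain ⟨P', rfl⟩ : ∃ P' : Polynomial K, P'.map ((IsLocalRing.residue O).comp φ) = P :=
      Polynomial.map_surjective ((IsLocalRing.residue O).comp φ)
        (by rw [RingHom.coe_comp]; exact IsLocalRing.residue_surjective.comp hφ.2) P
    refine ⟨P', fun e => hP0 (by rw [e, Polynomial.map_zero]), hres.1 ?_⟩
    rw [map_zero, ← hP, Polynomial.aeval_def, Polynomial.aeval_def, Polynomial.eval₂_map,
      Polynomial.hom_eval₂]
    rfl
  · show Spec.map (CommRingCat.ofHom (algebraMap O S)) ≫ (Spec (CommRingCat.of K)).fromSpecStalk s = _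
    rw [Spec.fromSpecStalk_eq', ← Spec.map_comp]
    rfl

variable {K}

/-- Higher direct images from `K(X)` of killed sheaves vanish in degree `≥ 2`, relative form. -/
theorem isZero_Rpush {ℓ : ℕ} [Fact ℓ.Prime] {S : ShortComplex (EtCoh.Ab (Spec (CommRingCat.of (RatFunc K))))}
    (hS : S.ShortExact) (hI : Injective S.X₂) (hF : ℓ • 𝟙 S.X₁ = 0) (j : ℕ) (hj : 0 < j) :
    IsZero ((EtCoh.Rpush (Spec.map (CommRingCat.ofHom (algebraMap K (RatFunc K)))) j).obj S.X₃) := by
  haveI := hI
  let f := Spec.map (CommRingCat.ofHom (algebraMap K (RatFunc K)))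
  rw [EtaleSite.isZero_iff_stalk]
  intro Ω _ _ ξ
  let s : Spec (CommRingCat.of K) := ξ default
  obtain ⟨R, _, _, _, _, _, hR, hsep, halg, hσ⟩ := exists_strictHens K s
  haveI := hR
  haveI := hsep
  haveI := halg
  obtain ⟨i₁⟩ := EtaleSite.nonempty_stalk_iso_geomPointAt ξ
  obtain ⟨i₂⟩ := EtaleSite.nonempty_stalk_iso_geomPointAt (Hens2.geomPt (Spec (CommRingCat.of K)) s R)
  let G := (EtCoh.Rpush f j).obj S.X₃
  refine IsZero.of_iso ?_ ((i₁ ≪≫ eqToIso (congrArg (fun p => EtCoh.stalk (EtaleSite.geomPointAt (Spec (CommRingCat.of K)) p))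
    (Subsingleton.elim (α := PrimeSpectrum K) _ _)) ≪≫ i₂.symm).app G)
  let σ := Hens2.specOf (Spec (CommRingCat.of K)) s R
  let g := pullback.fst f σ
  have key : ∀ (n : ℕ) (H : EtCoh.Ab (Spec (CommRingCat.of (RatFunc K)))),
      Nonempty ((EtCoh.stalk (Hens2.geomPt (Spec (CommRingCat.of K)) s R)).obj ((EtCoh.Rpush f n).obj H) ≅
        AddCommGrpCat.of (EtCoh.H (pullback f σ) ((EtCoh.pull g).obj H) n)) := fun n H =>
    ⟨(Groth.Agent.EtLimit.nonempty_Rpush_stalk_iso f s R n).some.app H⟩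
  obtain ⟨j, rfl⟩ : ∃ j', j = j' + 1 := ⟨j - 1, by omega⟩
  obtain ⟨i₃⟩ := key (j + 1) S.X₃
  refine IsZero.of_iso ?_ i₃
  refine @AddCommGrpCat.isZero_of_subsingleton _ (subsingleton_of_forall_eq 0 fun y => ?_)
  -- the short exact sequence upstairs
  haveI := additive_pull g
  haveI : PreservesColimitsOfSize.{0, 0} (EtCoh.pull g) := (EtCoh.pullPushAdj g).leftAdjoint_preservesColimits
  haveI : PreservesFiniteColimits (EtCoh.pull g) := PreservesColimitsOfSize.preservesFiniteColimits _
  have hT := hS.map_of_exact (EtCoh.pull g)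
  have h2 : Subsingleton (EtCoh.H (pullback f σ) ((EtCoh.pull g).obj S.X₂) (j + 1)) := by
    obtain ⟨i₄⟩ := key (j + 1) S.X₂
    exact AddCommGrpCat.subsingleton_of_isZero
      (IsZero.of_iso ((EtCoh.stalk _).map_isZero
        (Functor.isZero_rightDerived_obj_injective_succ (EtCoh.push f) j S.X₂)) i₄.symm)
  -- the field upstairs
  let T := TensorProduct K (RatFunc K) R
  letI : Field T := (EtCdTrTensor.isField_tensor K R).toField
  let e₀ : pullback f σ ≅ Spec (CommRingCat.of T) :=
    pullback.congrHom rfl hσ ≪≫ pullbackSpecIso K (RatFunc K) R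
  have h1 : Subsingleton (EtCoh.H (pullback f σ) ((EtCoh.pull g).obj S.X₁) (j + 2)) := by
    haveI : IsIntegralHom e₀.hom := inferInstance
    refine subsingleton_of_push e₀.hom _ _ ?_
    haveI := additive_push e₀.hom
    have hk := nsmul_id_map (EtCoh.push e₀.hom) (nsmul_id_map (EtCoh.pull g) hF)
    letI : Algebra R T := Algebra.TensorProduct.rightAlgebra
    haveI : IsScalarTower K R T := Algebra.TensorProduct.right_isScalarTower
    haveI : Algebra.IsAlgebraic (RatFunc K) T := inferInstance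
    have htr : Algebra.trdeg R T = 1 := EtCdTrTensor.trdeg_over K R
    exact subsingleton_of_forall_eq 0 fun z =>
      EtCdTrAlg.cd_one (R := R) htr ℓ _
        (EtNsmul.isTorsion_of_nsmul_id (Fact.out : ℓ.Prime).pos hk) (j + 2) (by omega) z
        ⟨1, by rw [pow_one]; exact EtNsmul.nsmul_H_eq_zero hk z⟩
  obtain ⟨z, hz⟩ := Abelian.Ext.covariant_sequence_exact₃ _ hT y (rfl : j + 1 + 1 = j + 2)
    (@Subsingleton.elim _ h1 _ _)
  rw [← hz, @Subsingleton.elim _ h2 z 0]
  simp

/-- `cd_ℓ(K(X)) ≤ cd_ℓ(K) + 1`. -/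
theorem cd_ratFunc {ℓ : ℕ} [Fact ℓ.Prime] {d : ℕ} (h : Cd K ℓ d) : Cd (RatFunc K) ℓ (d + 1) := by
  intro F hF q hq x hx
  refine EtDev.cohDim_le (n := d + 1) (fun M _ _ _ _ _ => ?_) F hF q hq x hx
  let g := Spec.map (CommRingCat.ofHom (algebraMap (RatFunc K) M))
  haveI : IsIntegralHom g := IsIntegralHom.SpecMap_iff.2 (by
    rw [CommRingCat.hom_ofHom]
    exact fun x => Algebra.IsIntegral.isIntegral x)
  refine subsingleton_of_push g _ _ (subsingleton_of_forall_eq 0 fun z => ?_)
  let G := (EtCoh.push g).obj (EtCoh.const (Spec (CommRingCat.of M)) (ZMod ℓ))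
  haveI := additive_push g
  have hG : ℓ • 𝟙 G = 0 := nsmul_id_map (EtCoh.push g) EtDev.nsmul_id_const_zmod
  let S : ShortComplex (EtCoh.Ab (Spec (CommRingCat.of (RatFunc K)))) :=
    ShortComplex.mk (Injective.ι G) (cokernel.π (Injective.ι G)) (cokernel.condition _)
  have hS : S.ShortExact := { exact := ShortComplex.exact_of_g_is_cokernel _ (cokernelIsCokernel _) }
  exact shift (Spec.map (CommRingCat.ofHom (algebraMap K (RatFunc K))))
    (fun H hH i hi => h.vanish (Fact.out : ℓ.Prime).pos hH hi) hS inferInstance hG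
    (fun j hj => isZero_Rpush hS inferInstance hG j hj) _ (by omega) z

end Step

end Groth.Agent.GalCohAux.EtCdTr
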