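import Groth.Agent.GalCohAux.EtStrictCd

/-!
Schemes of finite type over a field: `cd ≤ 2 dim + cd k` for torsion sheaves.
-/

set_option autoImplicit false
universe u
open CategoryTheory CategoryTheory.Limits AlgebraicGeometry Opposite

namespace Groth.Agent.GalCohAux.EtCdTwoDim

attribute [local instance] Curv2.resAlgebra

theorem cohDimLE_two_dim (k : Type u) [Field k] (X : Scheme.{u}) [X.Over (Spec (CommRingCat.of k))]
    [LocallyOfFiniteType (X ↘ Spec (CommRingCat.of k))] [IsNoetherian X] (n : ℕ)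
    (hn : topologicalKrullDim X ≤ n) (e : ℕ)
    (he : EtCoh.CohDimLE (Spec (CommRingCat.of k)) e) : EtCoh.CohDimLE X (2 * n + e) := by
  intro F hF q hq
  have hmono : ∀ x y : X, x ⤳ y → x ≠ y → VarDim.dimPt k X y < VarDim.dimPt k X x := fun x y hxy hne =>
    VarDim.dimPt_lt_of_lt k (lt_of_le_not_ge hxy fun h => hne (Specializes.antisymm (h : y ⤳ x) hxy).eq.symm)
  refine EtDimVanC.vanishing (EtDimVanD.torsionClass Set.univ)
    (fun x : X => e + 2 * VarDim.dimPt k X x) (fun x y hxy hne => ?_) (fun x M hM r hr => ?_)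
    (fun x y hxy hne R _ _ _ _ _ P hP M hM r hr => ?_) F
    ((EtDimVanD.isTorsion_iff_lTorsion F).1 hF) q fun x _ => ?_
  · have := hmono x y hxy hne
    show e + 2 * _ < e + 2 * _
    omega
  · exact EtCdTrDeg.cohDimLE_of_cd (fun ℓ hℓ => haveI := Fact.mk hℓ
      EtCdTrDeg.cd_trdeg (EtCdTrDeg.cd_of_cohDimLE ℓ he) (VarDim.dimPt k X x)
        (VarDim.trdeg_residueField k X x))
      M ((EtDimVanD.isTorsion_iff_lTorsion M).2 hM) r (by omega)
  · haveI : P.IsPrime := hP.1.1
    have := hmono x y hxy hne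
    exact EtCdTrDeg.cohDimLE_of_cd (fun ℓ hℓ => haveI := Fact.mk hℓ
      EtStrictCd.cd_branch k ℓ x y hxy R P hP)
      M ((EtDimVanD.isTorsion_iff_lTorsion M).2 hM) r (by omega)
  · have h := hn
    rw [VarDim.topologicalKrullDim_eq_iSup k] at h
    have hx : (VarDim.dimPt k X x : WithBot ℕ∞) ≤ n := (le_iSup (fun x : X => (VarDim.dimPt k X x : WithBot ℕ∞)) x).trans h
    have : VarDim.dimPt k X x ≤ n := by exact_mod_cast hx
    omega

/-- Finite type over a separably closed field: `cd ≤ 2 dim`. -/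
theorem cohDimLE_of_sepClosed {k : Type u} [Field k] [IsSepClosed k] {X : Scheme.{u}}
    (f : X ⟶ Spec (CommRingCat.of k)) [LocallyOfFiniteType f] [QuasiCompact f] (n : ℕ)
    (hn : topologicalKrullDim X ≤ n) : EtCoh.CohDimLE X (2 * n) := by
  letI : X.Over (Spec (CommRingCat.of k)) := ⟨f⟩
  haveI : LocallyOfFiniteType (X ↘ Spec (CommRingCat.of k)) := ‹LocallyOfFiniteType f›
  haveI : IsLocallyNoetherian X := LocallyOfFiniteType.isLocallyNoetherian f
  haveI : CompactSpace X := QuasiCompact.compactSpace_of_compactSpace f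
  haveI : IsNoetherian X := {}
  exact cohDimLE_two_dim k X n hn 0 fun F _ q hq => EtaleSite.subsingleton_H k F q hq

end Groth.Agent.GalCohAux.EtCdTwoDim
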