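import Groth.Agent.EtColim.CohColim

/-!
Étale cohomology commutes with filtered colimits indexed by categories of the size of the coefficient universe
(the argument of `Groth.Agent.EtColim.CohColim` with a larger index category).
-/

set_option autoImplicit false
set_option backward.isDefEq.respectTransparency false

universe u

open CategoryTheory CategoryTheory.Limits AlgebraicGeometry Opposite CategoryTheory.Abelian

noncomputable section

namespace Groth.Agent.GalCohAux.EtColimBig

open Groth.Agent.EtColim.Sections Groth.Agent.EtaleSite.CechPre Groth.Agent.EtColim.CechColim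
  Groth.Agent.EtColim.CohColim

variable {X : Scheme.{u}}

/-- A filtered colimit of compactly acyclic sheaves is compactly acyclic. -/
theorem isCompactAcyclic_colimit {J : Type (u + 1)} [SmallCategory J] [IsFiltered J] {D : J ⥤ EtCoh.Ab X}
    {c : Cocone D} (hD : IsColimit c) (h : ∀ j, IsCompactAcyclic (D.obj j)) :
    IsCompactAcyclic c.pt := by
  intro U _ _ ι _ Uf hc hq hU p x hx
  obtain ⟨j, x', rfl, hx'⟩ := exists_cocycle_rep Uf hD hc hq (p + 1) (p + 1 + 1) x hx
  obtain ⟨y, hy⟩ := h j U ι Uf hc hq hU p x' hx'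
  exact ⟨chmap Uf (c.ι.app j) p y, ((chmap_d Uf (c.ι.app j) p (p + 1) y).symm.trans (by rw [hy]))⟩

variable {J : Type (u + 1)} [SmallCategory J] [IsFiltered J] [CompactSpace X] [QuasiSeparatedSpace X]

set_option maxHeartbeats 1000000 in
/-- Cohomology in degree `n` of a filtered colimit comes from the stages. -/
theorem coh_colimit (n : ℕ) : ∀ {D : J ⥤ EtCoh.Ab X} {c : Cocone D}, IsColimit c →
    (∀ x : EtCoh.H X c.pt n, ∃ (i : J) (y : EtCoh.H X (D.obj i) n), Sheaf.H.map (c.ι.app i) n y = x) ∧
    (∀ (i : J) (y : EtCoh.H X (D.obj i) n), Sheaf.H.map (c.ι.app i) n y = 0 →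
      ∃ (j : J) (φ : i ⟶ j), Sheaf.H.map (D.map φ) n y = 0) := by
  haveI : CompactSpace (EtCoh.top X).left := inferInstanceAs (CompactSpace X)
  haveI : QuasiSeparatedSpace (EtCoh.top X).left := inferInstanceAs (QuasiSeparatedSpace X)
  induction n with
  | zero =>
    intro D c hD
    refine ⟨fun x => ?_, fun i y hy => ?_⟩
    · obtain ⟨i, t, ht⟩ := exists_rep D c hD (EtCoh.top X) (Sheaf.H.equiv₀ c.pt (EtCore.topIsTerminal X) x)
      refine ⟨i, (Sheaf.H.equiv₀ _ (EtCore.topIsTerminal X)).symm t, ?_⟩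
      refine (Sheaf.H.equiv₀ c.pt (EtCore.topIsTerminal X)).injective ?_
      rw [← ht]
      refine (Sheaf.H.equiv₀_naturality (EtCore.topIsTerminal X) (c.ι.app i) _).symm.trans ?_
      rw [AddEquiv.apply_symm_apply]
    · obtain ⟨j, φ, hφ⟩ := exists_map_eq_zero D c hD (EtCoh.top X)
        (Sheaf.H.equiv₀ _ (EtCore.topIsTerminal X) y) (by
          rw [Sheaf.H.equiv₀_naturality, hy, map_zero])
      refine ⟨j, φ, (Sheaf.H.equiv₀ _ (EtCore.topIsTerminal X)).injective ?_⟩
      rw [map_zero, ← Sheaf.H.equiv₀_naturality, hφ]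
  | succ n ih =>
    intro D c hD
    let cI := colimit.cocone (D ⋙ emb X)
    let hI : IsColimit cI := colimit.isColimit _
    let f : c.pt ⟶ cI.pt := hD.desc
      { pt := cI.pt
        ι := { app := fun i => (embι X).app (D.obj i) ≫ cI.ι.app i
               naturality := fun i j a => by
                 refine Eq.trans ?_ (Category.comp_id _).symm
                 show D.map a ≫ (embι X).app (D.obj j) ≫ cI.ι.app j =
                   (embι X).app (D.obj i) ≫ cI.ι.app i
                 rw [← cI.w a, ← Category.assoc, ← Category.assoc]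
                 exact congrArg (· ≫ cI.ι.app j) ((embι X).naturality (D.map a)) } }
    have hf : ∀ i, c.ι.app i ≫ f = (embι X).app (D.obj i) ≫ cI.ι.app i := fun i => hD.fac _ i
    haveI hmono : Mono f := by
      refine (sheafToPresheaf X.smallEtaleTopology AddCommGrpCat.{u + 1}).mono_of_mono_map
        (@NatTrans.mono_of_mono_app _ _ _ _ _ _ _ fun W => (AddCommGrpCat.mono_iff_injective _).2 ?_)
      refine (injective_iff_map_eq_zero (f.hom.app W).hom).2 fun x hx => ?_
      haveI : Etale W.unop.hom := W.unop.prop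
      let C := W.unop.left.affineCover
      let V : C.I₀ → X.Etale := fun k => Scheme.Etale.mk (C.f k ≫ W.unop.hom)
      let g : ∀ k, V k ⟶ W.unop := fun k => MorphismProperty.Over.homMk (C.f k) rfl trivial
      refine ext_of_cover c.pt g (fun w => ?_) x 0 fun k => ?_
      · obtain ⟨k, v, hv⟩ := C.exists_eq w
        exact ⟨k, v, hv⟩
      · haveI : IsAffine (V k).left := inferInstanceAs (IsAffine (Spec _))
        rw [map_zero]
        obtain ⟨i, t, ht⟩ := exists_rep D c hD (V k) (c.pt.obj.map (g k).op x)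
        have h0 : (cI.ι.app i).hom.app (op (V k)) (((embι X).app (D.obj i)).hom.app (op (V k)) t) = 0 := by
          show ((embι X).app (D.obj i) ≫ cI.ι.app i).hom.app _ t = 0
          rw [← hf]
          show f.hom.app _ ((c.ι.app i).hom.app _ t) = 0
          rw [ht, NatTrans.naturality_apply, hx, map_zero]
        obtain ⟨j, φ, hj⟩ := exists_map_eq_zero (D ⋙ emb X) cI hI (V k)
          (((embι X).app (D.obj i)).hom.app (op (V k)) t) h0
        have h1 : ((embι X).app (D.obj j)).hom.app (op (V k)) ((D.map φ).hom.app (op (V k)) t) = 0 := by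
          show (D.map φ ≫ (embι X).app (D.obj j)).hom.app _ t = 0
          rw [show D.map φ ≫ (embι X).app (D.obj j) = (embι X).app (D.obj i) ≫ (emb X).map (D.map φ) from
            (embι X).naturality (D.map φ)]
          exact hj
        haveI : Mono ((embι X).app (D.obj j)).hom :=
          (sheafToPresheaf X.smallEtaleTopology AddCommGrpCat.{u + 1}).map_mono ((embι X).app (D.obj j))
        have h2 : (D.map φ).hom.app (op (V k)) t = 0 :=
          (AddCommGrpCat.mono_iff_injective _).1
            (((evaluation _ AddCommGrpCat.{u + 1}).obj (op (V k))).map_mono ((embι X).app (D.obj j)).hom)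
            (h1.trans (map_zero _).symm)
        rw [← ht, ← c.w φ]
        show (c.ι.app j).hom.app _ ((D.map φ).hom.app _ t) = 0
        rw [h2, map_zero]
    let S : J → ShortComplex (EtCoh.Ab X) := fun i =>
      ShortComplex.mk ((embι X).app (D.obj i)) (cokernel.π _) (cokernel.condition _)
    have hS : ∀ i, (S i).ShortExact := fun i =>
      { exact := ShortComplex.exact_of_g_is_cokernel _ (cokernelIsCokernel _) }
    let Q : J ⥤ EtCoh.Ab X := cokFunctor (Functor.whiskerLeft D (embι X))
    let S' : ShortComplex (EtCoh.Ab X) := ShortComplex.mk f (cokernel.π f) (cokernel.condition f)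
    have hS' : S'.ShortExact :=
      { exact := ShortComplex.exact_of_g_is_cokernel _ (cokernelIsCokernel _) }
    let cQ : Cocone Q := cokCocone (Functor.whiskerLeft D (embι X)) f hf
    have hQ : IsColimit cQ := cokIsColimit (Functor.whiskerLeft D (embι X)) f hf hD hI
    obtain ⟨ihQs, ihQz⟩ := ih hQ
    obtain ⟨ihIs, -⟩ := ih hI
    have hI0 : Subsingleton (EtCoh.H X cI.pt (n + 1)) :=
      IsCompactAcyclic.subsingleton_H n (isCompactAcyclic_colimit hI fun i =>
        isCompactAcyclic_of_injective ((emb X).obj (D.obj i)))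
    let Φ : ∀ i, S i ⟶ S' := fun i =>
      { τ₁ := c.ι.app i
        τ₂ := cI.ι.app i
        τ₃ := cQ.ι.app i
        comm₁₂ := hf i
        comm₂₃ := (π_cokCocone (Functor.whiskerLeft D (embι X)) f hf i).symm }
    let Ψ : ∀ {i j : J}, (i ⟶ j) → (S i ⟶ S j) := fun {i j} a =>
      { τ₁ := D.map a
        τ₂ := (emb X).map (D.map a)
        τ₃ := Q.map a
        comm₁₂ := (embι X).naturality (D.map a)
        comm₂₃ := (π_cokFunctor_map (Functor.whiskerLeft D (embι X)) a).symm }
    have δnat : ∀ {A B : ShortComplex (EtCoh.Ab X)} (hA : A.ShortExact) (hB : B.ShortExact) (θ : A ⟶ B)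
        (q : EtCoh.H X A.X₃ n), Sheaf.H.map θ.τ₁ (n + 1) (q.comp hA.extClass rfl) =
          (Sheaf.H.map θ.τ₃ n q).comp hB.extClass rfl := by
      intro A B hA hB θ q
      rw [Sheaf.H.map_apply, Sheaf.H.map_apply, Ext.comp_assoc_of_second_deg_zero,
        Ext.comp_assoc_of_third_deg_zero, hA.extClass_naturality hB θ]
    refine ⟨fun x => ?_, fun i y hy => ?_⟩
    · obtain ⟨q, hq⟩ := Ext.covariant_sequence_exact₁ _ hS' x (Subsingleton.elim _ _) (rfl : n + 1 = n + 1)
      obtain ⟨i, qi, rfl⟩ := ihQs q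
      exact ⟨i, qi.comp (hS i).extClass rfl, (δnat (hS i) hS' (Φ i) qi).trans hq⟩
    · obtain ⟨q, rfl⟩ := Ext.covariant_sequence_exact₁ _ (hS i) y
        (Ext.eq_zero_of_injective _) (rfl : n + 1 = n + 1)
      obtain ⟨r, hr⟩ := Ext.covariant_sequence_exact₃ _ hS' (Sheaf.H.map (cQ.ι.app i) n q)
        (rfl : n + 1 = n + 1) ((δnat (hS i) hS' (Φ i) q).symm.trans hy)
      obtain ⟨k, rk, rfl⟩ := ihIs r
      let α := IsFiltered.leftToMax i k
      let β := IsFiltered.rightToMax i k
      have hmid : Sheaf.H.map (cQ.ι.app _) n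
          (Sheaf.H.map (Q.map α) n q - Sheaf.H.map (Q.map β) n (Sheaf.H.map (S k).g n rk)) = 0 := by
        rw [map_sub, sub_eq_zero]
        have e1 : ∀ {A B C : EtCoh.Ab X} (a : A ⟶ B) (b : B ⟶ C) (x : EtCoh.H X A n),
            Sheaf.H.map b n (Sheaf.H.map a n x) = Sheaf.H.map (a ≫ b) n x := fun a b x => by
          rw [Sheaf.H.map_apply, Sheaf.H.map_apply, Sheaf.H.map_apply,
            Ext.comp_assoc_of_second_deg_zero, Ext.mk₀_comp_mk₀]
        refine (e1 (Q.map α) (cQ.ι.app _) q).trans ?_
        rw [cQ.w α]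
        refine hr.symm.trans ?_
        refine ((e1 (cI.ι.app k) S'.g rk).trans (congrArg (fun a => Sheaf.H.map a n rk)
          (((Φ k).comm₂₃).trans (congrArg ((S k).g ≫ ·) (cQ.w β).symm)))).trans ?_
        exact (e1 (S k).g (Q.map β ≫ cQ.ι.app _) rk).symm.trans (e1 (Q.map β) (cQ.ι.app _) _).symm
      obtain ⟨j, φ, hj⟩ := ihQz _ _ hmid
      refine ⟨j, α ≫ φ, ?_⟩
      have e1 : ∀ {A B C : EtCoh.Ab X} (a : A ⟶ B) (b : B ⟶ C) (x : EtCoh.H X A n),
          Sheaf.H.map b n (Sheaf.H.map a n x) = Sheaf.H.map (a ≫ b) n x := fun a b x => by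
        rw [Sheaf.H.map_apply, Sheaf.H.map_apply, Sheaf.H.map_apply,
          Ext.comp_assoc_of_second_deg_zero, Ext.mk₀_comp_mk₀]
      have hj' : Sheaf.H.map (Q.map φ) n (Sheaf.H.map (Q.map α) n q) =
          Sheaf.H.map (Q.map φ) n (Sheaf.H.map (Q.map β) n (Sheaf.H.map (S k).g n rk)) :=
        sub_eq_zero.1 ((map_sub _ _ _).symm.trans hj)
      refine (δnat (hS i) (hS j) (Ψ (α ≫ φ)) q).trans ?_
      have h3 : Sheaf.H.map (Ψ (α ≫ φ)).τ₃ n q =
          Sheaf.H.map (S j).g n (Sheaf.H.map ((emb X).map (D.map (β ≫ φ))) n rk) :=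
        (congrArg (fun a => Sheaf.H.map a n q) (Q.map_comp α φ)).trans <|
          ((e1 (Q.map α) (Q.map φ) q).symm.trans hj').trans <|
            (e1 (Q.map β) (Q.map φ) _).trans <| (e1 (S k).g (Q.map β ≫ Q.map φ) rk).trans <|
              (congrArg (fun a => Sheaf.H.map a n rk)
                ((congrArg ((S k).g ≫ ·) (Q.map_comp β φ).symm).trans (Ψ (β ≫ φ)).comm₂₃.symm)).trans
                (e1 ((emb X).map (D.map (β ≫ φ))) (S j).g rk).symm
      rw [h3, Sheaf.H.map_apply (S j).g, Ext.comp_assoc_of_second_deg_zero,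
        ShortComplex.ShortExact.comp_extClass, Ext.comp_zero]

end Groth.Agent.GalCohAux.EtColimBig
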