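import Groth.Agent.GalCohAux.EtGmMax
import Groth.Agent.EtaleSite.Recollement
import Groth.Agent.EtConsAb.GenericPush
import Groth.Agent.S9799

/-!
Splitting a sheaf along the components of a normal Noetherian scheme.
-/

set_option autoImplicit false
set_option backward.isDefEq.respectTransparency false

universe u

open CategoryTheory CategoryTheory.Limits AlgebraicGeometry Opposite TopologicalSpace

noncomputable section

namespace Groth.Agent.GalCohAux.EtCompo

open EtaleSite EtDimVanA

attribute [-instance] EtFin.instUniqueCarrierCarrierCommRingCatSpecOf_groth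

/-- A class vanishes if it does on a family of open and closed pieces covering the scheme, for any
property of groups stable under finite sums. -/
theorem exists_decomposition (X : Scheme.{u}) [IsNoetherian X]
    (hN : ∀ x : X, IsDomain (X.presheaf.stalk x) ∧ IsIntegrallyClosed (X.presheaf.stalk x)) (F : EtCoh.Ab X) :
    ∃ (ι : Type u) (_ : Fintype ι) (C : ι → X.Opens) (_ : ∀ i, IsClosedImmersion (C i).ι),
      (∀ i, IsIntegral (C i : Scheme.{u}) ∧ IsNoetherian (C i : Scheme.{u})) ∧
        ∃ e : F ≅ ⨁ fun i => (EtCoh.push (C i).ι).obj ((EtCoh.pull (C i).ι).obj F),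
          ∀ i, e.hom ≫ biproduct.π _ i = (EtCoh.pullPushAdj (C i).ι).unit.app F := by
  classical
  obtain ⟨hopen, hdisj⟩ := S9799.result X (fun U hU => by
    haveI : CompactSpace (U : Scheme.{u}) := isCompact_iff_compactSpace.1 hU
    haveI : IsNoetherian (U : Scheme.{u}) := {}
    exact TopologicalSpace.NoetherianSpace.finite_irreducibleComponents (α := ↥(U : Scheme.{u}))) hN
  haveI : Fintype (irreducibleComponents (X : Type u)) :=
    (TopologicalSpace.NoetherianSpace.finite_irreducibleComponents (α := X)).fintype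
  let C : irreducibleComponents (X : Type u) → X.Opens := fun Z => ⟨Z.1, hopen Z.1 Z.2⟩
  haveI hC : ∀ Z, IsClosedImmersion (C Z).ι := fun Z => IsClosedImmersion.of_isPreimmersion _ (by
    rw [Scheme.Opens.range_ι]; exact isClosed_of_mem_irreducibleComponents _ Z.2)
  let P : irreducibleComponents (X : Type u) → EtCoh.Ab X := fun Z =>
    (EtCoh.push (C Z).ι).obj ((EtCoh.pull (C Z).ι).obj F)
  let a : F ⟶ ⨁ P := biproduct.lift fun Z => ((EtCoh.pullPushAdj (C Z).ι).unit.app F : F ⟶ P Z)
  refine ⟨irreducibleComponents (X : Type u), inferInstance, C, hC, fun Z => ?_, ?_⟩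
  · haveI : IrreducibleSpace ↥(C Z : Scheme.{u}) :=
      haveI : PreirreducibleSpace ↥(C Z : Scheme.{u}) := Subtype.preirreducibleSpace Z.2.1.2
      haveI : Nonempty ↥(C Z : Scheme.{u}) := Z.2.1.1.to_subtype
      ⟨inferInstance⟩
    haveI : _root_.AlgebraicGeometry.IsReduced (C Z : Scheme.{u}) :=
      haveI : ∀ x : ↥(C Z : Scheme.{u}), _root_.IsReduced ((C Z : Scheme.{u}).presheaf.stalk x) := fun x =>
        haveI := (hN x.1).1
        haveI : IsDomain ((C Z : Scheme.{u}).presheaf.stalk x) :=
          ((C Z).stalkIso x).commRingCatIsoToRingEquiv.toMulEquiv.isDomain _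
        inferInstance
      isReduced_of_isReduced_stalk _
    haveI : CompactSpace ↥(C Z : Scheme.{u}) :=
      isCompact_iff_compactSpace.1 (isClosed_of_mem_irreducibleComponents _ Z.2).isCompact
    exact ⟨isIntegral_of_irreducibleSpace_of_isReduced _, {}⟩
  haveI : IsIso a := by
    refine isIso_of_stalk _ fun Ω _ _ ξ => (ConcreteCategory.isIso_iff_bijective _).2 ?_
    obtain ⟨Z₀, hZ₀, hξ⟩ : ∃ Z₀ ∈ irreducibleComponents (X : Type u), ξ default ∈ Z₀ :=
      ⟨_, irreducibleComponent_mem_irreducibleComponents _, mem_irreducibleComponent⟩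
    let η₀ : irreducibleComponents (X : Type u) := ⟨Z₀, hZ₀⟩
    have hb : Function.Bijective ((EtCoh.stalk ξ).map ((EtCoh.pullPushAdj (C η₀).ι).unit.app F)) := by
      haveI := isIso_stalk_unit_push (C η₀).ι F ξ (by rw [Scheme.Opens.range_ι]; exact hξ)
      exact ConcreteCategory.bijective_of_isIso _
    have hcomp : (EtCoh.stalk ξ).map a ≫ (EtCoh.stalk ξ).map (biproduct.π P η₀) =
        (EtCoh.stalk ξ).map ((EtCoh.pullPushAdj (C η₀).ι).unit.app F) := by
      rw [← Functor.map_comp, biproduct.lift_π]
    refine ⟨fun x y hxy => hb.1 ?_, fun b => ?_⟩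
    · exact (ConcreteCategory.congr_hom hcomp x).symm.trans ((ConcreteCategory.comp_apply _ _ _).trans
        ((congrArg _ hxy).trans ((ConcreteCategory.comp_apply _ _ _).symm.trans (ConcreteCategory.congr_hom hcomp y))))
    · obtain ⟨x, hx⟩ := hb.2 ((EtCoh.stalk ξ).map (biproduct.π P η₀) b)
      refine ⟨x, ?_⟩
      have hz : ∀ η, (EtCoh.stalk ξ).map (biproduct.π P η) ((EtCoh.stalk ξ).map a x) =
          (EtCoh.stalk ξ).map (biproduct.π P η) b := fun η => by
        by_cases e : η = η₀
        · subst e
          exact (ConcreteCategory.comp_apply _ _ _).symm.trans ((ConcreteCategory.congr_hom hcomp x).trans hx)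
        · haveI : Subsingleton ↑((EtCoh.stalk ξ).obj (P η)) :=
            AddCommGrpCat.subsingleton_of_isZero (EtaleSite.isZero_stalk_push (f := (C η).ι) ξ (by
              rw [Scheme.Opens.range_ι]
              exact fun hmem => Set.disjoint_left.1 (hdisj η.1 η.2 Z₀ hZ₀ fun h => e (Subtype.ext h)) hmem hξ) _)
          exact Subsingleton.elim _ _
      let Q : ((⨁ P) ⟶ (⨁ P)) →+ ↑((EtCoh.stalk ξ).obj (⨁ P)) := AddMonoidHom.mk'
        (fun f => (EtCoh.stalk ξ).map f ((EtCoh.stalk ξ).map a x - b)) fun f g => by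
          rw [Functor.map_add]; rfl
      rw [← sub_eq_zero]
      have hQ : Q (𝟙 _) = 0 := by
        rw [GalCohAux.EtGmMax.biproduct_total P, map_sum]
        refine Finset.sum_eq_zero fun η _ => ?_
        show (EtCoh.stalk ξ).map _ ((EtCoh.stalk ξ).map a x - b) = 0
        rw [Functor.map_comp, ConcreteCategory.comp_apply, map_sub, hz η, sub_self, map_zero]
      refine Eq.trans ?_ hQ
      show _ = (EtCoh.stalk ξ).map (𝟙 _) _
      rw [CategoryTheory.Functor.map_id]
      rfl
  exact ⟨asIso a, fun i => biproduct.lift_π _ i⟩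

end Groth.Agent.GalCohAux.EtCompo
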