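import Groth.Prelude.Def_GalTw2
import Mathlib.AlgebraicGeometry.Sites.Fpqc
import Mathlib.AlgebraicGeometry.Morphisms.Etale
import Mathlib.AlgebraicGeometry.Morphisms.Flat
import Mathlib.FieldTheory.Galois.Basic
import Mathlib.FieldTheory.Normal.Defs
import Mathlib.RingTheory.Etale.Field

/-!
Galois descent of morphisms of schemes.
-/

universe u

open CategoryTheory CategoryTheory.Limits MonoidalCategory CartesianMonoidalCategory AlgebraicGeometry MonObj

namespace Groth.Agent.GalCohAux.GalTwDescent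

variable {k : Type u} [Field k] {K : Type u} [Field K] [Algebra k K] [FiniteDimensional k K] [IsGalois k K]

variable (K) in
/-- The projection `X_K ⟶ X`. -/
noncomputable abbrev pr (Y : Over (Spec (CommRingCat.of k))) : (GalTw.bcK K Y).left ⟶ Y.left :=
  pullback.fst Y.hom (SGA7.pt (K := k) K).hom

instance etale_pt : Etale (SGA7.pt (K := k) K).hom := by
  show Etale (Spec.map (CommRingCat.ofHom (algebraMap k K)))
  rw [HasRingHomProperty.Spec_iff (P := @Etale), CommRingCat.hom_ofHom]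
  have : Algebra.FormallyEtale k K := Algebra.FormallyEtale.of_isSeparable k K
  have : Algebra.FinitePresentation k K := Algebra.FinitePresentation.of_finiteType.1 inferInstance
  exact RingHom.etale_algebraMap.2 ⟨inferInstance, inferInstance⟩

instance surjective_pt : Surjective (SGA7.pt (K := k) K).hom :=
  ⟨fun y => ⟨⟨⊥, Ideal.isPrime_bot⟩, Subsingleton.elim _ _⟩⟩

instance quasiCompact_pt : QuasiCompact (SGA7.pt (K := k) K).hom := by
  show QuasiCompact (Spec.map (CommRingCat.ofHom (algebraMap k K)))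
  infer_instance

/-- The graph of a Galois automorphism. -/
noncomputable def graph (σ : K ≃ₐ[k] K) (Y : Over (Spec (CommRingCat.of k))) :
    (GalTw.bcK K Y).left ⟶ pullback (pr K Y) (pr K Y) :=
  pullback.lift (𝟙 _) (GalTw.galMap K σ Y) (by rw [Category.id_comp]; exact (GalTw.galMap_fst K σ Y).symm)

instance etale_graph (σ : K ≃ₐ[k] K) (Y : Over (Spec (CommRingCat.of k))) : Etale (graph σ Y) := by
  have : Etale (graph σ Y ≫ pullback.fst (pr K Y) (pr K Y)) := by
    rw [graph, pullback.lift_fst]; infer_instance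
  exact Etale.of_comp _ (pullback.fst (pr K Y) (pr K Y))

omit [FiniteDimensional k K] in
theorem exists_galois_of_comp_eq {L : Type u} [Field L] (a b : K →+* L)
    (h : a.comp (algebraMap k K) = b.comp (algebraMap k K)) : ∃ σ : K ≃ₐ[k] K, b = a.comp (σ : K →+* K) := by
  letI : Algebra K L := a.toAlgebra
  letI : Algebra k L := (a.comp (algebraMap k K)).toAlgebra
  have : IsScalarTower k K L := IsScalarTower.of_algebraMap_eq fun _ => rfl
  let φ : K →ₐ[k] L := { b with commutes' := fun r => (RingHom.congr_fun h r).symm }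
  refine ⟨φ.restrictNormal' K, RingHom.ext fun x => ?_⟩
  exact (AlgHom.restrictNormal_commutes φ K x).symm

theorem exists_mem_range_graph (Y : Over (Spec (CommRingCat.of k))) (x : ↥(pullback (pr K Y) (pr K Y))) :
    ∃ σ : K ≃ₐ[k] K, x ∈ Set.range (graph σ Y) := by
  let P := pullback (pr K Y) (pr K Y)
  let p₁ : P ⟶ (GalTw.bcK K Y).left := pullback.fst (pr K Y) (pr K Y)
  let p₂ : P ⟶ (GalTw.bcK K Y).left := pullback.snd (pr K Y) (pr K Y)
  let s : Spec (P.residueField x) ⟶ P := P.fromSpecResidueField x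
  let q : P ⟶ Spec (CommRingCat.of K) := p₁ ≫ pullback.snd Y.hom (SGA7.pt (K := k) K).hom
  let q' : P ⟶ Spec (CommRingCat.of K) := p₂ ≫ pullback.snd Y.hom (SGA7.pt (K := k) K).hom
  have hq : q ≫ (SGA7.pt (K := k) K).hom = q' ≫ (SGA7.pt (K := k) K).hom := by
    simp only [q, q', Category.assoc, ← pullback.condition]
    exact (pullback.condition_assoc (f := pr K Y) (g := pr K Y) Y.hom)
  have h : (Spec.preimage (s ≫ q)).hom.comp (algebraMap k K) = (Spec.preimage (s ≫ q')).hom.comp (algebraMap k K) := by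
    have h1 : Spec.map (CommRingCat.ofHom (algebraMap k K) ≫ Spec.preimage (s ≫ q)) =
        Spec.map (CommRingCat.ofHom (algebraMap k K) ≫ Spec.preimage (s ≫ q')) := by
      rw [Spec.map_comp, Spec.map_comp, Spec.map_preimage, Spec.map_preimage, Category.assoc, Category.assoc]
      exact congrArg (s ≫ ·) hq
    exact congrArg CommRingCat.Hom.hom (Spec.map_injective h1)
  obtain ⟨σ, hσ⟩ := exists_galois_of_comp_eq _ _ h
  refine ⟨σ, (s ≫ p₁) (IsLocalRing.closedPoint (P.residueField x)), ?_⟩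
  have e : (s ≫ p₁) ≫ graph σ Y = s := by
    apply pullback.hom_ext
    · rw [Category.assoc, graph, pullback.lift_fst, Category.comp_id]
    · rw [Category.assoc, graph, pullback.lift_snd]
      apply pullback.hom_ext
      · rw [Category.assoc, Category.assoc, GalTw.galMap_fst, Category.assoc]
        exact congrArg (s ≫ ·) pullback.condition
      · rw [Category.assoc, Category.assoc, GalTw.galMap_snd, Category.assoc]
        show s ≫ p₁ ≫ pullback.snd _ _ ≫ GalTw.specMap K σ = s ≫ q'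
        have h2 : Spec.preimage (s ≫ q') = CommRingCat.ofHom (σ : K →+* K) ≫ Spec.preimage (s ≫ q) :=
          CommRingCat.hom_ext hσ
        rw [← Spec.map_preimage (s ≫ q'), h2, Spec.map_comp, Spec.map_preimage]
        simp only [q, Category.assoc]
  rw [← Scheme.Hom.comp_apply, e]
  exact Scheme.fromSpecResidueField_apply _ _

/-- Morphisms out of `Y_K ×_Y Y_K` are determined on the graphs. -/
theorem graph_hom_ext {Y : Over (Spec (CommRingCat.of k))} {Z : Scheme.{u}}
    {f g : pullback (pr K Y) (pr K Y) ⟶ Z} (h : ∀ σ : K ≃ₐ[k] K, graph σ Y ≫ f = graph σ Y ≫ g) : f = g := by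
  let d := Sigma.desc fun σ : K ≃ₐ[k] K => graph σ Y
  have : Flat d := IsZariskiLocalAtSource.sigmaDesc fun σ => inferInstance
  have : Surjective d := ⟨fun x => by
    obtain ⟨σ, y, rfl⟩ := exists_mem_range_graph Y x
    refine ⟨Sigma.ι (fun _ : K ≃ₐ[k] K => (GalTw.bcK K Y).left) σ y, ?_⟩
    rw [← Scheme.Hom.comp_apply, Sigma.ι_desc]⟩
  have := Flat.epi_of_flat_of_surjective d
  rw [← cancel_epi d]
  refine Sigma.hom_ext _ _ fun σ => ?_
  rw [Sigma.ι_desc_assoc, Sigma.ι_desc_assoc]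
  exact h σ

theorem bc_map_left_fst {Y X : Over (Spec (CommRingCat.of k))} (g : Y ⟶ X) :
    ((Over.pullback (SGA7.pt (K := k) K).hom).map g).left ≫ pr K X = pr K Y ≫ g.left :=
  pullback.lift_fst _ _ _

theorem bc_map_injective {Y X : Over (Spec (CommRingCat.of k))} {g g' : Y ⟶ X}
    (h : (Over.pullback (SGA7.pt (K := k) K).hom).map g = (Over.pullback (SGA7.pt (K := k) K).hom).map g') :
    g = g' := by
  have h1 := bc_map_left_fst (K := K) g
  rw [h, bc_map_left_fst] at h1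
  exact Over.OverMorphism.ext ((cancel_epi (pr K Y)).1 h1.symm)

/-- Galois invariant morphisms descend. -/
theorem exists_bc_map_eq {Y X : Over (Spec (CommRingCat.of k))} (f : GalTw.bcK K Y ⟶ GalTw.bcK K X)
    (hf : ∀ σ : K ≃ₐ[k] K, GalTw.twHom σ f = f) :
    ∃ g : Y ⟶ X, (Over.pullback (SGA7.pt (K := k) K).hom).map g = f := by
  let e := f.left ≫ pr K X
  have hgal : ∀ σ : K ≃ₐ[k] K, GalTw.galMap K σ Y ≫ e = e := fun σ => by
    have h := congrArg (fun t : GalTw.bcK K Y ⟶ GalTw.bcK K X => t.left ≫ pr K X) (hf σ)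
    simp only [GalTw.twHom_left, Category.assoc, GalTw.galMap_fst] at h
    exact h
  have he : ∀ {Z : Scheme.{u}} (g₁ g₂ : Z ⟶ (GalTw.bcK K Y).left), g₁ ≫ pr K Y = g₂ ≫ pr K Y →
      g₁ ≫ e = g₂ ≫ e := by
    intro Z g₁ g₂ hg
    have huniv : pullback.fst (pr K Y) (pr K Y) ≫ e = pullback.snd (pr K Y) (pr K Y) ≫ e :=
      graph_hom_ext fun σ => by
        rw [graph, pullback.lift_fst_assoc, pullback.lift_snd_assoc, Category.id_comp, hgal]
    have := congrArg (pullback.lift g₁ g₂ hg ≫ ·) huniv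
    rwa [pullback.lift_fst_assoc, pullback.lift_snd_assoc] at this
  let g₀ := EffectiveEpi.desc (pr K Y) e he
  have hg₀ : pr K Y ≫ g₀ = e := EffectiveEpi.fac (pr K Y) e he
  refine ⟨Over.homMk g₀ ?_, ?_⟩
  · rw [← cancel_epi (pr K Y), reassoc_of% hg₀]
    simp only [e, Category.assoc, pullback.condition]
    rw [← Category.assoc]
    exact congrArg (· ≫ (SGA7.pt (K := k) K).hom) (Over.w f)
  · apply Over.OverMorphism.ext
    apply pullback.hom_ext
    · exact (bc_map_left_fst _).trans hg₀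
    · exact (Over.w _).trans (Over.w f).symm

theorem twHom_bc_map {Y X : Over (Spec (CommRingCat.of k))} (g : Y ⟶ X) (σ : K ≃ₐ[k] K) :
    GalTw.twHom σ ((Over.pullback (SGA7.pt (K := k) K).hom).map g) =
      (Over.pullback (SGA7.pt (K := k) K).hom).map g := by
  apply Over.OverMorphism.ext
  rw [GalTw.twHom_left]
  apply pullback.hom_ext
  · rw [Category.assoc, Category.assoc, GalTw.galMap_fst, bc_map_left_fst, GalTw.galMap_fst_assoc]
  · rw [Category.assoc, Category.assoc, GalTw.galMap_snd]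
    have hw : ((Over.pullback (SGA7.pt (K := k) K).hom).map g).left ≫ pullback.snd X.hom (SGA7.pt (K := k) K).hom =
        pullback.snd Y.hom (SGA7.pt (K := k) K).hom := Over.w _
    rw [reassoc_of% hw, hw, GalTw.galMap_snd_assoc, ← GalTw.specMap_mul, mul_inv_cancel, GalTw.specMap_one,
      Category.comp_id]

theorem isMonHom_of_bc_map {Y X : Over (Spec (CommRingCat.of k))} [GrpObj Y] [GrpObj X] (g : Y ⟶ X)
    (h : IsMonHom ((Over.pullback (SGA7.pt (K := k) K).hom).map g)) : IsMonHom g where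
  one_hom := by
    apply bc_map_injective (K := K)
    have h1 := h.one_hom
    simp [Functor.obj.η_def] at h1
    rw [← cancel_epi (Functor.LaxMonoidal.ε (Over.pullback (SGA7.pt (K := k) K).hom))]
    simpa using h1
  mul_hom := by
    apply bc_map_injective (K := K)
    have h1 := h.mul_hom
    rw [← cancel_epi (Functor.LaxMonoidal.μ (Over.pullback (SGA7.pt (K := k) K).hom) Y Y)]
    simpa [Functor.obj.μ_def, ← Functor.LaxMonoidal.μ_natural_assoc] using h1

variable {X Y Y' : Over (Spec (CommRingCat.of k))}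

/-- The automorphism of `X_K` attached to an isomorphism of forms. -/
noncomputable def isoAut (φ : GalTw.bcK K Y ≅ GalTw.bcK K X) (ψ : GalTw.bcK K Y' ≅ GalTw.bcK K X) (e : Y ≅ Y') :
    Aut (GalTw.bcK K X) :=
  φ.symm ≪≫ (Over.pullback (SGA7.pt (K := k) K).hom).mapIso e ≪≫ ψ

theorem cohomologous_of_iso (φ : GalTw.bcK K Y ≅ GalTw.bcK K X) (ψ : GalTw.bcK K Y' ≅ GalTw.bcK K X)
    (e : Y ≅ Y') {a b : GpH1.OneCocycle (K ≃ₐ[k] K) (Aut (GalTw.bcK K X))}
    (ha : ∀ σ, GalTw.cocycle φ σ = a σ) (hb : ∀ σ, GalTw.cocycle ψ σ = b σ) (σ : K ≃ₐ[k] K) :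
    a σ = (isoAut φ ψ e)⁻¹ * b σ * σ • isoAut φ ψ e := by
  rw [← ha, ← hb]
  apply Iso.ext
  show (GalTw.twIso σ φ).inv ≫ φ.hom =
    GalTw.twHom σ (φ.inv ≫ (Over.pullback (SGA7.pt (K := k) K).hom).map e.hom ≫ ψ.hom) ≫
      ((GalTw.twIso σ ψ).inv ≫ ψ.hom) ≫
        (ψ.inv ≫ (Over.pullback (SGA7.pt (K := k) K).hom).map e.inv) ≫ φ.hom
  have h1 : GalTw.twHom σ ψ.hom ≫ (GalTw.twIso σ ψ).inv = 𝟙 _ := (GalTw.twIso σ ψ).hom_inv_id
  simp only [GalTw.twHom_comp, GalTw.twIso_inv, twHom_bc_map, Category.assoc] at h1 ⊢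
  rw [reassoc_of% h1, ψ.hom_inv_id_assoc, ← Functor.map_comp_assoc, e.hom_inv_id, CategoryTheory.Functor.map_id,
    Category.id_comp]

theorem exists_iso_of_cohomologous (φ : GalTw.bcK K Y ≅ GalTw.bcK K X) (ψ : GalTw.bcK K Y' ≅ GalTw.bcK K X)
    (c : Aut (GalTw.bcK K X)) {a b : GpH1.OneCocycle (K ≃ₐ[k] K) (Aut (GalTw.bcK K X))}
    (ha : ∀ σ, GalTw.cocycle φ σ = a σ) (hb : ∀ σ, GalTw.cocycle ψ σ = b σ)
    (hc : ∀ σ : K ≃ₐ[k] K, a σ = c⁻¹ * b σ * σ • c) :
    ∃ e : Y ≅ Y', (Over.pullback (SGA7.pt (K := k) K).hom).map e.hom = φ.hom ≫ c.hom ≫ ψ.inv := by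
  let F : GalTw.bcK K Y ≅ GalTw.bcK K Y' := φ ≪≫ c ≪≫ ψ.symm
  have hF : ∀ σ : K ≃ₐ[k] K, GalTw.twIso σ F = F := fun σ => by
    have h := hc σ
    rw [← ha, ← hb] at h
    have h' : (GalTw.twIso σ φ).inv ≫ φ.hom =
        GalTw.twHom σ c.hom ≫ ((GalTw.twIso σ ψ).inv ≫ ψ.hom) ≫ c.inv := congrArg Iso.hom h
    apply Iso.ext
    show GalTw.twHom σ (φ.hom ≫ c.hom ≫ ψ.inv) = φ.hom ≫ c.hom ≫ ψ.inv
    rw [GalTw.twHom_comp, GalTw.twHom_comp]
    have h'' := congrArg (fun t => GalTw.twHom σ φ.hom ≫ t ≫ c.hom ≫ ψ.inv) h'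
    simp only [GalTw.twIso_inv, Category.assoc] at h''
    have h1 : GalTw.twHom σ φ.hom ≫ GalTw.twHom σ φ.inv = 𝟙 _ := (GalTw.twIso σ φ).hom_inv_id
    rw [reassoc_of% h1] at h''
    simp at h''
    simpa using h''.symm
  obtain ⟨g, hg⟩ := exists_bc_map_eq F.hom fun σ => congrArg Iso.hom (hF σ)
  obtain ⟨g', hg'⟩ := exists_bc_map_eq F.inv fun σ => congrArg Iso.inv (hF σ)
  exact ⟨⟨g, g', bc_map_injective (K := K) (by
      rw [Functor.map_comp, hg, hg', F.hom_inv_id, CategoryTheory.Functor.map_id]),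
    bc_map_injective (K := K) (by
      rw [Functor.map_comp, hg, hg', F.inv_hom_id, CategoryTheory.Functor.map_id])⟩, hg⟩

end Groth.Agent.GalCohAux.GalTwDescent
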