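import Groth.Prelude.Def_GalTw
import Groth.Agent.GalCohAux.GalTwDescent
import Mathlib.FieldTheory.Galois.Basic
import Mathlib.FieldTheory.Finite.Basic
import Mathlib.FieldTheory.IsAlgClosed.AlgebraicClosure
import Mathlib.RingTheory.Jacobson.Ring
import Mathlib.RingTheory.FiniteType
import Mathlib.AlgebraicGeometry.Morphisms.FiniteType

/-!
Points of schemes over `k` in an algebraic closure and its finite levels over `k'`.
-/

universe u

open CategoryTheory CategoryTheory.Limits MonoidalCategory CartesianMonoidalCategory AlgebraicGeometry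

namespace Groth.Agent.GalCohAux.StackLevels

variable {k : Type u} [Field k] {k' : Type u} [Field k'] [Algebra k k']
variable {kb : Type u} [Field kb] [Algebra k kb] [Algebra k' kb] [IsScalarTower k k' kb]

variable (k k' kb) in
/-- The map `Spec kb ⟶ Spec k'` over `k`. -/
noncomputable def ι : SGA7.pt (K := k) kb ⟶ SGA7.pt (K := k) k' :=
  Over.homMk (Spec.map (CommRingCat.ofHom (algebraMap k' kb))) (by
    show Spec.map _ ≫ Spec.map _ = Spec.map _
    rw [← Spec.map_comp, ← CommRingCat.ofHom_comp, ← IsScalarTower.algebraMap_eq])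

variable (k) in
/-- The action of a `k'`-automorphism on `Spec kb` over `k`. -/
noncomputable def gal (σ : kb ≃ₐ[k'] kb) : SGA7.pt (K := k) kb ⟶ SGA7.pt (K := k) kb :=
  SGA7.specAut (σ.restrictScalars k)

@[simp, reassoc]
theorem gal_ι (σ : kb ≃ₐ[k'] kb) : gal k σ ≫ ι k k' kb = ι k k' kb := by
  apply Over.OverMorphism.ext
  show Spec.map _ ≫ Spec.map _ = Spec.map _
  rw [← Spec.map_comp]
  congr 1
  ext x
  exact σ.commutes x

theorem gal_one : gal k (1 : kb ≃ₐ[k'] kb) = 𝟙 _ := GalTw.specAut_one (k := k) kb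

theorem gal_mul (σ τ : kb ≃ₐ[k'] kb) : gal k (σ * τ) = gal k σ ≫ gal k τ :=
  GalTw.specAut_mul (k := k) kb (σ.restrictScalars k) (τ.restrictScalars k)

variable (L : IntermediateField k' kb)

variable (k) in
/-- The finite level. -/
noncomputable abbrev ptL : Over (Spec (CommRingCat.of k)) := SGA7.pt (K := k) ↥(L.restrictScalars k)

theorem algebraMap_level (x : k) : algebraMap k ↥(L.restrictScalars k) x = (algebraMap k' L (algebraMap k k' x)) :=
  Subtype.ext (by
    show algebraMap k kb x = algebraMap k' kb (algebraMap k k' x)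
    exact IsScalarTower.algebraMap_apply k k' kb x)

variable (k) in
/-- `Spec L ⟶ Spec k'`. -/
noncomputable def ιL : ptL k L ⟶ SGA7.pt (K := k) k' :=
  Over.homMk (Spec.map (CommRingCat.ofHom (algebraMap k' L))) (by
    show Spec.map _ ≫ Spec.map _ = Spec.map _
    rw [← Spec.map_comp]
    congr 1
    ext x
    exact congrArg Subtype.val (algebraMap_level L x).symm)

variable (k) in
/-- `Spec kb ⟶ Spec L`. -/
noncomputable def jL : SGA7.pt (K := k) kb ⟶ ptL k L :=
  Over.homMk (Spec.map (CommRingCat.ofHom L.val.toRingHom)) (by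
    show Spec.map _ ≫ Spec.map _ = Spec.map _
    rw [← Spec.map_comp]
    rfl)

@[simp, reassoc]
theorem jL_ιL : jL k L ≫ ιL k L = ι k k' kb := by
  apply Over.OverMorphism.ext
  show Spec.map _ ≫ Spec.map _ = Spec.map _
  rw [← Spec.map_comp]
  rfl

instance flat_jL : Flat (jL k L).left := by
  show Flat (Spec.map (CommRingCat.ofHom L.val.toRingHom))
  rw [HasRingHomProperty.Spec_iff (P := @Flat), CommRingCat.hom_ofHom]
  exact RingHom.flat_algebraMap_iff.2 (inferInstanceAs (Module.Flat L kb))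

instance surjective_jL : Surjective (jL k L).left :=
  ⟨fun _ => ⟨⟨⊥, Ideal.isPrime_bot⟩, Subsingleton.elim (α := PrimeSpectrum L) _ _⟩⟩

instance epi_jL : Epi (jL k L) := by
  have : Epi (jL k L).left := Flat.epi_of_flat_of_surjective _
  exact Over.epi_of_epi_left _

variable (k) in
/-- The action of the Galois group of the level. -/
noncomputable def galL (τ : L ≃ₐ[k'] L) : ptL k L ⟶ ptL k L :=
  Over.homMk (Spec.map (CommRingCat.ofHom (τ : L →+* L))) (by
    show Spec.map _ ≫ Spec.map _ = Spec.map _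
    rw [← Spec.map_comp]
    congr 1
    refine CommRingCat.hom_ext (RingHom.ext fun x => ?_)
    exact (congrArg τ (algebraMap_level L x)).trans ((τ.commutes _).trans (algebraMap_level L x).symm))

@[simp, reassoc]
theorem galL_ιL (τ : L ≃ₐ[k'] L) : galL k L τ ≫ ιL k L = ιL k L := by
  apply Over.OverMorphism.ext
  show Spec.map _ ≫ Spec.map _ = Spec.map _
  rw [← Spec.map_comp]
  congr 1
  ext x
  exact congrArg Subtype.val (τ.commutes x)

theorem galL_mul (τ τ' : L ≃ₐ[k'] L) : galL k L (τ * τ') = galL k L τ ≫ galL k L τ' := by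
  apply Over.OverMorphism.ext
  show Spec.map _ = Spec.map _ ≫ Spec.map _
  rw [← Spec.map_comp]
  rfl

theorem galL_one : galL k L (1 : L ≃ₐ[k'] L) = 𝟙 _ := by
  apply Over.OverMorphism.ext
  show Spec.map _ = 𝟙 _
  rw [← Spec.map_id]
  rfl

theorem gal_jL [Normal k' L] (σ : kb ≃ₐ[k'] kb) :
    gal k σ ≫ jL k L = jL k L ≫ galL k L (AlgEquiv.restrictNormalHom L σ) := by
  apply Over.OverMorphism.ext
  show Spec.map _ ≫ Spec.map _ = Spec.map _ ≫ Spec.map _
  rw [← Spec.map_comp, ← Spec.map_comp]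
  congr 1
  ext x
  exact (AlgEquiv.restrictNormal_commutes σ L x).symm

/-! ### Levels of points -/

/-- A `kb`-point lies at a level. -/
def IsAt (L : IntermediateField k' kb) {X : Over (Spec (CommRingCat.of k))} (x : SGA7.pt (K := k) kb ⟶ X) : Prop :=
  ∃ x' : ptL k L ⟶ X, jL k L ≫ x' = x

theorem isAt_mono {L M : IntermediateField k' kb} (h : L ≤ M) {X : Over (Spec (CommRingCat.of k))}
    {x : SGA7.pt (K := k) kb ⟶ X} (hx : IsAt L x) : IsAt M x := by
  obtain ⟨x', rfl⟩ := hx
  let inc : ptL k M ⟶ ptL k L :=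
    Over.homMk (Spec.map (CommRingCat.ofHom (IntermediateField.inclusion h).toRingHom)) (by
      show Spec.map _ ≫ Spec.map _ = Spec.map _
      rw [← Spec.map_comp]
      rfl)
  refine ⟨inc ≫ x', ?_⟩
  rw [← Category.assoc]
  congr 1
  apply Over.OverMorphism.ext
  show Spec.map _ ≫ Spec.map _ = Spec.map _
  rw [← Spec.map_comp]
  rfl

theorem isAt_comp {X Y : Over (Spec (CommRingCat.of k))} {x : SGA7.pt (K := k) kb ⟶ X} (hx : IsAt L x) (f : X ⟶ Y) :
    IsAt L (x ≫ f) := by
  obtain ⟨x', rfl⟩ := hx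
  exact ⟨x' ≫ f, (Category.assoc _ _ _).symm⟩

/-- Points of schemes locally of finite type are at finite levels. -/
theorem exists_isAt [Algebra.IsAlgebraic k' kb] {X : Over (Spec (CommRingCat.of k))}
    [LocallyOfFiniteType X.hom] (x : SGA7.pt (K := k) kb ⟶ X) :
    ∃ L : IntermediateField k' kb, FiniteDimensional k' L ∧ IsAt L x := by
  classical
  obtain ⟨U, hU, hxU, -⟩ := exists_isAffineOpen_mem_and_subset
    (x := x.left ⟨⊥, Ideal.isPrime_bot⟩) (U := ⊤) trivial
  have hr : Set.range x.left ⊆ Set.range hU.fromSpec := by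
    rintro _ ⟨z, rfl⟩
    rw [IsAffineOpen.range_fromSpec, Subsingleton.elim (α := PrimeSpectrum kb) z ⟨⊥, Ideal.isPrime_bot⟩]
    exact hxU
  let l := IsOpenImmersion.lift hU.fromSpec x.left hr
  have hl : l ≫ hU.fromSpec = x.left := IsOpenImmersion.lift_fac _ _ _
  let ρ : CommRingCat.of k ⟶ Γ(X.left, U) := Spec.preimage (hU.fromSpec ≫ X.hom)
  have hρ : Spec.map ρ = hU.fromSpec ≫ X.hom := Spec.map_preimage _
  have hft : RingHom.FiniteType ρ.hom := by
    have : LocallyOfFiniteType (Spec.map ρ) := hρ ▸ inferInstance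
    exact (HasRingHomProperty.Spec_iff (P := @LocallyOfFiniteType)).mp this
  let f : Γ(X.left, U) ⟶ CommRingCat.of kb := Spec.preimage l
  have hf : ρ ≫ f = CommRingCat.ofHom (algebraMap k kb) := by
    apply Spec.map_injective
    rw [Spec.map_comp, Spec.map_preimage, hρ, ← Category.assoc, hl]
    exact Over.w x
  letI : Algebra k Γ(X.left, U) := ρ.hom.toAlgebra
  obtain ⟨s, hs⟩ := hft.out
  let L := IntermediateField.adjoin k' ((s.image f.hom : Finset kb) : Set kb)
  have hfd : FiniteDimensional k' L :=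
    IntermediateField.finiteDimensional_adjoin fun y _ => Algebra.IsIntegral.isIntegral y
  let fA : Γ(X.left, U) →ₐ[k] kb :=
    { f.hom with commutes' := fun r => DFunLike.congr_fun (congrArg CommRingCat.Hom.hom hf) r }
  have hmem : ∀ a, f a ∈ L.restrictScalars k := by
    intro a
    have h1 : fA a ∈ (Algebra.adjoin k (s : Set Γ(X.left, U))).map fA := ⟨a, by rw [hs]; trivial, rfl⟩
    rw [AlgHom.map_adjoin] at h1
    refine (Algebra.adjoin_le (S := (L.restrictScalars k).toSubalgebra) ?_) h1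
    rintro _ ⟨b, hb, rfl⟩
    exact IntermediateField.subset_adjoin k' _ (Finset.mem_image_of_mem _ hb)
  let f₀ : Γ(X.left, U) ⟶ CommRingCat.of ↥(L.restrictScalars k) :=
    CommRingCat.ofHom (f.hom.codRestrict (L.restrictScalars k).toSubfield.toSubring hmem)
  refine ⟨L, hfd, Over.homMk (Spec.map f₀ ≫ hU.fromSpec) ?_, ?_⟩
  · rw [Category.assoc, ← hρ, ← Spec.map_comp]
    show _ = Spec.map _
    congr 1
    ext r
    exact DFunLike.congr_fun (congrArg CommRingCat.Hom.hom hf) r
  · apply Over.OverMorphism.ext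
    show Spec.map _ ≫ Spec.map f₀ ≫ hU.fromSpec = x.left
    rw [← Spec.map_comp_assoc]
    refine Eq.trans ?_ hl
    congr 1
    rw [← Spec.map_preimage l]
    rfl

/-- A common finite Galois level for finitely many points, for a perfect field. -/
theorem exists_common_level [Algebra.IsAlgebraic k' kb] [IsGalois k' kb] (L₁ L₂ : IntermediateField k' kb)
    [FiniteDimensional k' L₁] [FiniteDimensional k' L₂] :
    ∃ M : IntermediateField k' kb, FiniteDimensional k' M ∧ IsGalois k' M ∧ L₁ ≤ M ∧ L₂ ≤ M := by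
  let E : IntermediateField k' kb := IntermediateField.normalClosure k' ↥(L₁ ⊔ L₂) kb
  have hle : L₁ ⊔ L₂ ≤ E := (L₁ ⊔ L₂).le_normalClosure
  haveI : Normal k' E := normalClosure.normal k' ↥(L₁ ⊔ L₂) kb
  exact ⟨E, normalClosure.is_finiteDimensional k' ↥(L₁ ⊔ L₂) kb, ⟨⟩, le_sup_left.trans hle, le_sup_right.trans hle⟩

/-- Finitely many points of schemes locally of finite type share a finite Galois level. -/
theorem exists_level_forall [IsGalois k' kb] {X : Over (Spec (CommRingCat.of k))} [LocallyOfFiniteType X.hom]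
    {S : Set (SGA7.pt (K := k) kb ⟶ X)} (hS : S.Finite) (L₀ : IntermediateField k' kb) [FiniteDimensional k' L₀] :
    ∃ M : IntermediateField k' kb, FiniteDimensional k' M ∧ IsGalois k' M ∧ L₀ ≤ M ∧ ∀ x ∈ S, IsAt M x := by
  induction S, hS using Set.Finite.induction_on with
  | empty =>
    obtain ⟨M, h1, h2, h3, -⟩ := exists_common_level L₀ L₀
    exact ⟨M, h1, h2, h3, fun x hx => absurd hx (Set.notMem_empty x)⟩
  | @insert x s _ _ ih =>
    obtain ⟨M₁, h₁, -, hle, hs⟩ := ih
    obtain ⟨L, hL, hx⟩ := exists_isAt (k' := k') x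
    obtain ⟨M, h1, h2, h3, h4⟩ := exists_common_level M₁ L
    refine ⟨M, h1, h2, hle.trans h3, fun y hy => ?_⟩
    rcases hy with rfl | hy
    · exact isAt_mono h4 hx
    · exact isAt_mono h3 (hs y hy)

theorem gal_comp_eq_of_isAt [Normal k' L] {X : Over (Spec (CommRingCat.of k))} {x : SGA7.pt (K := k) kb ⟶ X}
    (hx : IsAt L x) {σ : kb ≃ₐ[k'] kb} (hσ : σ ∈ L.fixingSubgroup) : gal k σ ≫ x = x := by
  obtain ⟨x', rfl⟩ := hx
  rw [← IntermediateField.restrictNormalHom_ker L, MonoidHom.mem_ker] at hσ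
  rw [← Category.assoc, gal_jL, hσ, galL_one, Category.comp_id]

/-- A finite level has finitely many points. -/
theorem finite_pts [Finite k] [Finite L] {X : Over (Spec (CommRingCat.of k))} [LocallyOfFiniteType X.hom]
    [IsAffine X.left] : Finite (ptL k L ⟶ X) := by
  let ρ : CommRingCat.of k ⟶ Γ(X.left, ⊤) := Spec.preimage (X.left.isoSpec.inv ≫ X.hom)
  have hρ : Spec.map ρ = X.left.isoSpec.inv ≫ X.hom := Spec.map_preimage _
  have hft : RingHom.FiniteType ρ.hom := by
    have : LocallyOfFiniteType (Spec.map ρ) := hρ ▸ inferInstance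
    exact (HasRingHomProperty.Spec_iff (P := @LocallyOfFiniteType)).mp this
  letI : Algebra k Γ(X.left, ⊤) := ρ.hom.toAlgebra
  obtain ⟨s, hs⟩ := hft.out
  haveI : Finite ↥(L.restrictScalars k) := inferInstanceAs (Finite L)
  refine Finite.of_injective (β := (s → ↥(L.restrictScalars k)))
    (fun x a => (Spec.preimage (x.left ≫ X.left.isoSpec.hom)).hom a.1) fun x y h => ?_
  have hc : ∀ z : ptL k L ⟶ X, ρ ≫ Spec.preimage (z.left ≫ X.left.isoSpec.hom) =
      CommRingCat.ofHom (algebraMap k ↥(L.restrictScalars k)) := fun z => by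
    apply Spec.map_injective
    rw [Spec.map_comp, Spec.map_preimage, hρ, Category.assoc, Iso.hom_inv_id_assoc]
    exact Over.w z
  let mk : (ptL k L ⟶ X) → (Γ(X.left, ⊤) →ₐ[k] ↥(L.restrictScalars k)) := fun z =>
    { (Spec.preimage (z.left ≫ X.left.isoSpec.hom)).hom with
      commutes' := fun r => DFunLike.congr_fun (congrArg CommRingCat.Hom.hom (hc z)) r }
  have h1 : mk x = mk y := AlgHom.ext_of_adjoin_eq_top hs fun a ha => congrFun h ⟨a, ha⟩
  apply Over.OverMorphism.ext
  rw [← cancel_mono X.left.isoSpec.hom, ← Spec.map_preimage (x.left ≫ X.left.isoSpec.hom),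
    ← Spec.map_preimage (y.left ≫ X.left.isoSpec.hom)]
  congr 1
  exact CommRingCat.hom_ext (RingHom.ext fun a => AlgHom.congr_fun h1 a)

/-! ### Descent along a finite level -/

section Descent

variable {X : Over (Spec (CommRingCat.of k))} (π : X ⟶ SGA7.pt (K := k) k')

/-- The base change of `X ⟶ Spec k'` to a level. -/
noncomputable def lpull : Over (Spec (CommRingCat.of k)) :=
  Over.mk (pullback.fst π.left (ιL k L).left ≫ X.hom)

/-- First projection. -/
noncomputable def lfst : lpull L π ⟶ X := Over.homMk (pullback.fst π.left (ιL k L).left) rfl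

/-- Second projection. -/
noncomputable def lsnd : lpull L π ⟶ ptL k L :=
  Over.homMk (pullback.snd π.left (ιL k L).left) (by
    show pullback.snd _ _ ≫ (ptL k L).hom = pullback.fst _ _ ≫ X.hom
    rw [← Over.w (ιL k L), ← Over.w π, pullback.condition_assoc])

@[reassoc]
theorem lcond : lfst L π ≫ π = lsnd L π ≫ ιL k L := Over.OverMorphism.ext pullback.condition

/-- Universal property. -/
noncomputable def llift {T : Over (Spec (CommRingCat.of k))} (q : T ⟶ X) (v : T ⟶ ptL k L)
    (h : q ≫ π = v ≫ ιL k L) : T ⟶ lpull L π :=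
  Over.homMk (pullback.lift q.left v.left (congrArg (fun f => f.left) h)) (by
    show pullback.lift _ _ _ ≫ pullback.fst _ _ ≫ X.hom = T.hom
    rw [pullback.lift_fst_assoc]
    exact Over.w q)

@[simp, reassoc]
theorem llift_fst {T : Over (Spec (CommRingCat.of k))} (q : T ⟶ X) (v : T ⟶ ptL k L)
    (h : q ≫ π = v ≫ ιL k L) : llift L π q v h ≫ lfst L π = q :=
  Over.OverMorphism.ext (pullback.lift_fst _ _ _)

@[simp, reassoc]
theorem llift_snd {T : Over (Spec (CommRingCat.of k))} (q : T ⟶ X) (v : T ⟶ ptL k L)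
    (h : q ≫ π = v ≫ ιL k L) : llift L π q v h ≫ lsnd L π = v :=
  Over.OverMorphism.ext (pullback.lift_snd _ _ _)

variable [FiniteDimensional k' L] [IsGalois k' L]

/-- The scheme over `k'`. -/
noncomputable abbrev overk' : Over (Spec (CommRingCat.of k')) := Over.mk π.left

instance epi_lfst : Epi (lfst L π) := by
  have h1 : Epi (GalTwDescent.pr (K := ↥L) (overk' π)) := inferInstance
  have : Epi (lfst L π).left := h1
  exact Over.epi_of_epi_left _

/-- Invariant morphisms out of the base change descend. -/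
theorem exists_desc {Z : Over (Spec (CommRingCat.of k))} (m : lpull L π ⟶ Z)
    (hm : ∀ (τ : L ≃ₐ[k'] L) {T : Over (Spec (CommRingCat.of k))} (q : T ⟶ X) (v : T ⟶ ptL k L)
      (h : q ≫ π = v ≫ ιL k L),
      llift L π q (v ≫ galL k L τ) (by rw [Category.assoc, galL_ιL, h]) ≫ m = llift L π q v h ≫ m) :
    ∃ g : X ⟶ Z, ∀ {T : Over (Spec (CommRingCat.of k))} (q : T ⟶ X) (v : T ⟶ ptL k L) (h : q ≫ π = v ≫ ιL k L),
      q ≫ g = llift L π q v h ≫ m := by
  let Y := overk' π
  have hgal : ∀ τ : L ≃ₐ[k'] L, GalTw.galMap (k := k') ↥L τ Y ≫ m.left = m.left := fun τ => by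
    have h := congrArg (fun f : lpull L π ⟶ Z => f.left) (hm τ (lfst L π) (lsnd L π) (lcond L π))
    dsimp only [Over.comp_left] at h
    have e1 : (llift L π (lfst L π) (lsnd L π ≫ galL k L τ) (by rw [Category.assoc, galL_ιL, lcond])).left =
        GalTw.galMap (k := k') ↥L τ Y := by
      apply pullback.hom_ext
      · exact (pullback.lift_fst _ _ _).trans (GalTw.galMap_fst ↥L τ Y).symm
      · exact (pullback.lift_snd _ _ _).trans (GalTw.galMap_snd ↥L τ Y).symm
    have e2 : (llift L π (lfst L π) (lsnd L π) (lcond L π)).left = 𝟙 _ := by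
      apply pullback.hom_ext
      · exact (pullback.lift_fst _ _ _).trans (Category.id_comp _).symm
      · exact (pullback.lift_snd _ _ _).trans (Category.id_comp _).symm
    rw [e1, e2] at h
    exact h.trans (Category.id_comp _)
  have he : ∀ {W : Scheme.{u}} (g₁ g₂ : W ⟶ (GalTw.bcK ↥L Y).left),
      g₁ ≫ GalTwDescent.pr ↥L Y = g₂ ≫ GalTwDescent.pr ↥L Y → g₁ ≫ m.left = g₂ ≫ m.left := by
    intro W g₁ g₂ hg
    have huniv : pullback.fst (GalTwDescent.pr ↥L Y) (GalTwDescent.pr ↥L Y) ≫ m.left =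
        pullback.snd (GalTwDescent.pr ↥L Y) (GalTwDescent.pr ↥L Y) ≫ m.left :=
      GalTwDescent.graph_hom_ext fun τ => by
        rw [GalTwDescent.graph, pullback.lift_fst_assoc, pullback.lift_snd_assoc, Category.id_comp, hgal]
    have := congrArg (pullback.lift g₁ g₂ hg ≫ ·) huniv
    rwa [pullback.lift_fst_assoc, pullback.lift_snd_assoc] at this
  let g₀ := EffectiveEpi.desc (GalTwDescent.pr ↥L Y) m.left he
  have hg₀ : GalTwDescent.pr ↥L Y ≫ g₀ = m.left := EffectiveEpi.fac (GalTwDescent.pr ↥L Y) m.left he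
  let g : X ⟶ Z := Over.homMk g₀ (by
    rw [← cancel_epi (GalTwDescent.pr ↥L Y), ← Category.assoc, hg₀]
    exact Over.w m)
  have hg : lfst L π ≫ g = m := Over.OverMorphism.ext hg₀
  exact ⟨g, fun q v h => by rw [← hg, llift_fst_assoc]⟩

/-- Any two morphisms agreeing after base change to a level agree. -/
theorem local_ext {T Z : Over (Spec (CommRingCat.of k))} (p : T ⟶ SGA7.pt (K := k) k') {f f' : T ⟶ Z}
    (h : lfst L p ≫ f = lfst L p ≫ f') : f = f' :=
  (cancel_epi (lfst L p)).1 h

end Descent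

end Groth.Agent.GalCohAux.StackLevels
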