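import Groth.Agent.GalCohAux.EtTrace
import Groth.Agent.GalCohAux.StackLevels
import Groth.Agent.EtaleSite.ConstSections

/-!
Cohomology classes of positive degree on a field die on a finite separable extension.
-/

set_option autoImplicit false

universe u

open CategoryTheory CategoryTheory.Limits AlgebraicGeometry Opposite

noncomputable section

namespace Groth.Agent.GalCohAux.EtKill

open EtaleSite EtTrace

variable {K : Type u} [Field K]

local notation "SK" => Spec (CommRingCat.of K)

/-- The section `1` of the constant sheaf. -/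
def one (U : (SK).Etale) : EtCoh.sect (EtCoh.const SK ℤ) U :=
  ConstSections.cst U (M := AddCommGrpCat.of (ULift.{u + 1} ℤ)) (ULift.up 1)

/-- Every étale object with a point receives a finite separable extension. -/
theorem exists_fld_hom {U : (SK).Etale} {Ω : Type u} [Field Ω] [Algebra K Ω] [Algebra.IsSeparable K Ω]
    (y : Spec (CommRingCat.of Ω) ⟶ U.left) (hy : y ≫ U.hom = Spec.map (CommRingCat.ofHom (algebraMap K Ω))) :
    ∃ (L : IntermediateField K Ω) (_ : FiniteDimensional K L),
      haveI : Algebra.IsSeparable K L := Algebra.isSeparable_tower_bot_of_isSeparable K L Ω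
      Nonempty (fld K L ⟶ U) := by
  let X : Over (Spec (CommRingCat.of K)) := Over.mk U.hom
  have : Etale U.hom := U.prop
  have : LocallyOfFiniteType X.hom := inferInstanceAs (LocallyOfFiniteType U.hom)
  let x : SGA7.pt (K := K) Ω ⟶ X := Over.homMk y hy
  obtain ⟨L, hL, x', hx'⟩ := StackLevels.exists_isAt (k' := K) x
  haveI : Algebra.IsSeparable K L := Algebra.isSeparable_tower_bot_of_isSeparable K L Ω
  exact ⟨L, hL, ⟨MorphismProperty.Over.homMk x'.left (Over.w x')⟩⟩

/-- Sections of the constant sheaf over a field extension are integer multiples of `1`. -/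
theorem exists_zsmul_one {L : Type u} [Field L] [Algebra K L] [FiniteDimensional K L] [Algebra.IsSeparable K L]
    (z : EtCoh.sect (EtCoh.const SK ℤ) (fld K L)) : ∃ c : ℤ, z = c • one (fld K L) := by
  let ξ : Spec (CommRingCat.of (SeparableClosure L)) ⟶ SK :=
    Spec.map (CommRingCat.ofHom (algebraMap L (SeparableClosure L))) ≫ (fld K L).hom
  let x : (Scheme.pointSmallEtale ξ).fiber.obj (fld K L) :=
    (Over.homMk (Spec.map (CommRingCat.ofHom (algebraMap L (SeparableClosure L)))) rfl :
      Over.mk ξ ⟶ (Scheme.Etale.forget SK).obj (fld K L))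
  obtain ⟨V, g, y, c, -, hc⟩ := ConstSections.exists_eq_cst ξ (fld K L) x z
  refine ⟨c.down, (EtCoh.const SK ℤ).property.isSeparated _ _ (Covers.singleton_mem g fun p =>
    ⟨(show Spec (CommRingCat.of (SeparableClosure L)) ⟶ V.left from y.left) default, Subsingleton.elim (α := PrimeSpectrum L) _ _⟩) _ _ ?_⟩
  rintro W h ⟨_, a, _, ⟨⟩, rfl⟩
  simp only [op_comp, Functor.map_comp, ConcreteCategory.comp_apply]
  congr 1
  rw [hc, map_zsmul, one, ConstSections.map_cst]
  have e : ConstSections.cst V (M := AddCommGrpCat.of (ULift.{u + 1} ℤ)) c =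
      c.down • ConstSections.cst V (M := AddCommGrpCat.of (ULift.{u + 1} ℤ)) (ULift.up 1) := by
    unfold ConstSections.cst
    rw [← map_zsmul]
    exact congrArg _ (ULift.ext _ _ (by simp))
  exact e

/-- A class dies on `L`: every map `freeOn L ⟶ ℤ` kills it. -/
def Dies (F : EtCoh.Ab SK) (L : Type u) [Field L] [Algebra K L] [FiniteDimensional K L] [Algebra.IsSeparable K L] {n : ℕ}
    (α : EtCoh.H SK F n) : Prop :=
  ∀ φ : Flasque.freeOn (fld K L) ⟶ EtCoh.const SK ℤ, (Abelian.Ext.mk₀ φ).comp α (zero_add n) = 0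

theorem Hpull_eq_zero_of_dies (F : EtCoh.Ab SK) {L : Type u} [Field L] [Algebra K L] [FiniteDimensional K L]
    [Algebra.IsSeparable K L] [PreservesFiniteLimits (EtCoh.pull (fld K L).hom)] {n : ℕ}
    {α : EtCoh.H SK F n} (h : Dies F L α) : EtCore.Hpull (fld K L).hom F n α = 0 := by
  let W := fld K L
  have : (EtShriek.extZero W.hom).Additive := (EtSupp.extPullAdj W.hom).left_adjoint_additive
  let adj := EtSupp.extPullAdj W.hom
  apply (Flasque.bijective_toExt_freeOn W F n).1
  show AdjExt.toExt adj _ F n _ = AdjExt.toExt adj _ F n 0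
  rw [AdjExt.toExt, AdjExt.toExt, Abelian.Ext.mapExactFunctor_zero, Abelian.Ext.zero_comp]
  change (((Abelian.Ext.mk₀ (EtCore.pullConst W.hom ℤ).inv).comp
      (α.mapExactFunctor (EtCoh.pull W.hom)) (zero_add n)).mapExactFunctor (EtShriek.extZero W.hom)).comp
    (Abelian.Ext.mk₀ (adj.counit.app F)) (add_zero n) = 0
  rw [Abelian.Ext.mapExactFunctor_comp, Abelian.Ext.mapExactFunctor_mk₀,
    Abelian.Ext.comp_assoc _ _ _ (zero_add n) (add_zero n) (by omega)]
  have h3 := counit_comp adj (EtCoh.const SK ℤ) n F α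
  rw [AdjExt.toExt] at h3
  rw [h3, Abelian.Ext.mk₀_comp_mk₀_assoc]
  exact h _

theorem dies_of_one (F : EtCoh.Ab SK) {L : Type u} [Field L] [Algebra K L] [FiniteDimensional K L] [Algebra.IsSeparable K L]
    {n : ℕ} {α : EtCoh.H SK F n} (φ₁ : Flasque.freeOn (fld K L) ⟶ EtCoh.const SK ℤ)
    (h₁ : Flasque.freeSec (fld K L) _ φ₁ = one (fld K L))
    (h : (Abelian.Ext.mk₀ φ₁).comp α (zero_add n) = 0) : Dies F L α := by
  intro φ
  obtain ⟨c, hc⟩ := exists_zsmul_one (Flasque.freeSec (fld K L) _ φ)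
  have e : φ = φ₁ ≫ (c • 𝟙 (EtCoh.const SK ℤ)) := (Flasque.freeSec_bijective (fld K L) _).1 (by
    rw [Flasque.freeSec_comp, h₁, hc]
    let E : (EtCoh.const SK ℤ ⟶ EtCoh.const SK ℤ) →+ EtCoh.sect (EtCoh.const SK ℤ) (fld K L) :=
      AddMonoidHom.mk' (fun ψ => ψ.hom.app (op (fld K L)) (one (fld K L))) fun a b => rfl
    show c • one (fld K L) = E (c • 𝟙 _)
    rw [map_zsmul]
    rfl)
  let P : (Flasque.freeOn (fld K L) ⟶ EtCoh.const SK ℤ) →+ Abelian.Ext (Flasque.freeOn (fld K L)) F n :=
    AddMonoidHom.mk' (fun ψ => (Abelian.Ext.mk₀ ψ).comp α (zero_add n)) fun a b => by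
      simp [Abelian.Ext.mk₀_add, Abelian.Ext.add_comp]
  show P φ = 0
  rw [e, Preadditive.comp_zsmul, Category.comp_id, map_zsmul]
  show c • (Abelian.Ext.mk₀ φ₁).comp α (zero_add n) = 0
  rw [h, smul_zero]

/-- Classes of positive degree die on a finite separable extension. -/
theorem exists_dies : ∀ (n : ℕ) (F : EtCoh.Ab SK) (α : EtCoh.H SK F (n + 1)),
    ∃ (L : Type u) (_ : Field L) (_ : Algebra K L) (_ : FiniteDimensional K L) (_ : Algebra.IsSeparable K L),
      Dies F L α := by
  intro n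
  induction n with
  | zero =>
    intro F α
    let S : ShortComplex (EtCoh.Ab SK) := ShortComplex.mk (Injective.ι F) (cokernel.π _) (cokernel.condition _)
    have : Epi S.g := coequalizer.π_epi
    have hS : S.ShortExact := { exact := ShortComplex.exact_cokernel _ }
    have : Injective S.X₂ := inferInstanceAs (Injective (Injective.under F))
    obtain ⟨x, hx⟩ := Abelian.Ext.covariant_sequence_exact₁ (EtCoh.const SK ℤ) hS α
      (Abelian.Ext.eq_zero_of_injective _) (rfl : 0 + 1 = 0 + 1)
    obtain ⟨q, rfl⟩ := (Abelian.Ext.mk₀_bijective _ _).2 x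
    have := EtaleSite.isLocallySurjective_of_stalk S.g fun Ω _ _ ξ => ((epi_iff_stalk S.g).1 ‹_› Ω ξ)
    let Ω := SeparableClosure K
    let ξ : Spec (CommRingCat.of Ω) ⟶ SK := Spec.map (CommRingCat.ofHom (algebraMap K Ω))
    let t := q.hom.app (op (EtCoh.top SK)) (one (EtCoh.top SK))
    obtain ⟨V, g, ⟨i, hi⟩, y, -⟩ := (Scheme.pointSmallEtale ξ).jointly_surjective _
      (Presheaf.imageSieve_mem (SK).smallEtaleTopology S.g.hom t)
      ((Over.homMk ξ (Category.comp_id _) : Over.mk ξ ⟶ (Scheme.Etale.forget SK).obj (EtCoh.top SK)))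
    obtain ⟨L, hL, ⟨a⟩⟩ := exists_fld_hom (U := V) (Ω := Ω) y.left (Over.w y)
    haveI : Algebra.IsSeparable K L := Algebra.isSeparable_tower_bot_of_isSeparable K L Ω
    refine ⟨L, inferInstance, inferInstance, hL, inferInstance, ?_⟩
    obtain ⟨φ₁, h₁⟩ := (Flasque.freeSec_bijective (fld K L) (EtCoh.const SK ℤ)).2 (one (fld K L))
    refine dies_of_one F φ₁ h₁ ?_
    obtain ⟨ψ, hψ⟩ := (Flasque.freeSec_bijective (fld K L) S.X₂).2 (S.X₂.obj.map a.op i)
    have e : φ₁ ≫ q = ψ ≫ S.g := (Flasque.freeSec_bijective (fld K L) S.X₃).1 (by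
      have hone : one (fld K L) = (EtCoh.const SK ℤ).obj.map (a ≫ g).op (one (EtCoh.top SK)) := by
        rw [one, one, ConstSections.map_cst]
      rw [Flasque.freeSec_comp, Flasque.freeSec_comp, h₁, hψ, NatTrans.naturality_apply, hone,
        NatTrans.naturality_apply]
      change S.X₃.obj.map (a ≫ g).op t = _
      rw [op_comp, Functor.map_comp, ConcreteCategory.comp_apply]
      exact congrArg _ hi.symm)
    rw [← hx, Abelian.Ext.mk₀_comp_mk₀_assoc, e, ← Abelian.Ext.mk₀_comp_mk₀_assoc, hS.comp_extClass,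
      Abelian.Ext.comp_zero]
  | succ n ih =>
    intro F α
    let S : ShortComplex (EtCoh.Ab SK) := ShortComplex.mk (Injective.ι F) (cokernel.π _) (cokernel.condition _)
    have : Epi S.g := coequalizer.π_epi
    have hS : S.ShortExact := { exact := ShortComplex.exact_cokernel _ }
    have : Injective S.X₂ := inferInstanceAs (Injective (Injective.under F))
    obtain ⟨x, hx⟩ := Abelian.Ext.covariant_sequence_exact₁ (EtCoh.const SK ℤ) hS α
      (Abelian.Ext.eq_zero_of_injective _) (rfl : n + 1 + 1 = n + 1 + 1)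
    obtain ⟨L, i1, i2, i3, i4, hL⟩ := ih S.X₃ x
    refine ⟨L, i1, i2, i3, i4, fun φ => ?_⟩
    rw [← hx, ← Abelian.Ext.comp_assoc _ _ _ (zero_add (n + 1)) rfl (by omega), hL φ,
      Abelian.Ext.zero_comp]

end Groth.Agent.GalCohAux.EtKill
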