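import Groth.Agent.GalCohAux.EtH1
import Groth.Agent.GalCohAux.EtKill
import Groth.Agent.GalCohAux.EtDev
import Groth.Agent.EtaleSite.HpullSeq
import Mathlib.GroupTheory.SpecificGroups.Cyclic

/-!
Crossed homomorphisms into sections of injective étale sheaves over a finite Galois extension, and `H²` of cyclic extensions.
-/

set_option autoImplicit false
set_option backward.isDefEq.respectTransparency false

universe u

open CategoryTheory CategoryTheory.Limits AlgebraicGeometry Opposite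

noncomputable section

namespace Groth.Agent.GalCohAux.EtCyclic

open EtaleSite EtTrace EtTransfer

variable {K : Type u} [Field K] {N : Type u} [Field N] [Algebra K N] [FiniteDimensional K N] [IsGalois K N]

/-- The section of `N ×_K N ⟶ N` of an automorphism. -/
def comp (τ : N →ₐ[K] N) : fld K N ⟶ wObj N (fld K N) := wLift (𝟙 _) (fldMap τ)

/-- Sections over `N ×_K N` are families indexed by the Galois group. -/
theorem exists_glue (F : EtCoh.Ab (Spec (CommRingCat.of K))) (x : (N →ₐ[K] N) → EtCoh.sect F (fld K N)) :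
    ∃ b : EtCoh.sect F (wObj N (fld K N)), ∀ τ, F.obj.map (comp τ).op b = x τ := by
  have hF : Presieve.IsSheaf _ (F.obj ⋙ forget AddCommGrpCat.{u + 1}) :=
    (isSheaf_iff_isSheaf_of_type _ _).1 (((sheafCompose (Spec (CommRingCat.of K)).smallEtaleTopology
      (forget AddCommGrpCat.{u + 1})).obj F).property)
  have hcov : Sieve.generate (Presieve.ofArrows (fun _ : N →ₐ[K] N => fld K N) comp) ∈
      (Spec (CommRingCat.of K)).smallEtaleTopology (wObj N (fld K N)) := by
    refine mem_topology_of_forall_geomPoint _ fun Ω _ _ ξ z => ?_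
    let z₁ := (Scheme.pointSmallEtale ξ).fiber.map (wFst N (fld K N)) z
    obtain ⟨τ, hτ⟩ := (bijective_fiber (fun x : N => Normal.splits inferInstance x) ξ z₁).1.2
      ((Scheme.pointSmallEtale ξ).fiber.map (wSnd N (fld K N)) z)
    refine ⟨fld K N, comp τ, z₁, Sieve.le_generate _ _ _ (Presieve.ofArrows.mk τ), fiber_ext ξ ?_ ?_⟩
    · rw [fiber_map_map, comp, wLift_fst, FunctorToTypes.map_id_apply]
    · rw [fiber_map_map, comp, wLift_snd]
      exact hτ
  have hS := (Presieve.isSheafFor_iff_generate _).2 (hF _ hcov)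
  rw [Presieve.isSheafFor_arrows_iff] at hS
  obtain ⟨b, hb, -⟩ := hS x fun τ τ' Z a a' h => by
    refine sect_ext (U := Z) _ _ fun Ω _ _ ξ y => ?_
    show germ ξ F Z y (F.obj.map a.op (x τ)) = germ ξ F Z y (F.obj.map a'.op (x τ'))
    have h1 : a = a' := by
      have := congrArg (· ≫ wFst N (fld K N)) h
      simpa [comp, Category.assoc, wLift_fst] using this
    subst h1
    have h2 : a ≫ fldMap τ = a ≫ fldMap τ' := by
      have := congrArg (· ≫ wSnd N (fld K N)) h
      simpa [comp, Category.assoc, wLift_snd] using this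
    have h3 := congrArg (fun m => (Scheme.pointSmallEtale ξ).fiber.map m y) h2
    simp only [← fiber_map_map] at h3
    rw [(bijective_fiber (fun x : N => Normal.splits inferInstance x) ξ
      ((Scheme.pointSmallEtale ξ).fiber.map a y)).1.1 h3]
  exact ⟨b, hb⟩

theorem ext_comp (F : EtCoh.Ab (Spec (CommRingCat.of K))) {b b' : EtCoh.sect F (wObj N (fld K N))}
    (h : ∀ τ, F.obj.map (comp τ).op b = F.obj.map (comp τ).op b') : b = b' := by
  refine sect_ext (U := wObj N (fld K N)) b b' fun Ω _ _ ξ z => ?_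
  let z₁ := (Scheme.pointSmallEtale ξ).fiber.map (wFst N (fld K N)) z
  obtain ⟨τ, hτ⟩ := (bijective_fiber (fun x : N => Normal.splits inferInstance x) ξ z₁).1.2
    ((Scheme.pointSmallEtale ξ).fiber.map (wSnd N (fld K N)) z)
  have e : (Scheme.pointSmallEtale ξ).fiber.map (comp τ) z₁ = z := fiber_ext ξ
    (by rw [fiber_map_map, comp, wLift_fst, FunctorToTypes.map_id_apply])
    (by rw [fiber_map_map, comp, wLift_snd]; exact hτ)
  exact ((congrArg (fun w => germ ξ F _ w b) e).symm.trans ((germ_res ξ F (comp τ) z₁ b).symm.trans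
    ((congrArg _ (h τ)).trans ((germ_res ξ F (comp τ) z₁ b').trans (congrArg (fun w => germ ξ F _ w b') e)))))

/-- The functor `U ↦ U ×_K N`. -/
def wFunctor : (Spec (CommRingCat.of K)).Etale ⥤ (Spec (CommRingCat.of K)).Etale where
  obj U := wObj N U
  map {U V} g := wLift (wFst N U ≫ g) (wSnd N U)
  map_id U := wHom_ext (by rw [wLift_fst, Category.comp_id, Category.id_comp])
    (by rw [wLift_snd, Category.id_comp])
  map_comp {U V W} g h := wHom_ext
    (by rw [wLift_fst, Category.assoc, wLift_fst, ← Category.assoc, ← Category.assoc, wLift_fst])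
    (by rw [wLift_snd, Category.assoc, wLift_snd, wLift_snd])

variable (I : EtCoh.Ab (Spec (CommRingCat.of K)))

/-- Restriction to `U ×_K N`. -/
def resW : I.obj ⟶ (wFunctor (K := K) (N := N)).op ⋙ I.obj where
  app U := I.obj.map (wFst N U.unop).op
  naturality U V g := by
    show I.obj.map g ≫ I.obj.map _ = I.obj.map _ ≫ I.obj.map _
    refine (I.obj.map_comp _ _).symm.trans (Eq.trans ?_ (I.obj.map_comp _ _))
    exact congrArg (fun m => I.obj.map (Quiver.Hom.op m))
      (wLift_fst (wFst N V.unop ≫ g.unop) (wSnd N V.unop)).symm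

theorem exists_retraction [Injective I] :
    ∃ r : (wFunctor (K := K) (N := N)).op ⋙ I.obj ⟶ I.obj, resW I ≫ r = 𝟙 I.obj := by
  haveI : Injective I.obj := Injective.injective_of_adjoint
    (sheafificationAdjunction (Spec (CommRingCat.of K)).smallEtaleTopology AddCommGrpCat.{u + 1}) I
  haveI : Mono (resW (N := N) I) := by
    have : ∀ U, Mono ((resW (N := N) I).app U) := fun U =>
      (AddCommGrpCat.mono_iff_injective _).2 (EtTransfer.injective_res (N := N) I U.unop)
    exact NatTrans.mono_of_mono_app _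
  exact ⟨Injective.factorThru (𝟙 I.obj) (resW I), Injective.comp_factorThru _ _⟩

theorem exists_retr_sect [Injective I] :
    ∃ r : EtCoh.sect I (wObj N (fld K N)) →+ EtCoh.sect I (fld K N),
      (∀ i, r (I.obj.map (wFst N (fld K N)).op i) = i) ∧
      ∀ (σ : N →ₐ[K] N) b, r (I.obj.map (wLift (wFst N (fld K N) ≫ fldMap σ) (wSnd N (fld K N))).op b) =
        I.obj.map (fldMap σ).op (r b) := by
  obtain ⟨r, hr⟩ := exists_retraction (N := N) I
  exact ⟨(r.app (op (fld K N))).hom, fun i => ConcreteCategory.congr_hom (congrArg (fun k => k.app (op (fld K N))) hr) i,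
    fun σ b => NatTrans.naturality_apply r (fldMap σ).op b⟩

theorem comp_act (σ : N ≃ₐ[K] N) (τ : N →ₐ[K] N) :
    comp τ ≫ wLift (wFst N (fld K N) ≫ fldMap σ.toAlgHom) (wSnd N (fld K N)) =
      fldMap σ.toAlgHom ≫ comp ((σ.symm.toAlgHom).comp τ) := by
  refine wHom_ext ?_ ?_
  · rw [Category.assoc, wLift_fst, ← Category.assoc, comp, wLift_fst, Category.id_comp, Category.assoc, comp,
      wLift_fst, Category.comp_id]
  · rw [Category.assoc, wLift_snd, comp, wLift_snd, Category.assoc, comp, wLift_snd, ← EtH1.fldMap_comp]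
    congr 1
    exact AlgHom.ext fun x => (σ.apply_symm_apply (τ x)).symm

/-- Crossed homomorphisms into an injective sheaf are coboundaries. -/
theorem crossed_injective [Injective I] (c : (N →ₐ[K] N) → EtCoh.sect I (fld K N))
    (hc : ∀ σ τ, c (σ.comp τ) = I.obj.map (fldMap σ).op (c τ) + c σ) :
    ∃ b, ∀ σ, c σ = I.obj.map (fldMap σ).op b - b := by
  obtain ⟨b, hb⟩ := exists_glue I fun τ => - c τ
  obtain ⟨r, hr, hnat⟩ := exists_retr_sect (N := N) I
  refine ⟨r b, fun σ' => ?_⟩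
  obtain ⟨σ, rfl⟩ : ∃ g : N ≃ₐ[K] N, g.toAlgHom = σ' :=
    ⟨(algEquivEquivAlgHom K N).symm σ', (algEquivEquivAlgHom K N).apply_symm_apply σ'⟩
  rw [← hnat, ← map_sub]
  refine (hr _).symm.trans (congrArg r (ext_comp I fun τ => ?_))
  rw [map_sub, hb]
  rw [← ConcreteCategory.comp_apply, ← Functor.map_comp, ← op_comp,
    ← ConcreteCategory.comp_apply, ← Functor.map_comp, ← op_comp, comp_act, op_comp (f := fldMap σ.toAlgHom),
    Functor.map_comp, ConcreteCategory.comp_apply, hb, comp, wLift_fst]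
  rw [op_id, I.obj.map_id]
  show c σ.toAlgHom = _
  have e : σ.toAlgHom.comp (σ.symm.toAlgHom.comp τ) = τ := AlgHom.ext fun x => σ.apply_symm_apply (τ x)
  have h' := hc σ.toAlgHom (σ.symm.toAlgHom.comp τ)
  rw [e] at h'
  rw [h', map_neg]
  abel

/-- Invariant sections of an injective sheaf are norms. -/
theorem exists_norm [Injective I] (i : EtCoh.sect I (fld K N))
    (hi : ∀ σ : N →ₐ[K] N, I.obj.map (fldMap σ).op i = i) :
    ∃ a, ∑ σ : N ≃ₐ[K] N, I.obj.map (fldMap σ.toAlgHom).op a = i := by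
  classical
  obtain ⟨b, hb⟩ := exists_glue I fun τ => if τ = AlgHom.id K N then i else 0
  obtain ⟨r, hr, hnat⟩ := exists_retr_sect (N := N) I
  refine ⟨r b, ?_⟩
  simp only [← hnat, ← map_sum]
  refine (congrArg r (ext_comp I fun τ => ?_)).trans (hr i)
  rw [map_sum, ← ConcreteCategory.comp_apply, ← Functor.map_comp, ← op_comp]
  conv_rhs => rw [comp, wLift_fst, op_id, I.obj.map_id]
  obtain ⟨g, rfl⟩ : ∃ g : N ≃ₐ[K] N, g.toAlgHom = τ :=
    ⟨(algEquivEquivAlgHom K N).symm τ, (algEquivEquivAlgHom K N).apply_symm_apply τ⟩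
  rw [Finset.sum_eq_single g (fun σ _ hσ => ?_) (fun h => absurd (Finset.mem_univ g) h)]
  · rw [← ConcreteCategory.comp_apply, ← Functor.map_comp, ← op_comp, comp_act, op_comp, Functor.map_comp,
      ConcreteCategory.comp_apply, hb, if_pos (AlgHom.ext fun x => g.symm_apply_apply x)]
    exact hi _
  · rw [← ConcreteCategory.comp_apply, ← Functor.map_comp, ← op_comp, comp_act, op_comp, Functor.map_comp,
      ConcreteCategory.comp_apply, hb, if_neg, map_zero]
    intro h
    refine hσ (AlgEquiv.ext fun x => ?_)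
    have h1 : σ.symm (g x) = x := AlgHom.congr_fun h x
    exact ((congrArg σ h1).symm.trans (σ.apply_symm_apply (g x)))

/-! ### Cyclic extensions -/

/-- The action of an automorphism on sections over `N`. -/
def sig (G : EtCoh.Ab (Spec (CommRingCat.of K))) (σ : N ≃ₐ[K] N) : EtCoh.sect G (fld K N) →+ EtCoh.sect G (fld K N) :=
  (G.obj.map (fldMap σ.toAlgHom).op).hom

theorem sig_mul (G : EtCoh.Ab (Spec (CommRingCat.of K))) (σ τ : N ≃ₐ[K] N) (s : EtCoh.sect G (fld K N)) :
    sig G (σ * τ) s = sig G σ (sig G τ s) := by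
  show G.obj.map (fldMap (σ.toAlgHom.comp τ.toAlgHom)).op s = G.obj.map _ (G.obj.map _ s)
  rw [EtH1.fldMap_comp, op_comp, Functor.map_comp, ConcreteCategory.comp_apply]

theorem sig_natural {G G' : EtCoh.Ab (Spec (CommRingCat.of K))} (φ : G ⟶ G') (σ : N ≃ₐ[K] N)
    (s : EtCoh.sect G (fld K N)) :
    φ.hom.app (op (fld K N)) (sig G σ s) = sig G' σ (φ.hom.app (op (fld K N)) s) :=
  NatTrans.naturality_apply φ.hom (fldMap σ.toAlgHom).op s

theorem exists_aut (σ' : N →ₐ[K] N) : ∃ σ : N ≃ₐ[K] N, σ.toAlgHom = σ' :=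
  ⟨(algEquivEquivAlgHom K N).symm σ', (algEquivEquivAlgHom K N).apply_symm_apply σ'⟩

theorem sig_one (G : EtCoh.Ab (Spec (CommRingCat.of K))) (s : EtCoh.sect G (fld K N)) : sig G (1 : N ≃ₐ[K] N) s = s := by
  show G.obj.map (fldMap (AlgHom.id K N)).op s = s
  rw [show fldMap (AlgHom.id K N) = 𝟙 (fld K N) from MorphismProperty.Over.Hom.ext (Spec.map_id _), op_id,
    G.obj.map_id]
  rfl

variable {p : ℕ} {g : N ≃ₐ[K] N}

theorem exists_crossed (G : EtCoh.Ab (Spec (CommRingCat.of K))) (hord : orderOf g = p)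
    (hgen : ∀ x : N ≃ₐ[K] N, x ∈ Subgroup.zpowers g) (a : EtCoh.sect G (fld K N))
    (ha : ∑ σ : N ≃ₐ[K] N, sig G σ a = 0) :
    ∃ c : (N ≃ₐ[K] N) → EtCoh.sect G (fld K N), (∀ σ τ, c (σ * τ) = sig G σ (c τ) + c σ) ∧ c g = a := by
  classical
  let S : ℕ → EtCoh.sect G (fld K N) := fun n => ∑ j ∈ Finset.range n, sig G (g ^ j) a
  have hS : ∀ m n, S (m + n) = sig G (g ^ m) (S n) + S m := fun m n => by
    simp only [S, Finset.sum_range_add, map_sum, pow_add, sig_mul]
    rw [add_comm]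
  have hp : S p = 0 := by
    refine Eq.trans ?_ ha
    show ∑ j ∈ Finset.range p, sig G (g ^ j) a = _
    rw [← Finset.sum_image (g := fun j => g ^ j) (f := fun σ => sig G σ a)]
    · congr 1
      rw [← hord, IsCyclic.image_range_orderOf hgen]
    · intro i hi j hj hij
      rw [← hord] at hi hj
      exact pow_injOn_Iio_orderOf (Finset.mem_range.1 hi) (Finset.mem_range.1 hj) hij
  have hq : ∀ q r, S (r + p * q) = S r := by
    intro q r
    induction q with
    | zero => simp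
    | succ q ih => rw [Nat.mul_succ, ← add_assoc, hS, hp, map_zero, zero_add, ih]
  have hmod : ∀ i j, g ^ i = g ^ j → S i = S j := by
    intro i j hij
    rw [pow_eq_pow_iff_modEq, hord] at hij
    rw [← Nat.mod_add_div i p, ← Nat.mod_add_div j p, hq, hq, hij]
  choose e he using fun x => (Submonoid.mem_powers_iff _ _).1 (mem_powers_iff_mem_zpowers.2 (hgen x))
  refine ⟨fun x => S (e x), fun x y => ?_, ?_⟩
  · show S (e (x * y)) = sig G x (S (e y)) + S (e x)
    rw [hmod (e (x * y)) (e x + e y) (by rw [pow_add, he, he, he]), hS, he]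
  · show S (e g) = a
    rw [hmod (e g) 1 (by rw [he, pow_one])]
    simp [S, sig_one]

theorem crossed_ext (G : EtCoh.Ab (Spec (CommRingCat.of K))) (hgen : ∀ x : N ≃ₐ[K] N, x ∈ Subgroup.zpowers g)
    {c d : (N ≃ₐ[K] N) → EtCoh.sect G (fld K N)} (hc : ∀ σ τ, c (σ * τ) = sig G σ (c τ) + c σ)
    (hd : ∀ σ τ, d (σ * τ) = sig G σ (d τ) + d σ) (h : c g = d g) : c = d := by
  funext x
  obtain ⟨j, rfl⟩ := (Submonoid.mem_powers_iff _ _).1 (mem_powers_iff_mem_zpowers.2 (hgen x))
  induction j with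
  | zero =>
    rw [pow_zero]
    have h1 := hc 1 1
    have h2 := hd 1 1
    rw [mul_one, sig_one] at h1 h2
    rw [eq_comm, add_eq_left] at h1 h2
    rw [h1, h2]
  | succ j ih => rw [pow_succ', hc, hd, ih, h]

/-- Sections of a quotient lift when the obstruction group vanishes. -/
theorem exists_lift {S : ShortComplex (EtCoh.Ab (Spec (CommRingCat.of K)))} (hS : S.ShortExact)
    (h : Subsingleton (Abelian.Ext (Flasque.freeOn (fld K N)) S.X₁ 1)) (t : EtCoh.sect S.X₃ (fld K N)) :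
    ∃ s, S.g.hom.app (op (fld K N)) s = t := by
  obtain ⟨φ, rfl⟩ := (Flasque.freeSec_bijective (fld K N) S.X₃).2 t
  obtain ⟨y, hy⟩ := Abelian.Ext.covariant_sequence_exact₃ _ hS (Abelian.Ext.mk₀ φ) (rfl : 0 + 1 = 1)
    (h.elim _ _)
  obtain ⟨ψ, rfl⟩ := (Abelian.Ext.mk₀_bijective _ _).2 y
  rw [Abelian.Ext.mk₀_comp_mk₀] at hy
  exact ⟨Flasque.freeSec (fld K N) S.X₂ ψ, by rw [← Flasque.freeSec_comp, (Abelian.Ext.mk₀_bijective _ _).1 hy]⟩

theorem fld_one_eq :
    (EtCoh.const (Spec (CommRingCat.of K)) ℤ).obj.map ((EtCore.topIsTerminal _).from (fld K N)).op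
      (EtKill.one (EtCoh.top (Spec (CommRingCat.of K)))) = EtKill.one (fld K N) := by
  rw [EtKill.one, EtKill.one, ConstSections.map_cst]

/-- Crossed homomorphisms are coboundaries when `H¹` classes killed on `N` vanish. -/
theorem coboundary_of_H1 (G : EtCoh.Ab (Spec (CommRingCat.of K)))
    (hH : ∀ y : EtCoh.H (Spec (CommRingCat.of K)) G 1, EtCore.Hpull (fld K N).hom G 1 y = 0 → y = 0)
    (c : (N ≃ₐ[K] N) → EtCoh.sect G (fld K N)) (hc : ∀ σ τ, c (σ * τ) = sig G σ (c τ) + c σ) :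
    ∃ b, ∀ σ, c σ = sig G σ b - b := by
  let SK := Spec (CommRingCat.of K)
  let S : ShortComplex (EtCoh.Ab SK) := ShortComplex.mk (Injective.ι G) (cokernel.π _) (cokernel.condition _)
  have hS : S.ShortExact := { exact := ShortComplex.exact_cokernel _ }
  have : Injective S.X₂ := inferInstanceAs (Injective (Injective.under G))
  have hinj := EtColim.CohColim.injective_app hS (fld K N)
  let c' : (N →ₐ[K] N) → EtCoh.sect S.X₂ (fld K N) :=
    fun σ => S.f.hom.app (op (fld K N)) (c ((algEquivEquivAlgHom K N).symm σ))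
  obtain ⟨b, hb⟩ := crossed_injective S.X₂ c' fun σ' τ' => by
    obtain ⟨σ, rfl⟩ := exists_aut σ'
    obtain ⟨τ, rfl⟩ := exists_aut τ'
    have key : ∀ ρ : N ≃ₐ[K] N, c' ρ.toAlgHom = S.f.hom.app (op (fld K N)) (c ρ) := fun ρ =>
      congrArg (fun z => S.f.hom.app (op (fld K N)) (c z)) ((algEquivEquivAlgHom K N).symm_apply_apply ρ)
    show c' (σ * τ).toAlgHom = sig S.X₂ σ (c' τ.toAlgHom) + c' σ.toAlgHom
    rw [key, key, key, hc, map_add, sig_natural]
  have hb' : ∀ σ : N ≃ₐ[K] N, S.f.hom.app (op (fld K N)) (c σ) = sig S.X₂ σ b - b := fun σ => by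
    rw [show sig S.X₂ σ b - b = c' σ.toAlgHom from (hb _).symm]
    show _ = S.f.hom.app _ (c ((algEquivEquivAlgHom K N).symm σ.toAlgHom))
    rw [show (algEquivEquivAlgHom K N).symm σ.toAlgHom = σ from (algEquivEquivAlgHom K N).symm_apply_apply σ]
  have hz : ∀ s, S.g.hom.app (op (fld K N)) (S.f.hom.app (op (fld K N)) s) = 0 := fun s =>
    congrArg (fun k : S.X₁ ⟶ S.X₃ => k.hom.app (op (fld K N)) s) S.zero
  obtain ⟨t, ht⟩ := EtH1.exists_top_of_fixed S.X₃ (S.g.hom.app (op (fld K N)) b) fun σ' => by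
    obtain ⟨σ, rfl⟩ := exists_aut σ'
    have h1 := congrArg (S.g.hom.app (op (fld K N))) (hb' σ)
    rw [hz, map_sub, sig_natural, eq_comm, sub_eq_zero] at h1
    exact h1
  obtain ⟨q, rfl⟩ := (Flasque.evTop_bijective S.X₃).2 t
  let C := EtCoh.const SK ℤ
  let r := (EtCore.topIsTerminal SK).from (fld K N)
  obtain ⟨φ₁, hφ₁⟩ := (Flasque.freeSec_bijective (fld K N) C).2 (EtKill.one (fld K N))
  obtain ⟨ψ, hψ⟩ := (Flasque.freeSec_bijective (fld K N) S.X₂).2 b
  have hev : Flasque.evTop S.X₃ q = q.hom.app (op (EtCoh.top SK)) (EtKill.one (EtCoh.top SK)) :=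
    (EtDev.constAdj_apply_cst q (ULift.up (1 : ℤ))).symm
  have e : φ₁ ≫ q = ψ ≫ S.g := (Flasque.freeSec_bijective (fld K N) S.X₃).1 (by
    rw [Flasque.freeSec_comp, Flasque.freeSec_comp, hφ₁, hψ, ← ht, hev, ← fld_one_eq,
      NatTrans.naturality_apply q.hom r.op])
  let y : EtCoh.H SK G 1 := (Abelian.Ext.mk₀ q).comp hS.extClass (zero_add 1)
  have hy : y = 0 := hH y (EtKill.Hpull_eq_zero_of_dies G (EtKill.dies_of_one G φ₁ hφ₁ (by
    show (Abelian.Ext.mk₀ φ₁).comp ((Abelian.Ext.mk₀ q).comp hS.extClass (zero_add 1)) (zero_add 1) = 0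
    rw [Abelian.Ext.mk₀_comp_mk₀_assoc, e, ← Abelian.Ext.mk₀_comp_mk₀_assoc, hS.comp_extClass, Abelian.Ext.comp_zero])))
  obtain ⟨w, hw⟩ := Abelian.Ext.covariant_sequence_exact₃ _ hS (Abelian.Ext.mk₀ q) (rfl : 0 + 1 = 1) hy
  obtain ⟨v, rfl⟩ := (Abelian.Ext.mk₀_bijective _ _).2 w
  rw [Abelian.Ext.mk₀_comp_mk₀] at hw
  have hv : v ≫ S.g = q := (Abelian.Ext.mk₀_bijective _ _).1 hw
  let vN := S.X₂.obj.map r.op (Flasque.evTop S.X₂ v)
  obtain ⟨e', he'⟩ := EtColim.CohColim.exact_app hS (fld K N) (b - vN) (by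
    rw [map_sub, sub_eq_zero, ← ht]
    show _ = S.g.hom.app (op (fld K N)) (S.X₂.obj.map r.op (Flasque.evTop S.X₂ v))
    rw [NatTrans.naturality_apply S.g.hom r.op, ← Flasque.evTop_comp, hv])
  refine ⟨e', fun σ => hinj ?_⟩
  rw [map_sub, sig_natural, he', hb', map_sub]
  have hfix : sig S.X₂ σ vN = vN := by
    show S.X₂.obj.map (fldMap σ.toAlgHom).op (S.X₂.obj.map r.op _) = S.X₂.obj.map r.op _
    rw [← ConcreteCategory.comp_apply, ← Functor.map_comp, ← op_comp,
      (EtCore.topIsTerminal SK).hom_ext (fldMap σ.toAlgHom ≫ r) r]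
  rw [hfix]
  abel

variable (G : EtCoh.Ab (Spec (CommRingCat.of K)))

/-- Classes of `H²` killed on a cyclic extension vanish when norms are surjective on invariants. -/
theorem eq_zero_of_norm (hord : orderOf g = p) (hgen : ∀ x : N ≃ₐ[K] N, x ∈ Subgroup.zpowers g)
    (hsurj : Subsingleton (Abelian.Ext (Flasque.freeOn (fld K N)) G 1))
    (hnorm : ∀ u, (∀ σ : N ≃ₐ[K] N, sig G σ u = u) → ∃ w, ∑ σ : N ≃ₐ[K] N, sig G σ w = u)
    (x : EtCoh.H (Spec (CommRingCat.of K)) G 2) (hx : EtCore.Hpull (fld K N).hom G 2 x = 0) : x = 0 := by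
  classical
  let SK := Spec (CommRingCat.of K)
  let S : ShortComplex (EtCoh.Ab SK) := ShortComplex.mk (Injective.ι G) (cokernel.π _) (cokernel.condition _)
  have hS : S.ShortExact := { exact := ShortComplex.exact_cokernel _ }
  have : Injective S.X₂ := inferInstanceAs (Injective (Injective.under G))
  have hinj := EtColim.CohColim.injective_app hS (fld K N)
  have hz : ∀ s, S.g.hom.app (op (fld K N)) (S.f.hom.app (op (fld K N)) s) = 0 := fun s =>
    congrArg (fun k : S.X₁ ⟶ S.X₃ => k.hom.app (op (fld K N)) s) S.zero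
  obtain ⟨y, hy⟩ := Abelian.Ext.covariant_sequence_exact₁ (EtCoh.const SK ℤ) hS x
    (Abelian.Ext.eq_zero_of_injective _) (rfl : 1 + 1 = 2)
  obtain ⟨φ₁, hφ₁⟩ := (Flasque.freeSec_bijective (fld K N) (EtCoh.const SK ℤ)).2 (EtKill.one (fld K N))
  have h0 : (Abelian.Ext.mk₀ φ₁).comp x (zero_add 2) = 0 := comp_eq_zero_of_Hpull (fld K N) G 2 x hx φ₁
  rw [← hy, ← Abelian.Ext.comp_assoc _ _ _ (zero_add 1) rfl (by omega)] at h0
  obtain ⟨w, hw⟩ := Abelian.Ext.covariant_sequence_exact₃ _ hS _ rfl h0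
  rw [Abelian.Ext.eq_zero_of_injective w, Abelian.Ext.zero_comp] at hw
  have hy0 : y = 0 := EtH1.eq_zero_of_crossed (N := N) S.X₃ (fun c hc => by
    let d : (N ≃ₐ[K] N) → EtCoh.sect S.X₃ (fld K N) := fun σ => c σ.toAlgHom
    have hd : ∀ σ τ, d (σ * τ) = sig S.X₃ σ (d τ) + d σ := fun σ τ => hc σ.toAlgHom τ.toAlgHom
    have hsum : ∑ σ : N ≃ₐ[K] N, sig S.X₃ σ (d g) = 0 := by
      have h1 : ∀ σ, sig S.X₃ σ (d g) = d (σ * g) - d σ := fun σ => by rw [hd, add_sub_cancel_right]
      simp only [h1, Finset.sum_sub_distrib]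
      rw [sub_eq_zero]
      exact Equiv.sum_comp (Equiv.mulRight g) d
    obtain ⟨a, ha⟩ := exists_lift hS hsurj (d g)
    obtain ⟨u, hu⟩ := EtColim.CohColim.exact_app hS (fld K N) (∑ σ : N ≃ₐ[K] N, sig S.X₂ σ a) (by
      rw [map_sum]
      refine (Finset.sum_congr rfl fun σ _ => ?_).trans hsum
      rw [sig_natural, ha])
    obtain ⟨v, hv⟩ := hnorm u fun τ => hinj (by
      rw [sig_natural, hu, map_sum]
      simp only [← sig_mul]
      exact Equiv.sum_comp (Equiv.mulLeft τ) (fun σ => sig S.X₂ σ a))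
    obtain ⟨c', hc', hc'g⟩ := exists_crossed S.X₂ hord hgen (a - S.f.hom.app (op (fld K N)) v) (by
      simp only [map_sub, Finset.sum_sub_distrib]
      rw [← Finset.sum_congr rfl (fun σ _ => sig_natural S.f σ v), ← map_sum, hv, hu, sub_self])
    obtain ⟨b, hb⟩ := crossed_injective S.X₂ (fun σ => c' ((algEquivEquivAlgHom K N).symm σ)) fun σ' τ' => by
      obtain ⟨σ, rfl⟩ := exists_aut σ'
      obtain ⟨τ, rfl⟩ := exists_aut τ'
      show c' ((algEquivEquivAlgHom K N).symm ((σ * τ).toAlgHom)) = _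
      simp only [show ∀ ρ : N ≃ₐ[K] N, (algEquivEquivAlgHom K N).symm ρ.toAlgHom = ρ from
        fun ρ => (algEquivEquivAlgHom K N).symm_apply_apply ρ]
      exact hc' σ τ
    have hb' : ∀ σ : N ≃ₐ[K] N, c' σ = sig S.X₂ σ b - b := fun σ => by
      have := hb σ.toAlgHom
      rwa [show (algEquivEquivAlgHom K N).symm σ.toAlgHom = σ from (algEquivEquivAlgHom K N).symm_apply_apply σ] at this
    let b₃ := S.g.hom.app (op (fld K N)) b
    have hbase : d g = sig S.X₃ g b₃ - b₃ := by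
      show _ = sig S.X₃ g (S.g.hom.app (op (fld K N)) b) - S.g.hom.app (op (fld K N)) b
      rw [← sig_natural, ← map_sub, ← hb' g, hc'g, map_sub, hz, sub_zero, ha]
    have he : d = fun σ => sig S.X₃ σ b₃ - b₃ := crossed_ext S.X₃ hgen hd (fun σ τ => by
      rw [sig_mul, map_sub]
      abel) hbase
    exact ⟨b₃, fun σ' => by
      obtain ⟨σ, rfl⟩ := exists_aut σ'
      exact congrFun he σ⟩) y (EtKill.Hpull_eq_zero_of_dies S.X₃ (EtKill.dies_of_one S.X₃ φ₁ hφ₁ hw.symm))
  rw [← hy, hy0, Abelian.Ext.zero_comp]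

/-- Norms are surjective on invariants when classes of `H²` killed on the cyclic extension vanish. -/
theorem norm_of_H2 (hord : orderOf g = p) (hgen : ∀ x : N ≃ₐ[K] N, x ∈ Subgroup.zpowers g)
    (hsurj : Subsingleton (Abelian.Ext (Flasque.freeOn (fld K N)) G 1))
    (hH : ∀ x : EtCoh.H (Spec (CommRingCat.of K)) G 2, EtCore.Hpull (fld K N).hom G 2 x = 0 → x = 0)
    (u : EtCoh.sect G (fld K N)) (hu : ∀ σ : N ≃ₐ[K] N, sig G σ u = u) :
    ∃ w, ∑ σ : N ≃ₐ[K] N, sig G σ w = u := by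
  classical
  let SK := Spec (CommRingCat.of K)
  let S : ShortComplex (EtCoh.Ab SK) := ShortComplex.mk (Injective.ι G) (cokernel.π _) (cokernel.condition _)
  have hS : S.ShortExact := { exact := ShortComplex.exact_cokernel _ }
  have : Injective S.X₂ := inferInstanceAs (Injective (Injective.under G))
  have hinj := EtColim.CohColim.injective_app hS (fld K N)
  have hz : ∀ s, S.g.hom.app (op (fld K N)) (S.f.hom.app (op (fld K N)) s) = 0 := fun s =>
    congrArg (fun k : S.X₁ ⟶ S.X₃ => k.hom.app (op (fld K N)) s) S.zero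
  obtain ⟨a, ha⟩ := exists_norm S.X₂ (S.f.hom.app (op (fld K N)) u) fun σ' => by
    obtain ⟨σ, rfl⟩ := exists_aut σ'
    exact (sig_natural S.f σ u).symm.trans (congrArg _ (hu σ))
  replace ha : ∑ σ : N ≃ₐ[K] N, sig S.X₂ σ a = S.f.hom.app (op (fld K N)) u := ha
  obtain ⟨c, hc, hcg⟩ := exists_crossed S.X₃ hord hgen (S.g.hom.app (op (fld K N)) a) (by
    rw [← Finset.sum_congr rfl (fun σ _ => sig_natural S.g σ a), ← map_sum, ha, hz])
  obtain ⟨e, he⟩ := coboundary_of_H1 S.X₃ (fun y hy => by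
    have h1 : y.comp hS.extClass rfl = 0 := hH _
      ((HpullSeq.Hpull_extClass (fld K N).hom hS 1 y).trans (by rw [hy]; exact Abelian.Ext.zero_comp _ _ _ _ _))
    obtain ⟨w, hw⟩ := Abelian.Ext.covariant_sequence_exact₃ _ hS y rfl h1
    rw [← hw, Abelian.Ext.eq_zero_of_injective w, Abelian.Ext.zero_comp]) c hc
  obtain ⟨e', he'⟩ := exists_lift hS hsurj e
  obtain ⟨w, hw⟩ := EtColim.CohColim.exact_app hS (fld K N) (a - (sig S.X₂ g e' - e')) (by
    rw [map_sub, map_sub, sig_natural, he', ← hcg, he, sub_self])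
  refine ⟨w, hinj ?_⟩
  rw [map_sum]
  rw [Finset.sum_congr rfl (fun σ _ => show S.f.hom.app (op (fld K N)) (sig G σ w) =
      sig S.X₂ σ a - (sig S.X₂ (σ * g) e' - sig S.X₂ σ e') by
    refine (sig_natural S.f σ w).trans ?_
    rw [hw, map_sub, map_sub, sig_mul]), Finset.sum_sub_distrib, Finset.sum_sub_distrib]
  rw [ha, show ∑ σ : N ≃ₐ[K] N, sig S.X₂ (σ * g) e' = ∑ σ : N ≃ₐ[K] N, sig S.X₂ σ e' from
    Equiv.sum_comp (Equiv.mulRight g) (fun σ => sig S.X₂ σ e'), sub_self, sub_zero]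

end Groth.Agent.GalCohAux.EtCyclic
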