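import Groth.Agent.S3054
import Groth.Agent.S14451
import Groth.Agent.RDerLES
import Groth.Agent.EtSupp.Basic
import Groth.Agent.EtConsAb.Supp
import Groth.Agent.EtaleSite.Recollement
import Groth.Agent.GalCohAux.EtCdTr
import Mathlib.AlgebraicGeometry.Morphisms.Preimmersion

/-!
Vanishing of cohomology: Leray-type dimension shifting, and schemes with finitely many closed points.
-/

set_option autoImplicit false
set_option backward.isDefEq.respectTransparency false

universe u

open CategoryTheory CategoryTheory.Limits AlgebraicGeometry Opposite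

noncomputable section

namespace Groth.Agent.GalCohAux.EtDimVanA

open EtaleSite

attribute [-instance] EtFin.instUniqueCarrierCarrierCommRingCatSpecOf_groth

variable {X Y : Scheme.{u}}

theorem isZero_of_supp_empty {F : EtCoh.Ab X} (h : EtPBC.supp F = ∅) : IsZero F := by
  rw [isZero_iff_stalk]
  intro Ω _ _ ξ
  by_contra hne
  have := (EtConsAb.mem_supp_iff (F := F) ξ).2 hne
  rw [h] at this
  exact this

theorem mem_supp {F : EtCoh.Ab X} (y : X) :
    y ∈ EtPBC.supp F ↔ ¬ IsZero ((EtCoh.stalk (geomPointAt X y)).obj F) := by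
  have h := EtConsAb.mem_supp_iff (F := F) (geomPointAt X y)
  rwa [geomPointAt_apply X y _] at h

theorem subsingleton_H_of_isZero {F : EtCoh.Ab X} (h : IsZero F) (q : ℕ) :
    Subsingleton (EtCoh.H X F q) := by
  refine subsingleton_of_forall_eq 0 fun x => ?_
  rw [← Abelian.Ext.comp_mk₀_id x, (IsZero.iff_id_eq_zero F).1 h, Abelian.Ext.mk₀_zero, Abelian.Ext.comp_zero]

theorem subsingleton_H_mid {S : ShortComplex (EtCoh.Ab X)} (hS : S.ShortExact) (q : ℕ)
    (h1 : Subsingleton (EtCoh.H X S.X₁ q)) (h3 : Subsingleton (EtCoh.H X S.X₃ q)) :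
    Subsingleton (EtCoh.H X S.X₂ q) := by
  refine subsingleton_of_forall_eq 0 fun x => ?_
  obtain ⟨y, rfl⟩ := Abelian.Ext.covariant_sequence_exact₂ _ hS x (@Subsingleton.elim _ h3 _ _)
  rw [@Subsingleton.elim _ h1 y 0]
  simp

theorem subsingleton_H_left {S : ShortComplex (EtCoh.Ab X)} (hS : S.ShortExact) (q : ℕ)
    (h3 : Subsingleton (EtCoh.H X S.X₃ q)) (h2 : Subsingleton (EtCoh.H X S.X₂ (q + 1))) :
    Subsingleton (EtCoh.H X S.X₁ (q + 1)) := by
  refine subsingleton_of_forall_eq 0 fun x => ?_
  obtain ⟨y, rfl⟩ := Abelian.Ext.covariant_sequence_exact₁ _ hS x (@Subsingleton.elim _ h2 _ _) (rfl : q + 1 = q + 1)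
  rw [@Subsingleton.elim _ h3 y 0]
  simp

theorem subsingleton_H_right {S : ShortComplex (EtCoh.Ab X)} (hS : S.ShortExact) (q : ℕ)
    (h2 : Subsingleton (EtCoh.H X S.X₂ q)) (h1 : Subsingleton (EtCoh.H X S.X₁ (q + 1))) :
    Subsingleton (EtCoh.H X S.X₃ q) := by
  refine subsingleton_of_forall_eq 0 fun x => ?_
  obtain ⟨y, rfl⟩ := Abelian.Ext.covariant_sequence_exact₃ _ hS x (rfl : q + 1 = q + 1)
    (@Subsingleton.elim _ h1 _ _)
  rw [@Subsingleton.elim _ h2 y 0]
  simp

theorem subsingleton_H_of_iso {F G : EtCoh.Ab X} (e : F ≅ G) (q : ℕ) (h : Subsingleton (EtCoh.H X F q)) :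
    Subsingleton (EtCoh.H X G q) := by
  refine subsingleton_of_forall_eq 0 fun x => ?_
  have h1 : x.comp (Abelian.Ext.mk₀ e.inv) (add_zero q) = 0 := @Subsingleton.elim _ h _ _
  rw [← Abelian.Ext.comp_mk₀_id x, ← e.inv_hom_id, ← Abelian.Ext.mk₀_comp_mk₀,
    ← Abelian.Ext.comp_assoc_of_second_deg_zero, h1, Abelian.Ext.zero_comp]

/-- Leray-type vanishing: if `H^q(Y, M) = 0` for `q > a` and the higher direct images have no
cohomology in the complementary degrees, then `H^q(X, f_* M) = 0` for `q > a`. -/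
theorem leray (f : Y ⟶ X) : ∀ (a : ℕ) (M : EtCoh.Ab Y),
    (∀ q, a < q → Subsingleton (EtCoh.H Y M q)) →
    (∀ i, a ≤ i → 0 < i → IsZero ((EtCoh.Rpush f i).obj M)) →
    (∀ i p, 0 < i → a < p + i + 1 → Subsingleton (EtCoh.H X ((EtCoh.Rpush f i).obj M) p)) →
    ∀ q, a < q → Subsingleton (EtCoh.H X ((EtCoh.push f).obj M) q) := by
  intro a
  induction a with
  | zero =>
    intro M hM hz _ q hq
    exact (Equiv.ofBijective _ (S14451.result f M (fun i hi => hz i (Nat.zero_le i) hi) q)).subsingleton_congr.2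
      (hM q hq)
  | succ a ih =>
    intro M hM hz hH q hq
    obtain ⟨q', rfl⟩ : ∃ q', q = q' + 2 := ⟨q - 2, by omega⟩
    let I := Injective.under M
    let S : ShortComplex (EtCoh.Ab Y) :=
      ShortComplex.mk (Injective.ι M) (cokernel.π (Injective.ι M)) (cokernel.condition _)
    have hS : S.ShortExact := { exact := ShortComplex.exact_of_g_is_cokernel _ (cokernelIsCokernel _) }
    haveI hI : Injective S.X₂ := (inferInstance : Injective (Injective.under M))
    haveI : PreservesFiniteLimits (EtCoh.push f) := inferInstance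
    let l := Groth.Agent.RDerLES.derivedLES (EtCoh.push f)
    have hIz : ∀ n, IsZero ((EtCoh.Rpush f (n + 1)).obj S.X₂) := fun n =>
      Functor.isZero_rightDerived_obj_injective_succ (EtCoh.push f) n S.X₂
    -- the higher direct images of the quotient
    have eR : ∀ i, Nonempty ((EtCoh.Rpush f (i + 1)).obj S.X₃ ≅ (EtCoh.Rpush f (i + 2)).obj M) := fun i => by
      haveI : Mono (l.δ S hS (i + 1) (i + 2) rfl) :=
        (l.exact₃ S hS (i + 1) (i + 2) rfl).mono_g ((hIz i).eq_of_src _ _)
      haveI : Epi (l.δ S hS (i + 1) (i + 2) rfl) :=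
        (l.exact₁ S hS (i + 1) (i + 2) rfl).epi_f ((hIz (i + 1)).eq_of_tgt _ _)
      haveI := isIso_of_mono_of_epi (l.δ S hS (i + 1) (i + 2) rfl)
      exact ⟨asIso (l.δ S hS (i + 1) (i + 2) rfl)⟩
    have hQ : ∀ p, a < p → Subsingleton (EtCoh.H X ((EtCoh.push f).obj S.X₃) p) := by
      refine ih S.X₃ (fun p hp => ?_) (fun i hi h0 => ?_) (fun i p h0 hp => ?_)
      · obtain ⟨p', rfl⟩ : ∃ p', p = p' + 1 := ⟨p - 1, by omega⟩
        exact subsingleton_H_right hS _
          (subsingleton_of_forall_eq 0 fun x => EtCdTr.H_eq_zero_of_injective S.X₂ x) (hM _ (by omega))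
      · obtain ⟨i', rfl⟩ : ∃ i', i = i' + 1 := ⟨i - 1, by omega⟩
        exact (hz (i' + 2) (by omega) (by omega)).of_iso (eR i').some
      · obtain ⟨i', rfl⟩ : ∃ i', i = i' + 1 := ⟨i - 1, by omega⟩
        exact subsingleton_H_of_iso (eR i').some.symm p (hH (i' + 2) p (by omega) (by omega))
    -- the cokernel of `f_* I ⟶ f_* Q`
    let fg := (EtCoh.push f).map S.g
    let δ1 : (EtCoh.push f).obj S.X₃ ⟶ (EtCoh.Rpush f 1).obj M :=
      (EtCoh.push f).rightDerivedZeroIsoSelf.inv.app S.X₃ ≫ l.δ S hS 0 1 rfl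
    have hc : fg ≫ δ1 = 0 := by
      simp only [fg, δ1, ← Category.assoc, (EtCoh.push f).rightDerivedZeroIsoSelf.inv.naturality]
      rw [Category.assoc, l.comp_δ, comp_zero]
    let E : ShortComplex (EtCoh.Ab X) := ShortComplex.mk fg δ1 hc
    have hE : E.Exact :=
      (ShortComplex.exact_iff_of_iso (ShortComplex.isoMk
        ((EtCoh.push f).rightDerivedZeroIsoSelf.app S.X₂)
        ((EtCoh.push f).rightDerivedZeroIsoSelf.app S.X₃) (Iso.refl _)
        ((EtCoh.push f).rightDerivedZeroIsoSelf.hom.naturality S.g).symm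
        (by simp [E, δ1]) :
        ShortComplex.mk _ _ (l.comp_δ S hS 0 1 rfl) ≅ E)).1 (l.exact₃ S hS 0 1 rfl)
    haveI : Epi (l.δ S hS 0 1 rfl) := (l.exact₁ S hS 0 1 rfl).epi_f ((hIz 0).eq_of_tgt _ _)
    haveI : Epi E.g := (inferInstance : Epi (_ ≫ l.δ S hS 0 1 rfl))
    have eC : cokernel fg ≅ (EtCoh.Rpush f 1).obj M :=
      (cokernelIsCokernel fg).coconePointUniqueUpToIso hE.gIsCokernel
    let T₂ : ShortComplex (EtCoh.Ab X) := ShortComplex.mk (Abelian.image.ι fg) (cokernel.π fg) (kernel.condition _)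
    have hT₂ : T₂.ShortExact :=
      { exact := ShortComplex.exact_of_f_is_kernel _ (kernelIsKernel (cokernel.π fg)) }
    let fac : (EtCoh.push f).obj S.X₂ ⟶ Abelian.image fg := Abelian.factorThruImage fg
    haveI hm : Mono ((EtCoh.push f).map S.f) := inferInstance
    have hkill : (EtCoh.push f).map S.f ≫ fac = 0 := by
      rw [← cancel_mono (Abelian.image.ι fg), Category.assoc, zero_comp]
      show _ ≫ Abelian.factorThruImage fg ≫ _ = 0
      rw [Abelian.image.fac, ← Functor.map_comp, S.zero, Functor.map_zero]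
    let T₁ : ShortComplex (EtCoh.Ab X) := ShortComplex.mk ((EtCoh.push f).map S.f) fac hkill
    have hmapE : (S.map (EtCoh.push f)).Exact :=
      hS.exact.map_of_mono_of_preservesKernel (EtCoh.push f) hS.mono_f inferInstance
    haveI : Mono (S.map (EtCoh.push f)).f := hm
    have hT₁ : T₁.ShortExact :=
      { exact := ShortComplex.exact_of_f_is_kernel _
          (Limits.isKernelOfComp (f := fac) (Abelian.image.ι fg) ((EtCoh.push f).map S.g) hmapE.fIsKernel hkill
            (Abelian.image.fac fg))
        mono_f := hm }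
    have hW : Subsingleton (EtCoh.H X (Abelian.image fg) (q' + 1)) :=
      subsingleton_H_left hT₂ q'
        (subsingleton_H_of_iso eC.symm q' (hH 1 q' one_pos (by omega))) (hQ (q' + 1) (by omega))
    haveI : Injective ((EtCoh.push f).obj S.X₂) := EtSupp.injective_push f S.X₂
    exact subsingleton_H_left hT₁ (q' + 1) hW
      (subsingleton_of_forall_eq 0 fun x => EtCdTr.H_eq_zero_of_injective _ x)

/-- A sheaf on a scheme whose points are closed, with finite support. -/
theorem subsingleton_H_of_finite_supp (hcl : ∀ x : X, IsClosed ({x} : Set X)) :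
    ∀ (n : ℕ) (F : EtCoh.Ab X) (s : Finset X), s.card ≤ n → EtPBC.supp F ⊆ ↑s → ∀ q,
      (∀ x ∈ s, Subsingleton (EtCoh.H (Spec (X.residueField x))
        ((EtCoh.pull (X.fromSpecResidueField x)).obj F) q)) →
      Subsingleton (EtCoh.H X F q) := by
  classical
  intro n
  induction n with
  | zero =>
    intro F s hs hsupp q _
    obtain rfl : s = ∅ := Finset.card_eq_zero.1 (Nat.le_zero.1 hs)
    exact subsingleton_H_of_isZero (isZero_of_supp_empty (Set.subset_empty_iff.1 (by simpa using hsupp))) q
  | succ n ih =>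
    intro F s hs hsupp q hq
    rcases s.eq_empty_or_nonempty with rfl | ⟨x, hx⟩
    · exact subsingleton_H_of_isZero (isZero_of_supp_empty (Set.subset_empty_iff.1 (by simpa using hsupp))) q
    let i := X.fromSpecResidueField x
    haveI : IsClosedImmersion i := IsClosedImmersion.of_isPreimmersion i (by
      rw [Scheme.range_fromSpecResidueField]; exact hcl x)
    let η := (EtCoh.pullPushAdj i).unit.app F
    have hiso : ∀ (Ω : Type u) [Field Ω] [IsSepClosed Ω] (ξ : Spec (CommRingCat.of Ω) ⟶ X),
        ξ default = x → IsIso ((EtCoh.stalk ξ).map η) := fun Ω _ _ ξ hξ =>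
      isIso_stalk_unit_push i F ξ (by rw [Scheme.range_fromSpecResidueField, Set.mem_singleton_iff]; exact hξ)
    haveI : Epi η := epi_of_stalk η fun Ω _ _ ξ => by
      by_cases hξ : ξ default = x
      · haveI := hiso Ω ξ hξ
        exact (ConcreteCategory.bijective_of_isIso ((EtCoh.stalk ξ).map η)).2
      · intro b
        refine ⟨0, ?_⟩
        haveI : Subsingleton ↑((EtCoh.stalk ξ).obj ((EtCoh.pull i ⋙ EtCoh.push i).obj F)) :=
          AddCommGrpCat.subsingleton_of_isZero (isZero_stalk_push i ξ
          (by rw [Scheme.range_fromSpecResidueField, Set.mem_singleton_iff]; exact hξ) ((EtCoh.pull i).obj F))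
        exact Subsingleton.elim _ _
    let S : ShortComplex (EtCoh.Ab X) := ShortComplex.mk (kernel.ι η) η (kernel.condition η)
    have hS : S.ShortExact := { exact := ShortComplex.exact_of_f_is_kernel _ (kernelIsKernel η) }
    have hK : EtPBC.supp (kernel η) ⊆ ↑(s.erase x) := fun y hy => by
      have hyξ : geomPointAt X y default = y := geomPointAt_apply X y _
      rw [mem_supp] at hy
      have hinj := (mono_iff_stalk (kernel.ι η)).1 inferInstance _ (geomPointAt X y)
      rw [Finset.coe_erase]
      refine ⟨?_, fun e => hy ?_⟩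
      · refine hsupp ?_
        rw [mem_supp]
        intro h0
        haveI : Subsingleton ↑((EtCoh.stalk (geomPointAt X y)).obj ((𝟭 (EtCoh.Ab X)).obj F)) :=
          AddCommGrpCat.subsingleton_of_isZero h0
        exact hy (@AddCommGrpCat.isZero_of_subsingleton _ hinj.subsingleton)
      · haveI := hiso _ (geomPointAt X y) (hyξ.trans e)
        refine @AddCommGrpCat.isZero_of_subsingleton _ (subsingleton_of_forall_eq 0 fun p => hinj ?_)
        refine (ConcreteCategory.bijective_of_isIso ((EtCoh.stalk (geomPointAt X y)).map η)).1 ?_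
        rw [← ConcreteCategory.comp_apply, ← Functor.map_comp, kernel.condition, Functor.map_zero, map_zero,
          map_zero]
        rfl
    refine subsingleton_H_mid hS q (ih _ _ (by rw [Finset.card_erase_of_mem hx]; omega) hK q fun y hy => ?_) ?_
    · -- the kernel agrees with `F` at the other points
      refine subsingleton_H_of_iso ?_ q (hq y (Finset.mem_of_mem_erase hy))
      haveI : IsIso ((EtCoh.pull (X.fromSpecResidueField y)).map (kernel.ι η)) := by
        refine isIso_of_stalk _ fun Ω _ _ ξ => ?_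
        refine (NatIso.isIso_map_iff (stalkPullIso (X.fromSpecResidueField y) ξ) (kernel.ι η)).2 ?_
        let ξ' := ξ ≫ X.fromSpecResidueField y
        have hξ' : ξ' default ≠ x := fun e => Finset.ne_of_mem_erase hy (by
          rw [← e]
          exact ((Scheme.range_fromSpecResidueField y).le ⟨ξ default, (Scheme.Hom.comp_apply _ _ _).symm⟩).symm)
        haveI : PreservesFiniteLimits (EtCoh.stalk ξ') := inferInstance
        have hexact := hS.map_of_exact (EtCoh.stalk ξ')
        haveI : Mono ((EtCoh.stalk ξ').map (kernel.ι η)) := hexact.mono_f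
        haveI : Epi ((EtCoh.stalk ξ').map (kernel.ι η)) :=
          hexact.exact.epi_f ((isZero_stalk_push i ξ'
            (by rw [Scheme.range_fromSpecResidueField, Set.mem_singleton_iff]; exact hξ') _).eq_of_tgt _ _)
        exact isIso_of_mono_of_epi _
      exact (asIso ((EtCoh.pull (X.fromSpecResidueField y)).map (kernel.ι η))).symm
    · exact (Equiv.ofBijective _ (S14451.result i _ (fun j hj => S3054.result i _ j hj) q)).subsingleton_congr.2
        (hq x hx)

end Groth.Agent.GalCohAux.EtDimVanA
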