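import Groth.Agent.GalCohAux.EtDimVanA
import Groth.Agent.Hensel.EtLike
import Groth.Agent.EtLimit.RpushStalk
import Groth.Agent.PunctLib.Points
import Groth.Prelude.Def_Cyc
import Mathlib.AlgebraicGeometry.Morphisms.Preimmersion
import Mathlib.AlgebraicGeometry.ResidueField

/-!
The fibre of a strict localization over a point, and stalks of direct images from a point.
-/

set_option autoImplicit false
set_option backward.isDefEq.respectTransparency false

universe u

open CategoryTheory CategoryTheory.Limits AlgebraicGeometry Opposite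

noncomputable section

namespace Groth.Agent.GalCohAux.EtDimVanB

open EtaleSite

attribute [-instance] EtFin.instUniqueCarrierCarrierCommRingCatSpecOf_groth

variable {X : Scheme.{u}}

section Fibre

variable (ξ y : X) (R : Type u) [CommRing R] [IsLocalRing R] [Algebra (X.presheaf.stalk y) R]
  [IsLocalHom (algebraMap (X.presheaf.stalk y) R)] [Hensel.IsStrictHenselization (X.presheaf.stalk y) R]

/-- The fibre over `ξ` of the strict localization at `y`. -/
abbrev fib : Scheme.{u} := pullback (X.fromSpecResidueField ξ) (Hens2.specOf X y R)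

theorem specializes (p : fib ξ y R) : ξ ⤳ y := by
  let w := (Spec.map (CommRingCat.ofHom (algebraMap (X.presheaf.stalk y) R)))
    ((pullback.snd (X.fromSpecResidueField ξ) (Hens2.specOf X y R)) p)
  have h1 : X.fromSpecStalk y w = ξ := by
    have hc := congrArg (fun k : fib ξ y R ⟶ X => k p)
      (pullback.condition (f := X.fromSpecResidueField ξ) (g := Hens2.specOf X y R))
    simp only [Scheme.Hom.comp_apply] at hc
    refine hc.symm.trans ?_
    exact (Scheme.range_fromSpecResidueField ξ).le ⟨_, rfl⟩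
  have h2 : X.fromSpecStalk y w ∈ Set.range (X.fromSpecStalk y) := ⟨w, rfl⟩
  rw [h1, Scheme.range_fromSpecStalk] at h2
  exact h2

theorem comap_eq (h : ξ ⤳ y) (p : fib ξ y R) :
    ((pullback.snd (X.fromSpecResidueField ξ) (Hens2.specOf X y R)) p).asIdeal.comap
      (algebraMap (X.presheaf.stalk y) R) = RingHom.ker (Cyc.specMap y ξ h) := by
  let z := (pullback.snd (X.fromSpecResidueField ξ) (Hens2.specOf X y R)) p
  let w := (Spec.map (CommRingCat.ofHom (algebraMap (X.presheaf.stalk y) R))) z
  let v : Spec (X.presheaf.stalk y) :=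
    (Spec.map (X.presheaf.stalkSpecializes h ≫ X.residue ξ)) (default : Spec (X.residueField ξ))
  have hv : X.fromSpecStalk y v = ξ := by
    have e : Spec.map (X.presheaf.stalkSpecializes h ≫ X.residue ξ) ≫ X.fromSpecStalk y =
        X.fromSpecResidueField ξ := by
      rw [Spec.map_comp, Category.assoc, Scheme.SpecMap_stalkSpecializes_fromSpecStalk]
      rfl
    show (Spec.map (X.presheaf.stalkSpecializes h ≫ X.residue ξ) ≫ X.fromSpecStalk y) default = ξ
    rw [e]
    exact (Scheme.range_fromSpecResidueField ξ).le ⟨_, rfl⟩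
  have hw : X.fromSpecStalk y w = ξ := by
    have hc := congrArg (fun k : fib ξ y R ⟶ X => k p)
      (pullback.condition (f := X.fromSpecResidueField ξ) (g := Hens2.specOf X y R))
    simp only [Scheme.Hom.comp_apply] at hc
    exact hc.symm.trans ((Scheme.range_fromSpecResidueField ξ).le ⟨_, rfl⟩)
  have hwv : w = v := (X.fromSpecStalk y).isEmbedding.injective (hw.trans hv.symm)
  have h3 : w.asIdeal = v.asIdeal := congrArg PrimeSpectrum.asIdeal hwv
  refine h3.trans ?_
  show Ideal.comap _ (default : Spec (X.residueField ξ)).asIdeal = _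
  rw [show (default : Spec (X.residueField ξ)).asIdeal = ⊥ from Ideal.eq_bot_of_prime _]
  rfl

theorem mem_minimalPrimes (h : ξ ⤳ y) (p : fib ξ y R) :
    ((pullback.snd (X.fromSpecResidueField ξ) (Hens2.specOf X y R)) p).asIdeal ∈
      ((RingHom.ker (Cyc.specMap y ξ h)).map (algebraMap (X.presheaf.stalk y) R)).minimalPrimes := by
  let z := (pullback.snd (X.fromSpecResidueField ξ) (Hens2.specOf X y R)) p
  have hc := comap_eq ξ y R h p
  refine ⟨⟨z.2, Ideal.map_le_iff_le_comap.2 hc.ge⟩, fun J ⟨hJ, hJle⟩ (hle : J ≤ z.asIdeal) => ?_⟩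
  haveI := hJ
  have hE := Hensel.isEtLike_of_isStrictHenselization (X.presheaf.stalk y) R
  exact (hE.eq_of_le_of_comap_eq hle (le_antisymm (Ideal.comap_mono hle)
    (hc.le.trans (Ideal.map_le_iff_le_comap.1 hJle)))).ge

variable [IsLocallyNoetherian X]

theorem finite_fib : Finite (fib ξ y R) := by
  rcases isEmpty_or_nonempty (fib ξ y R) with h | ⟨⟨p₀⟩⟩
  · infer_instance
  have hE := Hensel.isEtLike_of_isStrictHenselization (X.presheaf.stalk y) R
  haveI : IsNoetherianRing R := hE.isNoetherianRing_of_base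
  have h := specializes ξ y R p₀
  haveI := (Ideal.finite_minimalPrimes_of_isNoetherianRing R
    ((RingHom.ker (Cyc.specMap y ξ h)).map (algebraMap (X.presheaf.stalk y) R))).to_subtype
  refine Finite.of_injective (β := ((RingHom.ker (Cyc.specMap y ξ h)).map
    (algebraMap (X.presheaf.stalk y) R)).minimalPrimes)
    (fun p => ⟨_, mem_minimalPrimes ξ y R h p⟩) fun p q e => ?_
  exact (pullback.snd (X.fromSpecResidueField ξ) (Hens2.specOf X y R)).isEmbedding.injective
    (PrimeSpectrum.ext (congrArg Subtype.val e))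

theorem isClosed_singleton_fib (p : fib ξ y R) : IsClosed ({p} : Set (fib ξ y R)) := by
  have hE := Hensel.isEtLike_of_isStrictHenselization (X.presheaf.stalk y) R
  let s := pullback.snd (X.fromSpecResidueField ξ) (Hens2.specOf X y R)
  have h := specializes ξ y R p
  have : ({p} : Set (fib ξ y R)) = s ⁻¹' (PrimeSpectrum.zeroLocus ((s p).asIdeal : Set R)) := by
    ext q
    refine ⟨fun e => by rw [Set.mem_singleton_iff.1 e]; exact fun r hr => hr, fun hq => ?_⟩
    exact (s.isEmbedding.injective (PrimeSpectrum.ext (hE.eq_of_le_of_comap_eq (show (s p).asIdeal ≤ (s q).asIdeal from fun r hr => hq hr)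
      ((comap_eq ξ y R h p).trans (comap_eq ξ y R h q).symm)))).symm
  rw [this]
  exact (PrimeSpectrum.isClosed_zeroLocus _).preimage s.continuous

omit [IsLocallyNoetherian X] in
/-- The residue field at a point of the fibre is a quotient of that of the strict localization. -/
theorem exists_surjective (p : fib ξ y R) :
    ∃ φ : ((pullback.snd (X.fromSpecResidueField ξ) (Hens2.specOf X y R)) p).asIdeal.ResidueField →+*
      (fib ξ y R).residueField p, Function.Surjective φ := by
  let s := pullback.snd (X.fromSpecResidueField ξ) (Hens2.specOf X y R)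
  let m := (Scheme.Spec.residueFieldIso (CommRingCat.of R) (s p)).inv ≫ s.residueFieldMap p
  refine ⟨m.hom, ?_⟩
  show Function.Surjective ((Scheme.Spec.residueFieldIso (CommRingCat.of R) (s p)).inv ≫ s.residueFieldMap p)
  show Function.Surjective (fun a => (s.residueFieldMap p) ((Scheme.Spec.residueFieldIso (CommRingCat.of R) (s p)).inv a))
  refine Function.Surjective.comp ?_ (ConcreteCategory.bijective_of_isIso (C := CommRingCat) _).2
  intro a
  obtain ⟨b, rfl⟩ := Scheme.residue_surjective _ p a
  obtain ⟨c, rfl⟩ := s.stalkMap_surjective p b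
  exact ⟨(Spec (CommRingCat.of R)).residue (s p) c,
    congrArg (fun k : (Spec (CommRingCat.of R)).presheaf.stalk (s p) ⟶ (fib ξ y R).residueField p => k c)
      (Scheme.residue_residueFieldMap s p)⟩

end Fibre

section Unit

variable (ξ : X)

theorem fst_preimm {W : Scheme.{u}} (g : W ⟶ X) (ξ : X) :
    IsPreimmersion (pullback.fst g (X.fromSpecResidueField ξ)) :=
  MorphismProperty.pullback_fst (P := @IsPreimmersion) _ _
    (Scheme.instIsPreimmersionFromSpecResidueField ξ)

theorem pt_bc_unique {U : X.Etale} (a b : ↥((EtCoh.bc (X.fromSpecResidueField ξ)).obj U).left)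
    (h : pullback.fst U.hom (X.fromSpecResidueField ξ) a = pullback.fst U.hom (X.fromSpecResidueField ξ) b) :
    a = b := by
  haveI : IsPreimmersion (pullback.fst U.hom (X.fromSpecResidueField ξ)) :=
    fst_preimm (U.hom : U.left ⟶ X) ξ
  exact (pullback.fst U.hom (X.fromSpecResidueField ξ)).isEmbedding.injective h

theorem isOpen_singleton_bc {U : X.Etale} (a : ↥((EtCoh.bc (X.fromSpecResidueField ξ)).obj U).left) :
    IsOpen ({a} : Set ↥((EtCoh.bc (X.fromSpecResidueField ξ)).obj U).left) := by
  haveI : Etale ((EtCoh.bc (X.fromSpecResidueField ξ)).obj U).hom :=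
    ((EtCoh.bc (X.fromSpecResidueField ξ)).obj U).prop
  haveI : LocallyQuasiFinite ((EtCoh.bc (X.fromSpecResidueField ξ)).obj U).hom :=
    PunctLib.locallyQuasiFinite_of_etale _
  let h : ((EtCoh.bc (X.fromSpecResidueField ξ)).obj U).left ⟶ Spec (X.residueField ξ) :=
    ((EtCoh.bc (X.fromSpecResidueField ξ)).obj U).hom
  have hd := h.isDiscrete_preimage_singleton (h a)
  rw [Set.eq_univ_of_forall (s := h ⁻¹' {h a}) fun v => Subsingleton.elim (α := PrimeSpectrum (X.residueField ξ)) _ _] at hd
  haveI : DiscreteTopology ↥((EtCoh.bc (X.fromSpecResidueField ξ)).obj U).left := isDiscrete_univ_iff.1 hd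
  exact isOpen_discrete _

/-- The comparison map at the point itself is injective. -/
theorem injective_cmp {Ω : Type u} [Field Ω] [IsSepClosed Ω]
    (η : Spec (CommRingCat.of Ω) ⟶ Spec (X.residueField ξ)) (M : EtCoh.Ab (Spec (X.residueField ξ))) :
    Function.Injective (EtaleSite.cmp (X.fromSpecResidueField ξ) η M) := by
  rw [injective_iff_map_eq_zero]
  intro q hq
  let j := X.fromSpecResidueField ξ
  obtain ⟨U, φ, t, rfl⟩ := exists_germ_eq (η ≫ j) ((EtCoh.push j).obj M) q
  rw [cmp_germ] at hq
  haveI : IsPreimmersion (pullback.fst U.hom j) :=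
    fst_preimm (U.hom : U.left ⟶ X) ξ
  let a := PunctLib.pt (fiberBcEquiv j η U φ)
  obtain ⟨O', hO', hpre⟩ := (pullback.fst U.hom j).isEmbedding.isInducing.isOpen_iff.1 (isOpen_singleton_bc ξ a)
  let O : U.left.Opens := ⟨O', hO'⟩
  have haO : pullback.fst U.hom j a ∈ O' := by
    have : a ∈ (pullback.fst U.hom j) ⁻¹' O' := hpre.symm ▸ rfl
    exact this
  have hfst : pullback.fst U.hom j a = PunctLib.pt φ := by
    exact congrArg (fun k : Spec (CommRingCat.of Ω) ⟶ U.left => k default) (pullback.lift_fst _ _ _)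
  obtain ⟨φ', hφ'⟩ := PunctLib.exists_lift_open O φ (hfst ▸ haO)
  rw [← hφ', ← germ_res]
  refine (congrArg (germ (η ≫ j) ((EtCoh.push j).obj M) (PunctLib.openObj O) φ') ?_).trans (map_zero _)
  -- the restricted section vanishes near its only point
  refine sect_ext (F := M) (U := (EtCoh.bc j).obj (PunctLib.openObj O)) _ _ fun Ω' _ _ η' y' => ?_
  rw [map_zero]
  show germ η' M ((EtCoh.bc j).obj (PunctLib.openObj O)) y'
    (M.obj.map ((EtCoh.bc j).map (PunctLib.openIncl O)).op t) = 0
  rw [germ_res]
  obtain ⟨O₂, ha₂, hz⟩ := PunctLib.exists_open_germ_eq_zero M (fiberBcEquiv j η U φ) t hq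
  refine hz Ω' η' _ ?_
  have e1 : PunctLib.pt ((Scheme.pointSmallEtale η').fiber.map ((EtCoh.bc j).map (PunctLib.openIncl O)) y') = a := by
    have hb : PunctLib.pt ((Scheme.pointSmallEtale η').fiber.map ((EtCoh.bc j).map (PunctLib.openIncl O)) y') ∈
        (pullback.fst U.hom j) ⁻¹' O' := by
      rw [PunctLib.pt_map]
      show (((EtCoh.bc j).map (PunctLib.openIncl O)).left ≫ pullback.fst U.hom j) (PunctLib.pt y') ∈ O'
      rw [show ((EtCoh.bc j).map (PunctLib.openIncl O)).left ≫ pullback.fst U.hom j =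
        pullback.fst (PunctLib.openObj O).hom j ≫ (PunctLib.openIncl O).left from pullback.lift_fst _ _ _]
      exact ((pullback.fst (PunctLib.openObj O).hom j) (PunctLib.pt y')).2
    rw [hpre] at hb
    exact hb
  rw [e1]
  exact ha₂

/-- `G ⟶ j_* j⁻¹ G` is bijective on the stalk at the point. -/
theorem bijective_stalk_unit (G : EtCoh.Ab X) {Ω : Type u} [Field Ω] [IsSepClosed Ω]
    (η : Spec (CommRingCat.of Ω) ⟶ Spec (X.residueField ξ)) :
    Function.Bijective ((EtCoh.stalk (η ≫ X.fromSpecResidueField ξ)).map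
      ((EtCoh.pullPushAdj (X.fromSpecResidueField ξ)).unit.app G)) := by
  let j := X.fromSpecResidueField ξ
  have hcomp : (EtCoh.stalk (η ≫ j)).map ((EtCoh.pullPushAdj j).unit.app G) ≫
      EtaleSite.cmp j η ((EtCoh.pull j).obj G) = (stalkPullIso j η).inv.app G := by
    unfold EtaleSite.cmp
    rw [← Category.assoc]
    erw [(stalkPullIso j η).inv.naturality]
    rw [Category.assoc]
    show _ ≫ (EtCoh.stalk η).map ((EtCoh.pull j).map ((EtCoh.pullPushAdj j).unit.app G)) ≫ _ = _
    erw [← (EtCoh.stalk η).map_comp, (EtCoh.pullPushAdj j).left_triangle_components G,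
      CategoryTheory.Functor.map_id, Category.comp_id]
    rfl
  have hb : Function.Bijective (EtaleSite.cmp j η ((EtCoh.pull j).obj G) ∘
      (EtCoh.stalk (η ≫ j)).map ((EtCoh.pullPushAdj j).unit.app G)) := by
    refine (?_ : Function.Bijective fun a => EtaleSite.cmp j η ((EtCoh.pull j).obj G)
      ((EtCoh.stalk (η ≫ j)).map ((EtCoh.pullPushAdj j).unit.app G) a))
    have e : (fun a => EtaleSite.cmp j η ((EtCoh.pull j).obj G)
        ((EtCoh.stalk (η ≫ j)).map ((EtCoh.pullPushAdj j).unit.app G) a)) = ⇑((stalkPullIso j η).inv.app G) :=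
      funext fun a => (ConcreteCategory.comp_apply _ _ a).symm.trans (ConcreteCategory.congr_hom hcomp a)
    rw [e]
    exact ConcreteCategory.bijective_of_isIso _
  refine ⟨hb.1.of_comp, fun q => ?_⟩
  obtain ⟨g, hg⟩ := hb.2 (EtaleSite.cmp j η _ q)
  exact ⟨g, injective_cmp ξ η _ hg⟩

end Unit

end Groth.Agent.GalCohAux.EtDimVanB
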