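import Groth.Agent.GalCohAux.EtDimVanB
import Groth.Agent.EtConsAb.Colim
import Groth.Agent.PunctLib.Sky
import Groth.Agent.EtColim.CohColim
import Groth.Agent.GalCohAux.EtColimBig
import Groth.Agent.EtaleSite.SH

/-!
Vanishing of cohomology from a dimension function.
-/

set_option autoImplicit false
set_option backward.isDefEq.respectTransparency false
set_option synthInstance.maxHeartbeats 100000
set_option maxHeartbeats 800000

universe u

open CategoryTheory CategoryTheory.Limits AlgebraicGeometry Opposite TopologicalSpace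

noncomputable section

namespace Groth.Agent.GalCohAux.EtDimVanC

open EtaleSite EtDimVanA EtDimVanB

attribute [-instance] EtFin.instUniqueCarrierCarrierCommRingCatSpecOf_groth

/-- A class of abelian sheaves on all schemes stable under the operations of the dévissage. -/
structure VClass : Type (u + 2) where
  P : ∀ {X : Scheme.{u}}, EtCoh.Ab X → Prop
  pull : ∀ {X Y : Scheme.{u}} (f : X ⟶ Y) {F : EtCoh.Ab Y}, P F → P ((EtCoh.pull f).obj F)
  push : ∀ {X Y : Scheme.{u}} (f : X ⟶ Y) [QuasiCompact f] [QuasiSeparated f] {F : EtCoh.Ab X},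
    P F → P ((EtCoh.push f).obj F)
  Rpush : ∀ {X Y : Scheme.{u}} (f : X ⟶ Y) [QuasiCompact f] [QuasiSeparated f] (i : ℕ) {F : EtCoh.Ab X},
    P F → P ((EtCoh.Rpush f i).obj F)
  ker : ∀ {X : Scheme.{u}} {F G : EtCoh.Ab X} (a : F ⟶ G), P F → P G → P (kernel a)
  coker : ∀ {X : Scheme.{u}} {F G : EtCoh.Ab X} (a : F ⟶ G), P F → P G → P (cokernel a)
  resIn : ∀ {X : Scheme.{u}} (A : Set X) {F : EtCoh.Ab X}, P F → P (PunctLib.resIn A F)

variable {X : Scheme.{u}}

theorem supp_subset_of_mono {F G : EtCoh.Ab X} (a : F ⟶ G) [Mono a] : EtPBC.supp F ⊆ EtPBC.supp G := by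
  intro y hy
  rw [mem_supp] at hy ⊢
  intro h0
  haveI := AddCommGrpCat.subsingleton_of_isZero h0
  exact hy (@AddCommGrpCat.isZero_of_subsingleton _
    ((mono_iff_stalk a).1 inferInstance _ (geomPointAt X y)).subsingleton)

theorem supp_resIn_subset (A : Set X) (F : EtCoh.Ab X) : EtPBC.supp (PunctLib.resIn A F) ⊆ A := by
  intro y hy
  by_contra hA
  exact (mem_supp y).1 hy (PunctLib.zeroOff_resIn A F y hA)

theorem noeth_left [IsLocallyNoetherian X] (U : X.Etale) : IsLocallyNoetherian U.left := by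
  let h : U.left ⟶ X := U.hom
  haveI : Etale h := U.prop
  exact LocallyOfFiniteType.isLocallyNoetherian h

section Colimit

variable (G : EtCoh.Ab X)

/-- Finite sets of points of the support. -/
abbrev Idx : Type (u + 1) := Finset (ULift.{u + 1} ↥(EtPBC.supp G))

/-- The closure of a finite set of points of the support. -/
def cl (T : Idx G) : Set X := closure ((fun t => (t.down : X)) '' (T : Set (ULift.{u + 1} ↥(EtPBC.supp G))))

theorem exists_res {A B : Set X} (h : A ⊆ B) :
    ∃ a : PunctLib.resIn A G ⟶ PunctLib.resIn B G, a ≫ PunctLib.resInι B G = PunctLib.resInι A G :=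
  PunctLib.exists_lift_resIn _ fun y hy =>
    (PunctLib.zeroOff_resIn A G y fun hA => hy (h hA)).eq_of_src _ _

theorem cl_mono {T T' : Idx G} (a : T ⟶ T') : cl G T ⊆ cl G T' :=
  closure_mono (Set.image_mono (Finset.coe_subset.2 (leOfHom a)))

/-- The transition maps. -/
def resMap {T T' : Idx G} (a : T ⟶ T') : PunctLib.resIn (cl G T) G ⟶ PunctLib.resIn (cl G T') G :=
  (exists_res G (cl_mono G a)).choose

@[reassoc]
theorem resMap_ι {T T' : Idx G} (a : T ⟶ T') :
    resMap G a ≫ PunctLib.resInι (cl G T') G = PunctLib.resInι (cl G T) G :=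
  (exists_res G (cl_mono G a)).choose_spec

/-- The system of subsheaves. -/
def diag : Idx G ⥤ EtCoh.Ab X where
  obj T := PunctLib.resIn (cl G T) G
  map a := resMap G a
  map_id T := by
    rw [← cancel_mono (PunctLib.resInι (cl G T) G), Category.id_comp, resMap_ι]
  map_comp {T T' T''} a b := by
    rw [← cancel_mono (PunctLib.resInι (cl G T'') G), Category.assoc, resMap_ι, resMap_ι, resMap_ι]

/-- The cocone on the sheaf. -/
def coc : Cocone (diag G) where
  pt := G
  ι :=
    { app := fun T => PunctLib.resInι (cl G T) G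
      naturality := fun T T' a => (resMap_ι G a).trans (Category.comp_id _).symm }

variable [IsNoetherian X]

theorem nonempty_isColimit : Nonempty (IsColimit (coc G)) := by
  classical
  refine EtConsAb.nonempty_isColimit_of_stalk _ (fun Ω _ _ ξ q => ?_) fun Ω _ _ ξ T y hy => ⟨T, 𝟙 T, ?_⟩
  · obtain ⟨U₀, φ₀, t₀, rfl⟩ := exists_germ_eq ξ G q
    obtain ⟨W, hW, hWm, -⟩ := exists_isAffineOpen_mem_and_subset
      (show PunctLib.pt φ₀ ∈ (⊤ : U₀.left.Opens) from trivial)
    obtain ⟨φ, hφ⟩ := PunctLib.exists_lift_open W φ₀ hWm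
    rw [← hφ, ← germ_res]
    generalize G.obj.map (PunctLib.openIncl W).op t₀ = t
    clear hφ t₀
    let U := PunctLib.openObj W
    haveI : IsAffine U.left := hW
    haveI : IsLocallyNoetherian U.left := noeth_left U
    haveI : IsNoetherian U.left := {}
    have hcl : IsClosed (PunctLib.suppSec G (U := U) t) := by
      rw [← isOpen_compl_iff, isOpen_iff_forall_mem_open]
      intro u hu
      obtain ⟨φu, hφu⟩ := exists_fiber_point (geomPointAt X (U.hom u)) U u (geomPointAt_apply X _ _).symm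
      have hz : germ (geomPointAt X (U.hom u)) G U φu t = 0 := by
        by_contra hne
        exact hu ⟨_, _, inferInstance, _, φu, hφu, hne⟩
      obtain ⟨O, hO, hOz⟩ := PunctLib.exists_open_germ_eq_zero G φu t hz
      refine ⟨O, fun v hv hvS => ?_, O.2, ?_⟩
      · obtain ⟨Ω', _, _, ζ, y', hy', hne⟩ := hvS
        exact hne (hOz Ω' ζ y' (hy'.symm ▸ hv))
      · have hmem : PunctLib.pt φu ∈ O := hO
        exact (show PunctLib.pt φu = u from hφu) ▸ hmem
    obtain ⟨C, hCf, hCc, hCi, hC⟩ := NoetherianSpace.exists_finite_set_isClosed_irreducible hcl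
    have hgen : ∀ Z ∈ C, ∃ η : U.left, closure {η} = Z ∧ U.hom η ∈ EtPBC.supp G := fun Z hZ => by
      obtain ⟨η, hη⟩ := QuasiSober.sober (hCi Z hZ) (hCc Z hZ)
      refine ⟨η, hη, ?_⟩
      have hmem : η ∈ PunctLib.suppSec G (U := U) t := by
        rw [hC]
        exact ⟨Z, hZ, hη.mem⟩
      obtain ⟨Ω', _, _, ζ, y', hy', hne⟩ := hmem
      rw [← hy', PunctLib.hom_pt, EtConsAb.mem_supp_iff]
      intro h0
      exact hne (PunctLib.eq_zero_of_isZero h0 _)
    choose η hη hηs using hgen
    haveI := hCf.fintype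
    let T : Idx G := Finset.univ.image fun Z : C => ULift.up ⟨U.hom (η Z.1 Z.2), hηs Z.1 Z.2⟩
    obtain ⟨t', ht'⟩ := PunctLib.exists_section_resIn (A := cl G T) t fun y hy φy => by
      by_contra hne
      have hmem : PunctLib.pt φy ∈ PunctLib.suppSec G (U := U) t := ⟨_, _, inferInstance, _, φy, rfl, hne⟩
      rw [hC] at hmem
      obtain ⟨Z, hZ, hmZ⟩ := hmem
      rw [← hη Z hZ, ← specializes_iff_mem_closure] at hmZ
      refine hy (closure_mono ?_ ((specializes_iff_mem_closure (x := U.hom (η Z hZ)) (y := y)).1 ?_))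
      · intro w hw
        obtain rfl := Set.mem_singleton_iff.1 hw
        exact ⟨_, Finset.mem_coe.2 (Finset.mem_image.2 ⟨⟨Z, hZ⟩, Finset.mem_univ _, rfl⟩), rfl⟩
      · have h2 := hmZ.map U.hom.continuous
        rwa [PunctLib.hom_pt, geomPointAt_apply] at h2
    refine ⟨T, germ ξ _ U φ t', ?_⟩
    rw [germ_naturality]
    exact congrArg (germ ξ G U φ) ht'
  · have h0 : y = 0 := (PunctLib.injective_stalk_ι (cl G T) G ξ) (hy.trans (map_zero _).symm)
    rw [h0, map_zero]

theorem subsingleton_of_stages (q : ℕ)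
    (h : ∀ T : Idx G, Subsingleton (EtCoh.H X (PunctLib.resIn (cl G T) G) q)) :
    Subsingleton (EtCoh.H X G q) := by
  obtain ⟨hc⟩ := nonempty_isColimit G
  haveI : IsFiltered (Idx G) := inferInstance
  obtain ⟨hs, -⟩ := EtColimBig.coh_colimit q hc
  refine subsingleton_of_forall_eq 0 fun x => ?_
  obtain ⟨T, y, rfl⟩ := hs x
  rw [@Subsingleton.elim _ (h T) y 0, map_zero]

end Colimit

section Main

/-- Vanishing for a closed immersion-like surjection of rings. -/
theorem subsingleton_field {K L : Type u} [CommRing K] [CommRing L] (g : K →+* L) (hg : Function.Surjective g)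
    (M : EtCoh.Ab (Spec (CommRingCat.of L))) (q : ℕ)
    (h : Subsingleton (EtCoh.H (Spec (CommRingCat.of K))
      ((EtCoh.push (Spec.map (CommRingCat.ofHom g))).obj M) q)) :
    Subsingleton (EtCoh.H (Spec (CommRingCat.of L)) M q) := by
  haveI : IsIntegralHom (Spec.map (CommRingCat.ofHom g)) := IsIntegralHom.SpecMap_iff.2 (by
    rw [CommRingCat.hom_ofHom]
    exact RingHom.isIntegral_of_surjective _ hg)
  exact EtCdTr.subsingleton_of_push _ M q h

variable [IsNoetherian X] (C : VClass.{u}) (φ : X → ℕ)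
  (hlt : ∀ x y : X, x ⤳ y → x ≠ y → φ y < φ x)
  (hres : ∀ (x : X) (M : EtCoh.Ab (Spec (X.residueField x))), C.P M → ∀ q, φ x < q →
    Subsingleton (EtCoh.H (Spec (X.residueField x)) M q))
  (hfib : ∀ (x y : X) (hxy : x ⤳ y), x ≠ y →
    ∀ (R : Type u) [CommRing R] [IsLocalRing R] [Algebra (X.presheaf.stalk y) R]
      [IsLocalHom (algebraMap (X.presheaf.stalk y) R)] [Hensel.IsStrictHenselization (X.presheaf.stalk y) R],
      ∀ P ∈ ((RingHom.ker (Cyc.specMap y x hxy)).map (algebraMap (X.presheaf.stalk y) R)).minimalPrimes,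
        ∀ (M : EtCoh.Ab (Spec (CommRingCat.of (FractionRing (R ⧸ P))))), C.P M → ∀ q, φ x ≤ φ y + q →
          Subsingleton (EtCoh.H (Spec (CommRingCat.of (FractionRing (R ⧸ P)))) M q))

include hlt hres hfib

omit hres in
/-- The stalks of the higher direct images from a point. -/
theorem isZero_stalk_Rpush (ξ : X) (M : EtCoh.Ab (Spec (X.residueField ξ))) (hM : C.P M) (i : ℕ) (y : X)
    (h : ¬ ξ ⤳ y ∨ (0 < i ∧ (y = ξ ∨ φ ξ ≤ φ y + i))) :
    IsZero ((EtCoh.stalk (geomPointAt X y)).obj ((EtCoh.Rpush (X.fromSpecResidueField ξ) i).obj M)) := by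
  let O := X.presheaf.stalk y
  let R := Hens.StrictHenselization O
  haveI : IsSepClosed (IsLocalRing.ResidueField R) :=
    (inferInstance : Hensel.IsStrictHenselization O R).isSepClosure.sep_closed
  haveI : HenselianLocalRing R := (inferInstance : Hensel.IsStrictHenselization O R).henselian
  obtain ⟨e₁⟩ := Groth.Agent.EtLimit.nonempty_Rpush_stalk_iso (X.fromSpecResidueField ξ) y R i
  have hpt : Hens2.geomPt X y R default = y := by
    refine (Scheme.Hom.comp_apply _ _ _).trans ((Scheme.Hom.comp_apply _ _ _).trans ?_)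
    have hclosed : (Spec.map (CommRingCat.ofHom (algebraMap O R)))
        ((Spec.map (CommRingCat.ofHom (IsLocalRing.residue R))) default) = IsLocalRing.closedPoint O := by
      refine PrimeSpectrum.ext ?_
      show Ideal.comap (algebraMap O R) (Ideal.comap (IsLocalRing.residue R)
        (default : Spec (CommRingCat.of (IsLocalRing.ResidueField R))).asIdeal) = IsLocalRing.maximalIdeal O
      rw [show (default : Spec (CommRingCat.of (IsLocalRing.ResidueField R))).asIdeal = ⊥ from
        Ideal.eq_bot_of_prime _, ← RingHom.ker_eq_comap_bot, IsLocalRing.ker_residue,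
        IsLocalRing.maximalIdeal_comap]
    exact (congrArg (X.fromSpecStalk y) hclosed).trans Scheme.fromSpecStalk_closedPoint
  refine ((EtConsAb.isZero_stalk_iff (Hens2.geomPt X y R) hpt).1 ?_)
  refine IsZero.of_iso ?_ (e₁.app M)
  refine @AddCommGrpCat.isZero_of_subsingleton _ ?_
  let P := fib ξ y R
  show Subsingleton (EtCoh.H P ((EtCoh.pull (pullback.fst _ _)).obj M) i)
  haveI : Finite P := finite_fib ξ y R
  haveI := Fintype.ofFinite P
  refine subsingleton_H_of_finite_supp (isClosed_singleton_fib ξ y R) (Finset.univ : Finset P).card _ Finset.univ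
    le_rfl (fun _ _ => Finset.mem_coe.2 (Finset.mem_univ _)) i fun p _ => ?_
  have hsp := specializes ξ y R p
  obtain ⟨hi, hcase⟩ := h.resolve_left (not_not_intro hsp)
  obtain ⟨g, hg⟩ := exists_surjective ξ y R p
  let N := (EtCoh.pull ((fib ξ y R).fromSpecResidueField p)).obj ((EtCoh.pull (pullback.fst (X.fromSpecResidueField ξ) (Hens2.specOf X y R))).obj M)
  have hN : C.P N := C.pull _ (C.pull _ hM)
  change Subsingleton (EtCoh.H (Spec (CommRingCat.of ((fib ξ y R).residueField p))) N i)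
  let z := ((pullback.snd (X.fromSpecResidueField ξ) (Hens2.specOf X y R)) p).asIdeal
  by_cases hyξ : y = ξ
  · -- a point over the closed point
    have hzm : z.IsMaximal := by
      have hc := comap_eq ξ y R hsp p
      have hk : RingHom.ker (Cyc.specMap y ξ hsp) = IsLocalRing.maximalIdeal O := by
        subst hyξ
        show RingHom.ker (X.presheaf.stalkSpecializes hsp ≫ X.residue y).hom = _
        rw [TopCat.Presheaf.stalkSpecializes_refl, Category.id_comp]
        exact IsLocalRing.ker_residue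
      have hE := Hensel.isEtLike_of_isStrictHenselization O R
      have he : z = IsLocalRing.maximalIdeal R :=
        hE.eq_of_le_of_comap_eq (IsLocalRing.le_maximalIdeal (Ideal.IsPrime.ne_top inferInstance))
          (hc.trans (hk.trans (IsLocalRing.maximalIdeal_comap _).symm))
      rw [he]
      infer_instance
    refine subsingleton_field (g.comp (algebraMap R z.ResidueField))
      (hg.comp (Ideal.algebraMap_residueField_surjective z)) N i ?_
    exact EtaleSite.subsingleton_H R _ i hi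
  · have hφ : φ ξ ≤ φ y + i := hcase.resolve_left hyξ
    have hmin := mem_minimalPrimes ξ y R hsp p
    let e : FractionRing (R ⧸ z) ≃ₐ[R ⧸ z] z.ResidueField := FractionRing.algEquiv _ _
    refine subsingleton_field (g.comp e.toRingEquiv.toRingHom) (hg.comp e.surjective) N i ?_
    haveI : IsClosedImmersion (Spec.map (CommRingCat.ofHom (g.comp e.toRingEquiv.toRingHom))) :=
      IsClosedImmersion.spec_of_surjective _ (by exact hg.comp e.surjective)
    exact hfib ξ y hsp (fun e => hyξ e.symm) R z hmin _ (C.push _ hN) i hφ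

/-- **Vanishing from a dimension function.** -/
theorem vanish (Z : Closeds X) : ∀ (G : EtCoh.Ab X), C.P G → EtPBC.supp G ⊆ (Z : Set X) → ∀ q : ℕ,
    (∀ x ∈ EtPBC.supp G, φ x < q) → Subsingleton (EtCoh.H X G q) := by
  classical
  induction Z using (wellFounded_lt (α := Closeds X)).induction with
  | _ Z ih =>
  intro G hG hsupp q hq
  rcases (Z : Set X).eq_empty_or_nonempty with hZ | hZ
  · exact subsingleton_H_of_isZero (isZero_of_supp_empty (Set.subset_empty_iff.1 (hsupp.trans hZ.le))) q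
  -- a maximal point of `Z`
  obtain ⟨ξ, hξZ, hξmax⟩ : ∃ ξ ∈ (Z : Set X), ∀ t ∈ (Z : Set X), t ⤳ ξ → t = ξ := by
    obtain ⟨C', hCf, hCc, hCi, hC⟩ := NoetherianSpace.exists_finite_set_isClosed_irreducible Z.2
    obtain ⟨x₀, hx₀⟩ := hZ
    obtain ⟨S₀, hS₀, -⟩ := hC.le hx₀
    obtain ⟨S₁, hS₁, hmax⟩ := hCf.exists_maximal ⟨S₀, hS₀⟩
    obtain ⟨η, hη⟩ := QuasiSober.sober (hCi S₁ hS₁) (hCc S₁ hS₁)
    refine ⟨η, hC.ge ⟨S₁, hS₁, hη.mem⟩, fun t ht htη => ?_⟩
    obtain ⟨S', hS', htS'⟩ := hC.le ht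
    have h1 : S₁ ⊆ S' := by
      rw [← hη.def]
      exact closure_minimal (Set.singleton_subset_iff.2 (htη.mem_closed (hCc S' hS') htS')) (hCc S' hS')
    have h2 : t ∈ S₁ := hmax hS' h1 htS'
    exact (htη.antisymm (hη.specializes h2)).eq
  -- sheaves vanishing at `ξ`
  have sub : ∀ (G' : EtCoh.Ab X), C.P G' → EtPBC.supp G' ⊆ (Z : Set X) → ξ ∉ EtPBC.supp G' → ∀ q' : ℕ,
      (∀ x ∈ EtPBC.supp G', φ x < q') → Subsingleton (EtCoh.H X G' q') := by
    intro G' hG' hsupp' hξ' q' hq'
    refine subsingleton_of_stages G' q' fun T => ?_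
    refine ih ⟨cl G' T, isClosed_closure⟩ ?_ _ (C.resIn _ hG') (supp_resIn_subset _ _) q'
      fun x hx => hq' x (supp_subset_of_mono (PunctLib.resInι (cl G' T) G') hx)
    refine lt_of_le_of_ne (closure_minimal ?_ Z.2) fun e => ?_
    · rintro _ ⟨t, -, rfl⟩
      exact hsupp' t.down.2
    · have hmem : ξ ∈ cl G' T :=
        ((congrArg (fun W : Closeds X => (W : Set X)) e : (cl G' T : Set X) = (Z : Set X))).symm.le hξZ
      have hfin : ((fun t => (t.down : X)) '' (T : Set (ULift.{u + 1} ↥(EtPBC.supp G')))).Finite :=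
        T.finite_toSet.image _
      rw [cl, ← Set.biUnion_of_singleton ((fun t => (t.down : X)) '' (T : Set (ULift.{u + 1} ↥(EtPBC.supp G')))),
        hfin.closure_biUnion] at hmem
      obtain ⟨_, ⟨t, -, rfl⟩, ht⟩ := Set.mem_iUnion₂.1 hmem
      refine hξ' ?_
      have := hξmax _ (hsupp' t.down.2) (specializes_iff_mem_closure.2 ht)
      exact this ▸ t.down.2
  by_cases hξs : ξ ∈ EtPBC.supp G
  swap
  · exact sub G hG hsupp hξs q hq
  have hqξ : φ ξ < q := hq ξ hξs
  let j := X.fromSpecResidueField ξ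
  let M := (EtCoh.pull j).obj G
  have hM : C.P M := C.pull j hG
  let J := (EtCoh.push j).obj M
  let η : G ⟶ J := (EtCoh.pullPushAdj j).unit.app G
  have hJ0 : ∀ y, ¬ ξ ⤳ y → IsZero ((EtCoh.stalk (geomPointAt X y)).obj J) := fun y hy =>
    (isZero_stalk_Rpush C φ hlt hfib ξ M hM 0 y (Or.inl hy)).of_iso
      ((EtCoh.stalk (geomPointAt X y)).mapIso ((EtCoh.push j).rightDerivedZeroIsoSelf.app M).symm)
  obtain ⟨ξ₀, hξ₀⟩ : ∃ ξ₀ : Spec (CommRingCat.of (SeparableClosure (X.residueField ξ))) ⟶ Spec (X.residueField ξ),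
      (ξ₀ ≫ j) default = ξ := ⟨Spec.map (CommRingCat.ofHom (algebraMap (X.residueField ξ) (SeparableClosure (X.residueField ξ)))),
        (Scheme.Hom.comp_apply _ _ _).trans ((Scheme.range_fromSpecResidueField ξ).le ⟨_, rfl⟩)⟩
  have hbij := bijective_stalk_unit ξ G ξ₀
  -- the kernel
  have hKξ : ξ ∉ EtPBC.supp (kernel η) := by
    intro hmem
    refine (mem_supp ξ).1 hmem ((EtConsAb.isZero_stalk_iff (ξ₀ ≫ j) hξ₀).1 ?_)
    refine @AddCommGrpCat.isZero_of_subsingleton _ (subsingleton_of_forall_eq 0 fun a =>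
      (mono_iff_stalk (kernel.ι η)).1 inferInstance _ (ξ₀ ≫ j) (hbij.1 ?_))
    show (EtCoh.stalk (ξ₀ ≫ j)).map η ((EtCoh.stalk (ξ₀ ≫ j)).map (kernel.ι η) a) =
      (EtCoh.stalk (ξ₀ ≫ j)).map η ((EtCoh.stalk (ξ₀ ≫ j)).map (kernel.ι η) 0)
    rw [← ConcreteCategory.comp_apply, ← Functor.map_comp, kernel.condition, Functor.map_zero, map_zero, map_zero]
    rfl
  have hK : Subsingleton (EtCoh.H X (kernel η) q) :=
    sub _ (C.ker η hG (C.push j hM)) ((supp_subset_of_mono (kernel.ι η)).trans hsupp) hKξ q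
      fun x hx => hq x (supp_subset_of_mono (kernel.ι η) hx)
  -- the cokernel
  have hCs : ∀ y ∈ EtPBC.supp (cokernel η), ξ ⤳ y ∧ y ≠ ξ := fun y hy => by
    refine ⟨by_contra fun hne => (mem_supp y).1 hy ?_, fun e => ?_⟩
    · haveI : Epi ((EtCoh.stalk (geomPointAt X y)).map (cokernel.π η)) := inferInstance
      exact IsZero.of_epi ((EtCoh.stalk (geomPointAt X y)).map (cokernel.π η)) (hJ0 y hne)
    · subst e
      refine (mem_supp _).1 hy ((EtConsAb.isZero_stalk_iff (ξ₀ ≫ j) hξ₀).1 ?_)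
      refine @AddCommGrpCat.isZero_of_subsingleton _ (subsingleton_of_forall_eq 0 fun a => ?_)
      obtain ⟨b, rfl⟩ := (AddCommGrpCat.epi_iff_surjective ((EtCoh.stalk (ξ₀ ≫ j)).map (cokernel.π η))).1
        inferInstance a
      obtain ⟨c, rfl⟩ := hbij.2 b
      show (EtCoh.stalk (ξ₀ ≫ j)).map (cokernel.π η) ((EtCoh.stalk (ξ₀ ≫ j)).map η c) = 0
      rw [← ConcreteCategory.comp_apply, ← Functor.map_comp, cokernel.condition, Functor.map_zero]
      rfl
  obtain ⟨q', rfl⟩ : ∃ q', q = q' + 1 := ⟨q - 1, by omega⟩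
  have hsuppC : EtPBC.supp (cokernel η) ⊆ (Z : Set X) := fun y hy => (hCs y hy).1.mem_closed Z.2 hξZ
  have hC : Subsingleton (EtCoh.H X (cokernel η) q') :=
    sub _ (C.coker η hG (C.push j hM)) hsuppC (fun hmem => (hCs ξ hmem).2 rfl) q' fun y hy => by
      have := hlt ξ y (hCs y hy).1 (fun e => (hCs y hy).2 e.symm)
      omega
  have hJ : Subsingleton (EtCoh.H X J (q' + 1)) := by
    refine leray j (φ ξ) M (hres ξ M hM) (fun i hi hi0 => ?_) (fun i p hi hp => ?_) _ hqξ
    · refine isZero_of_supp_empty (Set.eq_empty_iff_forall_notMem.2 fun y hy => (mem_supp y).1 hy ?_)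
      exact isZero_stalk_Rpush C φ hlt hfib ξ M hM i y (Or.inr ⟨hi0, Or.inr (by omega)⟩)
    · have hz : ∀ y ∈ EtPBC.supp ((EtCoh.Rpush j i).obj M), ξ ⤳ y ∧ y ≠ ξ ∧ φ y + i < φ ξ := fun y hy => by
        have hne := (mem_supp y).1 hy
        refine ⟨by_contra fun h' => hne (isZero_stalk_Rpush C φ hlt hfib ξ M hM i y (Or.inl h')),
          fun h' => hne (isZero_stalk_Rpush C φ hlt hfib ξ M hM i y (Or.inr ⟨hi, Or.inl h'⟩)),
          lt_of_not_ge fun h' => hne (isZero_stalk_Rpush C φ hlt hfib ξ M hM i y (Or.inr ⟨hi, Or.inr h'⟩))⟩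
      refine sub _ (C.Rpush j i hM) (fun y hy => (hz y hy).1.mem_closed Z.2 hξZ)
        (fun hmem => (hz ξ hmem).2.1 rfl) p fun y hy => ?_
      have := (hz y hy).2.2
      omega
  let T₂ : ShortComplex (EtCoh.Ab X) := ShortComplex.mk (Abelian.image.ι η) (cokernel.π η) (kernel.condition _)
  have hT₂ : T₂.ShortExact :=
    { exact := ShortComplex.exact_of_f_is_kernel _ (kernelIsKernel (cokernel.π η)) }
  have hk : kernel.ι η ≫ Abelian.factorThruImage η = 0 := by
    rw [← cancel_mono (Abelian.image.ι η), Category.assoc, Abelian.image.fac, kernel.condition, zero_comp]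
  let T₁ : ShortComplex (EtCoh.Ab X) := ShortComplex.mk (kernel.ι η) (Abelian.factorThruImage η) hk
  haveI : Epi T₁.g := inferInstanceAs (Epi (Abelian.factorThruImage η))
  have hT₁ : T₁.ShortExact :=
    { exact := ShortComplex.exact_of_f_is_kernel _
        (Limits.isKernelOfComp (f := Abelian.factorThruImage η) (Abelian.image.ι η) η (kernelIsKernel η) hk
          (Abelian.image.fac η)) }
  exact subsingleton_H_mid hT₁ _ hK (subsingleton_H_left hT₂ q' hC hJ)

/-- Vanishing above the values at the support. -/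
theorem vanishing (G : EtCoh.Ab X) (hG : C.P G) (q : ℕ) (hq : ∀ x ∈ EtPBC.supp G, φ x < q) :
    Subsingleton (EtCoh.H X G q) :=
  vanish C φ hlt hres hfib ⊤ G hG (Set.subset_univ _) q hq

end Main

end Groth.Agent.GalCohAux.EtDimVanC
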