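import Groth.Agent.GalCohAux.EtDivStage
import Groth.Agent.EGA4Lib.RkFlat
import Groth.Agent.RegLoc.UFD

/-!
Étale schemes over regular schemes have factorial local rings.
-/

set_option autoImplicit false
set_option backward.isDefEq.respectTransparency false

universe u

open CategoryTheory AlgebraicGeometry IsLocalRing

noncomputable section

namespace Groth.Agent.GalCohAux.EtDivReg

theorem isRegularLocalRing_stalk {X : Scheme.{u}} [IsLocallyNoetherian X]
    (hreg : ∀ x : X, IsRegularLocalRing (X.presheaf.stalk x)) (U : X.Etale) (v : U.left) :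
    IsRegularLocalRing (U.left.presheaf.stalk v) := by
  let f : U.left ⟶ X := U.hom
  haveI : Etale f := U.prop
  haveI : IsLocallyNoetherian U.left := LocallyOfFiniteType.isLocallyNoetherian f
  letI := (f.stalkMap v).hom.toAlgebra
  haveI : Module.Flat (X.presheaf.stalk (f v)) (U.left.presheaf.stalk v) := Flat.stalkMap f v
  haveI : IsLocalHom (algebraMap (X.presheaf.stalk (f v)) (U.left.presheaf.stalk v)) :=
    inferInstanceAs (IsLocalHom (f.stalkMap v).hom)
  haveI := hreg (f v)
  haveI : IsRegularLocalRing
      (U.left.presheaf.stalk v ⧸ (maximalIdeal (X.presheaf.stalk (f v))).map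
        (algebraMap (X.presheaf.stalk (f v)) (U.left.presheaf.stalk v))) := by
    rw [show (maximalIdeal (X.presheaf.stalk (f v))).map
        (algebraMap (X.presheaf.stalk (f v)) (U.left.presheaf.stalk v)) =
      maximalIdeal (U.left.presheaf.stalk v) from EtDivStage.maximalIdeal_eq_map f v]
    letI := Ideal.Quotient.field (maximalIdeal (U.left.presheaf.stalk v))
    exact inferInstanceAs (IsRegularLocalRing (U.left.presheaf.stalk v ⧸ maximalIdeal (U.left.presheaf.stalk v)))
  exact EGA4Lib.isRegularLocalRing_of_fibre (X.presheaf.stalk (f v)) (U.left.presheaf.stalk v)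

/-- Étale local rings of regular schemes are factorial. -/
theorem hfact {X : Scheme.{u}} [IsLocallyNoetherian X]
    (hreg : ∀ x : X, IsRegularLocalRing (X.presheaf.stalk x)) (U : X.Etale) (v : U.left) :
    IsDomain (U.left.presheaf.stalk v) ∧ UniqueFactorizationMonoid (U.left.presheaf.stalk v) := by
  haveI := isRegularLocalRing_stalk hreg U v
  haveI := RegLoc.isDomain (U.left.presheaf.stalk v)
  exact ⟨inferInstance, RegLoc.UFD.uniqueFactorizationMonoid _⟩

end Groth.Agent.GalCohAux.EtDivReg
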