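import Groth.Agent.GalCohAux.EtDivH1
import Mathlib.AlgebraicGeometry.Properties

/-!
The divisor sheaf is the sum of the skyscrapers `ℤ` at the points of height one.
-/

set_option autoImplicit false
set_option backward.isDefEq.respectTransparency false
set_option maxHeartbeats 800000

universe u

open CategoryTheory CategoryTheory.Limits AlgebraicGeometry Opposite TopologicalSpace

noncomputable section

namespace Groth.Agent.GalCohAux.EtDivSum

open EtaleSite EtGmPushStalk EtDivPts EtDivSheaf EtDivStage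

attribute [-instance] EtFin.instUniqueCarrierCarrierCommRingCatSpecOf_groth

theorem eq_iff_coheight {X : Scheme.{u}} [IsIntegral X] (x : X) :
    HtOne x ↔ ringKrullDim (X.presheaf.stalk x) = 1 := by
  have hmax : ∀ p : X, IsMax p ↔ p = genericPoint X := fun p => by
    refine ⟨fun h => ?_, fun h => h ▸ fun b _ => genericPoint_specializes b⟩
    have h1 : p ≤ genericPoint X := genericPoint_specializes p
    exact (Specializes.antisymm (h h1 : p ⤳ genericPoint X) (genericPoint_specializes p)).eq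
  rw [ringKrullDim_stalk_eq_coheight,
    show (1 : WithBot ℕ∞) = ((1 : ℕ∞) : WithBot ℕ∞) from rfl, WithBot.coe_inj]
  constructor
  · intro hx
    refine le_antisymm ((Order.coheight_le_coe_iff (n := 1)).2 fun p hp => ?_) ?_
    · rcases hx.2 p hp.le with e | e
      · rw [Order.coheight_eq_zero.2 ((hmax p).2 e)]
        exact zero_lt_one
      · exact absurd (e ▸ hp) (lt_irrefl x)
    · refine Order.one_le_iff_pos.2 (pos_iff_ne_zero.2 fun e => hx.1 ((hmax x).1 (Order.coheight_eq_zero.1 e)))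
  · intro hx
    have hx0 : x ≠ genericPoint X := fun e => by
      rw [Order.coheight_eq_zero.2 ((hmax x).2 e)] at hx
      exact zero_ne_one hx
    refine ⟨hx0, fun p hp => ?_⟩
    by_cases h : p = x
    · exact Or.inr h
    · refine Or.inl ((hmax p).1 (Order.coheight_eq_zero.1 ?_))
      have hlt : x < p := lt_of_le_not_ge hp fun h' => h (Specializes.antisymm hp (h' : x ⤳ p)).eq
      have h2 := Order.coheight_strictAnti hlt ((Order.coheight_anti hlt.le).trans_lt (by rw [hx]; exact ENat.coe_lt_top 1))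
      rw [hx] at h2
      exact Order.lt_one_iff.1 h2

variable {X : Scheme.{u}} [IsIntegral X] [IsLocallyNoetherian X]
  (hfact : ∀ (U : X.Etale) (v : U.left),
    IsDomain (U.left.presheaf.stalk v) ∧ UniqueFactorizationMonoid (U.left.presheaf.stalk v))

include hfact

theorem mem_supp_D {x : X} (hx : HtOne x) : x ∈ EtPBC.supp (D X) := by
  rw [EtDimVanA.mem_supp]
  intro h0
  haveI := AddCommGrpCat.subsingleton_of_isZero h0
  let U := EtCoh.top X
  haveI : IsIntegral U.left := inferInstanceAs (IsIntegral X)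
  let v : U.left := x
  haveI := (hfact U v).2
  obtain ⟨π, hπ, -, -⟩ := exists_prime (z := v) hx specializes_rfl
  have hπ0 : toK v π ≠ 0 := fun e => hπ.ne_zero (toK_injective v (e.trans (map_zero _).symm))
  obtain ⟨σ, hσ⟩ := exists_section U hπ0
  obtain ⟨t, ht⟩ := exists_fiber_point (geomPointAt X x) U v (geomPointAt_apply X x _).symm
  have h1 := unitAt_of_germ_eq_zero (irreducible_nhd hfact) (reduced hfact) t hσ (Subsingleton.elim _ _)
  rw [show PunctLib.pt t = v from ht] at h1
  obtain ⟨w, hw, he⟩ := h1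
  exact hπ.not_unit (toK_injective v he ▸ hw)

/-- The index of a single point. -/
def one {x : X} (hx : HtOne x) : EtDimVanC.Idx (D X) := {ULift.up ⟨x, mem_supp_D hfact hx⟩}

theorem mem_pts {x : X} (hx : HtOne x) : x ∈ pts (one hfact hx) := by
  classical
  exact Finset.mem_filter.2 ⟨Finset.mem_image.2 ⟨_, Finset.mem_singleton_self _, rfl⟩, hx⟩

theorem eq_of_mem_pts {x y : X} (hx : HtOne x) (h : y ∈ pts (one hfact hx)) : y = x := by
  classical
  obtain ⟨t, ht, rfl⟩ := Finset.mem_image.1 (Finset.mem_filter.1 h).1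
  rw [show t = ULift.up ⟨x, mem_supp_D hfact hx⟩ from Finset.mem_singleton.1 ht]

theorem isIso_η {x : X} (hx : HtOne x) : IsIso (η (one hfact hx) ⟨x, mem_pts hfact hx⟩) := by
  refine isIso_of_stalk _ fun Ω _ _ ξ => (ConcreteCategory.isIso_iff_bijective _).2 ⟨?_, fun b => ?_⟩
  · refine (injective_iff_map_eq_zero _).2 fun p hp => injective_stalk_toP hfact (one hfact hx) ?_
    rw [map_zero]
    refine stalk_biproduct_ext ξ _ fun i => ?_
    obtain rfl : i = ⟨x, mem_pts hfact hx⟩ := Subtype.ext (eq_of_mem_pts hfact hx i.2)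
    rw [← ConcreteCategory.comp_apply, ← Functor.map_comp, biproduct.lift_π, map_zero]
    exact hp
  · obtain ⟨p, hp, -⟩ := exists_preimage_stalk hfact (one hfact hx) ⟨x, mem_pts hfact hx⟩ b
    exact ⟨p, hp⟩

theorem isIso_pull_ι {x : X} (hx : HtOne x) :
    IsIso ((EtCoh.pull (X.fromSpecResidueField x)).map
      (PunctLib.resInι (EtDimVanC.cl (D X) (one hfact hx)) (D X))) := by
  obtain ⟨O, hxO, g, hg⟩ := EtDivH1.exists_generator hfact (one hfact hx) ⟨x, mem_pts hfact hx⟩
  refine isIso_of_stalk _ fun Ω _ _ ζ => ?_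
  refine (NatIso.isIso_map_iff (stalkPullIso (X.fromSpecResidueField x) ζ) _).2 ?_
  let ξ := ζ ≫ X.fromSpecResidueField x
  have hξ : ξ default = x :=
    (Scheme.Hom.comp_apply _ _ _).trans ((Scheme.range_fromSpecResidueField x).le ⟨_, rfl⟩)
  obtain ⟨t, -⟩ := exists_fiber_point ξ (PunctLib.openObj O) (⟨x, hxO⟩ : (O : Scheme.{u})) hξ.symm
  exact (ConcreteCategory.isIso_iff_bijective _).2 ⟨PunctLib.injective_stalk_ι _ _ ξ, (hg Ω ξ hξ t).2⟩

omit hfact in
/-- The restriction to a point. -/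
abbrev δ (x : X) : D X ⟶ (EtCoh.push (X.fromSpecResidueField x)).obj ((EtCoh.pull (X.fromSpecResidueField x)).obj (D X)) :=
  (EtCoh.pullPushAdj (X.fromSpecResidueField x)).unit.app (D X)

theorem exists_ψ {x : X} (hx : HtOne x) :
    ∃ ψ : (EtCoh.push (X.fromSpecResidueField x)).obj (EtCoh.const (Spec (X.residueField x)) ℤ) ⟶ D X,
      IsIso (ψ ≫ δ x) ∧ ∀ y : X, HtOne y → y ≠ x → ψ ≫ δ y = 0 := by
  obtain ⟨e⟩ := EtDivH1.nonempty_const_iso hfact (one hfact hx) ⟨x, mem_pts hfact hx⟩
  haveI := isIso_η hfact hx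
  haveI := isIso_pull_ι hfact hx
  let ι := PunctLib.resInι (EtDimVanC.cl (D X) (one hfact hx)) (D X)
  let η₁ := η (one hfact hx) ⟨x, mem_pts hfact hx⟩
  have hnat : ∀ y : X, ι ≫ δ y = (EtCoh.pullPushAdj (X.fromSpecResidueField y)).unit.app (G (one hfact hx)) ≫
      (EtCoh.push (X.fromSpecResidueField y)).map ((EtCoh.pull (X.fromSpecResidueField y)).map ι) :=
    fun y => (EtCoh.pullPushAdj (X.fromSpecResidueField y)).unit.naturality ι
  refine ⟨(EtCoh.push (X.fromSpecResidueField x)).map e.hom ≫ inv η₁ ≫ ι, ?_, fun y hy hne => ?_⟩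
  · rw [Category.assoc, Category.assoc, hnat]
    infer_instance
  · rw [Category.assoc, Category.assoc, hnat]
    have hz : IsZero ((EtCoh.pull (X.fromSpecResidueField y)).obj (G (one hfact hx))) := by
      rw [isZero_iff_stalk]
      intro Ω _ _ ζ
      refine IsZero.of_iso ?_ ((stalkPullIso (X.fromSpecResidueField y) ζ).app (G (one hfact hx)))
      refine (PunctLib.zeroOff_resIn _ (D X)).isZero_stalk _ ?_
      rw [show (ζ ≫ X.fromSpecResidueField y) default = y from
        (Scheme.Hom.comp_apply _ _ _).trans ((Scheme.range_fromSpecResidueField y).le ⟨_, rfl⟩)]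
      exact fun hm => hne (eq_of_mem_pts hfact hx (mem_pts_of_mem_cl _ hy hm))
    rw [hz.eq_of_src ((EtCoh.pull (X.fromSpecResidueField y)).map ι) 0, Functor.map_zero, comp_zero, comp_zero,
      comp_zero]

variable {Ω : Type u} [Field Ω] [IsSepClosed Ω] {ξ : Spec (CommRingCat.of Ω) ⟶ X}

/-- A germ which dies at every point of height one vanishes. -/
theorem eq_zero_of_δ (d : ↑((EtCoh.stalk ξ).obj (D X))) (h : ∀ x : X, HtOne x → (EtCoh.stalk ξ).map (δ x) d = 0) :
    d = 0 := by
  obtain ⟨U₀, t₀, -, -⟩ := exists_germ_eq ξ (D X) d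
  obtain ⟨W, -, w, σ, hI, -, rfl⟩ := exists_rep_germ hfact t₀ d
  obtain ⟨f, hf, hf0⟩ := exists_rep W σ
  haveI := (hfact W (PunctLib.pt w)).2
  refine germ_eq_zero_of_unitAt w hf (unitAt_of_htOne hf0 fun v hv hvw => ?_)
  let x : X := W.hom v
  obtain ⟨tv, htv⟩ := exists_fiber_point (resPt x) W v (resPt_apply x).symm
  have h1 := h x (htOne_image hv)
  have h2 : germ ξ _ W w ((δ x).hom.app (op W) ((qD X).hom.app (op W) σ)) = 0 :=
    (germ_naturality ξ (δ x) W w _).symm.trans h1
  obtain ⟨O, hwO, hO⟩ := PunctLib.exists_open_germ_eq_zero _ w _ h2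
  have h3 : germ (resPt x) (D X) W tv ((qD X).hom.app (op W) σ) = 0 := by
    refine (bijective_stalk_resPt x (D X)).1 ?_
    rw [map_zero]
    refine (germ_naturality (resPt x) (δ x) W tv _).trans ?_
    refine hO _ (resPt x) tv ?_
    rw [show PunctLib.pt tv = v from htv]
    exact hvw.mem_open O.2 hwO
  have h4 := unitAt_of_germ_eq_zero (irreducible_nhd hfact) (reduced hfact) tv hf h3
  rwa [show PunctLib.pt tv = v from htv] at h4

/-- A germ dies at almost all points of height one. -/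
theorem finite_δ (d : ↑((EtCoh.stalk ξ).obj (D X))) :
    {x : X | HtOne x ∧ (EtCoh.stalk ξ).map (δ x) d ≠ 0}.Finite := by
  obtain ⟨U₀, t₀, -, -⟩ := exists_germ_eq ξ (D X) d
  obtain ⟨W₀, -, w₀, σ₀, hI₀, -, rfl⟩ := exists_rep_germ hfact t₀ d
  obtain ⟨O, w, hI, hN, hw⟩ := exists_integral_nhd hfact w₀
  let W := PunctLib.openObj O
  let σ := ((EtCoh.push (jη X)).obj (EtCoh.Gm _)).obj.map (PunctLib.openIncl O).op σ₀
  obtain ⟨f, hf, hf0⟩ := exists_rep W σ
  have hd : germ ξ (D X) W₀ w₀ ((qD X).hom.app (op W₀) σ₀) = germ ξ (D X) W w ((qD X).hom.app (op W) σ) := by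
    rw [← hw, ← germ_res]
    exact congrArg _ (NatTrans.naturality_apply (qD X).hom (PunctLib.openIncl O).op σ₀).symm
  have hcl : IsClosed {p : W.left | ¬ UnitAt p f} := (isOpen_unitAt f).isClosed_compl
  have hfin : {u : W.left | HtOne u ∧ ¬ UnitAt u f}.Finite := by
    obtain ⟨C, hCf, hCc, hCi, hC⟩ := NoetherianSpace.exists_finite_set_isClosed_irreducible hcl
    haveI := hCf.fintype
    refine (Set.finite_range fun Z : C => (QuasiSober.sober (hCi Z.1 Z.2) (hCc Z.1 Z.2)).choose).subset ?_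
    rintro u ⟨hu, hub⟩
    obtain ⟨Z, hZ, huZ⟩ := hC.le hub
    let z := (QuasiSober.sober (hCi Z hZ) (hCc Z hZ)).choose
    have hz : IsGenericPoint z Z := (QuasiSober.sober (hCi Z hZ) (hCc Z hZ)).choose_spec
    refine ⟨⟨Z, hZ⟩, ?_⟩
    rcases hu.2 z (hz.specializes huZ) with e | e
    · refine absurd ⟨f, isUnit_iff_ne_zero.2 hf0, ?_⟩ (e ▸ hC.ge ⟨Z, hZ, hz.mem⟩ : ¬ UnitAt (genericPoint W.left) f)
      show (W.left.presheaf.stalkSpecializes (genericPoint_specializes (genericPoint W.left))).hom f = f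
      rw [TopCat.Presheaf.stalkSpecializes_refl]
      rfl
    · exact e
  refine (hfin.image fun u => (W.hom u : X)).subset fun (x : X) hx => ?_
  obtain ⟨hx1, hx2⟩ := hx
  by_contra hn
  apply hx2
  rw [hd]
  refine (germ_naturality ξ (δ x) W w _).trans ?_
  rw [push_section_eq_zero _ _ ((δ x).hom.app (op W) ((qD X).hom.app (op W) σ)) fun v hv => ?_, map_zero]
  rw [Scheme.range_fromSpecResidueField, Set.mem_singleton_iff] at hv
  obtain ⟨tv, htv⟩ := exists_fiber_point (resPt x) W v (hv.trans (resPt_apply x).symm)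
  refine ⟨_, inferInstance, inferInstance, resPt x, tv, htv, ?_⟩
  refine (germ_naturality (resPt x) (δ x) W tv _).symm.trans ?_
  have hvg : UnitAt (PunctLib.pt tv) f := by
    rw [show PunctLib.pt tv = v from htv]
    by_contra hu
    exact hn ⟨v, ⟨htOne_of_image (U := W) ((show (W.hom v : X) = x from hv).symm ▸ hx1), hu⟩, hv⟩
  exact (congrArg _ (germ_eq_zero_of_unitAt tv hf hvg)).trans (map_zero _)

/-- The divisor sheaf is the coproduct of the skyscrapers at the points of height one. -/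
theorem nonempty_iso_coproduct {J : Type u} (p : J → X) (hp : Function.Injective p)
    (hrange : ∀ x : X, HtOne x ↔ x ∈ Set.range p)
    (c : Cofan fun i => (EtCoh.push (X.fromSpecResidueField (p i))).obj (EtCoh.const (Spec (X.residueField (p i))) ℤ))
    (hc : IsColimit c) : Nonempty (D X ≅ c.pt) := by
  classical
  choose ψ hψ hψ0 using fun i => exists_ψ hfact ((hrange (p i)).2 ⟨i, rfl⟩)
  let Φ : c.pt ⟶ D X := Cofan.IsColimit.desc hc ψ
  have hΦ : ∀ i, c.inj i ≫ Φ = ψ i := fun i => Cofan.IsColimit.fac hc ψ i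
  suffices IsIso Φ from ⟨(asIso Φ).symm⟩
  refine isIso_of_stalk _ fun Ω' _ _ ζ => (ConcreteCategory.isIso_iff_bijective _).2 ?_
  let S := EtCoh.stalk ζ
  haveI : PreservesColimitsOfSize.{u, u} S :=
    (Scheme.pointSmallEtale ζ).skyscraperSheafAdjunction.leftAdjoint_preservesColimits
  let A : J → AddCommGrpCat.{u + 1} := fun i =>
    S.obj ((EtCoh.push (X.fromSpecResidueField (p i))).obj (EtCoh.const (Spec (X.residueField (p i))) ℤ))
  let T : (Π₀ i, A i) →+ ↑(S.obj c.pt) := DFinsupp.sumAddHom fun i => (S.map (c.inj i)).hom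
  have hT : ∀ i b, T (DFinsupp.single i b) = S.map (c.inj i) b := fun i b => DFinsupp.sumAddHom_single _ _ _
  have hgen : ∀ q, ∃ b, T b = q := by
    have h1 : AddCommGrpCat.ofHom (QuotientAddGroup.mk' T.range) =
        (0 : S.obj c.pt ⟶ AddCommGrpCat.of (↑(S.obj c.pt) ⧸ T.range)) := by
      refine (isColimitOfPreserves S hc).hom_ext fun ⟨i⟩ => ?_
      ext b
      exact (QuotientAddGroup.eq_zero_iff _).2 ⟨DFinsupp.single i b, hT i b⟩
    intro q
    exact (QuotientAddGroup.eq_zero_iff q).1 (ConcreteCategory.congr_hom h1 q)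
  have hcomp : ∀ i j b, S.map (δ (p i)) (S.map Φ (S.map (c.inj j) b)) = S.map (ψ j ≫ δ (p i)) b := fun i j b => by
    rw [← ConcreteCategory.comp_apply, ← ConcreteCategory.comp_apply, ← Functor.map_comp, ← Functor.map_comp,
      ← hΦ j]
    simp only [Category.assoc]
  have hne : ∀ i j, j ≠ i → ψ j ≫ δ (p i) = 0 := fun i j h =>
    hψ0 j (p i) ((hrange _).2 ⟨i, rfl⟩) fun e => h (hp e).symm
  refine ⟨(injective_iff_map_eq_zero _).2 fun q hq => ?_, fun d => ?_⟩
  · obtain ⟨b, rfl⟩ := hgen q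
    suffices b = 0 by rw [this, map_zero]
    refine DFinsupp.ext fun i => ?_
    have e : ((S.map (δ (p i))).hom.comp ((S.map Φ).hom.comp T)) =
        (S.map (ψ i ≫ δ (p i))).hom.comp (DFinsupp.evalAddMonoidHom i) := by
      refine DFinsupp.addHom_ext fun j x => ?_
      show S.map (δ (p i)) (S.map Φ (T (DFinsupp.single j x))) =
        S.map (ψ i ≫ δ (p i)) ((DFinsupp.single j x : Π₀ i, A i) i)
      rw [hT, hcomp]
      by_cases h : j = i
      · subst h
        rw [DFinsupp.single_eq_same]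
      · rw [hne i j h, DFinsupp.single_eq_of_ne (Ne.symm h), map_zero, Functor.map_zero]
        rfl
    haveI := hψ i
    refine (ConcreteCategory.bijective_of_isIso (S.map (ψ i ≫ δ (p i)))).1 ?_
    refine (DFunLike.congr_fun e b).symm.trans ?_
    show S.map (δ (p i)) (S.map Φ (T b)) = S.map (ψ i ≫ δ (p i)) ((0 : Π₀ i, A i) i)
    rw [hq, map_zero, DFinsupp.zero_apply, map_zero]
  · let s : Finset J := ((finite_δ hfact (ξ := ζ) d).preimage hp.injOn).toFinset
    have hinv : ∀ i, ∃ b : A i, S.map (ψ i ≫ δ (p i)) b = S.map (δ (p i)) d := fun i => by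
      haveI := hψ i
      exact (ConcreteCategory.bijective_of_isIso (S.map (ψ i ≫ δ (p i)))).2 _
    choose b hb using hinv
    refine ⟨∑ i ∈ s, S.map (c.inj i) (b i), (sub_eq_zero.1 (eq_zero_of_δ hfact _ fun x hx => ?_)).symm⟩
    obtain ⟨i, rfl⟩ := (hrange x).1 hx
    show S.map (δ (p i)) (d - S.map Φ (∑ j ∈ s, S.map (c.inj j) (b j))) = 0
    rw [map_sub, sub_eq_zero, map_sum, map_sum]
    simp only [hcomp]
    have hz : ∀ j, j ≠ i → S.map (ψ j ≫ δ (p i)) (b j) = 0 := fun j h => by
      rw [hne i j h, Functor.map_zero]; rfl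
    by_cases hi : i ∈ s
    · rw [Finset.sum_eq_single i (fun j _ h => hz j h) (fun h => absurd hi h), hb i]
    · rw [Finset.sum_eq_zero fun j hj => hz j fun h => hi (h ▸ hj)]
      by_contra hd0
      exact hi ((Set.Finite.mem_toFinset _).2 ⟨hx, hd0⟩)

end Groth.Agent.GalCohAux.EtDivSum
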