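import Groth.Agent.EtColim.TorsionPush
import Groth.Agent.GalCohAux.EtDimVanD
import Groth.Agent.GalCohAux.EtColimBig

/-!
Vanishing for sheaves on which multiplication is surjective: torsion and rational parts.
-/

set_option autoImplicit false
set_option backward.isDefEq.respectTransparency false
universe u
open CategoryTheory CategoryTheory.Limits AlgebraicGeometry Opposite

noncomputable section

namespace Groth.Agent.GalCohAux.EtLocUD

open EtColim.TorsionPush

variable {X : Scheme.{u}} (I : EtCoh.Ab X)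

theorem map_eq {a b : Idx.{u} (Set.univ : Set ℕ)} (h : a ⟶ b) :
    (mulDiag Set.univ I).map h = (b.m / a.m) • 𝟙 I := rfl

/-- The localisation is uniquely divisible. -/
theorem ud_loc : EtDimVanD.UD (loc Set.univ I) := fun n hn => by
  let mk : Idx.{u} (Set.univ : Set ℕ) → Idx.{u} (Set.univ : Set ℕ) := fun a =>
    ⟨a.m * n, primesIn_mul a.prop ⟨hn, fun _ _ _ => Set.mem_univ _⟩⟩
  let c : Cocone (mulDiag Set.univ I) :=
    { pt := loc Set.univ I
      ι :=
        { app := fun a => colimit.ι (mulDiag Set.univ I) (mk a)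
          naturality := fun a b h => by
            have hd : (mk a).m ∣ (mk b).m := Nat.mul_dvd_mul_right (leOfHom h) n
            have w := colimit.w (mulDiag Set.univ I) (homOfLE hd : mk a ⟶ mk b)
            rw [map_eq] at w ⊢
            rw [show (mk b).m / (mk a).m = b.m / a.m from Nat.mul_div_mul_right _ _ hn] at w
            exact w.trans (Category.comp_id _).symm } }
  have key : ∀ a : Idx.{u} (Set.univ : Set ℕ),
      n • colimit.ι (mulDiag Set.univ I) (mk a) = colimit.ι (mulDiag Set.univ I) a := fun a => by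
    have hd : a.m ∣ (mk a).m := dvd_mul_right a.m n
    have w := colimit.w (mulDiag Set.univ I) (homOfLE hd : a ⟶ mk a)
    rw [map_eq, show (mk a).m / a.m = n from Nat.mul_div_cancel_left n a.prop.1] at w
    exact ((Preadditive.nsmul_comp (𝟙 I) _ n).trans (congrArg (n • ·) (Category.id_comp _))).symm.trans w
  refine ⟨⟨colimit.desc (mulDiag Set.univ I) c, ?_, ?_⟩⟩
  all_goals
    refine colimit.hom_ext fun a => ?_
    rw [Category.comp_id]
  · rw [Preadditive.nsmul_comp, Category.id_comp, Preadditive.comp_nsmul, colimit.ι_desc]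
    exact key a
  · rw [← Category.assoc, colimit.ι_desc, Preadditive.comp_nsmul, Category.comp_id]
    exact key a

variable [IsNoetherian X]

/-- Vanishing from the vanishing of the kernels of multiplication and of the localisation. -/
theorem subsingleton_H (r : ℕ) (hepi : ∀ n : ℕ, 0 < n → Epi (n • 𝟙 I))
    (hker : ∀ n : ℕ, 0 < n → Subsingleton (EtCoh.H X (kernel (n • 𝟙 I)) r))
    (hud : ∀ G : EtCoh.Ab X, EtDimVanD.UD G → Subsingleton (EtCoh.H X G r)) :
    Subsingleton (EtCoh.H X I r) := by
  have hinj : ∀ n : ℕ, 0 < n → ∀ x : EtCoh.H X I r, Sheaf.H.map (n • 𝟙 I) r x = 0 → x = 0 := fun n hn x hx => by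
    haveI := hepi n hn
    let S : ShortComplex (EtCoh.Ab X) := ShortComplex.mk (kernel.ι (n • 𝟙 I)) (n • 𝟙 I) (kernel.condition _)
    have hS : S.ShortExact := { exact := ShortComplex.exact_kernel (n • 𝟙 I) }
    obtain ⟨z, hz⟩ := Abelian.Ext.covariant_sequence_exact₂ _ hS x ((Sheaf.H.map_apply _ _).symm.trans hx)
    rw [← hz, @Subsingleton.elim _ (hker n hn) z 0, Abelian.Ext.zero_comp]
  haveI : IsFiltered (Idx.{u} (Set.univ : Set ℕ)) := inferInstance
  refine subsingleton_of_forall_eq 0 fun x => ?_
  obtain ⟨-, hker'⟩ := Groth.Agent.EtColim.CohColim.coh_colimit r (colimit.isColimit (mulDiag Set.univ I))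
  obtain ⟨b, h, hb⟩ := hker' ⟨1, primesIn_one⟩ x (@Subsingleton.elim _ (hud _ (ud_loc I)) _ _)
  rw [map_eq] at hb
  refine hinj (b.m / 1) ?_ x hb
  rw [Nat.div_one]
  exact b.prop.1

end Groth.Agent.GalCohAux.EtLocUD
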