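import Groth.Agent.GalCohAux.EtCyclic
import Mathlib.GroupTheory.IndexNormal
import Mathlib.RingTheory.Norm.Transitivity
import Mathlib.FieldTheory.Galois.Basic

/-!
The multiplicative group on the small étale site of a field: norms and `H²`.
-/

set_option autoImplicit false
set_option backward.isDefEq.respectTransparency false

universe u

open CategoryTheory CategoryTheory.Limits AlgebraicGeometry Opposite

noncomputable section

namespace Groth.Agent.GalCohAux.EtGm

open EtaleSite EtTrace EtCyclic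

section Pull

variable {X Y : Scheme.{u}} (j : Y ⟶ X) [Etale j]

/-- Restricting `G_m` along an étale morphism gives `G_m`. -/
def restrGmIso : (EtShriek.restrAlong j).obj (EtCoh.Gm X) ≅ EtCoh.Gm Y :=
  ObjectProperty.isoMk _ (NatIso.ofComponents (fun V => Iso.refl _) fun {V W} g => by
    rw [Iso.refl_hom, Iso.refl_hom, Category.comp_id, Category.id_comp]
    rfl)

/-- The inverse image of `G_m` along an étale morphism is `G_m`. -/
def pullGmIso : (EtCoh.pull j).obj (EtCoh.Gm X) ≅ EtCoh.Gm Y :=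
  (EtaleSite.pullIsoRestrAlong j).app (EtCoh.Gm X) ≪≫ restrGmIso j

end Pull

variable {K : Type u} [Field K] {N : Type u} [Field N] [Algebra K N] [FiniteDimensional K N] [IsGalois K N]

/-- `H¹(N, G_m) = 0` as a vanishing of `Ext`. -/
theorem subsingleton_ext_freeOn :
    Subsingleton (Abelian.Ext (Flasque.freeOn (fld K N)) (EtCoh.Gm (Spec (CommRingCat.of K))) 1) := by
  let f : Spec (CommRingCat.of N) ⟶ Spec (CommRingCat.of K) := (fld K N).hom
  haveI : Etale f := (fld K N).prop
  refine (Flasque.subsingleton_H_iff (fld K N) _ 1).1 (subsingleton_of_forall_eq 0 fun x => ?_)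
  apply (HpullComp.HF_map_bijective (n := 1) (pullGmIso f).hom).1
  exact (EtH1.subsingleton_H_one_Gm (K := N)).elim _ _

/-- Sections of `G_m` over `N` are the units of `N`. -/
def unitsEquiv : EtCoh.sect (EtCoh.Gm (Spec (CommRingCat.of K))) (fld K N) ≃+ Additive Nˣ :=
  (AddEquiv.ulift : ULift.{u + 1} (Additive (Γ(Spec (CommRingCat.of N), ⊤))ˣ) ≃+ _).trans
    (Units.mapEquiv (Scheme.ΓSpecIso (CommRingCat.of N)).commRingCatIsoToRingEquiv.toMulEquiv).toAdditive

theorem unitsEquiv_sig (σ : N ≃ₐ[K] N) (s : EtCoh.sect (EtCoh.Gm (Spec (CommRingCat.of K))) (fld K N)) :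
    (((unitsEquiv (sig _ σ s)).toMul : Nˣ) : N) = σ ((unitsEquiv s).toMul : Nˣ) :=
  ConcreteCategory.congr_hom (Scheme.ΓSpecIso_naturality (CommRingCat.ofHom σ.toAlgHom.toRingHom))
    (((show ULift.{u + 1} (Additive (Γ(Spec (CommRingCat.of N), ⊤))ˣ) from s).down.toMul :
      (Γ(Spec (CommRingCat.of N), ⊤))ˣ) : Γ(Spec (CommRingCat.of N), ⊤))

theorem unitsEquiv_sum (w : EtCoh.sect (EtCoh.Gm (Spec (CommRingCat.of K))) (fld K N)) :
    (((unitsEquiv (∑ σ : N ≃ₐ[K] N, sig _ σ w)).toMul : Nˣ) : N) = algebraMap K N (Algebra.norm K (((unitsEquiv w).toMul : Nˣ) : N)) := by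
  rw [Algebra.norm_eq_prod_automorphisms, map_sum, toMul_sum, Units.coe_prod]
  exact Finset.prod_congr rfl fun σ _ => unitsEquiv_sig σ w

/-- Norms are surjective iff invariant sections are norms. -/
theorem norm_iff :
    (∀ x : K, x ≠ 0 → ∃ y : N, Algebra.norm K y = x) ↔
      ∀ u : EtCoh.sect (EtCoh.Gm (Spec (CommRingCat.of K))) (fld K N), (∀ σ : N ≃ₐ[K] N, sig _ σ u = u) →
        ∃ w, ∑ σ : N ≃ₐ[K] N, sig _ σ w = u := by
  constructor
  · intro h u hu
    obtain ⟨x, hx⟩ : (((unitsEquiv u).toMul : Nˣ) : N) ∈ Set.range (algebraMap K N) := by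
      rw [IsGalois.mem_range_algebraMap_iff_fixed]
      intro σ
      rw [← unitsEquiv_sig, hu]
    obtain ⟨y, hy⟩ := h x fun h0 => ((unitsEquiv u).toMul).ne_zero (by rw [← hx, h0, map_zero])
    have hy0 : y ≠ 0 := fun h0 => by
      rw [h0, Algebra.norm_zero] at hy
      exact ((unitsEquiv u).toMul).ne_zero (by rw [← hx, ← hy, map_zero])
    refine ⟨unitsEquiv.symm (Additive.ofMul (Units.mk0 y hy0)), unitsEquiv.injective (Additive.toMul.injective (Units.ext ?_))⟩
    rw [unitsEquiv_sum, AddEquiv.apply_symm_apply, toMul_ofMul, Units.val_mk0, hy, hx]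
  · intro h x hx
    let xN : Nˣ := Units.mk0 (algebraMap K N x) fun h0 => hx ((algebraMap K N).injective (h0.trans (map_zero _).symm))
    obtain ⟨w, hw⟩ := h (unitsEquiv.symm (Additive.ofMul xN)) fun σ =>
      unitsEquiv.injective (Additive.toMul.injective (Units.ext (by
        rw [unitsEquiv_sig, AddEquiv.apply_symm_apply, toMul_ofMul]
        exact σ.commutes x)))
    refine ⟨(((unitsEquiv w).toMul : Nˣ) : N), (algebraMap K N).injective ?_⟩
    rw [← unitsEquiv_sum, hw, AddEquiv.apply_symm_apply, toMul_ofMul]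
    rfl

theorem exists_generator {p : ℕ} [Fact p.Prime] (hdeg : Module.finrank K N = p) :
    ∃ g : N ≃ₐ[K] N, orderOf g = p ∧ ∀ x, x ∈ Subgroup.zpowers g := by
  have hcard : Nat.card (N ≃ₐ[K] N) = p := (IsGalois.card_aut_eq_finrank K N).trans hdeg
  haveI := isCyclic_of_prime_card hcard
  obtain ⟨g, hg⟩ := IsCyclic.exists_generator (α := N ≃ₐ[K] N)
  exact ⟨g, (orderOf_eq_card_of_forall_mem_zpowers hg).trans hcard, hg⟩

/-- The norm condition kills classes dying on a cyclic extension of prime degree. -/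
theorem eq_zero_of_norm_surjective {p : ℕ} [Fact p.Prime] (hdeg : Module.finrank K N = p)
    (hn : ∀ x : K, x ≠ 0 → ∃ y : N, Algebra.norm K y = x)
    (x : EtCoh.H (Spec (CommRingCat.of K)) (EtCoh.Gm _) 2) (hx : EtCore.Hpull (fld K N).hom _ 2 x = 0) : x = 0 := by
  obtain ⟨g, hord, hgen⟩ := exists_generator hdeg
  exact eq_zero_of_norm _ hord hgen subsingleton_ext_freeOn (norm_iff.1 hn) x hx

/-- Vanishing of the `p`-torsion of `H²(G_m)` makes norms surjective. -/
theorem norm_surjective_of_H2 {p : ℕ} [Fact p.Prime] (hdeg : Module.finrank K N = p)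
    (hH : ∀ x : EtCoh.H (Spec (CommRingCat.of K)) (EtCoh.Gm _) 2, p • x = 0 → x = 0) :
    ∀ x : K, x ≠ 0 → ∃ y : N, Algebra.norm K y = x := by
  obtain ⟨g, hord, hgen⟩ := exists_generator hdeg
  refine norm_iff.2 fun u hu => norm_of_H2 _ hord hgen subsingleton_ext_freeOn (fun x hx => hH x ?_) u hu
  rw [← hdeg]
  exact EtTower.finrank_nsmul N hx

end Groth.Agent.GalCohAux.EtGm
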