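import Groth.Agent.EtLimit.RpushStalk
import Groth.Agent.EtColim.TorsionPush
import Groth.Agent.EtSupp.EtaleBC
import Groth.Agent.SiteCoh.DimShift
import Groth.Agent.RDerLES

/-!
Vanishing of higher direct images from vanishing on étale schemes.
-/

set_option autoImplicit false
set_option backward.isDefEq.respectTransparency false
set_option maxHeartbeats 400000

universe u

open CategoryTheory CategoryTheory.Limits AlgebraicGeometry Opposite

noncomputable section

namespace Groth.Agent.GalCohAux.EtRpushVan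

variable {X Y : Scheme.{u}}

/-- Cohomology on an étale scheme over `X`. -/
abbrev HOn (W : X.Etale) (F : EtCoh.Ab X) (q : ℕ) : Type (u + 1) :=
  EtCoh.H W.left ((EtCoh.pull W.hom).obj F) q

theorem etale_hom (W : X.Etale) : Etale W.hom := W.prop

theorem shortExact_pull (W : X.Etale) (S : ShortComplex (EtCoh.Ab X)) (hS : S.ShortExact) :
    haveI := etale_hom W
    (S.map (EtShriek.restrAlong W.hom)).ShortExact :=
  haveI := etale_hom W
  hS.map_of_exact _

theorem subsingleton_of_iso {F G : EtCoh.Ab X} (e : F ≅ G) (q : ℕ) (h : Subsingleton (EtCoh.H X F q)) :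
    Subsingleton (EtCoh.H X G q) := by
  exact @Equiv.subsingleton _ _ ((EtCoh.HF X q).mapIso e).addCommGroupIsoToAddEquiv.toEquiv.symm h

/-- Global sections of an epimorphism surject when `H¹` of the kernel vanishes. -/
theorem surjective_gsec (S : ShortComplex (EtCoh.Ab X)) (hS : S.ShortExact)
    (h : Subsingleton (EtCoh.H X S.X₁ 1)) : Function.Surjective (S.g.hom.app (op (EtCoh.top X))) := by
  intro t
  obtain ⟨y, hy⟩ := Abelian.Ext.covariant_sequence_exact₃ _ hS ((EtLimit.s₀ S.X₃).symm t) (rfl : 0 + 1 = 0 + 1)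
    (@Subsingleton.elim (EtCoh.H X S.X₁ (0 + 1)) h _ _)
  refine ⟨EtLimit.s₀ S.X₂ y, ?_⟩
  refine (Sheaf.H.equiv₀_naturality (EtCore.topIsTerminal X) S.g y).trans ?_
  refine (congrArg (EtLimit.s₀ S.X₃) ((Sheaf.H.map_apply S.g y).trans hy)).trans ?_
  exact (EtLimit.s₀ S.X₃).apply_symm_apply t

/-- The sections of an epimorphism surject when `H¹` of the kernel vanishes. -/
theorem surjective_sections {S : ShortComplex (EtCoh.Ab X)} (hS : S.ShortExact) (W : X.Etale)
    (h : Subsingleton (HOn W S.X₁ 1)) : Function.Surjective (S.g.hom.app (op W)) := by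
  haveI := etale_hom W
  let S' := S.map (EtShriek.restrAlong W.hom)
  have hS' : S'.ShortExact := shortExact_pull W S hS
  have h1 : Subsingleton (EtCoh.H W.left S'.X₁ 1) :=
    subsingleton_of_iso ((EtaleSite.pullIsoRestrAlong W.hom).app S.X₁) 1 h
  have hs : Function.Surjective (S'.g.hom.app (op (EtCoh.top W.left))) := surjective_gsec S' hS' h1
  let θ : (EtShriek.compEtale W.hom).obj (EtCoh.top W.left) ≅ W :=
    MorphismProperty.Over.isoMk (Iso.refl _) (by simp [Iso.refl_hom]; try exact (Category.id_comp W.hom).symm)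
  intro t
  obtain ⟨s, hs⟩ := hs (S.X₃.obj.map θ.hom.op t)
  refine ⟨S.X₂.obj.map θ.inv.op s, ?_⟩
  rw [NatTrans.naturality_apply]
  refine (congrArg (S.X₃.obj.map θ.inv.op) hs).trans ?_
  rw [← ConcreteCategory.comp_apply, ← Functor.map_comp, ← op_comp, θ.inv_hom_id, op_id,
    CategoryTheory.Functor.map_id]
  rfl

/-- Dimension shifting on an étale scheme. -/
theorem subsingleton_quotient {S : ShortComplex (EtCoh.Ab X)} (hS : S.ShortExact) [Injective S.X₂]
    (W : X.Etale) (q : ℕ) (h : Subsingleton (HOn W S.X₁ (q + 1 + 1))) : Subsingleton (HOn W S.X₃ (q + 1)) := by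
  haveI := etale_hom W
  haveI : PreservesFiniteLimits (EtCoh.pull W.hom) :=
    preservesFiniteLimits_of_natIso (EtaleSite.pullIsoRestrAlong W.hom).symm
  haveI : PreservesFiniteColimits (EtCoh.pull W.hom) :=
    preservesFiniteColimits_of_natIso (EtaleSite.pullIsoRestrAlong W.hom).symm
  haveI : (EtCoh.pull W.hom).Additive := Functor.additive_of_preserves_binary_products _
  have hS' : (S.map (EtCoh.pull W.hom)).ShortExact := hS.map_of_exact _
  haveI : Injective (S.map (EtCoh.pull W.hom)).X₂ := EtSupp.ExtZero.injective_pull W.hom S.X₂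
  refine subsingleton_of_forall_eq 0 fun x => ?_
  obtain ⟨y, rfl⟩ := Abelian.Ext.covariant_sequence_exact₃ _ hS' x (rfl : q + 1 + 1 = q + 1 + 1)
    (@Subsingleton.elim _ h _ _)
  rw [Abelian.Ext.eq_zero_of_injective y]
  simp

variable (f : X ⟶ Y)

/-- If a degree vanishes on the pullback of every affine étale scheme, the higher direct image vanishes. -/
theorem isZero_Rpush : ∀ (q : ℕ) (F : EtCoh.Ab X),
    (∀ V : Y.Etale, IsAffine V.left → Subsingleton (HOn ((EtCoh.bc f).obj V) F (q + 1))) →
      IsZero ((EtCoh.Rpush f (q + 1)).obj F) := by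
  have : PreservesFiniteLimits (EtCoh.push f) :=
    ⟨fun K _ _ => ((EtCoh.pullPushAdj f).rightAdjoint_preservesLimits.preservesLimitsOfShape :
      PreservesLimitsOfShape K (EtCoh.push f))⟩
  let l := Groth.Agent.RDerLES.derivedLES (EtCoh.push f)
  intro q
  induction q with
  | zero =>
    intro F hF
    let S := SiteCoh.DimShift.inj F
    have hS : S.ShortExact := SiteCoh.DimShift.inj_shortExact F
    have he : Epi ((EtCoh.push f).map S.g) :=
      EtColim.TorsionPush.epi_of_affine _ fun V hV => surjective_sections hS ((EtCoh.bc f).obj V) (hF V hV)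
    have he0 : Epi ((EtCoh.Rpush f 0).map S.g) :=
      ((MorphismProperty.epimorphisms (EtCoh.Ab Y)).arrow_mk_iso_iff
        (Arrow.isoMk ((EtCoh.push f).rightDerivedZeroIsoSelf.app S.X₂)
          ((EtCoh.push f).rightDerivedZeroIsoSelf.app S.X₃)
          ((EtCoh.push f).rightDerivedZeroIsoSelf.hom.naturality S.g).symm :
          Arrow.mk ((EtCoh.Rpush f 0).map S.g) ≅ Arrow.mk ((EtCoh.push f).map S.g))).2 he
    refine (l.exact₁ S hS 0 1 rfl).isZero_of_both_zeros ?_
      ((Functor.isZero_rightDerived_obj_injective_succ _ 0 S.X₂).eq_of_tgt _ _)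
    exact (cancel_epi ((EtCoh.Rpush f 0).map S.g)).1 ((l.comp_δ S hS 0 1 rfl).trans comp_zero.symm)
  | succ q ih =>
    intro F hF
    let S := SiteCoh.DimShift.inj F
    have hS : S.ShortExact := SiteCoh.DimShift.inj_shortExact F
    exact (l.exact₁ S hS (q + 1) (q + 2) rfl).isZero_of_both_zeros
      ((ih S.X₃ fun V hV => subsingleton_quotient hS _ q (hF V hV)).eq_of_src _ _)
      ((Functor.isZero_rightDerived_obj_injective_succ _ (q + 1) S.X₂).eq_of_tgt _ _)

end Groth.Agent.GalCohAux.EtRpushVan
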