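import Groth.Agent.GalCohAux.EtDimVanC
import Groth.Agent.EtaleSite.SetSH
import Groth.Agent.S3054
import Groth.Agent.S14451
import Groth.Agent.RDerLES
import Groth.Agent.EtSupp.Basic
import Groth.Agent.EtConsAb.Supp
import Groth.Agent.EtaleSite.Recollement
import Groth.Agent.GalCohAux.EtCdTr
import Mathlib.AlgebraicGeometry.Morphisms.Preimmersion

/-!
Sheaves supported in closed points.
-/

set_option autoImplicit false
set_option backward.isDefEq.respectTransparency false

universe u

open CategoryTheory CategoryTheory.Limits AlgebraicGeometry Opposite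

noncomputable section

namespace Groth.Agent.GalCohAux.EtSuppClosed

open EtaleSite EtDimVanA

attribute [-instance] EtFin.instUniqueCarrierCarrierCommRingCatSpecOf_groth

variable {X : Scheme.{u}}

/-- A sheaf on a scheme whose points are closed, with finite support. -/
theorem subsingleton_H_of_finite_supp :
    ∀ (n : ℕ) (F : EtCoh.Ab X) (s : Finset X), (∀ x ∈ s, IsClosed ({x} : Set X)) →
      s.card ≤ n → EtPBC.supp F ⊆ ↑s → ∀ q,
      (∀ x ∈ s, Subsingleton (EtCoh.H (Spec (X.residueField x))
        ((EtCoh.pull (X.fromSpecResidueField x)).obj F) q)) →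
      Subsingleton (EtCoh.H X F q) := by
  classical
  intro n
  induction n with
  | zero =>
    intro F s _ hs hsupp q _
    obtain rfl : s = ∅ := Finset.card_eq_zero.1 (Nat.le_zero.1 hs)
    exact subsingleton_H_of_isZero (isZero_of_supp_empty (Set.subset_empty_iff.1 (by simpa using hsupp))) q
  | succ n ih =>
    intro F s hcl hs hsupp q hq
    rcases s.eq_empty_or_nonempty with rfl | ⟨x, hx⟩
    · exact subsingleton_H_of_isZero (isZero_of_supp_empty (Set.subset_empty_iff.1 (by simpa using hsupp))) q
    let i := X.fromSpecResidueField x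
    haveI : IsClosedImmersion i := IsClosedImmersion.of_isPreimmersion i (by
      rw [Scheme.range_fromSpecResidueField]; exact hcl x hx)
    let η := (EtCoh.pullPushAdj i).unit.app F
    have hiso : ∀ (Ω : Type u) [Field Ω] [IsSepClosed Ω] (ξ : Spec (CommRingCat.of Ω) ⟶ X),
        ξ default = x → IsIso ((EtCoh.stalk ξ).map η) := fun Ω _ _ ξ hξ =>
      isIso_stalk_unit_push i F ξ (by rw [Scheme.range_fromSpecResidueField, Set.mem_singleton_iff]; exact hξ)
    haveI : Epi η := epi_of_stalk η fun Ω _ _ ξ => by
      by_cases hξ : ξ default = x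
      · haveI := hiso Ω ξ hξ
        exact (ConcreteCategory.bijective_of_isIso ((EtCoh.stalk ξ).map η)).2
      · intro b
        refine ⟨0, ?_⟩
        haveI : Subsingleton ↑((EtCoh.stalk ξ).obj ((EtCoh.pull i ⋙ EtCoh.push i).obj F)) :=
          AddCommGrpCat.subsingleton_of_isZero (isZero_stalk_push i ξ
          (by rw [Scheme.range_fromSpecResidueField, Set.mem_singleton_iff]; exact hξ) ((EtCoh.pull i).obj F))
        exact Subsingleton.elim _ _
    let S : ShortComplex (EtCoh.Ab X) := ShortComplex.mk (kernel.ι η) η (kernel.condition η)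
    have hS : S.ShortExact := { exact := ShortComplex.exact_of_f_is_kernel _ (kernelIsKernel η) }
    have hK : EtPBC.supp (kernel η) ⊆ ↑(s.erase x) := fun y hy => by
      have hyξ : geomPointAt X y default = y := geomPointAt_apply X y _
      rw [mem_supp] at hy
      have hinj := (mono_iff_stalk (kernel.ι η)).1 inferInstance _ (geomPointAt X y)
      rw [Finset.coe_erase]
      refine ⟨?_, fun e => hy ?_⟩
      · refine hsupp ?_
        rw [mem_supp]
        intro h0
        haveI : Subsingleton ↑((EtCoh.stalk (geomPointAt X y)).obj ((𝟭 (EtCoh.Ab X)).obj F)) :=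
          AddCommGrpCat.subsingleton_of_isZero h0
        exact hy (@AddCommGrpCat.isZero_of_subsingleton _ hinj.subsingleton)
      · haveI := hiso _ (geomPointAt X y) (hyξ.trans e)
        refine @AddCommGrpCat.isZero_of_subsingleton _ (subsingleton_of_forall_eq 0 fun p => hinj ?_)
        refine (ConcreteCategory.bijective_of_isIso ((EtCoh.stalk (geomPointAt X y)).map η)).1 ?_
        rw [← ConcreteCategory.comp_apply, ← Functor.map_comp, kernel.condition, Functor.map_zero, map_zero,
          map_zero]
        rfl
    refine subsingleton_H_mid hS q (ih _ _ (fun z hz => hcl z (Finset.mem_of_mem_erase hz)) (by rw [Finset.card_erase_of_mem hx]; omega) hK q fun y hy => ?_) ?_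
    · -- the kernel agrees with `F` at the other points
      refine subsingleton_H_of_iso ?_ q (hq y (Finset.mem_of_mem_erase hy))
      haveI : IsIso ((EtCoh.pull (X.fromSpecResidueField y)).map (kernel.ι η)) := by
        refine isIso_of_stalk _ fun Ω _ _ ξ => ?_
        refine (NatIso.isIso_map_iff (stalkPullIso (X.fromSpecResidueField y) ξ) (kernel.ι η)).2 ?_
        let ξ' := ξ ≫ X.fromSpecResidueField y
        have hξ' : ξ' default ≠ x := fun e => Finset.ne_of_mem_erase hy (by
          rw [← e]
          exact ((Scheme.range_fromSpecResidueField y).le ⟨ξ default, (Scheme.Hom.comp_apply _ _ _).symm⟩).symm)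
        haveI : PreservesFiniteLimits (EtCoh.stalk ξ') := inferInstance
        have hexact := hS.map_of_exact (EtCoh.stalk ξ')
        haveI : Mono ((EtCoh.stalk ξ').map (kernel.ι η)) := hexact.mono_f
        haveI : Epi ((EtCoh.stalk ξ').map (kernel.ι η)) :=
          hexact.exact.epi_f ((isZero_stalk_push i ξ'
            (by rw [Scheme.range_fromSpecResidueField, Set.mem_singleton_iff]; exact hξ') _).eq_of_tgt _ _)
        exact isIso_of_mono_of_epi _
      exact (asIso ((EtCoh.pull (X.fromSpecResidueField y)).map (kernel.ι η))).symm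
    · exact (Equiv.ofBijective _ (S14451.result i _ (fun j hj => S3054.result i _ j hj) q)).subsingleton_congr.2
        (hq x hx)

/-- Sheaves supported in closed points have the cohomology of their points. -/
theorem subsingleton_H_of_supp_closed [IsNoetherian X] (G : EtCoh.Ab X)
    (hG : ∀ x ∈ EtPBC.supp G, IsClosed ({x} : Set X)) (q : ℕ)
    (h : ∀ x ∈ EtPBC.supp G, ∀ M : EtCoh.Ab (Spec (X.residueField x)),
      Subsingleton (EtCoh.H (Spec (X.residueField x)) M q)) :
    Subsingleton (EtCoh.H X G q) := by
  classical
  refine EtDimVanC.subsingleton_of_stages G q fun T => ?_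
  let s : Finset X := T.image fun t => (t.down : X)
  have hmem : ∀ x ∈ s, x ∈ EtPBC.supp G := fun x hx => by
    obtain ⟨t, -, rfl⟩ := Finset.mem_image.1 hx
    exact t.down.2
  refine subsingleton_H_of_finite_supp s.card _ s (fun x hx => hG x (hmem x hx)) le_rfl ?_ q
    fun x hx => h x (hmem x hx) _
  refine (EtDimVanC.supp_resIn_subset _ G).trans ?_
  refine (IsClosed.closure_subset_iff ?_).2 (by simp [s])
  have e : (↑s : Set X) = ⋃ x ∈ s, {x} := by ext z; simp
  rw [e]
  exact Set.Finite.isClosed_biUnion s.finite_toSet fun x hx => hG x (hmem x hx)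

theorem subsingleton_sepClosed (L : Type u) [Field L] [IsSepClosed L]
    (M : EtCoh.Ab (Spec (CommRingCat.of L))) (q : ℕ) (hq : 0 < q) :
    Subsingleton (EtCoh.H (Spec (CommRingCat.of L)) M q) :=
  EtaleSite.subsingleton_H L M q hq

end Groth.Agent.GalCohAux.EtSuppClosed
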