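import Groth.Agent.GalCohAux.EtDivStage
import Groth.Agent.GalCohAux.EtLocUD
import Groth.Agent.EtCoprodGE.Push
import Groth.Agent.EtConsAb.DimTorsion
import Groth.Agent.S13956

/-!
Torsion of the cohomology of the divisor sheaf and of `G_m`.
-/

set_option autoImplicit false
set_option backward.isDefEq.respectTransparency false

universe u

open CategoryTheory CategoryTheory.Limits AlgebraicGeometry Opposite TopologicalSpace

noncomputable section

namespace Groth.Agent.GalCohAux.EtDivTor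

open EtaleSite EtGmPushStalk EtDivPts EtDivSheaf EtColim.TorsionPush

attribute [-instance] EtFin.instUniqueCarrierCarrierCommRingCatSpecOf_groth

/-- Direct images from fields have torsion higher cohomology. -/
theorem isAddTorsion_push_field {Y : Scheme.{u}} [IsNoetherian Y] {K : Type u} [Field K]
    (g : Spec (CommRingCat.of K) ⟶ Y) [QuasiCompact g] [QuasiSeparated g]
    (F : EtCoh.Ab (Spec (CommRingCat.of K))) (q : ℕ) :
    IsAddTorsion (EtCoh.H Y ((EtCoh.push g).obj F) (q + 1)) := by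
  intro x
  haveI := EtCoprodGE.preservesFilteredColimits_push g
  haveI : IsFiltered (EtColim.TorsionPush.Idx.{u} (Set.univ : Set ℕ)) := inferInstance
  haveI : PreservesColimitsOfShape (EtColim.TorsionPush.Idx.{u} (Set.univ : Set ℕ)) (EtCoh.push g) :=
    PreservesFilteredColimitsOfSize.preserves_filtered_colimits _
  haveI : (EtCoh.push g).Additive := (EtCoh.pullPushAdj g).right_adjoint_additive
  let e : mulDiag (Set.univ : Set ℕ) F ⋙ EtCoh.push g ≅ mulDiag Set.univ ((EtCoh.push g).obj F) :=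
    NatIso.ofComponents (fun _ => Iso.refl _) fun {a b} h => by
      show (EtCoh.push g).map ((b.m / a.m) • 𝟙 F) ≫ 𝟙 ((EtCoh.push g).obj F) =
        𝟙 ((EtCoh.push g).obj F) ≫ ((b.m / a.m) • 𝟙 ((EtCoh.push g).obj F))
      rw [Category.comp_id, Category.id_comp, Functor.map_nsmul]
      congr 1
  have hs : Subsingleton (EtCoh.H Y (loc Set.univ ((EtCoh.push g).obj F)) (q + 1)) :=
    EtDimVanA.subsingleton_H_of_iso
      (preservesColimitIso (EtCoh.push g) (mulDiag Set.univ F) ≪≫ HasColimit.isoOfNatIso e) _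
      (S13956.subsingleton_push_field g _ (EtLocUD.ud_loc F) q)
  obtain ⟨-, hker⟩ := EtColim.CohColim.coh_colimit (q + 1)
    (colimit.isColimit (mulDiag Set.univ ((EtCoh.push g).obj F)))
  obtain ⟨b, h, hb⟩ := hker ⟨1, primesIn_one⟩ x (@Subsingleton.elim _ hs _ _)
  rw [EtLocUD.map_eq] at hb
  refine isOfFinAddOrder_iff_nsmul_eq_zero.2 ⟨b.m / 1, by rw [Nat.div_one]; exact b.prop.1, ?_⟩
  exact ((Sheaf.H.map_apply _ _).trans (EtNsmul.comp_nsmul_id x _)).symm.trans hb

/-- The cohomology of a finite biproduct is torsion if those of the factors are. -/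
theorem isAddTorsion_biproduct {X : Scheme.{u}} {ι : Type u} [Fintype ι] (P : ι → EtCoh.Ab X) (q : ℕ)
    (h : ∀ i, IsAddTorsion (EtCoh.H X (P i) q)) : IsAddTorsion (EtCoh.H X (⨁ P) q) := fun y => by
  classical
  choose n hn hz using fun i => isOfFinAddOrder_iff_nsmul_eq_zero.1
    (h i (y.comp (Abelian.Ext.mk₀ (biproduct.π P i)) (add_zero q)))
  refine isOfFinAddOrder_iff_nsmul_eq_zero.2 ⟨∏ i, n i, Finset.prod_pos fun i _ => hn i,
    EtGmMax.comp_eq_zero_of_proj P _ fun i => ?_⟩
  let Q : EtCoh.H X (⨁ P) q →+ EtCoh.H X (P i) q := AddMonoidHom.mk'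
    (fun z => z.comp (Abelian.Ext.mk₀ (biproduct.π P i)) (add_zero q)) fun _ _ => Abelian.Ext.add_comp _ _ _ _
  show Q ((∏ j, n j) • y) = 0
  rw [map_nsmul, ← Finset.prod_erase_mul _ _ (Finset.mem_univ i), mul_nsmul']
  exact (congrArg _ (hz i)).trans (nsmul_zero _)

theorem isAddTorsion_of_iso {X : Scheme.{u}} {F G : EtCoh.Ab X} (e : F ≅ G) (q : ℕ)
    (h : IsAddTorsion (EtCoh.H X F q)) : IsAddTorsion (EtCoh.H X G q) := fun x => by
  obtain ⟨n, hn, hz⟩ := isOfFinAddOrder_iff_nsmul_eq_zero.1 (h (x.comp (Abelian.Ext.mk₀ e.inv) (add_zero q)))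
  refine isOfFinAddOrder_iff_nsmul_eq_zero.2 ⟨n, hn, ?_⟩
  have h1 : (n • x).comp (Abelian.Ext.mk₀ e.inv) (add_zero q) = 0 :=
    (map_nsmul (AddMonoidHom.mk' (fun z : EtCoh.H X G q => z.comp (Abelian.Ext.mk₀ e.inv) (add_zero q))
      fun _ _ => Abelian.Ext.add_comp _ _ _ _) n x).trans hz
  rw [← Abelian.Ext.comp_mk₀_id (n • x), ← e.inv_hom_id, ← Abelian.Ext.mk₀_comp_mk₀,
    ← Abelian.Ext.comp_assoc_of_second_deg_zero, h1, Abelian.Ext.zero_comp]

section Mono

variable {X : Scheme.{u}} [IsIntegral X] [IsLocallyNoetherian X]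
  (hfact : ∀ (U : X.Etale) (v : U.left),
    IsDomain (U.left.presheaf.stalk v) ∧ UniqueFactorizationMonoid (U.left.presheaf.stalk v))

include hfact

theorem mono_GmPush : Mono (EtLim.GmPush (jη X)) := by
  refine (mono_iff_stalk _).2 fun Ω _ _ ξ => ?_
  rw [injective_iff_map_eq_zero]
  intro p hp
  obtain ⟨U₀, t₀, c₀, rfl⟩ := exists_germ_eq ξ (EtCoh.Gm X) p
  rw [germ_naturality] at hp
  obtain ⟨W, g, v, hv, he⟩ := (PunctLib.germ_eq_zero_iff _ t₀ _).1 hp
  obtain ⟨w, hw, -⟩ := PunctLib.exists_lift g t₀ v hv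
  obtain ⟨O, y, hI, -, hy⟩ := EtDivStage.exists_integral_nhd hfact w
  rw [← hw, ← hy, ← germ_res, ← germ_res]
  let V := PunctLib.openObj O
  let c := (EtCoh.Gm X).obj.map (PunctLib.openIncl O).op ((EtCoh.Gm X).obj.map g.op c₀)
  have hc : (EtLim.GmPush (jη X)).hom.app (op V) c = 0 := by
    refine (NatTrans.naturality_apply (EtLim.GmPush (jη X)).hom _ _).trans ?_
    refine (congrArg _ ((NatTrans.naturality_apply (EtLim.GmPush (jη X)).hom g.op c₀).trans he)).trans ?_
    exact map_zero _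
  have h1 := rep_GmPush (V := V) c
  rw [hc] at h1
  have h0 : Rep V (0 : ((EtCoh.push (jη X)).obj (EtCoh.Gm _)).obj.obj (op V)) 1 := fun w' => by
    rw [map_one, map_one, val'_zero, map_one]
  have h2 : c = 0 := val_ext <| by
    rw [val_zero]
    refine (AlgebraicGeometry.germ_injective_of_isIntegral V.left (genericPoint V.left) (U := ⊤) trivial)
      ((rep_unique' V h1 h0).trans (map_one _).symm)
  show germ ξ (EtCoh.Gm X) V y c = 0
  rw [h2, map_zero]

end Mono

variable {X : Scheme.{u}} [IsIntegral X] [IsNoetherian X]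
  (hfact : ∀ (U : X.Etale) (v : U.left),
    IsDomain (U.left.presheaf.stalk v) ∧ UniqueFactorizationMonoid (U.left.presheaf.stalk v))

include hfact

/-- The higher cohomology of the divisor sheaf is torsion. -/
theorem isAddTorsion_D (q : ℕ) : IsAddTorsion (EtCoh.H X (D X) (q + 1)) := fun x => by
  classical
  obtain ⟨hc⟩ := EtDimVanC.nonempty_isColimit (D X)
  haveI : IsFiltered (EtDimVanC.Idx (D X)) := inferInstance
  obtain ⟨hs, -⟩ := EtColimBig.coh_colimit (q + 1) hc
  obtain ⟨T, y, rfl⟩ := hs x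
  refine AddMonoidHom.isOfFinAddOrder _ ?_
  haveI := EtDivStage.isIso_toP hfact T
  refine isAddTorsion_of_iso (asIso (EtDivStage.toP T)).symm _ (isAddTorsion_biproduct _ _ fun i => ?_) y
  exact isAddTorsion_push_field (K := X.residueField i.1) (X.fromSpecResidueField i.1) _ q

/-- The cohomology of `G_m` is torsion above degree one: the integral case. -/
theorem isAddTorsion_Gm (r : ℕ) : IsAddTorsion (EtCoh.H X (EtCoh.Gm X) (r + 2)) := by
  haveI := mono_GmPush hfact
  let S : ShortComplex (EtCoh.Ab X) :=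
    ShortComplex.mk (EtLim.GmPush (jη X)) (qD X) (cokernel.condition _)
  have hS : S.ShortExact := { exact := ShortComplex.exact_cokernel _ }
  exact EtConsAb.DimTorsion.isAddTorsion_left hS (r + 1) (isAddTorsion_D hfact r)
    (isAddTorsion_push_field (K := X.functionField) (jη X) _ (r + 1))

end Groth.Agent.GalCohAux.EtDivTor
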