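import Groth.Agent.GalCohAux.EtDivVan
import Groth.Agent.GalCohAux.EtDivSum
import Groth.Agent.GalCohAux.EtDivTor
import Groth.Agent.GalCohAux.EtDivReg
import Groth.Agent.EtaleSite.AdjExt
import Groth.Agent.EtaleSite.PushImage
import Groth.Agent.EtaleSite.OpenImm
import Groth.Agent.S3054

/-!
`Ext` groups of sheaves supported at finitely many closed points of a regular curve into `G_m`.
-/

set_option autoImplicit false
set_option backward.isDefEq.respectTransparency false
set_option maxHeartbeats 800000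

universe u

open CategoryTheory CategoryTheory.Limits AlgebraicGeometry Opposite TopologicalSpace

noncomputable section

namespace Groth.Agent.GalCohAux.EtDivExt

open EtaleSite EtDivPts EtDivSheaf EtDivSum

attribute [-instance] EtFin.instUniqueCarrierCarrierCommRingCatSpecOf_groth

section General

variable {V X : Scheme.{u}}

theorem isZero_stalk_of_not_mem {F : EtCoh.Ab X} {Ω : Type u} [Field Ω] [IsSepClosed Ω]
    (ξ : Spec (CommRingCat.of Ω) ⟶ X) (h : ξ default ∉ EtPBC.supp F) : IsZero ((EtCoh.stalk ξ).obj F) := by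
  rw [EtDimVanA.mem_supp, not_not] at h
  exact (EtConsAb.isZero_stalk_iff ξ rfl).2 h

/-- Sheaves killed by the inverse image have no `Ext` into acyclic direct images. -/
theorem subsingleton_ext_push (f : V ⟶ X) [PreservesFiniteLimits (EtCoh.pull f)] (F : EtCoh.Ab X) (M : EtCoh.Ab V)
    (hM : ∀ q : ℕ, 0 < q → IsZero ((EtCoh.Rpush f q).obj M)) (hF : IsZero ((EtCoh.pull f).obj F)) (r : ℕ) :
    Subsingleton (Abelian.Ext.{u + 1} F ((EtCoh.push f).obj M) r) := by
  haveI : (EtCoh.pull f).Additive := (EtCoh.pullPushAdj f).left_adjoint_additive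
  haveI : (EtCoh.push f).Additive := (EtCoh.pullPushAdj f).right_adjoint_additive
  haveI : PreservesFiniteColimits (EtCoh.pull f) :=
    ⟨fun K _ _ => ((EtCoh.pullPushAdj f).leftAdjoint_preservesColimits.preservesColimitsOfShape :
      PreservesColimitsOfShape K (EtCoh.pull f))⟩
  haveI : PreservesFiniteLimits (EtCoh.push f) :=
    ⟨fun K _ _ => ((EtCoh.pullPushAdj f).rightAdjoint_preservesLimits.preservesLimitsOfShape :
      PreservesLimitsOfShape K (EtCoh.push f))⟩
  haveI : Subsingleton (Abelian.Ext.{u + 1} ((EtCoh.pull f).obj F) M r) := subsingleton_of_forall_eq 0 fun x => by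
    rw [← Abelian.Ext.mk₀_id_comp x, hF.eq_of_src (𝟙 _) 0, Abelian.Ext.mk₀_zero, Abelian.Ext.zero_comp]
  exact ((AdjExt.toExt_bijective (EtCoh.pullPushAdj f) r F M hM).1).subsingleton

/-- `Ext` along the inverse image. -/
theorem nonempty_ext_push_iso (f : V ⟶ X) [PreservesFiniteLimits (EtCoh.pull f)] (F : EtCoh.Ab X) (M : EtCoh.Ab V)
    (hM : ∀ q : ℕ, 0 < q → IsZero ((EtCoh.Rpush f q).obj M)) (r : ℕ) :
    Nonempty (Abelian.Ext.{u + 1} F ((EtCoh.push f).obj M) r ≃+ Abelian.Ext.{u + 1} ((EtCoh.pull f).obj F) M r) := by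
  haveI : (EtCoh.pull f).Additive := (EtCoh.pullPushAdj f).left_adjoint_additive
  haveI : (EtCoh.push f).Additive := (EtCoh.pullPushAdj f).right_adjoint_additive
  haveI : PreservesFiniteColimits (EtCoh.pull f) :=
    ⟨fun K _ _ => ((EtCoh.pullPushAdj f).leftAdjoint_preservesColimits.preservesColimitsOfShape :
      PreservesColimitsOfShape K (EtCoh.pull f))⟩
  haveI : PreservesFiniteLimits (EtCoh.push f) :=
    ⟨fun K _ _ => ((EtCoh.pullPushAdj f).rightAdjoint_preservesLimits.preservesLimitsOfShape :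
      PreservesLimitsOfShape K (EtCoh.push f))⟩
  exact ⟨AddEquiv.ofBijective (AddMonoidHom.mk' (AdjExt.toExt (EtCoh.pullPushAdj f) F M r) fun a b => by
    simp [AdjExt.toExt, Abelian.Ext.mapExactFunctor_add, Abelian.Ext.add_comp])
    (AdjExt.toExt_bijective (EtCoh.pullPushAdj f) r F M hM)⟩

/-- Postcomposition. -/
def post {A B : EtCoh.Ab X} (F : EtCoh.Ab X) (g : A ⟶ B) (r : ℕ) :
    Abelian.Ext.{u + 1} F A r →+ Abelian.Ext.{u + 1} F B r :=
  AddMonoidHom.mk' (fun x => x.comp (Abelian.Ext.mk₀ g) (add_zero r)) fun _ _ => Abelian.Ext.add_comp _ _ _ _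

theorem post_post {A B C : EtCoh.Ab X} (F : EtCoh.Ab X) (g : A ⟶ B) (g' : B ⟶ C) (r : ℕ)
    (x : Abelian.Ext.{u + 1} F A r) : post F g' r (post F g r x) = post F (g ≫ g') r x := by
  show (x.comp (Abelian.Ext.mk₀ g) (add_zero r)).comp (Abelian.Ext.mk₀ g') (add_zero r) = _
  rw [Abelian.Ext.comp_assoc_of_third_deg_zero, Abelian.Ext.mk₀_comp_mk₀]
  rfl

theorem post_id {A : EtCoh.Ab X} (F : EtCoh.Ab X) (r : ℕ) (x : Abelian.Ext.{u + 1} F A r) :
    post F (𝟙 A) r x = x := Abelian.Ext.comp_mk₀_id x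

/-- `Ext` into a finite biproduct. -/
theorem nonempty_ext_biproduct_iso {ι : Type u} [Fintype ι] (P : ι → EtCoh.Ab X) (F : EtCoh.Ab X) (r : ℕ) :
    Nonempty (Abelian.Ext.{u + 1} F (⨁ P) r ≃+ ∀ i, Abelian.Ext.{u + 1} F (P i) r) := by
  classical
  refine ⟨AddEquiv.ofBijective (AddMonoidHom.mk' (fun x i => post F (biproduct.π P i) r x) fun a b => funext fun i => map_add _ a b) ⟨?_, ?_⟩⟩
  · refine (injective_iff_map_eq_zero _).2 fun x hx => ?_
    let Q : ((⨁ P) ⟶ (⨁ P)) →+ Abelian.Ext.{u + 1} F (⨁ P) r := AddMonoidHom.mk'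
      (fun g => x.comp (Abelian.Ext.mk₀ g) (add_zero r)) fun g h => by simp [Abelian.Ext.mk₀_add, Abelian.Ext.comp_add]
    have h0 : Q (𝟙 _) = x := Abelian.Ext.comp_mk₀_id x
    rw [← h0, show (𝟙 (⨁ P)) = ∑ i, biproduct.π P i ≫ biproduct.ι P i from EtGmMax.biproduct_total P, map_sum]
    refine Finset.sum_eq_zero fun i _ => ?_
    show x.comp (Abelian.Ext.mk₀ (biproduct.π P i ≫ biproduct.ι P i)) (add_zero r) = 0
    rw [← Abelian.Ext.mk₀_comp_mk₀, ← Abelian.Ext.comp_assoc_of_third_deg_zero]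
    have hi : x.comp (Abelian.Ext.mk₀ (biproduct.π P i)) (add_zero r) = 0 := congrFun hx i
    rw [hi, Abelian.Ext.zero_comp]
  · intro y
    refine ⟨∑ i, post F (biproduct.ι P i) r (y i), funext fun j => ?_⟩
    show post F (biproduct.π P j) r (∑ i, post F (biproduct.ι P i) r (y i)) = y j
    rw [map_sum, Finset.sum_eq_single j]
    · rw [post_post, biproduct.ι_π_self, post_id]
    · intro i _ h
      rw [post_post, biproduct.ι_π_ne P h]
      show (y i).comp (Abelian.Ext.mk₀ 0) (add_zero r) = 0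
      rw [Abelian.Ext.mk₀_zero, Abelian.Ext.comp_zero]
    · exact fun h => absurd (Finset.mem_univ j) h

end General

variable {X : Scheme.{u}} [IsIntegral X] [IsNoetherian X]
  (hdich : ∀ y : X, y ≠ genericPoint X → IsClosed ({y} : Set X) ∧
    ∃ _ : IsDomain (X.presheaf.stalk y), IsDiscreteValuationRing (X.presheaf.stalk y))

include hdich

theorem hreg (y : X) : IsRegularLocalRing (X.presheaf.stalk y) := by
  by_cases h : y = genericPoint X
  · subst h
    letI : Field (X.presheaf.stalk (genericPoint X)) := inferInstanceAs (Field X.functionField)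
    infer_instance
  · obtain ⟨-, _, _⟩ := hdich y h
    infer_instance

theorem fact' (U : X.Etale) (v : U.left) :
    IsDomain (U.left.presheaf.stalk v) ∧ UniqueFactorizationMonoid (U.left.presheaf.stalk v) :=
  EtDivReg.hfact (hreg hdich) U v

theorem htOne {y : X} (hy : y ≠ genericPoint X) : HtOne y := by
  refine ⟨hy, fun p hp => ?_⟩
  by_cases h : p = genericPoint X
  · exact Or.inl h
  · exact Or.inr (Set.mem_singleton_iff.1 (hp.mem_closed (hdich p h).1 rfl)).symm

theorem isClosedImm {y : X} (hy : y ≠ genericPoint X) : IsClosedImmersion (X.fromSpecResidueField y) :=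
  IsClosedImmersion.of_isPreimmersion _ (by rw [Scheme.range_fromSpecResidueField]; exact (hdich y hy).1)

theorem isZero_stalk_skyscraper {y : X} (hy : y ≠ genericPoint X) {Ω : Type u} [Field Ω] [IsSepClosed Ω]
    (ξ : Spec (CommRingCat.of Ω) ⟶ X) (h : ξ default ≠ y) (N : EtCoh.Ab (Spec (X.residueField y))) :
    IsZero ((EtCoh.stalk ξ).obj ((EtCoh.push (X.fromSpecResidueField y)).obj N)) := by
  haveI := isClosedImm hdich hy
  refine EtaleSite.isZero_stalk_push (X.fromSpecResidueField y) ξ ?_ N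
  rw [Scheme.range_fromSpecResidueField, Set.mem_singleton_iff]
  exact h

theorem finite_of_closed {Z : Set X} (hZ : IsClosed Z) (hη : genericPoint X ∉ Z) : Z.Finite := by
  obtain ⟨C, hCf, hCc, hCi, hC⟩ := NoetherianSpace.exists_finite_set_isClosed_irreducible hZ
  haveI := hCf.fintype
  refine (Set.finite_range fun C' : C => (QuasiSober.sober (hCi C'.1 C'.2) (hCc C'.1 C'.2)).choose).subset ?_
  intro u hu
  obtain ⟨C', hC', huC⟩ := hC.le hu
  have hz : IsGenericPoint (QuasiSober.sober (hCi C' hC') (hCc C' hC')).choose C' :=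
    (QuasiSober.sober (hCi C' hC') (hCc C' hC')).choose_spec
  refine ⟨⟨C', hC'⟩, ?_⟩
  have hne : (QuasiSober.sober (hCi C' hC') (hCc C' hC')).choose ≠ genericPoint X :=
    fun e => hη (e ▸ hC.ge ⟨C', hC', hz.mem⟩)
  exact (Set.mem_singleton_iff.1 ((hz.specializes huC).mem_closed (hdich _ hne).1 rfl)).symm

variable {Z : Set X} [Fintype ↥Z] (hη : genericPoint X ∉ Z)

omit hdich in
/-- The projection to the skyscrapers at the points of `Z`. -/
abbrev δZ : D X ⟶ ⨁ fun v : ↥Z => (EtCoh.push (X.fromSpecResidueField v.1)).obj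
    ((EtCoh.pull (X.fromSpecResidueField v.1)).obj (D X)) :=
  biproduct.lift fun v => δ v.1

include hη

theorem ne_generic (v : ↥Z) : v.1 ≠ genericPoint X := fun e => hη (e ▸ v.2)

theorem exists_section : ∃ σ, σ ≫ δZ (X := X) (Z := Z) = 𝟙 _ := by
  classical
  choose ψ hψ hψ0 using fun v : ↥Z => exists_ψ (fact' hdich) (htOne hdich (ne_generic hdich hη v))
  haveI := hψ
  refine ⟨biproduct.desc fun v => inv (ψ v ≫ δ v.1) ≫ ψ v, biproduct.hom_ext' _ _ fun v => biproduct.hom_ext _ _ fun w => ?_⟩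
  rw [biproduct.ι_desc_assoc, Category.comp_id, Category.assoc, biproduct.lift_π, Category.assoc]
  by_cases h : v = w
  · subst h
    rw [biproduct.ι_π_self, IsIso.inv_hom_id]
  · rw [biproduct.ι_π_ne _ h, hψ0 v w.1 (htOne hdich (ne_generic hdich hη w)) fun e => h (Subtype.ext e.symm), comp_zero]

theorem isZero_stalk_kernel {Ω : Type u} [Field Ω] [IsSepClosed Ω] (ξ : Spec (CommRingCat.of Ω) ⟶ X)
    (h : ξ default = genericPoint X ∨ ξ default ∈ Z) :
    IsZero ((EtCoh.stalk ξ).obj (kernel (δZ (X := X) (Z := Z)))) := by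
  refine @AddCommGrpCat.isZero_of_subsingleton _ (subsingleton_of_forall_eq 0 fun d => ?_)
  refine (mono_iff_stalk (kernel.ι (δZ (X := X) (Z := Z)))).1 inferInstance Ω ξ ?_
  rw [map_zero]
  refine eq_zero_of_δ (fact' hdich) _ fun x hx => ?_
  by_cases hx' : ξ default = x
  · have hxZ : x ∈ Z := hx' ▸ h.resolve_left fun e => hx.1 (hx'.symm.trans e)
    have e : kernel.ι (δZ (X := X) (Z := Z)) ≫ δ x = 0 := by
      have h2 := congrArg (· ≫ biproduct.π _ (⟨x, hxZ⟩ : ↥Z)) (kernel.condition (δZ (X := X) (Z := Z)))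
      simpa only [Category.assoc, biproduct.lift_π, zero_comp] using h2
    rw [← ConcreteCategory.comp_apply, ← Functor.map_comp, e, Functor.map_zero]
    rfl
  · haveI := AddCommGrpCat.subsingleton_of_isZero
      (isZero_stalk_skyscraper hdich hx.1 ξ hx' ((EtCoh.pull (X.fromSpecResidueField x)).obj (D X)))
    exact Subsingleton.elim _ _

theorem subsingleton_ext_kernel (hZ : IsClosed Z) (F : EtCoh.Ab X) (hsupp : EtPBC.supp F ⊆ Z) (r : ℕ) :
    Subsingleton (Abelian.Ext.{u + 1} F (kernel (δZ (X := X) (Z := Z))) r) := by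
  let W : X.Opens := ⟨Zᶜ, hZ.isOpen_compl⟩
  let j : (W : Scheme.{u}) ⟶ X := W.ι
  let D' := kernel (δZ (X := X) (Z := Z))
  let M := (EtCoh.pull j).obj D'
  haveI : PreservesFiniteLimits (EtCoh.pull j) :=
    preservesFiniteLimits_of_natIso (EtaleSite.pullIsoRestrAlong j).symm
  have hout : ∀ (q : ℕ) (Ω : Type u) [Field Ω] [IsSepClosed Ω] (ξ : Spec (CommRingCat.of Ω) ⟶ X),
      ξ default ∉ W → IsZero ((EtCoh.stalk ξ).obj ((EtCoh.Rpush j q).obj M)) := fun q Ω _ _ ξ hξ =>
    EtDivVan.isZero_Rpush_of_fib j M q Ω ξ fun R _ _ _ _ _ =>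
      EtDimVanA.subsingleton_H_of_isZero ((isZero_iff_stalk _).2 fun Ω' _ _ ζ => by
        let σ := Hens2.specOf X (ξ default) R
        refine IsZero.of_iso ?_ ((stalkPullIso (pullback.fst j σ) ζ).app M)
        refine IsZero.of_iso ?_ ((stalkPullIso j (ζ ≫ pullback.fst j σ)).app D')
        refine isZero_stalk_kernel hdich hη _ (Or.inl ?_)
        have hW : ((ζ ≫ pullback.fst j σ) ≫ j) default ∈ W := by
          have hr : ((ζ ≫ pullback.fst j σ) ≫ j) default ∈ Set.range j := ⟨_, (Scheme.Hom.comp_apply _ _ _).symm⟩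
          rwa [show Set.range j = (W : Set X) from Scheme.Opens.range_ι W] at hr
        have hsp : ((ζ ≫ pullback.fst j σ) ≫ j) default ⤳ ξ default := by
          rw [Category.assoc, pullback.condition, ← Category.assoc]
          have hr : ((ζ ≫ pullback.snd j σ) ≫ σ) default ∈ Set.range (X.fromSpecStalk (ξ default)) :=
            ⟨_, ((Scheme.Hom.comp_apply _ _ _).trans (Scheme.Hom.comp_apply _ _ _)).symm⟩
          rwa [Scheme.range_fromSpecStalk] at hr
        have hv : ξ default ∈ Z := not_not.1 hξ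
        refine ((htOne hdich (ne_generic hdich hη ⟨_, hv⟩)).2 _ hsp).resolve_right fun e => ?_
        rw [e] at hW; exact hξ hW) q
  have hin : ∀ (q : ℕ), 0 < q → IsZero ((EtCoh.Rpush j q).obj M) := fun q hq =>
    (isZero_iff_stalk _).2 fun Ω _ _ ξ => by
      by_cases hξ : ξ default ∈ W
      · refine EtDivVan.isZero_Rpush_of_fib j M q Ω ξ fun R _ _ _ _ _ => ?_
        let σ := Hens2.specOf X (ξ default) R
        let s := pullback.snd j σ
        haveI : HenselianLocalRing R :=
          (inferInstance : Hensel.IsStrictHenselization (X.presheaf.stalk (ξ default)) R).henselian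
        haveI : IsSepClosed (IsLocalRing.ResidueField R) :=
          (inferInstance : Hensel.IsStrictHenselization (X.presheaf.stalk (ξ default)) R).isSepClosure.sep_closed
        have hr : Set.range s = Set.univ := by
          rw [IsOpenImmersion.range_pullbackSnd, Scheme.Opens.opensRange_ι, Set.eq_univ_iff_forall]
          intro z
          have h1 : σ z ∈ Set.range (X.fromSpecStalk (ξ default)) := ⟨_, (Scheme.Hom.comp_apply _ _ _).symm⟩
          rw [Scheme.range_fromSpecStalk] at h1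
          show σ z ∈ (W : Set X)
          exact Specializes.mem_open (show σ z ⤳ ξ default from h1) W.2 hξ
        haveI : Surjective s := ⟨Set.range_eq_univ.1 hr⟩
        haveI : IsIso s := (isIso_iff_isOpenImmersion_and_surjective s).2 ⟨inferInstance, inferInstance⟩
        exact EtCdTr.subsingleton_of_push s _ q (EtaleSite.subsingleton_H R _ q hq)
      · exact hout q Ω ξ hξ
  let η₁ := (EtCoh.pullPushAdj j).unit.app D'
  haveI : IsIso η₁ := by
    refine isIso_of_stalk _ fun Ω _ _ ξ => ?_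
    by_cases hξ : ξ default ∈ W
    · obtain ⟨ζ, rfl⟩ : ∃ ζ, ζ ≫ j = ξ := ⟨_, IsOpenImmersion.lift_fac j ξ (by
        rintro _ ⟨a, rfl⟩
        rw [Subsingleton.elim a default, show Set.range j = (W : Set X) from Scheme.Opens.range_ι W]
        exact hξ)⟩
      haveI := isIso_counit_pullPush j M
      haveI : IsIso ((EtCoh.pull j).map η₁) :=
        haveI : IsIso ((EtCoh.pull j).map η₁ ≫ (EtCoh.pullPushAdj j).counit.app M) :=
          Eq.mpr (congrArg (fun k => IsIso k) ((EtCoh.pullPushAdj j).left_triangle_components D')) (IsIso.id M)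
        IsIso.of_isIso_comp_right _ ((EtCoh.pullPushAdj j).counit.app M)
      haveI : IsIso ((EtCoh.pull j ⋙ EtCoh.stalk ζ).map η₁) := inferInstanceAs (IsIso ((EtCoh.stalk ζ).map _))
      exact (NatIso.isIso_map_iff (stalkPullIso j ζ) _).1 inferInstance
    · refine IsZero.isIso (isZero_stalk_kernel hdich hη ξ (Or.inr (not_not.1 hξ))) ?_ _
      exact IsZero.of_iso (hout 0 Ω ξ hξ) ((EtCoh.stalk ξ).mapIso ((EtCoh.push j).rightDerivedZeroIsoSelf.app M).symm)
  have hF : IsZero ((EtCoh.pull j).obj F) := (isZero_iff_stalk _).2 fun Ω _ _ ζ => by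
    refine IsZero.of_iso (isZero_stalk_of_not_mem _ fun h => ?_) ((stalkPullIso j ζ).app F)
    have hr : (ζ ≫ j) default ∈ Set.range j := ⟨_, (Scheme.Hom.comp_apply _ _ _).symm⟩
    rw [show Set.range j = (W : Set X) from Scheme.Opens.range_ι W] at hr
    exact hr (hsupp h)
  haveI := subsingleton_ext_push j F M hin hF r
  have hinj : Function.Injective (post F η₁ r) := Function.LeftInverse.injective (g := post F (inv η₁) r) fun x => by
    rw [post_post, IsIso.hom_inv_id, post_id]
  exact @Function.Injective.subsingleton _ _ _ hinj this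

/-- `Ext` into the divisor sheaf. -/
theorem nonempty_ext_D_iso (hZ : IsClosed Z) (F : EtCoh.Ab X) (hsupp : EtPBC.supp F ⊆ Z) (r : ℕ) :
    Nonempty (Abelian.Ext.{u + 1} F (D X) r ≃+ ∀ v : ↥Z, Abelian.Ext.{u + 1}
      ((EtCoh.pull (X.fromSpecResidueField v.1)).obj F) (EtCoh.const (Spec (X.residueField v.1)) ℤ) r) := by
  classical
  obtain ⟨σ, hσ⟩ := exists_section hdich hη
  haveI : Epi (δZ (X := X) (Z := Z)) := epi_of_epi_fac hσ
  let S : ShortComplex (EtCoh.Ab X) :=
    ShortComplex.mk (kernel.ι (δZ (X := X) (Z := Z))) (δZ (X := X) (Z := Z)) (kernel.condition _)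
  have hS : S.ShortExact := { exact := ShortComplex.exact_of_f_is_kernel _ (kernelIsKernel _) }
  have hbij : Function.Bijective (post F (δZ (X := X) (Z := Z)) r) := by
    refine ⟨(injective_iff_map_eq_zero _).2 fun x hx => ?_, fun y => ⟨post F σ r y, ?_⟩⟩
    · obtain ⟨z, rfl⟩ := Abelian.Ext.covariant_sequence_exact₂ _ hS x hx
      rw [@Subsingleton.elim _ (subsingleton_ext_kernel hdich hη hZ F hsupp r) z 0, Abelian.Ext.zero_comp]
    · rw [post_post, hσ, post_id]
  obtain ⟨e₂⟩ := nonempty_ext_biproduct_iso (fun v : ↥Z => (EtCoh.push (X.fromSpecResidueField v.1)).obj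
    ((EtCoh.pull (X.fromSpecResidueField v.1)).obj (D X))) F r
  have h3 : ∀ v : ↥Z, Nonempty (Abelian.Ext.{u + 1} F ((EtCoh.push (X.fromSpecResidueField v.1)).obj
      ((EtCoh.pull (X.fromSpecResidueField v.1)).obj (D X))) r ≃+ Abelian.Ext.{u + 1}
        ((EtCoh.pull (X.fromSpecResidueField v.1)).obj F) (EtCoh.const (Spec (X.residueField v.1)) ℤ) r) := fun v => by
    have hv := htOne hdich (ne_generic hdich hη v)
    haveI := isClosedImm hdich (ne_generic hdich hη v)
    obtain ⟨e⟩ := nonempty_ext_push_iso (X.fromSpecResidueField v.1) F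
      ((EtCoh.pull (X.fromSpecResidueField v.1)).obj (D X)) (fun q hq => S3054.result _ _ q hq) r
    obtain ⟨c⟩ := EtDivH1.nonempty_const_iso (fact' hdich) (one (fact' hdich) hv) ⟨v.1, mem_pts (fact' hdich) hv⟩
    haveI := isIso_pull_ι (fact' hdich) hv
    let c' := c ≪≫ asIso ((EtCoh.pull (X.fromSpecResidueField v.1)).map
      (PunctLib.resInι (EtDimVanC.cl (D X) (one (fact' hdich) hv)) (D X)))
    refine ⟨e.trans ?_⟩
    exact
      { toFun := post _ c'.inv r
        invFun := post _ c'.hom r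
        left_inv := fun x => by
          rw [post_post, Iso.inv_hom_id]
          exact post_id _ _ x
        right_inv := fun x => by
          rw [post_post, Iso.hom_inv_id]
          exact post_id _ _ x
        map_add' := map_add _ }
  exact ⟨((AddEquiv.ofBijective _ hbij).trans e₂).trans (AddEquiv.piCongrRight fun v => (h3 v).some)⟩

/-- `Ext` into `G_m`. -/
theorem ext_Gm (hunit : ∀ n : ℕ, 0 < n → IsUnit (n : Γ(X, ⊤))) (hZ : IsClosed Z) (F : EtCoh.Ab X)
    (hsupp : EtPBC.supp F ⊆ Z) :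
    Subsingleton (Abelian.Ext.{u + 1} F (EtCoh.Gm X) 0) ∧
      ∀ r : ℕ, Nonempty (Abelian.Ext.{u + 1} F (EtCoh.Gm X) (r + 1) ≃+ ∀ v : ↥Z, Abelian.Ext.{u + 1}
        ((EtCoh.pull (X.fromSpecResidueField v.1)).obj F) (EtCoh.const (Spec (X.residueField v.1)) ℤ) r) := by
  let g := EtLim.GmPush (jη X)
  haveI : Mono g := EtDivTor.mono_GmPush (fact' hdich)
  let S : ShortComplex (EtCoh.Ab X) := ShortComplex.mk g (qD X) (cokernel.condition _)
  have hS : S.ShortExact := { exact := ShortComplex.exact_of_g_is_cokernel _ (cokernelIsCokernel _) }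
  have hF : IsZero ((EtCoh.pull (jη X)).obj F) := (isZero_iff_stalk _).2 fun Ω _ _ ζ => by
    refine IsZero.of_iso (isZero_stalk_of_not_mem _ fun h => hη ?_) ((stalkPullIso (jη X) ζ).app F)
    have h' := hsupp h
    rwa [Scheme.Hom.comp_apply, jη_apply] at h'
  have hP : ∀ r, Subsingleton (Abelian.Ext.{u + 1} F S.X₂ r) := fun r =>
    subsingleton_ext_push (jη X) F _ (fun q hq => by
      obtain ⟨q, rfl⟩ : ∃ k, q = k + 1 := ⟨q - 1, by omega⟩
      exact EtDivVan.isZero_Rpush_jη (fun y hy => (hdich y hy).2) hunit q) hF r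
  refine ⟨subsingleton_of_forall_eq 0 fun x => ?_, fun r => ?_⟩
  · obtain ⟨f, rfl⟩ := Abelian.Ext.homEquiv₀.symm.surjective x
    have h1 : Abelian.Ext.mk₀ (f ≫ g) = 0 := @Subsingleton.elim _ (hP 0) _ _
    have h2 : f ≫ g = 0 := (Abelian.Ext.mk₀_bijective _ _).1 (h1.trans (Abelian.Ext.mk₀_zero _ _).symm)
    show Abelian.Ext.mk₀ f = 0
    rw [(cancel_mono g).1 (h2.trans zero_comp.symm), Abelian.Ext.mk₀_zero]
  · obtain ⟨e⟩ := nonempty_ext_D_iso hdich hη hZ F hsupp r
    let d : Abelian.Ext.{u + 1} F S.X₃ r →+ Abelian.Ext.{u + 1} F S.X₁ (r + 1) :=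
      AddMonoidHom.mk' (fun x => x.comp hS.extClass rfl) fun _ _ => Abelian.Ext.add_comp _ _ _ _
    have hd : Function.Bijective d := by
      refine ⟨(injective_iff_map_eq_zero _).2 fun x hx => ?_, fun y => ?_⟩
      · obtain ⟨z, rfl⟩ := Abelian.Ext.covariant_sequence_exact₃ _ hS x rfl hx
        rw [@Subsingleton.elim _ (hP r) z 0, Abelian.Ext.zero_comp]
      · obtain ⟨z, hz⟩ := Abelian.Ext.covariant_sequence_exact₁ _ hS y (@Subsingleton.elim _ (hP (r + 1)) _ _) (rfl : r + 1 = r + 1)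
        exact ⟨z, hz⟩
    exact ⟨(AddEquiv.ofBijective d hd).symm.trans e⟩

end Groth.Agent.GalCohAux.EtDivExt
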