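import Groth.Agent.GalCohAux.EtDivTor
import Groth.Agent.GalCohAux.EtDimVanB
import Groth.Agent.EtConsAb.FieldPush
import Groth.Agent.EtaleSite.HpullComp

/-!
The local parts of the divisor sheaf are constant with value `ℤ`; its first cohomology vanishes.
-/

set_option autoImplicit false
set_option backward.isDefEq.respectTransparency false
set_option maxHeartbeats 800000

universe u

open CategoryTheory CategoryTheory.Limits AlgebraicGeometry Opposite TopologicalSpace IsLocalRing

noncomputable section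

namespace Groth.Agent.GalCohAux.EtDivH1

open EtaleSite EtGmPushStalk EtDivPts EtDivSheaf EtDivStage

attribute [-instance] EtFin.instUniqueCarrierCarrierCommRingCatSpecOf_groth

variable {X : Scheme.{u}} [IsIntegral X]

theorem rep_zero (V : X.Etale) [IsIntegral V.left] :
    Rep V (0 : ((EtCoh.push (jη X)).obj (EtCoh.Gm _)).obj.obj (op V)) 1 := fun w' => by
  rw [map_one, map_one, val'_zero, map_one]

theorem rep_neg {V : X.Etale} [IsIntegral V.left] {σ : ((EtCoh.push (jη X)).obj (EtCoh.Gm _)).obj.obj (op V)}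
    {f : V.left.functionField} (h : Rep V σ f) (hf : f ≠ 0) : Rep V (-σ) f⁻¹ := by
  obtain ⟨τ, hτ⟩ := exists_section V (inv_ne_zero hf)
  have h1 := rep_add V h hτ
  rw [mul_inv_cancel₀ hf] at h1
  rw [← eq_neg_of_add_eq_zero_right (rep_unique V h1 (rep_zero V))]
  exact hτ

theorem rep_zsmul {V : X.Etale} [IsIntegral V.left] {σ : ((EtCoh.push (jη X)).obj (EtCoh.Gm _)).obj.obj (op V)}
    {f : V.left.functionField} (h : Rep V σ f) (hf : f ≠ 0) (n : ℤ) : Rep V (n • σ) (f ^ n) := by
  induction n using Int.induction_on with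
  | zero => rw [zero_smul, zpow_zero]; exact rep_zero V
  | succ i ih => rw [add_smul, one_smul, zpow_add_one₀ hf]; exact rep_add V ih h
  | pred i ih => rw [sub_smul, one_smul, zpow_sub_one₀ hf, sub_eq_add_neg]; exact rep_add V ih (rep_neg h hf)

variable (hfact : ∀ (U : X.Etale) (v : U.left),
    IsDomain (U.left.presheaf.stalk v) ∧ UniqueFactorizationMonoid (U.left.presheaf.stalk v))

variable [IsLocallyNoetherian X] (T : EtDimVanC.Idx (D X))

include hfact in
/-- A section of the stage generating its stalks at a point of height one. -/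
theorem exists_generator (x : ↥(pts T)) :
    ∃ (O : (EtCoh.top X).left.Opens) (_ : x.1 ∈ O) (g : (G T).obj.obj (op (PunctLib.openObj O))),
      ∀ (Ω : Type u) [Field Ω] [IsSepClosed Ω] (ξ : Spec (CommRingCat.of Ω) ⟶ X) (_ : ξ default = x.1)
        (t : (Scheme.pointSmallEtale ξ).fiber.obj (PunctLib.openObj O)),
        (Function.Bijective fun n : ℤ => n • germ ξ (G T) (PunctLib.openObj O) t g) ∧
          Function.Surjective ((EtCoh.stalk ξ).map (PunctLib.resInι (EtDimVanC.cl (D X) T) (D X))) := by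
  classical
  have hx : HtOne x.1 := (Finset.mem_filter.1 x.2).2
  haveI : IsIntegral (EtCoh.top X).left := inferInstanceAs (IsIntegral X)
  let U := EtCoh.top X
  let v : U.left := x.1
  haveI := (hfact U v).2
  have hv : HtOne v := hx
  obtain ⟨π, hπ, hker, -⟩ := exists_prime hv specializes_rfl
  have hπ0 : toK v π ≠ 0 := fun e => hπ.ne_zero (toK_injective v (e.trans (map_zero _).symm))
  obtain ⟨σ, hσ⟩ := exists_section U hπ0
  obtain ⟨O, hvO, hO⟩ : ∃ O : U.left.Opens, v ∈ O ∧ ∀ p ∈ O, ¬ UnitAt p (toK v π) → v ⤳ p := by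
    obtain ⟨O₀, hA, hv₀, -⟩ := exists_isAffineOpen_mem_and_subset (show v ∈ (⊤ : U.left.Opens) from trivial)
    haveI : Nonempty (O₀ : Scheme.{u}) := ⟨⟨_, hv₀⟩⟩
    haveI : IsIntegral (PunctLib.openObj O₀).left := inferInstanceAs (IsIntegral (O₀ : Scheme.{u}))
    haveI : CompactSpace (PunctLib.openObj O₀).left := isCompact_iff_compactSpace.1 hA.isCompact
    haveI := PunctLib.noetherianSpace_left (PunctLib.openObj O₀)
    let k := PunctLib.openIncl O₀
    haveI : Etale k.left := PunctLib.etale_left k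
    obtain ⟨O₁, hvO₁, hO₁⟩ := exists_open_bad (fun p => (hfact (PunctLib.openObj O₀) p).2)
      ((map_ne_zero (pullK k.left (map_generic k))).2 hπ0) (⟨v, hv₀⟩ : (O₀ : Scheme.{u}))
    refine ⟨O₀.ι ''ᵁ O₁, ⟨_, hvO₁, rfl⟩, ?_⟩
    rintro _ ⟨p, hp, rfl⟩ hu
    obtain ⟨z, hz, -, hzv, hzp⟩ := hO₁ p hp fun h => hu (unitAt_of_pullK k.left (map_generic k) h)
    have h1 : HtOne (V := X) ((PunctLib.openObj O₀).hom z) := htOne_image hz
    have h2 : ((PunctLib.openObj O₀).hom z : X) ⤳ x.1 := hzv.map (PunctLib.openObj O₀).hom.continuous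
    have h3 : (PunctLib.openObj O₀).hom z = x.1 := (hx.2 _ h2).resolve_left h1.1
    have h4 : ((PunctLib.openObj O₀).hom z : X) ⤳ (PunctLib.openObj O₀).hom p :=
      hzp.map (PunctLib.openObj O₀).hom.continuous
    rw [h3] at h4
    exact h4
  have hsupp : ∀ q : X, q ∉ EtDimVanC.cl (D X) T →
      ∀ tq : (Scheme.pointSmallEtale (geomPointAt X q)).fiber.obj (PunctLib.openObj O),
      germ (geomPointAt X q) (D X) (PunctLib.openObj O) tq
        ((D X).obj.map (PunctLib.openIncl O).op ((qD X).hom.app (op U) σ)) = 0 := fun q hq tq => by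
    rw [germ_res]
    refine germ_eq_zero_of_unitAt _ hσ (by_contra fun hu => hq (mem_cl_of_specializes T x.2 ?_))
    have hzp := hO _ (PunctLib.pt_mem_open tq) hu
    have h2 : v ⤳ U.hom (PunctLib.pt ((Scheme.pointSmallEtale (geomPointAt X q)).fiber.map (PunctLib.openIncl O) tq)) :=
      hzp
    rwa [show U.hom (PunctLib.pt ((Scheme.pointSmallEtale (geomPointAt X q)).fiber.map (PunctLib.openIncl O) tq)) = q from
      (PunctLib.hom_pt _).trans (geomPointAt_apply X q _)] at h2
  obtain ⟨g, hg⟩ := PunctLib.exists_section_resIn _ hsupp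
  refine ⟨O, hvO, g, fun Ω _ _ ξ hξ t' => ?_⟩
  let t := (Scheme.pointSmallEtale ξ).fiber.map (PunctLib.openIncl O) t'
  have htv : PunctLib.pt t = v := (PunctLib.hom_pt t).trans hξ
  let ι := (EtCoh.stalk ξ).map (PunctLib.resInι (EtDimVanC.cl (D X) T) (D X))
  have hι : ∀ n : ℤ, ι (n • germ ξ (G T) (PunctLib.openObj O) t' g) =
      germ ξ (D X) U t ((qD X).hom.app (op U) (n • σ)) := fun n => by
    rw [map_zsmul, map_zsmul, map_zsmul]
    congr 1
    refine (germ_naturality ξ (PunctLib.resInι (EtDimVanC.cl (D X) T) (D X)) _ t' g).trans ?_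
    rw [hg, germ_res]
  suffices key : ∀ d, ∃ n : ℤ, germ ξ (D X) U t ((qD X).hom.app (op U) (n • σ)) = d by
    refine ⟨⟨?_, fun p => ?_⟩, fun d => ⟨(key d).choose • germ ξ (G T) (PunctLib.openObj O) t' g,
      (hι _).trans (key d).choose_spec⟩⟩
    · suffices h : ∀ n : ℤ, n • germ ξ (G T) (PunctLib.openObj O) t' g = 0 → n = 0 by
        intro a b e
        exact sub_eq_zero.1 (h (a - b) ((sub_smul a b _).trans (sub_eq_zero.2 e)))
      intro n hn
      by_contra hne
      have h1 := unitAt_of_germ_eq_zero (irreducible_nhd hfact) (reduced hfact) t (rep_zsmul hσ hπ0 n)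
        ((hι n).symm.trans (by rw [hn, map_zero]))
      rw [htv] at h1
      obtain ⟨m, hm, h2⟩ : ∃ m : ℕ, 0 < m ∧ UnitAt v (toK v π ^ m) := by
        rcases lt_or_gt_of_ne hne with hlt | hgt
        · refine ⟨(-n).toNat, by omega, ?_⟩
          have h3 := h1.inv
          rwa [← zpow_neg, show (-n) = ((-n).toNat : ℤ) by omega, zpow_natCast] at h3
        · refine ⟨n.toNat, by omega, ?_⟩
          rwa [show n = (n.toNat : ℤ) by omega, zpow_natCast] at h1
      obtain ⟨w, hw, he⟩ := h2
      rw [← map_pow] at he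
      have he' := toK_injective v he
      subst he'
      exact hπ.not_unit ((isUnit_pow_iff hm.ne').1 hw)
    · obtain ⟨n, hn⟩ := key (ι p)
      exact ⟨n, PunctLib.injective_stalk_ι _ _ ξ ((hι n).trans hn)⟩
  intro d
  · obtain ⟨W, k, w, σW, hIW, hw, hd⟩ := exists_rep_germ hfact t d
    haveI : Etale k.left := PunctLib.etale_left k
    obtain ⟨fW, hfW, hfW0⟩ := exists_rep W σW
    have hkv : k.left (PunctLib.pt w) = v := by
      rw [← PunctLib.pt_map, hw]
      exact htv
    haveI := (hfact W (PunctLib.pt w)).2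
    have hmax : maximalIdeal (W.left.presheaf.stalk (PunctLib.pt w)) =
        Ideal.span {(k.left.stalkMap (PunctLib.pt w))
          ((U.left.presheaf.stalkSpecializes (specializes_of_eq hkv)).hom π)} := by
      rw [← maximalIdeal_eq_map k.left (PunctLib.pt w)]
      have e1 : maximalIdeal (U.left.presheaf.stalk (k.left (PunctLib.pt w))) =
          Ideal.span {(U.left.presheaf.stalkSpecializes (specializes_of_eq hkv)).hom π} := by
        have h3 := span_eq_maximal specializes_rfl hker
        revert hkv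
        generalize k.left (PunctLib.pt w) = v'
        rintro rfl
        exact h3
      rw [e1, Ideal.map_span, Set.image_singleton]
    obtain ⟨n, hn⟩ := exists_zpow k.left π (π := toK v π) rfl hπ0 (map_generic k) hkv hmax hfW0
    refine ⟨n, ?_⟩
    refine Eq.trans ?_ hd
    rw [← hw, ← germ_res]
    have e : (qD X).hom.app (op W) (((EtCoh.push (jη X)).obj (EtCoh.Gm _)).obj.map k.op (n • σ)) =
        (D X).obj.map k.op ((qD X).hom.app (op U) (n • σ)) :=
      NatTrans.naturality_apply (qD X).hom k.op (n • σ)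
    rw [← e]
    refine (sub_eq_zero.1 ?_).symm
    rw [← map_sub, ← map_sub, sub_eq_add_neg]
    refine germ_eq_zero_of_unitAt w
      (rep_add W hfW (rep_neg (rep_map k (rep_zsmul hσ hπ0 n)) ((map_ne_zero _).2 (zpow_ne_zero n hπ0)))) ?_
    rw [map_zpow₀]
    exact hn

include hfact in
/-- The local parts are constant. -/
theorem nonempty_const_iso (x : ↥(pts T)) :
    Nonempty (EtCoh.const (Spec (X.residueField x.1)) ℤ ≅ (EtCoh.pull (X.fromSpecResidueField x.1)).obj (G T)) := by
  let i := X.fromSpecResidueField x.1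
  let M := (EtCoh.pull i).obj (G T)
  obtain ⟨O, hxO, g, hg⟩ := exists_generator hfact T x
  obtain ⟨m, hm⟩ := (bijective_res_open i M O fun u hu => by
    rw [Scheme.range_fromSpecResidueField, Set.mem_singleton_iff] at hu
    exact (show u = x.1 from hu) ▸ hxO).2 ((η T x).hom.app (op (PunctLib.openObj O)) g)
  let A := AddCommGrpCat.of (ULift.{u + 1} ℤ)
  let f : A ⟶ (EtCore.gsec X).obj (P T x) :=
    AddCommGrpCat.ofHom ((zmultiplesHom _ m).comp AddEquiv.ulift.toAddMonoidHom)
  let φ : EtCoh.const X ℤ ⟶ P T x := ((EtCore.constAdj X).homEquiv A (P T x)).symm f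
  let c := EtCore.pullConst i ℤ
  let tr : (EtCoh.pull i).obj (EtCoh.const X ℤ) ⟶ M := ((EtCoh.pullPushAdj i).homEquiv _ _).symm φ
  have htr : IsIso tr := by
    refine isIso_of_stalk tr fun Ω _ _ ζ => (ConcreteCategory.isIso_iff_bijective _).2 ?_
    let ξ := ζ ≫ i
    have hξ : ξ default = x.1 := (Scheme.Hom.comp_apply _ _ _).trans
      ((Scheme.range_fromSpecResidueField x.1).le ⟨_, rfl⟩)
    obtain ⟨t', -⟩ := exists_fiber_point ξ (PunctLib.openObj O) (⟨x.1, hxO⟩ : (O : Scheme.{u})) hξ.symm
    let t := (Scheme.pointSmallEtale ξ).fiber.map (PunctLib.openIncl O) t'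
    -- the values of `φ`
    have hval : ∀ n : ℤ, φ.hom.app (op (EtCoh.top X)) (ConstSections.cst (EtCoh.top X) (ULift.up n : A)) = n • m := by
      intro n
      have h2 : ((EtCore.constAdj X).homEquiv A (P T x)) φ = f := Equiv.apply_symm_apply _ _
      rw [Adjunction.homEquiv_unit] at h2
      have h1 := ConcreteCategory.congr_hom h2 (ULift.up n : A)
      exact h1
    -- stalks of `φ`
    have hbφ : Function.Bijective ((EtCoh.stalk ξ).map φ) := by
      have hη := EtDimVanB.bijective_stalk_unit x.1 (G T) ζ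
      have key : ∀ n : ℤ, (EtCoh.stalk ξ).map φ
          (germ ξ (EtCoh.const X ℤ) (EtCoh.top X) t (ConstSections.cst (EtCoh.top X) (ULift.up n : A))) =
            (EtCoh.stalk ξ).map (η T x) (n • germ ξ (G T) (PunctLib.openObj O) t' g) := fun n => by
        refine (germ_naturality ξ φ _ t _).trans ?_
        rw [hval, map_zsmul, map_zsmul]
        congr 1
        refine Eq.trans ?_ (germ_naturality ξ (η T x) _ t' g).symm
        rw [← hm, germ_res]
      have hsurjC : ∀ p, ∃ n : ℤ,
          germ ξ (EtCoh.const X ℤ) (EtCoh.top X) t (ConstSections.cst (EtCoh.top X) (ULift.up n : A)) = p := fun p => by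
        obtain ⟨U₀, t₀, s, rfl⟩ := exists_germ_eq ξ (EtCoh.const X ℤ) p
        obtain ⟨V, k, y, c', hy, he⟩ := ConstSections.exists_eq_cst ξ U₀ t₀ s
        refine ⟨c'.down, ?_⟩
        refine (ConstSections.germ_cst_eq ξ (EtCoh.top X) V t y c').trans ?_
        rw [← hy, ← germ_res]
        exact congrArg _ he.symm
      refine ⟨(injective_iff_map_eq_zero _).2 fun p hp => ?_, fun b => ?_⟩
      · obtain ⟨n, rfl⟩ := hsurjC p
        rw [key] at hp
        have h1 := hη.1 (hp.trans (map_zero _).symm)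
        obtain rfl : n = 0 := (hg Ω ξ hξ t').1.1 (h1.trans (zero_smul ℤ _).symm)
        exact (congrArg _ (map_zero ((ConstSections.etaConst A).app (op (EtCoh.top X))).hom)).trans (map_zero _)
      · obtain ⟨p, rfl⟩ := hη.2 b
        obtain ⟨n, rfl⟩ := (hg Ω ξ hξ t').1.2 p
        exact ⟨_, key n⟩
    have hcmp : Function.Bijective (EtaleSite.cmp i ζ M) :=
      ⟨EtDimVanB.injective_cmp x.1 ζ M, fun q => by
        obtain ⟨p, hp⟩ := (ConcreteCategory.bijective_of_isIso ((stalkPullIso i ζ).inv.app (G T))).2 q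
        refine ⟨(EtCoh.stalk ξ).map (η T x) p, Eq.trans ?_ hp⟩
        refine (ConcreteCategory.comp_apply _ _ _).symm.trans (ConcreteCategory.congr_hom ?_ p)
        unfold EtaleSite.cmp
        rw [← Category.assoc]
        erw [(stalkPullIso i ζ).inv.naturality]
        rw [Category.assoc]
        erw [← (EtCoh.stalk ζ).map_comp, (EtCoh.pullPushAdj i).left_triangle_components (G T),
          CategoryTheory.Functor.map_id, Category.comp_id]⟩
    have hsq : (EtCoh.stalk ξ).map φ ≫ EtaleSite.cmp i ζ M =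
        (stalkPullIso i ζ).inv.app (EtCoh.const X ℤ) ≫ (EtCoh.stalk ζ).map tr := by
      unfold EtaleSite.cmp
      rw [← Category.assoc]
      erw [(stalkPullIso i ζ).inv.naturality]
      rw [Category.assoc]
      congr 1
      erw [← (EtCoh.stalk ζ).map_comp]
      congr 1
    have hb : Function.Bijective
        (⇑((EtCoh.stalk ζ).map tr) ∘ ⇑((stalkPullIso i ζ).inv.app (EtCoh.const X ℤ))) := by
      have e : (⇑((EtCoh.stalk ζ).map tr) ∘ ⇑((stalkPullIso i ζ).inv.app (EtCoh.const X ℤ))) =
          (⇑(EtaleSite.cmp i ζ M) ∘ ⇑((EtCoh.stalk ξ).map φ)) :=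
        funext fun a => ((ConcreteCategory.comp_apply _ _ a).symm.trans
          (ConcreteCategory.congr_hom hsq.symm a)).trans (ConcreteCategory.comp_apply _ _ a)
      rw [e]
      exact hcmp.comp hbφ
    exact (Function.Bijective.of_comp_iff _
      (ConcreteCategory.bijective_of_isIso ((stalkPullIso i ζ).inv.app (EtCoh.const X ℤ)))).1 hb
  exact ⟨c.symm ≪≫ @asIso _ _ _ _ tr htr⟩

variable [CompactSpace X]

include hfact in
/-- The divisor sheaf has no first cohomology. -/
theorem subsingleton_H_one_D : Subsingleton (EtCoh.H X (D X) 1) := by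
  classical
  haveI : IsNoetherian X := {}
  refine subsingleton_of_forall_eq 0 fun c => ?_
  obtain ⟨hc⟩ := EtDimVanC.nonempty_isColimit (D X)
  haveI : IsFiltered (EtDimVanC.Idx (D X)) := inferInstance
  obtain ⟨hs, -⟩ := EtColimBig.coh_colimit 1 hc
  obtain ⟨T, y, rfl⟩ := hs c
  haveI := isIso_toP hfact T
  have h0 : Subsingleton (EtCoh.H X (⨁ P T) 1) := subsingleton_of_forall_eq 0 fun z =>
    EtGmMax.comp_eq_zero_of_proj _ z fun x => by
      obtain ⟨e⟩ := nonempty_const_iso hfact T x
      haveI : Subsingleton (EtCoh.H (Spec (X.residueField x.1))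
          ((EtCoh.pull (X.fromSpecResidueField x.1)).obj (G T)) 1) :=
        EtDimVanA.subsingleton_H_of_iso e 1 (EtConsAb.subsingleton_H_one_torsionFree (K := X.residueField x.1) ℤ)
      exact EtConsAb.injective_HofPush_one (X.fromSpecResidueField x.1) _ (Subsingleton.elim _ _)
  rw [@Subsingleton.elim _ (EtDimVanA.subsingleton_H_of_iso (asIso (toP T)).symm 1 h0) y 0, map_zero]

end Groth.Agent.GalCohAux.EtDivH1
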