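import Groth.Agent.GalCohAux.EtDivSheaf
import Groth.Agent.GalCohAux.EtDimVanC

/-!
The divisor sheaf is the union of subsheaves which split along finitely many points of height one.
-/

set_option autoImplicit false
set_option backward.isDefEq.respectTransparency false
set_option maxHeartbeats 800000

universe u

open CategoryTheory CategoryTheory.Limits AlgebraicGeometry Opposite TopologicalSpace IsLocalRing

noncomputable section

namespace Groth.Agent.GalCohAux.EtDivStage

open EtaleSite EtGmPushStalk EtDivPts EtDivSheaf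

attribute [-instance] EtFin.instUniqueCarrierCarrierCommRingCatSpecOf_groth

/-- Restriction to an open neighbourhood of the image is bijective on direct images. -/
theorem bijective_res_open {T X : Scheme.{u}} (j : T ⟶ X) (F : EtCoh.Ab T) {U : X.Etale} (O : U.left.Opens)
    (hO : ∀ u : U.left, U.hom u ∈ Set.range j → u ∈ O) :
    Function.Bijective (((EtCoh.push j).obj F).obj.map (PunctLib.openIncl O).op) := by
  let a := (EtCoh.bc j).map (PunctLib.openIncl O)
  haveI : IsOpenImmersion (PunctLib.openIncl O).left := inferInstanceAs (IsOpenImmersion O.ι)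
  haveI : IsOpenImmersion a.left :=
    MorphismProperty.of_isPullback (P := @IsOpenImmersion) (EtCoh.isPullback_bc_map j (PunctLib.openIncl O)).flip
      (inferInstanceAs (IsOpenImmersion O.ι))
  haveI : Surjective a.left := by
    refine ⟨fun w => ?_⟩
    have hw : prj j U w ∈ O := hO _ ⟨pullback.snd U.hom j w, ((Scheme.Hom.comp_apply _ _ _).symm.trans
      ((congrArg (fun k : _ ⟶ X => k w) pullback.condition).trans (Scheme.Hom.comp_apply _ _ _))).symm⟩
    obtain ⟨w', hw', -⟩ := Scheme.exists_preimage_of_isPullback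
      (EtCoh.isPullback_bc_map j (PunctLib.openIncl O)) w (⟨_, hw⟩ : (O : Scheme.{u})) rfl
    exact ⟨w', hw'⟩
  haveI : IsIso a.left := (isIso_iff_isOpenImmersion_and_surjective a.left).2 ⟨inferInstance, inferInstance⟩
  haveI : IsIso a := by
    haveI : IsIso ((Scheme.Etale.forget T).map a) := by
      haveI : IsIso ((Over.forget T).map ((Scheme.Etale.forget T).map a)) := inferInstanceAs (IsIso a.left)
      exact isIso_of_reflects_iso _ (Over.forget T)
    exact isIso_of_reflects_iso _ (Scheme.Etale.forget T)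
  exact ConcreteCategory.bijective_of_isIso (F.obj.map a.op)

/-- A section of a direct image vanishes if its germs over the image do. -/
theorem push_section_eq_zero {T X : Scheme.{u}} (j : T ⟶ X) (F : EtCoh.Ab T) {U : X.Etale}
    (m : ((EtCoh.push j).obj F).obj.obj (op U))
    (h : ∀ u : U.left, U.hom u ∈ Set.range j → ∃ (Ω : Type u) (_ : Field Ω) (_ : IsSepClosed Ω)
      (ξ : Spec (CommRingCat.of Ω) ⟶ X) (t : (Scheme.pointSmallEtale ξ).fiber.obj U),
        PunctLib.pt t = u ∧ germ ξ ((EtCoh.push j).obj F) U t m = 0) : m = 0 := by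
  let J := (EtCoh.push j).obj F
  -- the open set where the germs vanish
  let O : U.left.Opens := sSup {O | ∀ (Ω : Type u) [Field Ω] [IsSepClosed Ω]
      (ξ : Spec (CommRingCat.of Ω) ⟶ X) (t : (Scheme.pointSmallEtale ξ).fiber.obj U),
        PunctLib.pt t ∈ O → germ ξ J U t m = 0}
  have hO : ∀ u : U.left, U.hom u ∈ Set.range j → u ∈ O := fun u hu => by
    obtain ⟨Ω, _, _, ξ, t, rfl, he⟩ := h u hu
    obtain ⟨O', ht, hO'⟩ := PunctLib.exists_open_germ_eq_zero J t m he
    exact Opens.mem_sSup.2 ⟨O', fun Ω' _ _ ζ y hy => hO' Ω' ζ y hy, ht⟩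
  have hres : J.obj.map (PunctLib.openIncl O).op m = 0 := by
    refine sect_ext_of_surjective (𝟙 X) _ _ fun Ω _ _ ζ y => ?_
    rw [map_zero, germ_res]
    obtain ⟨O', hO', hy⟩ := Opens.mem_sSup.1 (PunctLib.pt_mem_open y)
    exact hO' Ω _ _ hy
  exact (bijective_res_open j F O hO).1 (hres.trans (map_zero _).symm)

/-- The residue geometric point. -/
def resPt {X : Scheme.{u}} (x : X) : Spec (CommRingCat.of (SeparableClosure (X.residueField x))) ⟶ X :=
  Spec.map (CommRingCat.ofHom (algebraMap (X.residueField x) (SeparableClosure (X.residueField x)))) ≫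
    X.fromSpecResidueField x

theorem resPt_apply {X : Scheme.{u}} (x : X) : resPt x default = x :=
  (Scheme.Hom.comp_apply _ _ _).trans ((Scheme.range_fromSpecResidueField x).le ⟨_, rfl⟩)

theorem bijective_stalk_resPt {X : Scheme.{u}} (x : X) (G : EtCoh.Ab X) :
    Function.Bijective ((EtCoh.stalk (resPt x)).map
      ((EtCoh.pullPushAdj (X.fromSpecResidueField x)).unit.app G)) :=
  EtDimVanB.bijective_stalk_unit x G _

theorem maximalIdeal_eq_map {W V : Scheme.{u}} (k : W ⟶ V) [Etale k] (w : W) :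
    (maximalIdeal (V.presheaf.stalk (k w))).map (k.stalkMap w).hom = maximalIdeal (W.presheaf.stalk w) := by
  have h1 : (k.stalkMap w).hom.FormallyUnramified := FormallyUnramified.stalkMap k w
  have h2 : (k.stalkMap w).hom.EssFiniteType := LocallyOfFiniteType.stalkMap k w
  letI := (k.stalkMap w).hom.toAlgebra
  haveI : IsLocalHom (algebraMap (V.presheaf.stalk (k w)) (W.presheaf.stalk w)) :=
    inferInstanceAs (IsLocalHom (k.stalkMap w).hom)
  haveI : Algebra.FormallyUnramified (V.presheaf.stalk (k w)) (W.presheaf.stalk w) := h1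
  haveI : Algebra.EssFiniteType (V.presheaf.stalk (k w)) (W.presheaf.stalk w) := h2
  exact Algebra.FormallyUnramified.map_maximalIdeal

theorem stalk_biproduct_ext {X : Scheme.{u}} {Ω : Type u} [Field Ω] [IsSepClosed Ω]
    (ξ : Spec (CommRingCat.of Ω) ⟶ X) {ι : Type u} [Fintype ι] (P : ι → EtCoh.Ab X)
    {b b' : ↑((EtCoh.stalk ξ).obj (⨁ P))}
    (h : ∀ i, (EtCoh.stalk ξ).map (biproduct.π P i) b = (EtCoh.stalk ξ).map (biproduct.π P i) b') : b = b' := by
  let Q : ((⨁ P) ⟶ (⨁ P)) →+ ↑((EtCoh.stalk ξ).obj (⨁ P)) := AddMonoidHom.mk'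
    (fun f => (EtCoh.stalk ξ).map f (b - b')) fun f g => by
      rw [Functor.map_add]; rfl
  rw [← sub_eq_zero]
  have hQ : Q (𝟙 _) = 0 := by
    rw [EtGmMax.biproduct_total P, map_sum]
    refine Finset.sum_eq_zero fun η _ => ?_
    show (EtCoh.stalk ξ).map _ (b - b') = 0
    rw [Functor.map_comp, ConcreteCategory.comp_apply, map_sub, h η, sub_self, map_zero]
  refine Eq.trans ?_ hQ
  show _ = (EtCoh.stalk ξ).map (𝟙 _) _
  rw [CategoryTheory.Functor.map_id]
  rfl

variable {X : Scheme.{u}} [IsIntegral X]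
  (hfact : ∀ (U : X.Etale) (v : U.left),
    IsDomain (U.left.presheaf.stalk v) ∧ UniqueFactorizationMonoid (U.left.presheaf.stalk v))

include hfact

theorem normal : Pi1.IsNormalScheme X := fun x => by
  haveI : IsDomain (X.presheaf.stalk x) := (hfact (EtCoh.top X) x).1
  haveI : UniqueFactorizationMonoid (X.presheaf.stalk x) := (hfact (EtCoh.top X) x).2
  exact ⟨‹_›, inferInstance⟩

theorem reduced (W : X.Etale) : _root_.AlgebraicGeometry.IsReduced W.left := by
  haveI : ∀ w : W.left, _root_.IsReduced (W.left.presheaf.stalk w) := fun w =>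
    haveI := (hfact W w).1; inferInstance
  exact isReduced_of_isReduced_stalk _

theorem irreducible_nhd (W : X.Etale) (w : W.left) :
    ∃ N : W.left.Opens, w ∈ N ∧ IsIrreducible (N : Set W.left) :=
  EtConsAb.exists_irreducible_nhd_of_normal (normal hfact) W w

variable {Ω : Type u} [Field Ω] [IsSepClosed Ω] {ξ : Spec (CommRingCat.of Ω) ⟶ X}

theorem exists_integral_nhd [IsLocallyNoetherian X] {U : X.Etale} (t : (Scheme.pointSmallEtale ξ).fiber.obj U) :
    ∃ (O : U.left.Opens) (y : (Scheme.pointSmallEtale ξ).fiber.obj (PunctLib.openObj O))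
      (_ : IsIntegral (PunctLib.openObj O).left) (_ : NoetherianSpace (PunctLib.openObj O).left),
        (Scheme.pointSmallEtale ξ).fiber.map (PunctLib.openIncl O) y = t := by
  obtain ⟨N, htN, hN⟩ := irreducible_nhd hfact U (PunctLib.pt t)
  obtain ⟨O, hO, htO, hON⟩ := exists_isAffineOpen_mem_and_subset htN
  obtain ⟨y, hy⟩ := PunctLib.exists_lift_open O t htO
  haveI : IrreducibleSpace ↥(O : Scheme.{u}) :=
    haveI : PreirreducibleSpace ↥(O : Scheme.{u}) :=
      Subtype.preirreducibleSpace (hN.2.open_subset O.2 hON)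
    haveI : Nonempty ↥(O : Scheme.{u}) := ⟨⟨_, htO⟩⟩
    ⟨inferInstance⟩
  haveI : _root_.AlgebraicGeometry.IsReduced (O : Scheme.{u}) := reduced hfact (PunctLib.openObj O)
  haveI : CompactSpace (PunctLib.openObj O).left := isCompact_iff_compactSpace.1 hO.isCompact
  exact ⟨O, y, (isIntegral_of_irreducibleSpace_of_isReduced _ : IsIntegral (O : Scheme.{u})),
    PunctLib.noetherianSpace_left _, hy⟩

/-- Germs of the divisor sheaf are divisors of functions. -/
theorem exists_rep_germ [IsLocallyNoetherian X] {U : X.Etale} (t : (Scheme.pointSmallEtale ξ).fiber.obj U)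
    (d : ↑((EtCoh.stalk ξ).obj (D X))) :
    ∃ (W : X.Etale) (g : W ⟶ U) (w : (Scheme.pointSmallEtale ξ).fiber.obj W)
      (σ : ((EtCoh.push (jη X)).obj (EtCoh.Gm _)).obj.obj (op W)) (_ : IsIntegral W.left),
        (Scheme.pointSmallEtale ξ).fiber.map g w = t ∧
          germ ξ (D X) W w ((qD X).hom.app (op W) σ) = d := by
  haveI : Epi ((EtCoh.stalk ξ).map (qD X)) := inferInstance
  obtain ⟨p, rfl⟩ := (AddCommGrpCat.epi_iff_surjective ((EtCoh.stalk ξ).map (qD X))).1 inferInstance d
  obtain ⟨W₀, g₀, w₀, σ, hw₀, rfl⟩ := EtConsAb.exists_germ_eq_refine t _ p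
  obtain ⟨O, y, hI, -, hy⟩ := exists_integral_nhd hfact w₀
  refine ⟨_, PunctLib.openIncl O ≫ g₀, y, ((EtCoh.push (jη X)).obj (EtCoh.Gm _)).obj.map (PunctLib.openIncl O).op σ,
    hI, ?_, ?_⟩
  · rw [Functor.map_comp, ConcreteCategory.comp_apply, hy, hw₀]
  · rw [germ_naturality, ← hy, ← germ_res]
    exact congrArg _ (NatTrans.naturality_apply (qD X).hom (PunctLib.openIncl O).op σ)

omit hfact in
theorem htOne_image {U : X.Etale} [IsIntegral U.left] {v : U.left} (hv : HtOne v) : HtOne (V := X) (U.hom v) := by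
  refine ⟨fun e => hv.1 (eq_generic_of_over U e), fun p hp => ?_⟩
  let f : U.left ⟶ X := U.hom
  haveI : Etale f := U.prop
  obtain ⟨p', hp', rfl⟩ := Flat.generalizingMap f hp
  rcases hv.2 p' hp' with h | h
  · exact Or.inl (h ▸ hom_generic U)
  · exact Or.inr (congrArg f h)

omit hfact in
theorem htOne_of_image {U : X.Etale} [IsIntegral U.left] {v : U.left} (hv : HtOne (V := X) (U.hom v)) : HtOne v := by
  refine ⟨fun e => hv.1 (e ▸ hom_generic U), fun p hp => ?_⟩
  let f : U.left ⟶ X := U.hom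
  haveI : Etale f := U.prop
  rcases hv.2 (f p) (hp.map f.continuous) with h | h
  · exact Or.inl (eq_generic_of_over U h)
  · exact Or.inr (eq_of_specializes_fibre f hp h)

omit hfact in
theorem generic_notMem_supp : genericPoint X ∉ EtPBC.supp (D X) := fun h => by
  rw [EtDimVanA.mem_supp] at h
  refine h ?_
  have hr : (geomPointAt X (genericPoint X)) default ∈ Set.range (jη X) := by
    rw [geomPointAt_apply X _ _, Scheme.range_fromSpecStalk]
    exact specializes_rfl
  haveI : IsIso ((EtCoh.stalk (geomPointAt X (genericPoint X))).map (EtLim.GmPush (jη X))) :=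
    (ConcreteCategory.isIso_iff_bijective _).2 (bijective_stalk_GmPush (jη X) _ hr)
  exact IsZero.of_iso (isZero_cokernel_of_epi _)
    (PreservesCokernel.iso (EtCoh.stalk (geomPointAt X (genericPoint X))) (EtLim.GmPush (jη X)))

open EtDimVanC (Idx cl)

variable (T : Idx (D X))

omit hfact in
open Classical in
/-- The members of height one. -/
def pts : Finset X := (T.image fun t => (t.down : X)).filter fun x => HtOne x

omit hfact in
theorem mem_pts_of_mem_cl {x : X} (hx : HtOne x) (h : x ∈ cl (D X) T) : x ∈ pts T := by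
  classical
  have hfin : ((fun t => (t.down : X)) '' (T : Set (ULift.{u + 1} ↥(EtPBC.supp (D X))))).Finite :=
    T.finite_toSet.image _
  rw [cl, ← Set.biUnion_of_singleton ((fun t => (t.down : X)) '' (T : Set (ULift.{u + 1} ↥(EtPBC.supp (D X))))),
    hfin.closure_biUnion] at h
  obtain ⟨_, ⟨t, ht, rfl⟩, hx'⟩ := Set.mem_iUnion₂.1 h
  rcases hx.2 _ (specializes_iff_mem_closure.2 hx') with e | e
  · change (t.down : X) = genericPoint X at e
    exact absurd (e ▸ t.down.2) generic_notMem_supp
  · exact Finset.mem_filter.2 ⟨Finset.mem_image.2 ⟨t, ht, e⟩, hx⟩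

omit hfact in
theorem mem_cl_of_specializes {x p : X} (hx : x ∈ pts T) (h : x ⤳ p) : p ∈ cl (D X) T := by
  classical
  obtain ⟨t, ht, rfl⟩ := Finset.mem_image.1 (Finset.mem_filter.1 hx).1
  exact h.mem_closed isClosed_closure (subset_closure ⟨t, ht, rfl⟩)

/-- The stage. -/
abbrev G : EtCoh.Ab X := PunctLib.resIn (cl (D X) T) (D X)

/-- The local parts. -/
abbrev P (x : ↥(pts T)) : EtCoh.Ab X :=
  (EtCoh.push (X.fromSpecResidueField x.1)).obj ((EtCoh.pull (X.fromSpecResidueField x.1)).obj (G T))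

/-- The map to a local part. -/
abbrev η (x : ↥(pts T)) : G T ⟶ P T x := (EtCoh.pullPushAdj (X.fromSpecResidueField x.1)).unit.app (G T)

/-- The map to the local parts. -/
abbrev toP : G T ⟶ ⨁ P T := biproduct.lift (η T)

variable [IsLocallyNoetherian X]

theorem injective_stalk_toP : Function.Injective ((EtCoh.stalk ξ).map (toP T)) := by
  rw [injective_iff_map_eq_zero]
  intro p hp
  obtain ⟨U₀, t₀, g₀, rfl⟩ := exists_germ_eq ξ (G T) p
  refine PunctLib.injective_stalk_ι _ _ ξ ?_
  rw [germ_naturality, map_zero]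
  obtain ⟨W, g, w, σ, hI, hw, hσ⟩ :=
    exists_rep_germ hfact t₀ (germ ξ (D X) U₀ t₀ ((PunctLib.resInι (cl (D X) T) (D X)).hom.app (op U₀) g₀))
  rw [← hw, ← germ_res] at hσ
  obtain ⟨W₁, g₁, w₁, hw₁, he⟩ := (germ_eq_iff ξ (D X) W w _ _).1 hσ
  obtain ⟨O, y, hI', -, hy⟩ := exists_integral_nhd hfact w₁
  let V := PunctLib.openObj O
  let k : V ⟶ U₀ := PunctLib.openIncl O ≫ g₁ ≫ g
  have hk : (Scheme.pointSmallEtale ξ).fiber.map k y = t₀ := by
    simp only [k, Functor.map_comp, ConcreteCategory.comp_apply]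
    rw [hy, hw₁, hw]
  rw [← hk, ← germ_res]
  rw [← hk, ← germ_res] at hp
  let G₁ := (G T).obj.map k.op g₀
  let σ₁ := ((EtCoh.push (jη X)).obj (EtCoh.Gm _)).obj.map ((g₁.op) ≫ (PunctLib.openIncl O).op) σ
  have he' : (qD X).hom.app (op V) σ₁ = (PunctLib.resInι (cl (D X) T) (D X)).hom.app (op V) G₁ := by
    refine (NatTrans.naturality_apply (qD X).hom _ σ).trans ?_
    refine Eq.trans ?_ (NatTrans.naturality_apply (PunctLib.resInι (cl (D X) T) (D X)).hom k.op g₀).symm
    show (D X).obj.map (g₁.op ≫ (PunctLib.openIncl O).op) _ =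
      (D X).obj.map ((g.op ≫ g₁.op) ≫ (PunctLib.openIncl O).op) _
    rw [(D X).obj.map_comp, (D X).obj.map_comp, (D X).obj.map_comp]
    exact congrArg ((D X).obj.map (PunctLib.openIncl O).op) he
  have e0 : (D X).obj.map k.op ((PunctLib.resInι (cl (D X) T) (D X)).hom.app (op U₀) g₀) =
      (qD X).hom.app (op V) σ₁ :=
    ((NatTrans.naturality_apply (PunctLib.resInι (cl (D X) T) (D X)).hom k.op g₀).symm.trans he'.symm)
  rw [e0]
  obtain ⟨f, hf, hf0⟩ := exists_rep V σ₁
  refine germ_eq_zero_of_unitAt y hf ?_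
  haveI := (hfact V (PunctLib.pt y)).2
  refine unitAt_of_htOne hf0 fun v hv hvy => ?_
  let x : X := V.hom v
  obtain ⟨tv, htv⟩ := exists_fiber_point (resPt x) V v (resPt_apply x).symm
  have hz : germ (resPt x) (G T) V tv G₁ = 0 := by
    by_cases hx : x ∈ pts T
    · have h1 : (EtCoh.stalk ξ).map (η T ⟨x, hx⟩) (germ ξ (G T) V y G₁) = 0 := by
        have h2 := congrArg ((EtCoh.stalk ξ).map (biproduct.π (P T) ⟨x, hx⟩)) hp
        rw [map_zero, ← ConcreteCategory.comp_apply, ← Functor.map_comp, biproduct.lift_π] at h2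
        exact h2
      rw [germ_naturality] at h1
      obtain ⟨O', hyO, hO'⟩ := PunctLib.exists_open_germ_eq_zero _ y _ h1
      refine (bijective_stalk_resPt x (G T)).1 ?_
      rw [map_zero]
      refine (germ_naturality (resPt x) (η T ⟨x, hx⟩) V tv G₁).trans ?_
      refine hO' _ (resPt x) tv ?_
      rw [show PunctLib.pt tv = v from htv]
      exact hvy.mem_open O'.2 hyO
    · refine PunctLib.eq_zero_of_isZero
        ((PunctLib.zeroOff_resIn (cl (D X) T) (D X)).isZero_stalk (resPt x) ?_) _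
      rw [resPt_apply]
      exact fun hc => hx (mem_pts_of_mem_cl T (htOne_image hv) hc)
  have h3 := unitAt_of_germ_eq_zero (irreducible_nhd hfact) (reduced hfact) tv hf (by
    rw [he', ← germ_naturality, hz, map_zero])
  rwa [show PunctLib.pt tv = v from htv] at h3

/-- A germ of a local part comes from the stage, vanishing in the other parts. -/
theorem exists_preimage_stalk (x : ↥(pts T)) (b : ↑((EtCoh.stalk ξ).obj (P T x))) :
    ∃ p, (EtCoh.stalk ξ).map (η T x) p = b ∧
      ∀ x' : ↥(pts T), x' ≠ x → (EtCoh.stalk ξ).map (η T x') p = 0 := by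
  classical
  obtain ⟨U₀, t₀, m₀, rfl⟩ := exists_germ_eq ξ (P T x) b
  obtain ⟨O₀, t, hI, hN, ht⟩ := exists_integral_nhd hfact t₀
  rw [← ht, ← germ_res]
  generalize (P T x).obj.map (PunctLib.openIncl O₀).op m₀ = m
  clear ht m₀
  let U := PunctLib.openObj O₀
  let z := PunctLib.pt t
  have hx1 : HtOne x.1 := (Finset.mem_filter.1 x.2).2
  let h : U.left ⟶ X := U.hom
  haveI : Etale h := U.prop
  let S : Set U.left := h ⁻¹' {x.1}
  have hSfin : S.Finite := by
    haveI := PunctLib.locallyQuasiFinite_of_etale h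
    exact (NoetherianSpace.isCompact S).finite (h.isDiscrete_preimage_singleton x.1)
  haveI := hSfin.fintype
  haveI := (hfact U z).2
  let S' : Finset U.left := hSfin.toFinset.filter fun v => v ⤳ z
  have hS' : ∀ v ∈ S', h v = x.1 ∧ HtOne v ∧ v ⤳ z := fun v hv => by
    obtain ⟨h1, h2⟩ := Finset.mem_filter.1 hv
    have h1' : h v = x.1 := hSfin.mem_toFinset.1 h1
    exact ⟨h1', htOne_of_image (h1'.symm ▸ hx1), h2⟩
  have hstep : ∀ v : ↥S', ∃ (tv : (Scheme.pointSmallEtale (resPt x.1)).fiber.obj U)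
      (g : U.left.functionField), PunctLib.pt tv = v.1 ∧ g ≠ 0 ∧
      (∀ p : U.left, HtOne p → p ⤳ z → p ≠ v.1 → UnitAt p g) ∧
      ∀ σ, Rep U σ g → ∀ f' σ', Rep U σ' f' → UnitAt v.1 (f' * g⁻¹) →
        germ (resPt x.1) (D X) U tv ((qD X).hom.app (op U) σ') =
          (EtCoh.stalk (resPt x.1)).map (PunctLib.resInι (cl (D X) T) (D X))
            ((bijective_stalk_resPt x.1 (G T)).2 (germ (resPt x.1) (P T x) U tv m)).choose := by
    intro v
    obtain ⟨hv1, hv2, hv3⟩ := hS' v.1 v.2
    obtain ⟨tv, htv⟩ := exists_fiber_point (resPt x.1) U v.1 (hv1.trans (resPt_apply x.1).symm)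
    obtain ⟨π, hπ, hker, hπu⟩ := exists_prime hv2 hv3
    set d := (EtCoh.stalk (resPt x.1)).map (PunctLib.resInι (cl (D X) T) (D X))
      ((bijective_stalk_resPt x.1 (G T)).2 (germ (resPt x.1) (P T x) U tv m)).choose
    obtain ⟨W, k, w, σW, hIW, hw, hd⟩ := exists_rep_germ hfact tv d
    haveI : Etale k.left := PunctLib.etale_left k
    obtain ⟨fW, hfW, hfW0⟩ := exists_rep W σW
    have hkv : k.left (PunctLib.pt w) = v.1 := by
      rw [← PunctLib.pt_map, hw]
      exact htv
    have hπ0 : toK z π ≠ 0 := fun e => hπ.ne_zero (toK_injective z (e.trans (map_zero _).symm))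
    haveI := (hfact W (PunctLib.pt w)).2
    have hmax : maximalIdeal (W.left.presheaf.stalk (PunctLib.pt w)) =
        Ideal.span {(k.left.stalkMap (PunctLib.pt w))
          ((U.left.presheaf.stalkSpecializes (specializes_of_eq hkv)).hom
            ((U.left.presheaf.stalkSpecializes hv3).hom π))} := by
      rw [← maximalIdeal_eq_map k.left (PunctLib.pt w)]
      have e1 : maximalIdeal (U.left.presheaf.stalk (k.left (PunctLib.pt w))) =
          Ideal.span {(U.left.presheaf.stalkSpecializes ((specializes_of_eq hkv).trans hv3)).hom π} := by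
        have := span_eq_maximal hv3 hker
        revert hkv
        generalize k.left (PunctLib.pt w) = v'
        rintro rfl
        exact this
      rw [e1, Ideal.map_span, Set.image_singleton]
      congr 2
      exact congrArg _ (TopCat.Presheaf.stalkSpecializes_comp_apply U.left.presheaf _ _ π).symm
    obtain ⟨n, hn⟩ := exists_zpow k.left ((U.left.presheaf.stalkSpecializes hv3).hom π) (π := toK z π)
      (toK_specializes hv3 π) hπ0 (map_generic k) hkv hmax hfW0
    refine ⟨tv, toK z π ^ n, htv, zpow_ne_zero n hπ0, fun p hp hpz hne => (hπu p hp hpz hne).zpow n,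
      fun σ hσ f' σ' hσ' hu => ?_⟩
    refine Eq.trans ?_ (hd : _ = d)
    rw [← hw, ← germ_res]
    have e : (qD X).hom.app (op W) (((EtCoh.push (jη X)).obj (EtCoh.Gm _)).obj.map k.op σ') =
        (D X).obj.map k.op ((qD X).hom.app (op U) σ') :=
      NatTrans.naturality_apply (qD X).hom k.op σ'
    rw [← e, ← sub_eq_zero, ← map_sub, ← map_sub]
    refine germ_eq_zero_of_unitAt w (f := pullK k.left (map_generic k) f' * fW⁻¹) ?_ ?_
    · obtain ⟨τ, hτ⟩ := exists_section W (inv_ne_zero hfW0)
      have h0 : τ = -σW := by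
        have hz : Rep W (σW + τ) 1 := by
          have := rep_add W hfW hτ
          rwa [mul_inv_cancel₀ hfW0] at this
        have hz' : Rep W (0 : ((EtCoh.push (jη X)).obj (EtCoh.Gm _)).obj.obj (op W)) 1 := fun w' => by
          rw [map_one, map_one, val'_zero, map_one]
        exact eq_neg_of_add_eq_zero_right (rep_unique W hz hz')
      have := rep_add W (rep_map k hσ') hτ
      rw [h0, ← sub_eq_add_neg] at this
      exact this
    · have h1 : UnitAt (PunctLib.pt w) (pullK k.left (map_generic k) (f' * (toK z π ^ n)⁻¹)) :=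
        unitAt_pullK k.left (map_generic k) (hkv.symm ▸ hu)
      have h2 := h1.mul hn.inv
      convert h2 using 1
      rw [map_mul, map_inv₀, map_zpow₀, mul_inv_rev, inv_inv]
      have := zpow_ne_zero n ((map_ne_zero (pullK k.left (map_generic k))).2 hπ0)
      field_simp
  choose tv g htv hg0 hgu hgerm using hstep
  let f : U.left.functionField := ∏ v, g v
  have hf0 : f ≠ 0 := Finset.prod_ne_zero_iff.2 fun v _ => hg0 v
  have hunit_prod : ∀ (p : U.left) (s : Finset ↥S'), (∀ v ∈ s, UnitAt p (g v)) → UnitAt p (∏ v ∈ s, g v) :=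
    fun p s hs => Finset.prod_induction g (UnitAt p) (fun _ _ => UnitAt.mul) (unitAt_one p) hs
  obtain ⟨σ, hσ⟩ := exists_section U hf0
  have hU : ∀ p : U.left, UniqueFactorizationMonoid (U.left.presheaf.stalk p) := fun p => (hfact U p).2
  obtain ⟨O₁, hzO₁, hO₁⟩ := exists_open_bad hU hf0 z
  let C : Set U.left := ⋃ v ∈ S \ (S' : Set U.left), closure {v}
  have hC : IsClosed C := (hSfin.subset Set.sdiff_subset).isClosed_biUnion fun _ _ => isClosed_closure
  have hzC : z ∉ C := by
    simp only [C, Set.mem_iUnion, not_exists]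
    intro v hv hz
    exact hv.2 (Finset.mem_filter.2 ⟨hSfin.mem_toFinset.2 hv.1, specializes_iff_mem_closure.2 hz⟩)
  let O : U.left.Opens := O₁ ⊓ ⟨Cᶜ, hC.isOpen_compl⟩
  obtain ⟨y, hy⟩ := PunctLib.exists_lift_open O t ⟨hzO₁, hzC⟩
  -- the bad points lie over the closure of `x`
  have hbad : ∀ p ∈ O, ¬ UnitAt p f → x.1 ⤳ h p := fun p hp hpu => by
    obtain ⟨v, hv, hvu, hvz, hvp⟩ := hO₁ p hp.1 hpu
    by_cases hvx : v ∈ S'
    · exact (hS' v hvx).1 ▸ hvp.map h.continuous
    · exact absurd (hunit_prod v Finset.univ fun w _ => hgu w v hv hvz fun e => hvx (e ▸ w.2)) hvu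
  have hsupp : ∀ q : X, q ∉ cl (D X) T → ∀ tq : (Scheme.pointSmallEtale (geomPointAt X q)).fiber.obj (PunctLib.openObj O),
      germ (geomPointAt X q) (D X) (PunctLib.openObj O) tq
        ((D X).obj.map (PunctLib.openIncl O).op ((qD X).hom.app (op U) σ)) = 0 := fun q hq tq => by
    rw [germ_res]
    refine germ_eq_zero_of_unitAt _ hσ (by_contra fun hu => hq (mem_cl_of_specializes T x.2 ?_))
    have := hbad _ (PunctLib.pt_mem_open tq) hu
    rwa [show h (PunctLib.pt ((Scheme.pointSmallEtale (geomPointAt X q)).fiber.map (PunctLib.openIncl O) tq)) = q from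
      (PunctLib.hom_pt _).trans (geomPointAt_apply X q _)] at this
  obtain ⟨s, hs⟩ := PunctLib.exists_section_resIn _ hsupp
  refine ⟨germ ξ (G T) _ y s, ?_, fun x' hx' => ?_⟩
  · rw [germ_naturality, ← hy, ← germ_res, ← sub_eq_zero, ← map_sub]
    rw [push_section_eq_zero _ _ ((η T x).hom.app (op (PunctLib.openObj O)) s -
        (P T x).obj.map (PunctLib.openIncl O).op m) fun v hv => ?_, map_zero]
    rw [Scheme.range_fromSpecResidueField, Set.mem_singleton_iff] at hv
    have hvS : (PunctLib.openIncl O).left v ∈ S := (Scheme.Hom.comp_apply O.ι h v).symm.trans hv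
    have hvS' : (PunctLib.openIncl O).left v ∈ S' := by
      by_contra hn
      exact v.2.2 (Set.mem_biUnion (show O.ι v ∈ S \ (S' : Set U.left) from ⟨hvS, hn⟩) (subset_closure rfl))
    let v₀ : ↥S' := ⟨_, hvS'⟩
    obtain ⟨ty, hty, hpty⟩ := PunctLib.exists_lift (ξ := resPt x.1) (PunctLib.openIncl O) (tv v₀) v (htv v₀).symm
    refine ⟨_, inferInstance, inferInstance, resPt x.1, ty, hpty, ?_⟩
    rw [map_sub, sub_eq_zero, germ_res, hty, ← germ_naturality]
    refine Eq.trans (congrArg _ ?_) ((bijective_stalk_resPt x.1 (G T)).2 (germ (resPt x.1) (P T x) U (tv v₀) m)).choose_spec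
    refine PunctLib.injective_stalk_ι _ _ (resPt x.1) ?_
    obtain ⟨σ₀, hσ₀⟩ := exists_section U (hg0 v₀)
    rw [germ_naturality, hs, germ_res, hty]
    refine hgerm v₀ σ₀ hσ₀ f σ hσ ?_
    have hspl : f * (g v₀)⁻¹ = ∏ v ∈ Finset.univ.erase v₀, g v := by
      rw [mul_inv_eq_iff_eq_mul₀ (hg0 v₀), Finset.prod_erase_mul _ _ (Finset.mem_univ v₀)]
    rw [hspl]
    exact hunit_prod _ _ fun w hw => hgu w v₀.1 (hS' _ hvS').2.1 (hS' _ hvS').2.2
      fun e => (Finset.ne_of_mem_erase hw) (Subtype.ext e).symm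
  · rw [germ_naturality]
    rw [push_section_eq_zero _ _ ((η T x').hom.app (op (PunctLib.openObj O)) s) fun v hv => ?_, map_zero]
    rw [Scheme.range_fromSpecResidueField, Set.mem_singleton_iff] at hv
    obtain ⟨ty, hpty⟩ := exists_fiber_point (resPt x'.1) (PunctLib.openObj O) v (hv.trans (resPt_apply x'.1).symm)
    refine ⟨_, inferInstance, inferInstance, resPt x'.1, ty, hpty, ?_⟩
    rw [← germ_naturality]
    refine Eq.trans (congrArg _ (?_ : germ (resPt x'.1) (G T) _ ty s = 0)) (map_zero _)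
    refine PunctLib.injective_stalk_ι _ _ (resPt x'.1) ?_
    rw [map_zero, germ_naturality, hs, germ_res]
    refine germ_eq_zero_of_unitAt _ hσ (by_contra fun hu => ?_)
    have hsp := hbad _ (PunctLib.pt_mem_open ty) hu
    rw [show h (PunctLib.pt ((Scheme.pointSmallEtale (resPt x'.1)).fiber.map (PunctLib.openIncl O) ty)) = x'.1 from
      (PunctLib.hom_pt _).trans (resPt_apply x'.1)] at hsp
    rcases (Finset.mem_filter.1 x'.2).2.2 x.1 hsp with e | e
    · exact hx1.1 e
    · exact hx' (Subtype.ext e.symm)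

theorem bijective_stalk_toP : Function.Bijective ((EtCoh.stalk ξ).map (toP T)) := by
  classical
  refine ⟨injective_stalk_toP hfact T, fun b => ?_⟩
  have h := fun x => exists_preimage_stalk hfact T x ((EtCoh.stalk ξ).map (biproduct.π (P T) x) b)
  choose p hp hp' using h
  refine ⟨∑ x, p x, stalk_biproduct_ext ξ (P T) fun x => ?_⟩
  rw [← ConcreteCategory.comp_apply, ← Functor.map_comp, biproduct.lift_π, map_sum,
    Finset.sum_eq_single x (fun x' _ hne => hp' x' x hne.symm) (fun h => absurd (Finset.mem_univ x) h), hp x]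

/-- The stage splits. -/
theorem isIso_toP : IsIso (toP T) :=
  isIso_of_stalk _ fun _ _ _ _ => (ConcreteCategory.isIso_iff_bijective _).2 (bijective_stalk_toP hfact T)

end Groth.Agent.GalCohAux.EtDivStage
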