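import Groth.Agent.GalCohAux.EtColimBig
import Groth.Agent.GalCohAux.EtTorsion
import Groth.Agent.GalCohAux.EtKill
import Groth.Agent.EtaleSite.Points
import Groth.Agent.EtaleSite.Flasque
import Mathlib.GroupTheory.Finiteness
import Mathlib.GroupTheory.FiniteAbelian.Basic

/-!
Torsion étale sheaves on a field are filtered unions of sheaves with finite stalks.
-/

set_option autoImplicit false
set_option backward.isDefEq.respectTransparency false

universe u

open CategoryTheory CategoryTheory.Limits AlgebraicGeometry Opposite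

noncomputable section

namespace Groth.Agent.GalCohAux.EtFin

open EtaleSite EtTrace

variable {K : Type u} [Field K]

instance : Unique (Spec (CommRingCat.of K)) := inferInstanceAs (Unique (PrimeSpectrum K))

variable (K) in
/-- A fixed geometric point. -/
abbrev pt : Spec (CommRingCat.of (SeparableClosure K)) ⟶ Spec (CommRingCat.of K) :=
  Spec.map (CommRingCat.ofHom (algebraMap K (SeparableClosure K)))

/-- All stalk functors are isomorphic. -/
theorem nonempty_stalkFun_iso {Ω : Type u} [Field Ω] [IsSepClosed Ω]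
    (ξ : Spec (CommRingCat.of Ω) ⟶ Spec (CommRingCat.of K)) :
    Nonempty (EtCoh.stalk ξ ≅ EtCoh.stalk (pt K)) := by
  obtain ⟨e⟩ := nonempty_stalk_iso_geomPointAt ξ
  obtain ⟨e'⟩ := nonempty_stalk_iso_geomPointAt (pt K)
  have hp : ∀ (x y : Spec (CommRingCat.of K)) (_ : EtCoh.stalk ξ ≅ EtCoh.stalk (geomPointAt _ x))
      (_ : EtCoh.stalk (pt K) ≅ EtCoh.stalk (geomPointAt _ y)), Nonempty (EtCoh.stalk ξ ≅ EtCoh.stalk (pt K)) := by
    intro x y a b
    obtain rfl : x = y := Subsingleton.elim (α := PrimeSpectrum K) x y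
    exact ⟨a ≪≫ b.symm⟩
  exact hp _ _ e e'

/-- All stalks are isomorphic to the stalk at the fixed point. -/
theorem nonempty_stalk_iso {Ω : Type u} [Field Ω] [IsSepClosed Ω]
    (ξ : Spec (CommRingCat.of Ω) ⟶ Spec (CommRingCat.of K)) (F : EtCoh.Ab (Spec (CommRingCat.of K))) :
    Nonempty ((EtCoh.stalk ξ).obj F ≅ (EtCoh.stalk (pt K)).obj F) := by
  obtain ⟨e⟩ := nonempty_stalkFun_iso ξ
  exact ⟨e.app F⟩

/-- A neighbourhood of a geometric point contains one with finite fibre. -/
theorem exists_finite_fiber (U : (Spec (CommRingCat.of K)).Etale)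
    (x : (Scheme.pointSmallEtale (pt K)).fiber.obj U) :
    ∃ (V : (Spec (CommRingCat.of K)).Etale) (g : V ⟶ U),
      Finite ((Scheme.pointSmallEtale (pt K)).fiber.obj V) ∧
        ∃ y, (Scheme.pointSmallEtale (pt K)).fiber.map g y = x := by
  let Ω := SeparableClosure K
  haveI : Etale U.hom := U.prop
  let X : Over (Spec (CommRingCat.of K)) := Over.mk U.hom
  haveI : LocallyOfFiniteType X.hom := inferInstanceAs (LocallyOfFiniteType U.hom)
  let x₀ : SGA7.pt (K := K) Ω ⟶ X := Over.homMk x.left (Over.w x)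
  obtain ⟨L, hL, x', hx'⟩ := StackLevels.exists_isAt (k' := K) x₀
  haveI : Algebra.IsSeparable K L := Algebra.isSeparable_tower_bot_of_isSeparable K L Ω
  let y : (Scheme.pointSmallEtale (pt K)).fiber.obj (fld K L) :=
    (Over.homMk (Spec.map (CommRingCat.ofHom L.val.toRingHom)) (by
      show Spec.map _ ≫ Spec.map _ = Spec.map _
      rw [← Spec.map_comp]
      congr 1) : Over.mk (pt K) ⟶ (Scheme.Etale.forget _).obj (fld K L))
  let M := IntermediateField.normalClosure K L Ω
  haveI : Algebra.IsSeparable K M := Algebra.isSeparable_tower_bot_of_isSeparable K M Ω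
  let z : (Scheme.pointSmallEtale (pt K)).fiber.obj (fld K M) :=
    (Over.homMk (Spec.map (CommRingCat.ofHom M.val.toRingHom)) (by
      show Spec.map _ ≫ Spec.map _ = Spec.map _
      rw [← Spec.map_comp]
      congr 1) : Over.mk (pt K) ⟶ (Scheme.Etale.forget _).obj (fld K M))
  have hM : ∀ a : L, ((minpoly K a).map (algebraMap K M)).Splits := fun a => by
    let ι' : L →ₐ[K] M := L.val.codRestrict M.toSubalgebra fun b => L.val.fieldRange_le_normalClosure ⟨b, rfl⟩
    rw [← minpoly.algHom_eq ι' ι'.injective a]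
    exact Normal.splits inferInstance (ι' a)
  refine ⟨fld K L, MorphismProperty.Over.homMk x'.left (Over.w x') trivial, (bijective_fiber hM (pt K) z).2, y, ?_⟩
  exact Over.OverMorphism.ext (congrArg (fun k => k.left) hx')

/-- The stalks are finite with at most `c` elements. -/
def FinStalk (F : EtCoh.Ab (Spec (CommRingCat.of K))) (c : ℕ) : Prop :=
  Finite ((EtCoh.stalk (pt K)).obj F) ∧ Nat.card ((EtCoh.stalk (pt K)).obj F) ≤ c

theorem FinStalk.stalk {F : EtCoh.Ab (Spec (CommRingCat.of K))} {c : ℕ} (h : FinStalk F c) {Ω : Type u} [Field Ω]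
    [IsSepClosed Ω] (ξ : Spec (CommRingCat.of Ω) ⟶ Spec (CommRingCat.of K)) :
    Finite ((EtCoh.stalk ξ).obj F) ∧ Nat.card ((EtCoh.stalk ξ).obj F) ≤ c := by
  obtain ⟨e⟩ := nonempty_stalk_iso ξ F
  let e' := e.addCommGroupIsoToAddEquiv
  have := h.1
  exact ⟨Finite.of_equiv _ e'.symm.toEquiv, (Nat.card_congr e'.toEquiv).trans_le h.2⟩

variable (F : EtCoh.Ab (Spec (CommRingCat.of K)))

/-- The subgroups indexing the finite pieces. -/
abbrev Idx : Type (u + 1) := {B : AddSubgroup ((EtCoh.stalk (pt K)).obj F) // Finite B}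

instance : Nonempty (Idx F) := ⟨⟨⊥, inferInstance⟩⟩

instance : IsDirectedOrder (Idx F) := ⟨fun B C => by
  haveI := B.2
  haveI := C.2
  refine ⟨⟨B.1 ⊔ C.1, ?_⟩, (le_sup_left : B.1 ≤ B.1 ⊔ C.1), (le_sup_right : C.1 ≤ B.1 ⊔ C.1)⟩
  refine Finite.of_surjective (fun p : B.1 × C.1 => (⟨(p.1 : _) + p.2, ?_⟩ : ↥(B.1 ⊔ C.1))) ?_
  · exact add_mem (AddSubgroup.mem_sup_left p.1.2) (AddSubgroup.mem_sup_right p.2.2)
  · rintro ⟨x, hx⟩
    obtain ⟨y, hy, z, hz, rfl⟩ := AddSubgroup.mem_sup.1 hx
    exact ⟨(⟨y, hy⟩, ⟨z, hz⟩), rfl⟩⟩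

/-- The adjunction between stalk and skyscraper. -/
abbrev adj := (Scheme.pointSmallEtale (pt K)).skyscraperSheafAdjunction (A := AddCommGrpCat.{u + 1})

variable {F}

/-- The quotient map of the stalk. -/
def quot (B : AddSubgroup ((EtCoh.stalk (pt K)).obj F)) :
    (EtCoh.stalk (pt K)).obj F ⟶ AddCommGrpCat.of ((EtCoh.stalk (pt K)).obj F ⧸ B) :=
  AddCommGrpCat.ofHom (QuotientAddGroup.mk' B)

/-- `F ⟶ skyscraper(stalk/B)`. -/
def toSky (B : AddSubgroup ((EtCoh.stalk (pt K)).obj F)) :
    F ⟶ (Scheme.pointSmallEtale (pt K)).skyscraperSheafFunctor.obj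
      (AddCommGrpCat.of ((EtCoh.stalk (pt K)).obj F ⧸ B)) :=
  (adj (K := K)).homEquiv _ _ (quot B)

/-- The subsheaf of sections with germs in `B`. -/
def sub (B : AddSubgroup ((EtCoh.stalk (pt K)).obj F)) : EtCoh.Ab (Spec (CommRingCat.of K)) := kernel (toSky B)

/-- The inclusion. -/
def subι (B : AddSubgroup ((EtCoh.stalk (pt K)).obj F)) : sub B ⟶ F := kernel.ι _

instance (B : AddSubgroup ((EtCoh.stalk (pt K)).obj F)) : Mono (subι B) := inferInstanceAs (Mono (kernel.ι _))

theorem stalk_subι_injective (B : AddSubgroup ((EtCoh.stalk (pt K)).obj F)) :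
    Function.Injective ((EtCoh.stalk (pt K)).map (subι B)) :=
  (mono_iff_stalk (subι B)).1 inferInstance _ _

theorem stalk_subι_comp (B : AddSubgroup ((EtCoh.stalk (pt K)).obj F)) :
    (EtCoh.stalk (pt K)).map (subι B) ≫ quot B = 0 := by
  apply ((adj (K := K)).homEquiv _ _).injective
  rw [Adjunction.homEquiv_naturality_left]
  refine (kernel.condition (toSky B)).trans ?_
  rw [Adjunction.homEquiv_unit, Functor.map_zero, comp_zero]

theorem mem_of_subι (B : AddSubgroup ((EtCoh.stalk (pt K)).obj F)) (z : (EtCoh.stalk (pt K)).obj (sub B)) :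
    (EtCoh.stalk (pt K)).map (subι B) z ∈ B :=
  (QuotientAddGroup.eq_zero_iff _).1 (ConcreteCategory.congr_hom (stalk_subι_comp B) z)

theorem finStalk_sub (B : Idx F) : FinStalk (sub B.1) (Nat.card B.1) := by
  haveI := B.2
  let f : (EtCoh.stalk (pt K)).obj (sub B.1) → B.1 := fun z => ⟨_, mem_of_subι B.1 z⟩
  have hf : Function.Injective f := fun a b h => stalk_subι_injective B.1 (congrArg Subtype.val h)
  exact ⟨Finite.of_injective f hf, Nat.card_le_card_of_injective f hf⟩

theorem exists_sect (B : AddSubgroup ((EtCoh.stalk (pt K)).obj F)) (U : (Spec (CommRingCat.of K)).Etale)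
    (t : EtCoh.sect F U)
    (h : ∀ x, germ (pt K) F U x t ∈ B) : ∃ t', (subι B).hom.app (op U) t' = t := by
  obtain ⟨φ, rfl⟩ := (Flasque.freeSec_bijective U F).2 t
  have h0 : φ ≫ toSky B = 0 := by
    apply (Flasque.freeSec_bijective U _).1
    rw [Flasque.freeSec_comp]
    have hz : (toSky B).hom.app (op U) (Flasque.freeSec U F φ) = 0 := by
      change ∀ x, (germ (pt K) F U x (Flasque.freeSec U F φ)) ∈ B at h
      refine Concrete.limit_ext _ _ _ ?_
      rintro ⟨x⟩
      rw [map_zero]
      have e := (Scheme.pointSmallEtale (pt K)).skyscraperPresheafHomEquiv_app_π (quot B) U x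
      have e' : (toSky B).hom.app (op U) =
          ((Scheme.pointSmallEtale (pt K)).skyscraperPresheafHomEquiv (quot B)).app (op U) :=
        congrArg (fun a => a.app (op U))
          ((Scheme.pointSmallEtale (pt K)).skyscraperSheafAdjunction_homEquiv_apply_hom (quot B))
      exact (congrArg (fun q : F.obj.obj (op U) ⟶ (Scheme.pointSmallEtale (pt K)).skyscraperPresheaf
          (AddCommGrpCat.of ((EtCoh.stalk (pt K)).obj F ⧸ B)) |>.obj (op U) =>
          (q ≫ Pi.π (fun _ => AddCommGrpCat.of ((EtCoh.stalk (pt K)).obj F ⧸ B)) x) (Flasque.freeSec U F φ)) e').trans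
        ((ConcreteCategory.congr_hom e (Flasque.freeSec U F φ)).trans ((QuotientAddGroup.eq_zero_iff _).2 (h x)))
    rw [hz]
    have := Flasque.freeSec_comp U (0 : Flasque.freeOn U ⟶ Flasque.freeOn U)
      (0 : Flasque.freeOn U ⟶ (Scheme.pointSmallEtale (pt K)).skyscraperSheafFunctor.obj
        (AddCommGrpCat.of ((EtCoh.stalk (pt K)).obj F ⧸ B)))
    rw [zero_comp] at this
    exact this.symm
  refine ⟨Flasque.freeSec U _ (kernel.lift (toSky B) φ h0), ?_⟩
  rw [← Flasque.freeSec_comp]
  exact congrArg _ (kernel.lift_ι _ _ h0)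

/-- The transition maps. -/
def transition {B C : AddSubgroup ((EtCoh.stalk (pt K)).obj F)} (h : B ≤ C) : sub B ⟶ sub C :=
  kernel.lift _ (subι B) (by
    apply ((adj (K := K)).homEquiv _ _).symm.injective
    rw [Adjunction.homEquiv_naturality_left_symm, toSky, Equiv.symm_apply_apply, Adjunction.homEquiv_counit,
      Functor.map_zero, zero_comp]
    ext z
    exact (QuotientAddGroup.eq_zero_iff _).2 (h (mem_of_subι B z)))

@[reassoc (attr := simp)]
theorem transition_ι {B C : AddSubgroup ((EtCoh.stalk (pt K)).obj F)} (h : B ≤ C) :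
    transition h ≫ subι C = subι B := kernel.lift_ι _ _ _

variable (F) in
/-- The diagram of finite pieces. -/
def diagram : Idx F ⥤ EtCoh.Ab (Spec (CommRingCat.of K)) where
  obj B := sub B.1
  map {B C} h := transition (leOfHom h)
  map_id B := by rw [← cancel_mono (subι B.1), transition_ι, Category.id_comp]
  map_comp {B C D} h h' := by rw [← cancel_mono (subι D.1), Category.assoc, transition_ι, transition_ι, transition_ι]

variable (F) in
/-- The cocone with vertex `F`. -/
def cocone : Cocone (diagram F) where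
  pt := F
  ι :=
    { app := fun B => subι B.1
      naturality := fun B C h => (transition_ι (leOfHom h)).trans (Category.comp_id _).symm }

/-- A torsion sheaf is the union of its finite pieces. -/
theorem nonempty_isColimit (hF : EtCoh.IsTorsion F) : Nonempty (IsColimit (cocone F)) := by
  let d := (colimit.isColimit (diagram F)).desc (cocone F)
  suffices IsIso d from ⟨IsColimit.ofIsoColimit (colimit.isColimit _)
    (Cocone.ext (asIso d) fun B => (colimit.isColimit _).fac (cocone F) B)⟩
  refine isIso_of_stalk d fun Ω _ _ ξ => ?_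
  suffices h : Function.Bijective ((EtCoh.stalk (pt K)).map d) by
    haveI : IsIso ((EtCoh.stalk (pt K)).map d) := (ConcreteCategory.isIso_iff_bijective _).2 h
    obtain ⟨e⟩ := nonempty_stalkFun_iso ξ
    exact (NatIso.isIso_map_iff e d).2 ‹_›
  have hcolim := isColimitOfPreserves (EtCoh.stalk (pt K)) (colimit.isColimit (diagram F))
  have hfac : ∀ B, (EtCoh.stalk (pt K)).map (colimit.ι (diagram F) B) ≫ (EtCoh.stalk (pt K)).map d =
      (EtCoh.stalk (pt K)).map (subι B.1) := fun B => by
    rw [← Functor.map_comp]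
    exact congrArg _ ((colimit.isColimit _).fac (cocone F) B)
  refine ⟨(injective_iff_map_eq_zero ((EtCoh.stalk (pt K)).map d).hom).2 fun z hz => ?_, fun p => ?_⟩
  · obtain ⟨B, w, rfl⟩ := Concrete.isColimit_exists_rep _ hcolim z
    have hw : w = 0 := stalk_subι_injective B.1 (by
      rw [map_zero, ← hfac B]
      exact hz)
    rw [hw, map_zero]
  · obtain ⟨U, x, t, rfl⟩ := exists_germ_eq (pt K) F p
    have hp := EtTorsion.isOfFinAddOrder_stalk hF (pt K)
    obtain ⟨L, hL, hfin⟩ : ∃ (V : (Spec (CommRingCat.of K)).Etale) (g : V ⟶ U),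
        Finite ((Scheme.pointSmallEtale (pt K)).fiber.obj V) ∧
          ∃ y, (Scheme.pointSmallEtale (pt K)).fiber.map g y = x := by
      exact exists_finite_fiber U x
    obtain ⟨hfin, y, hy⟩ := hfin
    let B : AddSubgroup ((EtCoh.stalk (pt K)).obj F) :=
      AddSubgroup.closure (Set.range fun z => germ (pt K) F L z (F.obj.map hL.op t))
    have hB : Finite B := by
      haveI : AddGroup.FG B := (AddGroup.fg_iff_addSubgroup_fg _).2
        ((AddSubgroup.fg_iff _).2 ⟨_, rfl, Set.finite_range _⟩)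
      exact AddCommGroup.finite_of_fg_isAddTorsion (G := B) fun b =>
        AddSubmonoid.isOfFinAddOrder_coe.1 (hp b : IsOfFinAddOrder ((b : B.toAddSubmonoid) : (EtCoh.stalk (pt K)).obj F))
    obtain ⟨t', ht'⟩ := exists_sect B L (F.obj.map hL.op t) fun z => AddSubgroup.subset_closure ⟨z, rfl⟩
    refine ⟨(EtCoh.stalk (pt K)).map (colimit.ι (diagram F) ⟨B, hB⟩) (germ (pt K) (sub B) L y t'), ?_⟩
    refine (ConcreteCategory.congr_hom (hfac ⟨B, hB⟩) (germ (pt K) (sub B) L y t')).trans ?_
    refine (germ_naturality (pt K) (subι B) L y t').trans ?_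
    rw [ht', germ_res, hy]

end Groth.Agent.GalCohAux.EtFin
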