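import Groth.Agent.S0229
import Groth.Agent.GalCohAux.EtGm
import Groth.Agent.GalCohAux.EtDimVanA
import Groth.Agent.GalCohAux.EtRpushVan
import Groth.Agent.UnramFib.Field
import Groth.Agent.VarDim.Curve

/-!
The cohomology of `G_m` over the function field of a curve.
-/

set_option autoImplicit false
set_option backward.isDefEq.respectTransparency false
universe u
open CategoryTheory CategoryTheory.Limits AlgebraicGeometry Opposite

noncomputable section

namespace Groth.Agent.GalCohAux.EtGmCurve

attribute [-instance] EtFin.instUniqueCarrierCarrierCommRingCatSpecOf_groth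
attribute [local instance] Curv2.resAlgebra

/-- Étale schemes over a field have the `G_m`-cohomology of finite separable extensions. -/
theorem subsingleton_H_Gm_etale {K : Type u} [Field K] {W : Scheme.{u}}
    (g : W ⟶ Spec (CommRingCat.of K)) [Etale g] [CompactSpace W] (q : ℕ)
    (h : ∀ (L : Type u) [Field L] [Algebra K L] [FiniteDimensional K L] [Algebra.IsSeparable K L],
      Subsingleton (EtCoh.H (Spec (CommRingCat.of L)) (EtCoh.Gm (Spec (CommRingCat.of L))) q)) :
    Subsingleton (EtCoh.H W (EtCoh.Gm W) q) := by
  classical
  haveI : DiscreteTopology W := UnramFib.discreteTopology_of_unramified g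
  haveI : IsReduced W := UnramFib.isReduced_of_unramified g
  haveI : Finite W := finite_of_compact_of_discrete
  haveI := Fintype.ofFinite W
  refine EtDimVanA.subsingleton_H_of_finite_supp (fun x => isClosed_discrete _) _ _ Finset.univ le_rfl
    (fun x _ => Finset.mem_coe.2 (Finset.mem_univ x)) q fun w _ => ?_
  obtain ⟨ψ, hψ⟩ := Spec.map_surjective (W.fromSpecResidueField w ≫ g)
  obtain ⟨h1, h2⟩ := UnramFib.residue_finite_separable g w ψ hψ
  letI := ψ.hom.toAlgebra
  haveI := h1
  haveI := h2
  exact EtRpushVan.subsingleton_of_iso (EtGm.pullGmIso (W.fromSpecResidueField w)).symm q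
    (h (W.residueField w))

variable (k : Type u) [Field k] [IsAlgClosed k] {X : Scheme.{u}} [IsIntegral X]

/-- The function field of a curve has transcendence degree one. -/
theorem trdeg_functionField (f : X ⟶ Spec (CommRingCat.of k)) [LocallyOfFiniteType f]
    (hdim : topologicalKrullDim X = 1) :
    ∃ _ : Algebra k X.functionField, Algebra.trdeg k X.functionField = 1 := by
  letI : X.Over (Spec (CommRingCat.of k)) := ⟨f⟩
  haveI : LocallyOfFiniteType (X ↘ Spec (CommRingCat.of k)) := ‹LocallyOfFiniteType f›
  letI : Algebra k X.functionField :=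
    ((X.presheaf.germ ⊤ (genericPoint X) trivial).hom.comp (Coh.toGlobal (X ↘ Spec (CommRingCat.of k)))).toAlgebra
  refine ⟨inferInstance, ?_⟩
  let e : X.functionField →ₐ[k] X.residueField (genericPoint X) :=
    { (X.residue (genericPoint X)).hom with commutes' := fun c => rfl }
  have he : Function.Bijective e :=
    ⟨e.toRingHom.injective, X.residue_surjective (genericPoint X)⟩
  rw [(AlgEquiv.ofBijective e he).trdeg_eq, VarDim.trdeg_residueField k X,
    VarDim.dimPt_genericPoint_of_curve k hdim, Nat.cast_one]

/-- `G_m` of a finite extension of the function field is acyclic. -/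
theorem subsingleton_H_Gm_finite (f : X ⟶ Spec (CommRingCat.of k)) [LocallyOfFiniteType f]
    (hdim : topologicalKrullDim X = 1) (q : ℕ) (hq : 1 ≤ q)
    (L : Type u) [Field L] [Algebra X.functionField L] [FiniteDimensional X.functionField L] :
    Subsingleton (EtCoh.H (Spec (CommRingCat.of L)) (EtCoh.Gm (Spec (CommRingCat.of L))) q) := by
  obtain ⟨_, h⟩ := trdeg_functionField k f hdim
  letI : Algebra k L := ((algebraMap X.functionField L).comp (algebraMap k X.functionField)).toAlgebra
  haveI : IsScalarTower k X.functionField L := .of_algebraMap_eq' rfl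
  refine S0229.result k L ?_ q hq
  rw [← trdeg_add_eq k X.functionField, trdeg_eq_zero (R := X.functionField), add_zero, h]

/-- The higher direct images of `G_m` from the generic point vanish. -/
theorem isZero_Rpush_generic (f : X ⟶ Spec (CommRingCat.of k)) [LocallyOfFiniteType f] [QuasiCompact f]
    [IsSeparated f] (hdim : topologicalKrullDim X = 1) (q : ℕ) :
    IsZero ((EtCoh.Rpush (X.fromSpecStalk (genericPoint X)) (q + 1)).obj
      (EtCoh.Gm (Spec (X.presheaf.stalk (genericPoint X))))) := by
  haveI : IsLocallyNoetherian X := LocallyOfFiniteType.isLocallyNoetherian f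
  haveI : CompactSpace X := QuasiCompact.compactSpace_of_compactSpace f
  refine EtRpushVan.isZero_Rpush _ q _ fun V hV => ?_
  obtain ⟨_, _⟩ := EtColim.TorsionPush.compact_qs_bc (X.fromSpecStalk (genericPoint X)) V
  let W := (EtCoh.bc (X.fromSpecStalk (genericPoint X))).obj V
  haveI : Etale W.hom := W.prop
  haveI : CompactSpace ((𝟭 Scheme).obj W.left) := ‹CompactSpace W.left›
  refine EtRpushVan.subsingleton_of_iso (EtGm.pullGmIso W.hom).symm _ ?_
  exact subsingleton_H_Gm_etale (K := X.functionField) W.hom (q + 1) fun L _ _ _ _ =>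
    subsingleton_H_Gm_finite k f hdim (q + 1) (Nat.le_add_left _ _) L

end Groth.Agent.GalCohAux.EtGmCurve
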