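import Groth.Agent.GalCohAux.EtGmPushStalk
import Groth.Agent.GalCohAux.EtFin
import Groth.Agent.EtaleSite.PullPentagon
import Groth.Agent.EtaleSite.Recollement
import Groth.Agent.AlgSp.GorCore
import Groth.Prelude.Def_EtLim

/-!
Transitivity of `G_m ⟶ u_* G_m`, and open and closed pieces.
-/

set_option autoImplicit false
set_option backward.isDefEq.respectTransparency false

universe u

open CategoryTheory CategoryTheory.Limits AlgebraicGeometry Opposite

noncomputable section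

namespace Groth.Agent.GalCohAux.EtGmPushComp

open EtaleSite EtGmPushStalk HpullFunctor

attribute [-instance] EtFin.instUniqueCarrierCarrierCommRingCatSpecOf_groth

variable {X Y Z : Scheme.{u}}

theorem GmPush_comp (a : X ⟶ Y) (b : Y ⟶ Z) :
    EtLim.GmPush b ≫ (EtCoh.push b).map (EtLim.GmPush a) ≫ (EtCoh.pushComp b a).hom.app (EtCoh.Gm X) =
      EtLim.GmPush (a ≫ b) := by
  apply (sheafToPresheaf _ _).map_injective
  refine NatTrans.ext (funext fun V => ConcreteCategory.hom_ext _ _ fun c => ?_)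
  obtain ⟨V⟩ := V
  apply val'_ext (a ≫ b)
  refine Eq.trans (b := (bcComp a b V).left.appTop
    ((prj a ((EtCoh.bc b).obj V)).appTop ((prj b V).appTop (val V c)))) ?_ ?_
  · rfl
  · have e : (bcComp a b V).left ≫ prj a ((EtCoh.bc b).obj V) ≫ prj b V = prj (a ≫ b) V :=
      bcComp_fst a b V
    show _ = (prj (a ≫ b) V).appTop (val V c)
    rw [← e, Scheme.Hom.comp_appTop, Scheme.Hom.comp_appTop]
    rfl

theorem comp_GmPush_congr {u v : X ⟶ Y} (h : u = v) {n : ℕ} (c : EtCoh.H Y (EtCoh.Gm Y) n)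
    (hc : c.comp (Abelian.Ext.mk₀ (EtLim.GmPush u)) (add_zero n) = 0) :
    c.comp (Abelian.Ext.mk₀ (EtLim.GmPush v)) (add_zero n) = 0 := by
  subst h
  exact hc

/-- On an open and closed piece the transpose of `G_m ⟶ ι_* G_m` is invertible after pushing. -/
theorem isIso_push_transpose (U : X.Opens) [IsClosedImmersion U.ι] :
    IsIso ((EtCoh.push U.ι).map (((EtCoh.pullPushAdj U.ι).homEquiv (EtCoh.Gm X) (EtCoh.Gm (U : Scheme.{u}))).symm
      (EtLim.GmPush U.ι))) := by
  set θ := ((EtCoh.pullPushAdj U.ι).homEquiv (EtCoh.Gm X) (EtCoh.Gm (U : Scheme.{u}))).symm (EtLim.GmPush U.ι)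
  have hθ : (EtCoh.pullPushAdj U.ι).unit.app (EtCoh.Gm X) ≫ (EtCoh.push U.ι).map θ = EtLim.GmPush U.ι :=
    ((EtCoh.pullPushAdj U.ι).homEquiv_unit _ _ _).symm.trans (Equiv.apply_symm_apply _ _)
  refine isIso_of_stalk _ fun Ω _ _ ξ => (ConcreteCategory.isIso_iff_bijective _).2 ?_
  by_cases hξ : ξ default ∈ Set.range U.ι
  · haveI := isIso_stalk_unit_push U.ι (EtCoh.Gm X) ξ hξ
    have hb := bijective_stalk_GmPush U.ι ξ hξ
    rw [← hθ, Functor.map_comp] at hb
    change Function.Bijective (⇑((EtCoh.stalk ξ).map ((EtCoh.push U.ι).map θ)) ∘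
      ⇑((EtCoh.stalk ξ).map ((EtCoh.pullPushAdj U.ι).unit.app (EtCoh.Gm X)))) at hb
    exact (Function.Bijective.of_comp_iff _ (ConcreteCategory.bijective_of_isIso _)).1 hb
  · haveI := AddCommGrpCat.subsingleton_of_isZero
      (EtaleSite.isZero_stalk_push U.ι ξ hξ ((EtCoh.pull U.ι).obj (EtCoh.Gm X)))
    haveI := AddCommGrpCat.subsingleton_of_isZero (EtaleSite.isZero_stalk_push U.ι ξ hξ (EtCoh.Gm (U : Scheme.{u})))
    exact ⟨fun _ _ _ => Subsingleton.elim _ _, fun b => ⟨0, Subsingleton.elim _ _⟩⟩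

end Groth.Agent.GalCohAux.EtGmPushComp
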