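import Groth.Agent.PunctLib.Points
import Groth.Prelude.Def_EtLim
import Mathlib.AlgebraicGeometry.Morphisms.Flat
import Mathlib.AlgebraicGeometry.Morphisms.Preimmersion
import Mathlib.RingTheory.RingHom.FaithfullyFlat

/-!
The unit group sheaf and its direct image along a flat preimmersion agree on the image.
-/

set_option autoImplicit false
set_option backward.isDefEq.respectTransparency false

universe u

open CategoryTheory CategoryTheory.Limits AlgebraicGeometry Opposite

noncomputable section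

namespace Groth.Agent.GalCohAux.EtGmPushStalk

open EtaleSite PunctLib

/-- Stalk maps of flat morphisms are injective. -/
theorem stalkMap_injective {W V : Scheme.{u}} (f : W ⟶ V) [Flat f] (w : W) :
    Function.Injective (f.stalkMap w).hom := by
  refine RingHom.FaithfullyFlat.injective ?_
  have h : (f.stalkMap w).hom.Flat := Flat.stalkMap f w
  letI := (f.stalkMap w).hom.toAlgebra
  haveI : Module.Flat (V.presheaf.stalk (f w)) (W.presheaf.stalk w) := h
  haveI : IsLocalHom (algebraMap (V.presheaf.stalk (f w)) (W.presheaf.stalk w)) :=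
    inferInstanceAs (IsLocalHom (f.stalkMap w).hom)
  exact (Module.FaithfullyFlat.of_flat_of_isLocalHom :
    Module.FaithfullyFlat (V.presheaf.stalk (f w)) (W.presheaf.stalk w))

/-- A function on the source of a flat preimmersion comes from the target near any point. -/
theorem exists_unit_extension {W V : Scheme.{u}} (f : W ⟶ V) [Flat f] [IsPreimmersion f] (w : W)
    (c : Γ(W, ⊤)) (hc : IsUnit c) :
    ∃ (O : V.Opens) (s : Γ(V, O)), f w ∈ O ∧ IsUnit s ∧
      f.app O s = W.presheaf.map (homOfLE (le_top : f ⁻¹ᵁ O ≤ ⊤)).op c := by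
  obtain ⟨g, hg⟩ := f.stalkMap_surjective w (W.presheaf.germ ⊤ w trivial c)
  have hgu : IsUnit g := by
    apply IsUnit.of_map (f.stalkMap w).hom
    rw [hg]
    exact hc.map (W.presheaf.germ ⊤ w trivial).hom
  obtain ⟨O₀, hO₀, s₀, rfl⟩ := V.presheaf.germ_exist g
  obtain ⟨O₁, i₁, hw₁, hu₁⟩ := V.toLocallyRingedSpace.toRingedSpace.isUnit_res_of_isUnit_germ O₀ s₀ (f w) hO₀ hgu
  have hg' : W.presheaf.germ (f ⁻¹ᵁ O₁) w hw₁ (f.app O₁ (V.presheaf.map i₁.op s₀)) =
      W.presheaf.germ ⊤ w trivial c := by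
    rw [← hg, ← Scheme.Hom.germ_stalkMap_apply]
    exact congrArg _ (TopCat.Presheaf.germ_res_apply _ _ _ _ _)
  obtain ⟨N, hN, i, i', hNe⟩ := W.presheaf.germ_eq (U := f ⁻¹ᵁ O₁) (V := ⊤) w hw₁ trivial _ _ hg'
  obtain ⟨O₂, hO₂, hO₂N⟩ := f.isEmbedding.isInducing.isOpen_iff.1 N.2
  have hle : f ⁻¹ᵁ (O₁ ⊓ ⟨O₂, hO₂⟩) ≤ N := fun z hz => (hO₂N.subset hz.2 :)
  refine ⟨O₁ ⊓ ⟨O₂, hO₂⟩, V.presheaf.map (homOfLE inf_le_left).op (V.presheaf.map i₁.op s₀),
    ⟨hw₁, (hO₂N.symm.subset hN :)⟩, hu₁.map (V.presheaf.map (homOfLE inf_le_left).op).hom, ?_⟩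
  have e := congrArg (W.presheaf.map (homOfLE hle).op) hNe
  refine (ConcreteCategory.congr_hom (f.naturality (homOfLE inf_le_left).op) _).trans ?_
  refine Eq.trans ?_ ((e.trans (ConcreteCategory.comp_apply _ _ _).symm).trans
    (ConcreteCategory.congr_hom (W.presheaf.map_comp i'.op (homOfLE hle).op).symm c))
  exact (ConcreteCategory.congr_hom (W.presheaf.map_comp i.op (homOfLE hle).op) _).trans (ConcreteCategory.comp_apply _ _ _)

variable {T X : Scheme.{u}} (j : T ⟶ X)

/-- The projection of the base change. -/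
def prj (U : X.Etale) : ((EtCoh.bc j).obj U).left ⟶ U.left := pullback.fst U.hom j

theorem prj_natural {U V : X.Etale} (g : U ⟶ V) :
    ((EtCoh.bc j).map g).left ≫ prj j V = prj j U ≫ g.left :=
  (EtCoh.isPullback_bc_map j g).w

instance [Flat j] (U : X.Etale) : Flat (prj j U) := by unfold prj; infer_instance

instance [IsPreimmersion j] (U : X.Etale) : IsPreimmersion (prj j U) := by unfold prj; infer_instance

/-- The underlying function of a section of `G_m`. -/
def val (U : X.Etale) (s : (EtCoh.Gm X).obj.obj (op U)) : Γ(U.left, ⊤) :=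
  ((show ULift.{u + 1} (Additive Γ(U.left, ⊤)ˣ) from s).down.toMul : Γ(U.left, ⊤)ˣ)

/-- The underlying function of a section of the direct image of `G_m`. -/
def val' (U : X.Etale) (s : ((EtCoh.push j).obj (EtCoh.Gm T)).obj.obj (op U)) :
    Γ(((EtCoh.bc j).obj U).left, ⊤) :=
  ((show ULift.{u + 1} (Additive Γ(((EtCoh.bc j).obj U).left, ⊤)ˣ) from s).down.toMul :
    Γ(((EtCoh.bc j).obj U).left, ⊤)ˣ)

theorem val_ext {U : X.Etale} {s s' : (EtCoh.Gm X).obj.obj (op U)} (h : val U s = val U s') : s = s' :=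
  ULift.ext _ _ (Additive.toMul.injective (Units.ext h))

theorem val'_ext {U : X.Etale} {s s' : ((EtCoh.push j).obj (EtCoh.Gm T)).obj.obj (op U)}
    (h : val' j U s = val' j U s') : s = s' :=
  ULift.ext _ _ (Additive.toMul.injective (Units.ext h))

theorem val_zero (U : X.Etale) : val U 0 = 1 := rfl

theorem val'_zero (U : X.Etale) : val' j U 0 = 1 := rfl

theorem val_map {U V : X.Etale} (g : U ⟶ V) (s : (EtCoh.Gm X).obj.obj (op V)) :
    val U ((EtCoh.Gm X).obj.map g.op s) = g.left.appTop (val V s) := rfl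

theorem val'_map {U V : X.Etale} (g : U ⟶ V) (s : ((EtCoh.push j).obj (EtCoh.Gm T)).obj.obj (op V)) :
    val' j U (((EtCoh.push j).obj (EtCoh.Gm T)).obj.map g.op s) =
      ((EtCoh.bc j).map g).left.appTop (val' j V s) := rfl

theorem val'_GmPush (U : X.Etale) (s : (EtCoh.Gm X).obj.obj (op U)) :
    val' j U ((EtLim.GmPush j).hom.app (op U) s) = (prj j U).appTop (val U s) := rfl

theorem isUnit_val' (U : X.Etale) (s : ((EtCoh.push j).obj (EtCoh.Gm T)).obj.obj (op U)) :
    IsUnit (val' j U s) := Units.isUnit _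

/-- A section of `G_m` with a given unit. -/
def mkSec (U : X.Etale) (c : Γ(U.left, ⊤)) (hc : IsUnit c) : (EtCoh.Gm X).obj.obj (op U) :=
  (show ULift.{u + 1} (Additive Γ(U.left, ⊤)ˣ) from ULift.up (Additive.ofMul hc.unit))

theorem val_mkSec (U : X.Etale) (c : Γ(U.left, ⊤)) (hc : IsUnit c) : val U (mkSec U c hc) = c := rfl

variable [IsPreimmersion j] [Flat j] {Ω : Type u} [Field Ω] [IsSepClosed Ω]
  (ξ : Spec (CommRingCat.of Ω) ⟶ X)

omit [IsPreimmersion j] [Flat j] in
theorem exists_over {U : X.Etale} (t : (Scheme.pointSmallEtale ξ).fiber.obj U)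
    (hξ : ξ default ∈ Set.range j) : ∃ w : ((EtCoh.bc j).obj U).left, prj j U w = pt t := by
  obtain ⟨t₀, ht₀⟩ := hξ
  obtain ⟨w, hw, -⟩ := Scheme.Pullback.exists_preimage_pullback (f := U.hom) (g := j) (pt t) t₀
    ((hom_pt t).trans ht₀.symm)
  exact ⟨w, hw⟩

omit [IsPreimmersion j] in
theorem injective_stalk_GmPush (hξ : ξ default ∈ Set.range j) :
    Function.Injective ((EtCoh.stalk ξ).map (EtLim.GmPush j)) := by
  rw [injective_iff_map_eq_zero]
  intro p hp
  obtain ⟨U₀, t₀, s₀, rfl⟩ := exists_germ_eq ξ (EtCoh.Gm X) p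
  rw [germ_naturality] at hp
  obtain ⟨U, g, t, rfl, he⟩ := (germ_eq_iff ξ _ U₀ t₀ _ 0).1 (hp.trans (map_zero _).symm)
  rw [map_zero] at he
  rw [← germ_res]
  have hs : (prj j U).appTop (val U ((EtCoh.Gm X).obj.map g.op s₀)) = 1 := by
    rw [← val'_GmPush, ← val'_zero j U, ← he]
    exact congrArg _ (NatTrans.naturality_apply (EtLim.GmPush j).hom g.op s₀)
  generalize (EtCoh.Gm X).obj.map g.op s₀ = s at hs ⊢
  obtain ⟨w, hw⟩ := exists_over j ξ t hξ
  have hg : U.left.presheaf.germ ⊤ (prj j U w) trivial (val U s) =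
      U.left.presheaf.germ ⊤ (prj j U w) trivial 1 := by
    apply stalkMap_injective (prj j U) w
    rw [map_one, map_one]
    refine (Scheme.Hom.germ_stalkMap_apply _ _ _ _ _).trans ?_
    exact (congrArg _ hs).trans (map_one _)
  obtain ⟨(O : U.left.Opens), hO, i, i', e⟩ := U.left.presheaf.germ_eq (U := ⊤) (V := ⊤) (prj j U w) trivial trivial _ _ hg
  rw [hw] at hO
  obtain ⟨y, hy⟩ := exists_lift_open O t hO
  rw [← hy, ← germ_res]
  have : (EtCoh.Gm X).obj.map (openIncl O).op s = 0 := by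
    apply val_ext
    rw [val_map, val_zero]
    show O.ι.appTop (val U s) = 1
    rw [Scheme.Opens.ι_appTop]
    have hle : O.ι ''ᵁ ⊤ ≤ O := O.ι_image_le ⊤
    have e2 := congrArg (U.left.presheaf.map (homOfLE hle).op) e
    rw [← ConcreteCategory.comp_apply, ← Functor.map_comp, map_one, map_one] at e2
    exact e2
  rw [this, map_zero]

theorem surjective_stalk_GmPush (hξ : ξ default ∈ Set.range j) :
    Function.Surjective ((EtCoh.stalk ξ).map (EtLim.GmPush j)) := by
  intro p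
  obtain ⟨U, t, σ, rfl⟩ := exists_germ_eq ξ ((EtCoh.push j).obj (EtCoh.Gm T)) p
  obtain ⟨w, hw⟩ := exists_over j ξ t hξ
  obtain ⟨O, s, hwO, hsu, hs⟩ := exists_unit_extension (prj j U) w (val' j U σ) (isUnit_val' j U σ)
  rw [hw] at hwO
  obtain ⟨y, hy⟩ := exists_lift_open O t hwO
  let c : Γ((openObj O).left, ⊤) := O.ι.appLE O ⊤ (fun z _ => z.2) s
  refine ⟨germ ξ _ (openObj O) y (mkSec (openObj O) c (hsu.map (O.ι.appLE O ⊤ (fun z _ => z.2)).hom)), ?_⟩
  rw [germ_naturality, ← hy, ← germ_res]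
  congr 1
  apply val'_ext j
  rw [val'_GmPush, val'_map, val_mkSec]
  let p := ((EtCoh.bc j).map (openIncl O)).left
  let q := prj j (openObj O)
  have hpq : p ≫ prj j U = q ≫ O.ι := prj_natural j (openIncl O)
  have hle : (⊤ : Scheme.Opens _) ≤ p ⁻¹ᵁ (prj j U ⁻¹ᵁ O) := fun z _ => by
    show prj j U (p z) ∈ O
    rw [← Scheme.Hom.comp_apply, hpq, Scheme.Hom.comp_apply]
    exact (q z).2
  have h2 : p.appTop (val' j U σ) = (p ≫ prj j U).appLE O ⊤ (by exact hle) s := by
    rw [← Scheme.Hom.appLE_comp_appLE p (prj j U) O (prj j U ⁻¹ᵁ O) ⊤ le_rfl hle, ConcreteCategory.comp_apply,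
      Scheme.Hom.appLE_eq_app, hs, ← ConcreteCategory.comp_apply, Scheme.Hom.map_appLE]
    rw [Scheme.Hom.appLE, Scheme.Hom.appTop]
    exact (ConcreteCategory.congr_hom (by simp) _)
  have hq : q.appTop = q.appLE ⊤ ⊤ le_rfl := (Scheme.Hom.appLE_eq_app q).symm
  have h1 : q.appTop c = (q ≫ O.ι).appLE O ⊤ (fun z _ => (q z).2) s := by
    rw [hq]
    exact (ConcreteCategory.comp_apply _ _ _).symm.trans
      (ConcreteCategory.congr_hom (Scheme.Hom.appLE_comp_appLE q O.ι O ⊤ ⊤ (fun z _ => z.2) le_rfl) s)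
  exact h1.trans (Eq.trans (by congr 2; simp only [hpq]) h2.symm)

theorem bijective_stalk_GmPush (hξ : ξ default ∈ Set.range j) :
    Function.Bijective ((EtCoh.stalk ξ).map (EtLim.GmPush j)) :=
  ⟨injective_stalk_GmPush j ξ hξ, surjective_stalk_GmPush j ξ hξ⟩

end Groth.Agent.GalCohAux.EtGmPushStalk
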