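import Groth.Agent.Hensel.EtLike
import Groth.Agent.CycLib.SpecPt
import Groth.Agent.GalCohAux.EtDimVanE
import Mathlib.AlgebraicGeometry.Properties

/-!
The dimension of the strict localisation of the closure of a point.
-/

set_option autoImplicit false
universe u
open CategoryTheory AlgebraicGeometry

namespace Groth.Agent.GalCohAux.EtStrictDim

variable {X : Scheme.{u}}

/-- A function increasing along proper specialisations bounds the dimension of strict localisations. -/
theorem exists_dim_le (c : X → ℕ) (hc : ∀ z w : X, z ⤳ w → z ≠ w → c z < c w)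
    (x y : X) (h : x ⤳ y) (R : Type u) [CommRing R] [IsLocalRing R] [Algebra (X.presheaf.stalk y) R]
    [IsLocalHom (algebraMap (X.presheaf.stalk y) R)] [Hensel.IsStrictHenselization (X.presheaf.stalk y) R] :
    ∃ e : ℕ, ringKrullDim (R ⧸ (RingHom.ker (Cyc.specMap y x h)).map (algebraMap (X.presheaf.stalk y) R)) = e ∧
      c x + e ≤ c y := by
  let O := X.presheaf.stalk y
  let p := RingHom.ker (Cyc.specMap y x h)
  haveI : p.IsPrime := RingHom.ker_isPrime _
  have hE := Hensel.isEtLike_of_isStrictHenselization O R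
  let I := p.map (algebraMap O R)
  have hmono : ∀ a b : X, a ⤳ b → c a ≤ c b := fun a b hab => by
    rcases eq_or_ne a b with rfl | hne
    · exact le_rfl
    · exact (hc a b hab hne).le
  let g : PrimeSpectrum (R ⧸ I) → X := fun P =>
    X.fromSpecStalk y (PrimeSpectrum.comap ((Ideal.Quotient.mk I).comp (algebraMap O R)) P)
  have hg : ∀ P Q, P < Q → c (g P) < c (g Q) := fun P Q hPQ => by
    have hle : PrimeSpectrum.comap ((Ideal.Quotient.mk I).comp (algebraMap O R)) P ≤
        PrimeSpectrum.comap ((Ideal.Quotient.mk I).comp (algebraMap O R)) Q := Ideal.comap_mono hPQ.le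
    refine hc _ _ (((PrimeSpectrum.le_iff_specializes _ _).1 hle).map (X.fromSpecStalk y).continuous)
      fun he => hPQ.ne ?_
    have he' := congrArg PrimeSpectrum.asIdeal ((X.fromSpecStalk y).isEmbedding.injective he)
    refine PrimeSpectrum.ext (Ideal.comap_injective_of_surjective _ Ideal.Quotient.mk_surjective ?_)
    exact hE.eq_of_le_of_comap_eq (Ideal.comap_mono hPQ.le)
      ((Ideal.comap_comap _ _).trans (he'.trans (Ideal.comap_comap _ _).symm))
  have hlow : ∀ P, c x ≤ c (g P) := fun P => by
    refine hmono _ _ ?_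
    obtain ⟨ζ, hζ, e⟩ := CycLib.exists_ptPrime y
      (PrimeSpectrum.comap ((Ideal.Quotient.mk I).comp (algebraMap O R)) P)
    show x ⤳ X.fromSpecStalk y _
    rw [← e, CycLib.fromSpecStalk_ptPrime, ← CycLib.ptPrime_le_iff h hζ]
    intro a ha
    rw [show RingHom.ker (Cyc.specMap y ζ hζ) = (CycLib.ptPrime y ζ hζ).asIdeal from rfl, e]
    show (Ideal.Quotient.mk I) (algebraMap O R a) ∈ P.asIdeal
    rw [Ideal.Quotient.eq_zero_iff_mem.2 (Ideal.mem_map_of_mem _ ha)]
    exact P.asIdeal.zero_mem
  have hhigh : ∀ P, c (g P) ≤ c y := fun P => hmono _ _ (CycLib.fromSpecStalk_specializes y _)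
  have hne : I ≠ ⊤ := fun e => by
    have := (Ideal.comap_top (f := algebraMap O R))
    rw [← e, hE.comap_map_eq] at this
    exact Ideal.IsPrime.ne_top inferInstance this
  haveI : Nontrivial (R ⧸ I) := Ideal.Quotient.nontrivial_iff.2 hne
  have hlen : ∀ l : LTSeries (PrimeSpectrum (R ⧸ I)), c (g l.head) + l.length ≤ c (g l.last) := fun l => by
    have key : ∀ i : Fin (l.length + 1), c (g l.head) + i ≤ c (g (l i)) := by
      intro i
      induction i using Fin.induction with
      | zero => simp [RelSeries.head]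
      | succ i ih =>
        have := hg _ _ (l.step i)
        simp only [Fin.val_succ, Fin.val_castSucc] at ih ⊢
        omega
    exact key (Fin.last l.length)
  have hle : ringKrullDim (R ⧸ I) ≤ ((c y - c x : ℕ) : WithBot ℕ∞) := iSup_le fun l => by
    have := hlen l
    have := hlow l.head
    have := hhigh l.last
    exact_mod_cast (show l.length ≤ c y - c x by omega)
  have h0 : 0 ≤ ringKrullDim (R ⧸ I) := ringKrullDim_nonneg_of_nontrivial
  show ∃ e : ℕ, ringKrullDim (R ⧸ I) = e ∧ c x + e ≤ c y
  generalize hD : ringKrullDim (R ⧸ I) = D at h0 hle ⊢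
  induction D using WithBot.recBotCoe with
  | bot => exact absurd h0 (by simp)
  | coe D =>
    have hle' : D ≤ ((c y - c x : ℕ) : ℕ∞) := WithBot.coe_le_coe.1 hle
    obtain ⟨e, rfl⟩ := WithTop.ne_top_iff_exists.1 (lt_of_le_of_lt hle' (ENat.coe_lt_top _)).ne
    have := hmono _ _ h
    have : e ≤ c y - c x := ENat.coe_le_coe.1 hle'
    exact ⟨e, rfl, by omega⟩

/-- The codimension of a point of a locally Noetherian scheme, increasing along specialisations. -/
theorem codim_lt [IsLocallyNoetherian X] (c : X → ℕ) (hc : ∀ z : X, ringKrullDim (X.presheaf.stalk z) = c z)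
    (z w : X) (h : z ⤳ w) (hne : z ≠ w) : c z < c w := by
  have hlt : w < z := lt_of_le_not_ge h fun h' => hne (Specializes.antisymm h (h' : w ⤳ z)).eq
  have e : ∀ v : X, (Order.coheight v : ℕ∞) = (c v : ℕ∞) := fun v =>
    WithBot.coe_injective ((ringKrullDim_stalk_eq_coheight v).symm.trans ((hc v).trans rfl))
  have := Order.coheight_strictAnti hlt (by rw [e]; exact ENat.coe_lt_top _)
  rw [e, e] at this
  exact_mod_cast this

end Groth.Agent.GalCohAux.EtStrictDim
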