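import Groth.Agent.EtaleSite.Flasque
import Groth.Agent.EtaleSite.Covers
import Groth.Agent.EtaleSite.Stalk
import Mathlib.FieldTheory.PrimitiveElement
import Mathlib.FieldTheory.Galois.Basic
import Mathlib.FieldTheory.IsAlgClosed.AlgebraicClosure
import Mathlib.FieldTheory.IsSepClosed

/-!
The transfer for a finite separable extension on the small étale site of a field.
-/

set_option autoImplicit false

universe u

open CategoryTheory CategoryTheory.Limits AlgebraicGeometry Opposite

noncomputable section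

namespace Groth.Agent.GalCohAux.EtTrace

open EtaleSite

variable {X : Scheme.{u}}

/-! ### Classes killed on an étale scheme -/

/-- For exact adjoint functors `L ⊣ R`, the composite `L (R α) ≫ counit` is `counit ≫ α`. -/
theorem counit_comp {C : Type*} [Category C] [Abelian C] [EnoughInjectives C] [HasExt.{u+1} C]
    {D : Type*} [Category D] [Abelian D] [HasExt.{u+1} D]
    {L : D ⥤ C} [L.Additive] [PreservesFiniteLimits L] [PreservesFiniteColimits L]
    {R : C ⥤ D} [R.Additive] [PreservesFiniteLimits R] [PreservesFiniteColimits R]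
    (adj : L ⊣ R) (B : C) (n : ℕ) : ∀ (F : C) (α : Abelian.Ext B F n),
      AdjExt.toExt adj (R.obj B) F n (α.mapExactFunctor R) =
        (Abelian.Ext.mk₀ (adj.counit.app B)).comp α (zero_add n) := by
  induction n with
  | zero =>
    intro F α
    obtain ⟨f, rfl⟩ := (Abelian.Ext.mk₀_bijective B F).2 α
    rw [AdjExt.toExt, Abelian.Ext.mapExactFunctor_mk₀, Abelian.Ext.mapExactFunctor_mk₀,
      Abelian.Ext.mk₀_comp_mk₀, Abelian.Ext.mk₀_comp_mk₀]
    exact congrArg _ (adj.counit_naturality f)
  | succ n ih =>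
    intro F α
    let S : ShortComplex C := ShortComplex.mk (Injective.ι F) (cokernel.π _) (cokernel.condition _)
    have hS : S.ShortExact := { exact := ShortComplex.exact_cokernel _ }
    have : Injective S.X₂ := inferInstanceAs (Injective (Injective.under F))
    obtain ⟨x, hx⟩ := Abelian.Ext.covariant_sequence_exact₁ B hS α
      (Abelian.Ext.eq_zero_of_injective _) (rfl : n + 1 = n + 1)
    subst hx
    rw [Abelian.Ext.mapExactFunctor_comp, Abelian.Ext.mapExactFunctor_extClass]
    refine (AdjExt.toExt_comp_extClass adj hS (hS.map_of_exact R) (x.mapExactFunctor R)).trans ?_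
    rw [ih]
    exact Abelian.Ext.comp_assoc _ _ _ _ _ (by omega)

instance preservesFiniteColimits_extZero {U : Scheme.{u}} (j : U ⟶ X) [Etale j] :
    PreservesFiniteColimits (EtShriek.extZero j) :=
  haveI : PreservesColimitsOfSize.{0, 0} (EtShriek.extZero j) :=
    (EtShriek.extZeroAdj j).leftAdjoint_preservesColimits
  PreservesColimitsOfSize.preservesFiniteColimits _

theorem mk₀_comp_eq_zero {C : Type*} [Category C] [Abelian C] [HasExt.{u+1} C] {A B B' F : C} {n : ℕ}
    (a : A ⟶ B') (b : B' ⟶ B) (α : Abelian.Ext B F n) (h : (Abelian.Ext.mk₀ b).comp α (zero_add n) = 0) :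
    (Abelian.Ext.mk₀ (a ≫ b)).comp α (zero_add n) = 0 := by
  rw [← Abelian.Ext.mk₀_comp_mk₀, Abelian.Ext.comp_assoc _ _ _ (zero_add 0) (zero_add n) (by omega), h,
    Abelian.Ext.comp_zero]

/-- A class killed by pullback to `W` is killed by every map `freeOn W ⟶ ℤ`. -/
theorem comp_eq_zero_of_Hpull (W : X.Etale) [PreservesFiniteLimits (EtCoh.pull W.hom)] (F : EtCoh.Ab X) (n : ℕ)
    (α : EtCoh.H X F n) (hα : EtCore.Hpull W.hom F n α = 0) (φ : Flasque.freeOn W ⟶ EtCoh.const X ℤ) :
    (Abelian.Ext.mk₀ φ).comp α (zero_add n) = 0 := by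
  have : (EtShriek.extZero W.hom).Additive := (EtSupp.extPullAdj W.hom).left_adjoint_additive
  let adj := EtSupp.extPullAdj W.hom
  have h : (α.mapExactFunctor (EtCoh.pull W.hom)) = 0 := by
    change (Abelian.Ext.mk₀ (EtCore.pullConst W.hom ℤ).inv).comp
      (α.mapExactFunctor (EtCoh.pull W.hom)) (zero_add n) = 0 at hα
    have := congrArg (fun t => (Abelian.Ext.mk₀ (EtCore.pullConst W.hom ℤ).hom).comp t (zero_add n)) hα
    simpa using this
  have h2 : φ = (EtShriek.extZero W.hom).map ((adj.homEquiv _ _) φ) ≫ adj.counit.app _ :=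
    ((adj.homEquiv _ _).symm_apply_apply φ).symm.trans (adj.homEquiv_counit ..)
  have h3 : (Abelian.Ext.mk₀ (adj.counit.app (EtCoh.const X ℤ))).comp α (zero_add n) = 0 := by
    refine (counit_comp adj _ n F α).symm.trans ?_
    rw [h, AdjExt.toExt, Abelian.Ext.mapExactFunctor_zero, Abelian.Ext.zero_comp]
  rw [h2]
  exact mk₀_comp_eq_zero _ _ α h3

/-! ### The transfer -/

variable {K : Type u} [Field K]

local notation "SK" => Spec (CommRingCat.of K)

/-- A finite separable extension as an object of the small étale site. -/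
theorem etale_field (L : Type u) [Field L] [Algebra K L] [FiniteDimensional K L] [Algebra.IsSeparable K L] :
    Etale (Spec.map (CommRingCat.ofHom (algebraMap K L))) := by
  rw [HasRingHomProperty.Spec_iff (P := @Etale), CommRingCat.hom_ofHom, RingHom.etale_algebraMap]
  exact ⟨Algebra.FormallyEtale.of_isSeparable K L, Algebra.FinitePresentation.of_finiteType.mp inferInstance⟩

variable (K) in
/-- `Spec L` in the small étale site of `K`. -/
abbrev fld (L : Type u) [Field L] [Algebra K L] [FiniteDimensional K L] [Algebra.IsSeparable K L] :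
    (SK).Etale :=
  haveI := etale_field (K := K) L
  Scheme.Etale.mk (Spec.map (CommRingCat.ofHom (algebraMap K L)))

variable {L M : Type u} [Field L] [Algebra K L] [FiniteDimensional K L] [Algebra.IsSeparable K L]
  [Field M] [Algebra K M] [FiniteDimensional K M] [Algebra.IsSeparable K M]

/-- The morphism of an embedding. -/
def fldMap (σ : L →ₐ[K] M) : fld K M ⟶ fld K L :=
  MorphismProperty.Over.homMk (Spec.map (CommRingCat.ofHom σ.toRingHom)) (by
    show Spec.map _ ≫ Spec.map _ = Spec.map _
    rw [← Spec.map_comp]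
    congr 1
    exact CommRingCat.hom_ext σ.comp_algebraMap)

theorem bijective_fiber (hM : ∀ x : L, ((minpoly K x).map (algebraMap K M)).Splits)
    {Ω : Type u} [Field Ω] [IsSepClosed Ω] (ξ : Spec (CommRingCat.of Ω) ⟶ SK)
    (z : (Scheme.pointSmallEtale ξ).fiber.obj (fld K M)) :
    Function.Bijective (fun σ : L →ₐ[K] M => (Scheme.pointSmallEtale ξ).fiber.map (fldMap σ) z) ∧
      Finite ((Scheme.pointSmallEtale ξ).fiber.obj (fld K L)) := by
  obtain ⟨ρ, hρ⟩ := Spec.map_surjective ξ
  letI : Algebra K Ω := ρ.hom.toAlgebra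
  have hw : ∀ {N : Type u} [Field N] [Algebra K N] [FiniteDimensional K N] [Algebra.IsSeparable K N]
      (p : (Scheme.pointSmallEtale ξ).fiber.obj (fld K N)),
      p.left ≫ Spec.map (CommRingCat.ofHom (algebraMap K N)) = ξ := fun p => Over.w p
  let e : (Scheme.pointSmallEtale ξ).fiber.obj (fld K L) → (L →ₐ[K] Ω) := fun p =>
    { (Spec.preimage p.left).hom with
      commutes' := fun r => DFunLike.congr_fun (congrArg CommRingCat.Hom.hom
        (show CommRingCat.ofHom (algebraMap K L) ≫ Spec.preimage p.left = ρ from Spec.map_injective (by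
          rw [Spec.map_comp, Spec.map_preimage, hρ]; exact hw p))) r }
  have he : Function.Injective e := fun p q h => Over.OverMorphism.ext (by
    rw [← Spec.map_preimage p.left, ← Spec.map_preimage q.left]
    congr 1
    exact CommRingCat.hom_ext (RingHom.ext fun x => AlgHom.congr_fun h x))
  haveI : Finite ((Scheme.pointSmallEtale ξ).fiber.obj (fld K L)) := Finite.of_injective e he
  refine ⟨?_, ‹_›⟩
  have hinj : Function.Injective (fun σ : L →ₐ[K] M => (Scheme.pointSmallEtale ξ).fiber.map (fldMap σ) z) := by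
    intro σ τ h
    have h1 : z.left ≫ Spec.map (CommRingCat.ofHom σ.toRingHom) = z.left ≫ Spec.map (CommRingCat.ofHom τ.toRingHom) :=
      congrArg (fun k => k.left) h
    let z' : Spec (CommRingCat.of Ω) ⟶ Spec (CommRingCat.of M) := z.left
    have h2 : z' ≫ Spec.map (CommRingCat.ofHom σ.toRingHom) = z' ≫ Spec.map (CommRingCat.ofHom τ.toRingHom) := h1
    obtain ⟨c, hc⟩ := Spec.map_surjective z'
    rw [← hc, ← Spec.map_comp, ← Spec.map_comp, Spec.map_inj] at h2
    exact AlgHom.ext fun x => c.hom.injective (DFunLike.congr_fun (congrArg CommRingCat.Hom.hom h2) x)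
  refine hinj.bijective_of_nat_card_le ?_
  refine (Nat.card_le_card_of_injective e he).trans (le_of_eq ?_)
  rw [AlgHom.natCard_of_splits K L M hM, AlgHom.natCard_of_splits K L Ω fun x =>
    IsSepClosed.splits_of_separable _ (Polynomial.Separable.map (Algebra.IsSeparable.isSeparable K x))]

/-- The trace of sections: the sum over all embeddings descends. -/
theorem exists_trace (G : EtCoh.Ab SK) (hM : ∀ x : L, ((minpoly K x).map (algebraMap K M)).Splits)
    (u : EtCoh.sect G (fld K L)) :
    ∃ s : EtCoh.sect G (EtCoh.top SK),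
      G.obj.map ((EtCore.topIsTerminal SK).from (fld K M)).op s = ∑ σ : L →ₐ[K] M, G.obj.map (fldMap σ).op u := by
  classical
  let t := (EtCore.topIsTerminal SK).from (fld K M)
  set sM := ∑ σ : L →ₐ[K] M, G.obj.map (fldMap σ).op u
  have hsurj : Function.Surjective t.left.base := fun x =>
    ⟨(⟨⊥, Ideal.isPrime_bot⟩ : PrimeSpectrum M), Subsingleton.elim (α := PrimeSpectrum K) _ _⟩
  have hcov := Covers.singleton_mem t hsurj
  have hG : Presieve.IsSheaf (SK).smallEtaleTopology (G.obj ⋙ forget AddCommGrpCat.{u + 1}) :=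
    (isSheaf_iff_isSheaf_of_type _ _).1 (((sheafCompose (SK).smallEtaleTopology (forget AddCommGrpCat.{u + 1})).obj G).property)
  have hS := (Presieve.isSheafFor_iff_generate _).2 (hG _ hcov)
  rw [Presieve.isSheafFor_singleton] at hS
  obtain ⟨s, hs, -⟩ := hS sM fun {V} a b _ => by
    refine sect_ext (U := V) _ _ fun Ω _ _ ξ y => ?_
    show germ ξ G V y (G.obj.map a.op sM) = germ ξ G V y (G.obj.map b.op sM)
    rw [germ_res, germ_res]
    simp only [sM, map_sum, germ_res]
    obtain ⟨ha, hfin⟩ := bijective_fiber hM ξ ((Scheme.pointSmallEtale ξ).fiber.map a y)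
    obtain ⟨hb, -⟩ := bijective_fiber hM ξ ((Scheme.pointSmallEtale ξ).fiber.map b y)
    haveI := hfin
    letI := Fintype.ofFinite ((Scheme.pointSmallEtale ξ).fiber.obj (fld K L))
    exact (ha.sum_comp (fun p => germ ξ G _ p u)).trans (hb.sum_comp (fun p => germ ξ G _ p u)).symm
  exact ⟨s, hs⟩

/-- The degree kills classes that die on a finite separable extension. -/
theorem finrank_nsmul_eq_zero (L : Type u) [Field L] [Algebra K L] [FiniteDimensional K L]
    [Algebra.IsSeparable K L] [PreservesFiniteLimits (EtCoh.pull (fld K L).hom)] (F : EtCoh.Ab SK) (n : ℕ)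
    (α : EtCoh.H SK F n) (hα : EtCore.Hpull (fld K L).hom F n α = 0) : Module.finrank K L • α = 0 := by
  classical
  let Ω₀ := SeparableClosure K
  let M := IntermediateField.normalClosure K L Ω₀
  haveI : Algebra.IsSeparable K M := Algebra.isSeparable_tower_bot_of_isSeparable K M Ω₀
  have hM : ∀ x : L, ((minpoly K x).map (algebraMap K M)).Splits := fun x => by
    let ι : L →ₐ[K] Ω₀ := IsSepClosed.lift
    let ι' : L →ₐ[K] M := ι.codRestrict M.toSubalgebra fun y => ι.fieldRange_le_normalClosure ⟨y, rfl⟩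
    rw [← minpoly.algHom_eq ι' ι'.injective x]
    exact Normal.splits inferInstance (ι' x)
  let C := EtCoh.const SK ℤ
  let one (U : (SK).Etale) : EtCoh.sect C U :=
    C.obj.map ((EtCore.topIsTerminal SK).from U).op (Flasque.evTop C (𝟙 C))
  obtain ⟨φ, hφ⟩ := (Flasque.freeSec_bijective (fld K L) C).2 (one (fld K L))
  obtain ⟨s, hs⟩ := exists_trace (M := M) (Flasque.freeOn (fld K L)) hM
    (Flasque.freeSec (fld K L) _ (𝟙 _))
  obtain ⟨τ, hτ⟩ := (Flasque.evTop_bijective (Flasque.freeOn (fld K L))).2 s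
  have hone : ∀ {V U : (SK).Etale} (g : V ⟶ U), C.obj.map g.op (one U) = one V := fun {V U} g => by
    simp only [one, ← ConcreteCategory.comp_apply, ← Functor.map_comp, ← op_comp]
    congr 4
    exact (EtCore.topIsTerminal SK).hom_ext _ _
  have hcomp : τ ≫ φ = Module.finrank K L • 𝟙 C := by
    let E : (C ⟶ C) →+ EtCoh.sect C (EtCoh.top SK) := AddMonoidHom.mk'
      (fun ψ => ψ.hom.app (op (EtCoh.top SK)) (Flasque.evTop C (𝟙 C))) fun a b => rfl
    have hE : ∀ ψ : C ⟶ C, Flasque.evTop C ψ = E ψ := fun ψ => by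
      conv_lhs => rw [← Category.id_comp ψ, Flasque.evTop_comp]
      rfl
    apply (Flasque.evTop_bijective C).1
    rw [Flasque.evTop_comp, hτ, hE, map_nsmul, ← hE]
    have hsurj : Function.Surjective ((EtCore.topIsTerminal SK).from (fld K M)).left.base := fun x =>
      ⟨(⟨⊥, Ideal.isPrime_bot⟩ : PrimeSpectrum M), Subsingleton.elim (α := PrimeSpectrum K) _ _⟩
    refine C.property.isSeparated _ _ (Covers.singleton_mem _ hsurj) _ _ ?_
    rintro V g ⟨_, h, _, ⟨⟩, rfl⟩
    simp only [op_comp, Functor.map_comp, ConcreteCategory.comp_apply]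
    congr 1
    rw [map_nsmul, ← NatTrans.naturality_apply φ.hom, hs, map_sum]
    have : ∀ σ : L →ₐ[K] M, φ.hom.app _ ((Flasque.freeOn (fld K L)).obj.map (fldMap σ).op
        (Flasque.freeSec (fld K L) _ (𝟙 _))) = one (fld K M) := fun σ => by
      rw [NatTrans.naturality_apply φ.hom, ← Flasque.freeSec_comp, Category.id_comp, hφ, hone]
    simp only [this, Finset.sum_const, Finset.card_univ]
    rw [AlgHom.card_of_splits K L M hM]
  have h := comp_eq_zero_of_Hpull (fld K L) F n α hα φ
  let P : (C ⟶ C) →+ EtCoh.H SK F n := AddMonoidHom.mk'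
    (fun ψ => (Abelian.Ext.mk₀ ψ).comp α (zero_add n)) fun a b => by simp [Abelian.Ext.mk₀_add, Abelian.Ext.add_comp]
  have hP : P (𝟙 C) = α := Abelian.Ext.mk₀_id_comp α
  rw [← hP, ← map_nsmul, ← hcomp]
  exact mk₀_comp_eq_zero τ φ α h

end Groth.Agent.GalCohAux.EtTrace
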