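import Mathlib.FieldTheory.RatFunc.AsPolynomial
import Mathlib.RingTheory.PowerSeries.Derivative
import Mathlib.RingTheory.PowerSeries.Exp
import Mathlib.RingTheory.PowerSeries.Substitution
import Mathlib.Algebra.Polynomial.Div
import Mathlib.Algebra.Polynomial.Roots
import Mathlib.RingTheory.Coprime.Lemmas
import Mathlib.Algebra.Ring.GeomSum
import Mathlib.Tactic.LinearCombination
import Mathlib.Tactic.FieldSimp

/-!
Rationality of `exp (∑ F(q^v) t^v / v)` forces `F` to be a Laurent polynomial.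
-/

open Polynomial

namespace Groth.Agent.GalCohAux.ExpSum

/-- Products of the polynomials `X^(n+1) - 1`. -/
noncomputable def Dset : Submonoid ℤ[X] := Submonoid.closure (Set.range fun n : ℕ => (X : ℤ[X]) ^ (n + 1) - 1)

/-- Integral polynomials as rational functions. -/
noncomputable def ι : ℤ[X] →+* RatFunc ℚ :=
  (algebraMap ℚ[X] (RatFunc ℚ)).comp (mapRingHom (Int.castRingHom ℚ))

theorem ι_apply (f : ℤ[X]) :
    ι f = algebraMap ℚ[X] (RatFunc ℚ) (f.map (Int.castRingHom ℚ)) := rfl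

theorem ι_injective : Function.Injective ι :=
  (RatFunc.algebraMap_injective ℚ).comp (Polynomial.map_injective _ (Int.cast_injective))

theorem monic_of_mem {D : ℤ[X]} (hD : D ∈ Dset) : D.Monic := by
  induction hD using Submonoid.closure_induction with
  | mem x hx =>
    obtain ⟨n, rfl⟩ := hx
    simpa using monic_X_pow_sub_C (1 : ℤ) (Nat.succ_ne_zero n)
  | one => exact monic_one
  | mul x y _ _ hx hy => exact hx.mul hy

/-- `F` has the denominators allowed. -/
def Rep (F : RatFunc ℚ) : Prop :=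
  ∃ (N D : ℤ[X]) (a : ℕ), D ∈ Dset ∧ F * ι (X ^ a * D) = ι N

theorem rep_of_mem {F : RatFunc ℚ} (hF : F ∈ Subring.closure
      (({RatFunc.X, (RatFunc.X : RatFunc ℚ)⁻¹} : Set (RatFunc ℚ)) ∪
        Set.range fun n : ℕ => ((RatFunc.X : RatFunc ℚ) ^ (n + 1) - 1)⁻¹)) : Rep F := by
  have hX : ι X = RatFunc.X := by rw [ι_apply, Polynomial.map_X, RatFunc.algebraMap_X]
  induction hF using Subring.closure_induction with
  | mem x hx =>
    rcases hx with hx | ⟨n, rfl⟩
    · rcases hx with rfl | hx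
      · exact ⟨X, 1, 0, one_mem _, by simp [hX]⟩
      · rw [Set.mem_singleton_iff] at hx
        subst hx
        exact ⟨1, 1, 1, one_mem _, by simp [hX, RatFunc.X_ne_zero]⟩
    · refine ⟨1, X ^ (n + 1) - 1, 0, Submonoid.subset_closure ⟨n, rfl⟩, ?_⟩
      have h0 : ι (X ^ (n + 1) - 1) ≠ 0 := fun h => by
        have := monic_X_pow_sub_C (1 : ℤ) (Nat.succ_ne_zero n)
        rw [map_one] at this
        exact this.ne_zero (ι_injective (h.trans (map_zero ι).symm))
      rw [pow_zero, one_mul, map_one]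
      rw [map_sub, map_pow, hX, map_one] at h0 ⊢
      exact inv_mul_cancel₀ h0
  | zero => exact ⟨0, 1, 0, one_mem _, by simp⟩
  | one => exact ⟨1, 1, 0, one_mem _, by simp⟩
  | add x y _ _ hx hy =>
    obtain ⟨N, D, a, hD, hx⟩ := hx
    obtain ⟨N', D', a', hD', hy⟩ := hy
    refine ⟨N * (X ^ a' * D') + N' * (X ^ a * D), D * D', a + a', mul_mem hD hD', ?_⟩
    simp only [map_add, map_mul, map_pow, pow_add] at hx hy ⊢
    linear_combination (ι X ^ a' * ι D') * hx + (ι X ^ a * ι D) * hy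
  | neg x _ hx =>
    obtain ⟨N, D, a, hD, hx⟩ := hx
    exact ⟨-N, D, a, hD, by rw [map_neg, neg_mul, hx]⟩
  | mul x y _ _ hx hy =>
    obtain ⟨N, D, a, hD, hx⟩ := hx
    obtain ⟨N', D', a', hD', hy⟩ := hy
    refine ⟨N * N', D * D', a + a', mul_mem hD hD', ?_⟩
    simp only [map_mul, map_pow, pow_add] at hx hy ⊢
    linear_combination (y * (ι X ^ a' * ι D')) * hx + ι N * hy

/-- Evaluation away from the denominators. -/
theorem eval_eq {F : RatFunc ℚ} {N M : ℤ[X]} (h : F * ι M = ι N) (x : ℚ)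
    (hM : (M.map (Int.castRingHom ℚ)).eval x ≠ 0) :
    F.eval (RingHom.id ℚ) x * (M.map (Int.castRingHom ℚ)).eval x =
      (N.map (Int.castRingHom ℚ)).eval x := by
  have hM0 : M.map (Int.castRingHom ℚ) ≠ 0 := fun h0 => hM (by rw [h0, eval_zero])
  have hdvd : F.denom ∣ M.map (Int.castRingHom ℚ) := by
    rw [RatFunc.denom_dvd hM0]
    exact ⟨N.map (Int.castRingHom ℚ), by
      rw [eq_div_iff ((map_ne_zero_iff _ (RatFunc.algebraMap_injective ℚ)).2 hM0)]
      exact h⟩
  have hd : F.denom.eval x ≠ 0 := fun h0 => hM (by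
    obtain ⟨c, hc⟩ := hdvd
    rw [hc, eval_mul, h0, zero_mul])
  have e : F.num * M.map (Int.castRingHom ℚ) = N.map (Int.castRingHom ℚ) * F.denom := by
    apply RatFunc.algebraMap_injective ℚ
    rw [map_mul, map_mul]
    change _ * ι M = ι N * _
    rw [← h, (div_eq_iff ((map_ne_zero_iff _ (RatFunc.algebraMap_injective ℚ)).2
      (RatFunc.denom_ne_zero F))).1 (RatFunc.num_div_denom F)]
    ring
  have e' := congrArg (Polynomial.eval x) e
  rw [eval_mul, eval_mul] at e'
  rw [RatFunc.eval, eval₂_id, eval₂_id, div_mul_eq_mul_div, div_eq_iff hd, e']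

/-- Scaling of the variable. -/
noncomputable def scale (c : ℚ) : ℤ[X] →+* ℚ[X] :=
  (compRingHom (C c * X)).comp (mapRingHom (Int.castRingHom ℚ))

theorem eval_scale (c x : ℚ) (f : ℤ[X]) :
    (scale c f).eval x = (f.map (Int.castRingHom ℚ)).eval (c * x) := by
  simp [scale, eval_comp]

theorem scale_X_pow_sub_one (c : ℚ) (n : ℕ) : scale c (X ^ n - 1) = C (c ^ n) * X ^ n - 1 := by
  simp [scale, mul_pow]

theorem scale_X' (c : ℚ) : scale c X = C c * X := by simp [scale]

attribute [local irreducible] scale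

theorem coprime_base {c c' : ℚ} {n m : ℕ} (h : c ^ (n * m) ≠ c' ^ (n * m)) :
    IsCoprime (scale c (X ^ n - 1)) (scale c' (X ^ m - 1)) := by
  have key : ∀ n m : ℕ, (X : ℤ[X]) ^ n - 1 ∣ X ^ (n * m) - 1 := fun n m => by
    have := sub_dvd_pow_sub_pow ((X : ℤ[X]) ^ n) 1 m
    rwa [one_pow, ← pow_mul] at this
  have h1 : scale c (X ^ n - 1) ∣ scale c (X ^ (n * m) - 1) := map_dvd _ (key n m)
  have h2 : scale c' (X ^ m - 1) ∣ scale c' (X ^ (n * m) - 1) :=
    map_dvd _ (Nat.mul_comm m n ▸ key m n)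
  refine IsCoprime.of_isCoprime_of_dvd_left (IsCoprime.of_isCoprime_of_dvd_right ?_ h2) h1
  rw [scale_X_pow_sub_one, scale_X_pow_sub_one]
  have e : C (c ^ (n * m) - c' ^ (n * m))⁻¹ * (C (c ^ (n * m)) - C (c' ^ (n * m))) = 1 := by
    rw [← C_sub, ← C_mul, inv_mul_cancel₀ (sub_ne_zero.2 h), C_1]
  generalize C (c ^ (n * m) - c' ^ (n * m))⁻¹ = g at e
  generalize C (c ^ (n * m)) = α at e
  generalize C (c' ^ (n * m)) = β at e
  exact ⟨g * β, -(g * α), by linear_combination e⟩

theorem coprime_scale {c c' : ℚ} (h : ∀ n, n ≠ 0 → c ^ n ≠ c' ^ n) {D D' : ℤ[X]} (hD : D ∈ Dset)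
    (hD' : D' ∈ Dset) : IsCoprime (scale c D) (scale c' D') := by
  induction hD using Submonoid.closure_induction with
  | mem x hx =>
    obtain ⟨n, rfl⟩ := hx
    induction hD' using Submonoid.closure_induction with
    | mem y hy =>
      obtain ⟨m, rfl⟩ := hy
      exact coprime_base (h _ (by positivity))
    | one => rw [map_one]; exact isCoprime_one_right
    | mul y z _ _ hy hz => rw [map_mul]; exact hy.mul_right hz
  | one => rw [map_one]; exact isCoprime_one_left
  | mul y z _ _ hy hz => rw [map_mul]; exact hy.mul_left hz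

theorem coprime_scale_X {c c' : ℚ} (hc0 : c' ≠ 0) {D : ℤ[X]} (hD : D ∈ Dset) :
    IsCoprime (scale c D) (scale c' X) := by
  induction hD using Submonoid.closure_induction with
  | mem x hx =>
    obtain ⟨n, rfl⟩ := hx
    have hX : scale c' X = C c' * X := scale_X' c'
    rw [scale_X_pow_sub_one, hX]
    refine IsCoprime.mul_right ⟨0, C c'⁻¹, ?_⟩ ⟨-1, C (c ^ (n + 1)) * X ^ n, by ring⟩
    rw [zero_mul, zero_add, ← C_mul, inv_mul_cancel₀ hc0, C_1]
  | one => rw [map_one]; exact isCoprime_one_left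
  | mul y z _ _ hy hz => rw [map_mul]; exact hy.mul_left hz

theorem eval_ne_zero {D : ℤ[X]} (hD : D ∈ Dset) {x : ℚ} (hx : 1 < x) :
    (D.map (Int.castRingHom ℚ)).eval x ≠ 0 := by
  induction hD using Submonoid.closure_induction with
  | mem y hy =>
    obtain ⟨n, rfl⟩ := hy
    simpa [sub_ne_zero] using (one_lt_pow₀ hx (Nat.succ_ne_zero n)).ne'
  | one => simp
  | mul y z _ _ hy hz => simpa [Polynomial.map_mul] using And.intro hy hz

theorem main (q : ℤ) (hq : 1 < q) (F : RatFunc ℚ)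
    (hF : F ∈ Subring.closure
      (({RatFunc.X, (RatFunc.X : RatFunc ℚ)⁻¹} : Set (RatFunc ℚ)) ∪
        Set.range fun n : ℕ => ((RatFunc.X : RatFunc ℚ) ^ (n + 1) - 1)⁻¹))
    (hrat : ∃ P Q : Polynomial ℚ, Q ≠ 0 ∧
      (PowerSeries.exp ℚ).subst
          (PowerSeries.mk fun v : ℕ => if v = 0 then (0 : ℚ)
            else F.eval (RingHom.id ℚ) ((q : ℚ) ^ v) / (v : ℚ))
        * (Q : PowerSeries ℚ) = (P : PowerSeries ℚ)) :
    ∃ (P : Polynomial ℤ) (a : ℕ),
      F * RatFunc.X ^ a = algebraMap (Polynomial ℚ) (RatFunc ℚ) (P.map (Int.castRingHom ℚ)) := by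
  classical
  obtain ⟨N, D, a, hD, hrep⟩ := rep_of_mem hF
  obtain ⟨P, Q, hQ, hPQ⟩ := hrat
  set u : ℕ → ℚ := fun v => F.eval (RingHom.id ℚ) ((q : ℚ) ^ v) with hu
  set S : PowerSeries ℚ := PowerSeries.mk fun v : ℕ => if v = 0 then (0 : ℚ) else u v / (v : ℚ) with hS
  have hS0 : PowerSeries.constantCoeff S = 0 := by
    simp [S, ← PowerSeries.coeff_zero_eq_constantCoeff_apply]
  have hsub : PowerSeries.HasSubst S := PowerSeries.HasSubst.of_constantCoeff_zero' hS0
  set E := (PowerSeries.exp ℚ).subst S with hE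
  have hE0 : E ≠ 0 := fun h => by
    have h1 := congrArg (PowerSeries.coeff 0) h
    rw [hE, PowerSeries.coeff_subst' hsub, finsum_eq_single _ 0] at h1
    · simp at h1
    · intro d hd
      rw [PowerSeries.coeff_zero_eq_constantCoeff_apply, map_pow, hS0, zero_pow hd, smul_zero]
  have hP : P ≠ 0 := fun h => by
    rw [h, Polynomial.coe_zero] at hPQ
    exact mul_ne_zero hE0 (fun h' => hQ (Polynomial.coe_eq_zero_iff.1 h')) hPQ
  have hE' : PowerSeries.derivative ℚ E = E * PowerSeries.derivative ℚ S := by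
    rw [hE, PowerSeries.derivative_subst hsub, PowerSeries.derivative_exp]
  let R : ℚ[X] := P * Q
  let W : ℚ[X] := derivative P * Q - P * derivative Q
  have hrec : (R : PowerSeries ℚ) * PowerSeries.derivative ℚ S = (W : PowerSeries ℚ) := by
    have h1 := congrArg (PowerSeries.derivative ℚ) hPQ
    rw [Derivation.leibniz, hE', PowerSeries.derivative_coe, PowerSeries.derivative_coe, smul_eq_mul,
      smul_eq_mul] at h1
    simp only [R, W, Polynomial.coe_mul, Polynomial.coe_sub]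
    rw [← hPQ, ← h1]
    ring
  have hq0 : (q : ℚ) ≠ 0 := by exact_mod_cast (by omega : q ≠ 0)
  have hq1 : (1 : ℚ) < q := by exact_mod_cast hq
  let c : ℕ → ℚ := fun i => ((q : ℚ) ^ i)⁻¹
  let s := Finset.range (R.natDegree + 1)
  have hlin : ∀ n, R.natDegree + W.natDegree < n → ∑ i ∈ s, R.coeff i * u (n + 1 - i) = 0 := by
    intro n hn
    have h1 := congrArg (PowerSeries.coeff n) hrec
    rw [Polynomial.coeff_coe, Polynomial.coeff_eq_zero_of_natDegree_lt (p := W) (by omega)] at h1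
    rw [← h1]
    conv_rhs => rw [R.as_sum_range_C_mul_X_pow]
    rw [← Polynomial.coeToPowerSeries.ringHom_apply, map_sum, Finset.sum_mul, map_sum]
    refine Finset.sum_congr rfl fun i hi => ?_
    have hi' := Finset.mem_range.1 hi
    rw [Polynomial.coeToPowerSeries.ringHom_apply, Polynomial.coe_mul, Polynomial.coe_pow,
      Polynomial.coe_C, Polynomial.coe_X, mul_assoc,
      PowerSeries.coeff_C_mul, PowerSeries.coeff_X_pow_mul', if_pos (by omega),
      PowerSeries.coeff_derivative]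
    have e : n - i + 1 = n + 1 - i := by omega
    rw [e, hS, PowerSeries.coeff_mk, if_neg (by omega)]
    have hne : ((n + 1 - i : ℕ) : ℚ) ≠ 0 := Nat.cast_ne_zero.2 (by omega)
    have e2 : ((n - i : ℕ) : ℚ) + 1 = ((n + 1 - i : ℕ) : ℚ) := by rw [← e]; push_cast; ring
    rw [e2, div_mul_cancel₀ _ hne]
  let M : ℤ[X] := X ^ a * D
  let H : ℚ[X] := ∑ i ∈ s, C (R.coeff i) * scale (c i) N * ∏ j ∈ s.erase i, scale (c j) M
  have hroot : ∀ n, R.natDegree + W.natDegree < n → H.IsRoot ((q : ℚ) ^ (n + 1)) := by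
    intro n hn
    have key : ∀ i ∈ s, c i * (q : ℚ) ^ (n + 1) = (q : ℚ) ^ (n + 1 - i) := fun i hi => by
      have := Finset.mem_range.1 hi
      show ((q : ℚ) ^ i)⁻¹ * _ = _
      rw [pow_sub₀ _ hq0 (by omega), mul_comm]
    have hMne : ∀ i ∈ s, (M.map (Int.castRingHom ℚ)).eval ((q : ℚ) ^ (n + 1 - i)) ≠ 0 := fun i hi => by
      have := Finset.mem_range.1 hi
      simp only [M, Polynomial.map_mul, Polynomial.map_pow, Polynomial.map_X, eval_mul, eval_pow,
        eval_X]
      exact mul_ne_zero (pow_ne_zero _ (pow_ne_zero _ hq0))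
        (eval_ne_zero hD (one_lt_pow₀ hq1 (by omega)))
    show H.eval _ = 0
    rw [eval_finsetSum]
    have hterm : ∀ i ∈ s, (C (R.coeff i) * scale (c i) N * ∏ j ∈ s.erase i, scale (c j) M).eval
        ((q : ℚ) ^ (n + 1)) = (R.coeff i * u (n + 1 - i)) *
          ∏ j ∈ s, (M.map (Int.castRingHom ℚ)).eval ((q : ℚ) ^ (n + 1 - j)) := fun i hi => by
      rw [eval_mul, eval_mul, eval_C, eval_scale, key i hi, eval_prod,
        ← eval_eq hrep _ (hMne i hi),
        ← Finset.mul_prod_erase s (fun j => (M.map (Int.castRingHom ℚ)).eval ((q : ℚ) ^ (n + 1 - j))) hi]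
      have hp : ∏ j ∈ s.erase i, (scale (c j) M).eval ((q : ℚ) ^ (n + 1)) =
          ∏ j ∈ s.erase i, (M.map (Int.castRingHom ℚ)).eval ((q : ℚ) ^ (n + 1 - j)) :=
        Finset.prod_congr rfl fun j hj => by rw [eval_scale, key j (Finset.mem_of_mem_erase hj)]
      rw [hp, hu]
      ring
    rw [Finset.sum_congr rfl hterm, ← Finset.sum_mul, hlin n hn, zero_mul]
  have hH : H = 0 := by
    refine eq_zero_of_infinite_isRoot H (Set.Infinite.mono (s := (fun n : ℕ => (q : ℚ) ^ (n + 1)) ''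
      Set.Ioi (R.natDegree + W.natDegree)) ?_ ((Set.Ioi_infinite _).image ?_))
    · rintro _ ⟨n, hn, rfl⟩
      exact hroot n hn
    · intro m _ n _ e
      exact Nat.succ_injective (pow_right_injective₀ (by linarith) hq1.ne' e)
  let i₀ := R.natDegree
  have hi₀ : i₀ ∈ s := Finset.mem_range.2 (Nat.lt_succ_self _)
  have hlead : R.coeff i₀ ≠ 0 := by
    show R.leadingCoeff ≠ 0
    exact leadingCoeff_ne_zero.2 (mul_ne_zero hP hQ)
  have hdvd : scale (c i₀) D ∣ scale (c i₀) N := by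
    have hsum : scale (c i₀) D ∣
        C (R.coeff i₀) * scale (c i₀) N * ∏ j ∈ s.erase i₀, scale (c j) M := by
      have h2 : scale (c i₀) D ∣ ∑ i ∈ s.erase i₀,
          C (R.coeff i) * scale (c i) N * ∏ j ∈ s.erase i, scale (c j) M := by
        refine Finset.dvd_sum fun i hi => Dvd.dvd.mul_left ?_ _
        refine dvd_trans ?_ (Finset.dvd_prod_of_mem _
          (Finset.mem_erase.2 ⟨(Finset.ne_of_mem_erase hi).symm, hi₀⟩))
        exact map_dvd _ (dvd_mul_left D (X ^ a))
      have h3 : C (R.coeff i₀) * scale (c i₀) N * ∏ j ∈ s.erase i₀, scale (c j) M +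
          ∑ i ∈ s.erase i₀, C (R.coeff i) * scale (c i) N * ∏ j ∈ s.erase i, scale (c j) M = 0 :=
        (Finset.add_sum_erase s _ hi₀).trans hH
      rw [eq_neg_of_add_eq_zero_left h3]
      exact h2.neg_right
    have hcop : IsCoprime (scale (c i₀) D) (∏ j ∈ s.erase i₀, scale (c j) M) := by
      refine IsCoprime.prod_right fun j hj => ?_
      simp only [M, map_mul, map_pow]
      refine (coprime_scale_X (inv_ne_zero (pow_ne_zero _ hq0)) hD).pow_right.mul_right (coprime_scale (fun n hn e => ?_) hD hD)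
      refine (Finset.ne_of_mem_erase hj) ?_
      simp only [c, inv_pow, inv_inj, ← pow_mul] at e
      exact Nat.eq_of_mul_eq_mul_right (Nat.pos_of_ne_zero hn)
        (pow_right_injective₀ (by linarith) hq1.ne' e).symm
    exact (isUnit_C.2 hlead.isUnit).dvd_mul_left.1 (hcop.dvd_of_dvd_mul_right hsum)
  have hdvdQ : D.map (Int.castRingHom ℚ) ∣ N.map (Int.castRingHom ℚ) := by
    have h1 := map_dvd (compRingHom (C ((q : ℚ) ^ i₀) * X)) hdvd
    have e : ∀ f : ℤ[X], compRingHom (C ((q : ℚ) ^ i₀) * X) (scale (c i₀) f) =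
        f.map (Int.castRingHom ℚ) := fun f => by
      unfold scale
      show ((f.map (Int.castRingHom ℚ)).comp (C (c i₀) * X)).comp (C ((q : ℚ) ^ i₀) * X) = _
      rw [comp_assoc, mul_comp, C_comp, X_comp, ← mul_assoc, ← C_mul,
        show c i₀ * (q : ℚ) ^ i₀ = 1 from inv_mul_cancel₀ (pow_ne_zero _ hq0), C_1, one_mul, comp_X]
    rwa [e, e] at h1
  obtain ⟨P', hP'⟩ := (map_dvd_map _ Int.cast_injective (monic_of_mem hD)).1 hdvdQ
  refine ⟨P', a, ?_⟩
  have hX : ι X = RatFunc.X := by rw [ι_apply, Polynomial.map_X, RatFunc.algebraMap_X]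
  have hD0 : ι D ≠ 0 := fun h => (monic_of_mem hD).ne_zero (ι_injective (h.trans (map_zero ι).symm))
  rw [hP', map_mul, map_mul, map_pow, hX] at hrep
  rw [← ι_apply]
  apply mul_right_cancel₀ hD0
  linear_combination hrep

end Groth.Agent.GalCohAux.ExpSum
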