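import Mathlib.FieldTheory.Galois.Profinite
import Mathlib.FieldTheory.KrullTopology
import Mathlib.Topology.LocallyConstant.Basic
import Mathlib.FieldTheory.IsSepClosed

/-!
A locally constant crossed map on an absolute Galois group lives at a finite Galois level.
-/

universe u v w

open scoped Topology

namespace Groth.Agent.GalCohAux.FiniteLevel

variable {K : Type u} {L : Type v} [Field K] [Field L] [Algebra K L] [IsGalois K L]

/-- `a` is constant on left cosets of an open subgroup near which it is trivial. -/
theorem exists_level {M : Type w} (a : Gal(L/K) → M) (hlc : IsLocallyConstant a)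
    (hcoset : ∀ σ τ, a τ = a 1 → a (σ * τ) = a σ) (val : M → L) :
    ∃ E : IntermediateField K L, FiniteDimensional K E ∧ IsGalois K E ∧
      (∀ σ τ : Gal(L/K), τ ∈ E.fixingSubgroup → a (σ * τ) = a σ) ∧
      ∀ σ, val (a σ) ∈ E := by
  have hopen : a ⁻¹' {a 1} ∈ 𝓝 (1 : Gal(L/K)) :=
    (hlc.isOpen_fiber (a 1)).mem_nhds rfl
  obtain ⟨E₀, hfin₀, -, hE₀⟩ := (krullTopology_mem_nhds_one_iff_of_normal K L _).1 hopen
  have hfinR : (val '' Set.range a).Finite := hlc.range_finite.image _
  let E₁ : IntermediateField K L := E₀ ⊔ IntermediateField.adjoin K (val '' Set.range a)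
  haveI : Finite ↥(val '' Set.range a) := hfinR.to_subtype
  haveI : FiniteDimensional K (IntermediateField.adjoin K (val '' Set.range a)) :=
    IntermediateField.finiteDimensional_adjoin fun x _ => Algebra.IsIntegral.isIntegral x
  haveI : FiniteDimensional K E₁ := IntermediateField.finiteDimensional_sup E₀ _
  let E : IntermediateField K L := IntermediateField.normalClosure K E₁ L
  have hle : E₁ ≤ E := E₁.le_normalClosure
  haveI : Normal K E := normalClosure.normal K E₁ L
  refine ⟨E, normalClosure.is_finiteDimensional K E₁ L, ⟨⟩, fun σ τ hτ => hcoset σ τ ?_,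
    fun σ => hle ((le_sup_right : _ ≤ E₁) (IntermediateField.subset_adjoin K _ ⟨a σ, ⟨σ, rfl⟩, rfl⟩))⟩
  exact hE₀ (IntermediateField.fixingSubgroup_antitone (le_sup_left.trans hle) hτ)

/-- The map at the finite level. -/
theorem exists_descend {M : Type w} (a : Gal(L/K) → M) (E : IntermediateField K L) [Normal K E]
    (h : ∀ σ τ : Gal(L/K), τ ∈ E.fixingSubgroup → a (σ * τ) = a σ) :
    ∃ b : Gal(E/K) → M, ∀ σ, a σ = b (AlgEquiv.restrictNormalHom E σ) := by
  choose l hl using AlgEquiv.restrictNormalHom_surjective (F := K) (K₁ := E) (E := L)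
  refine ⟨fun x => a (l x), fun σ => ?_⟩
  have hmem : σ⁻¹ * l (AlgEquiv.restrictNormalHom E σ) ∈ E.fixingSubgroup := by
    rw [← IntermediateField.restrictNormalHom_ker E, MonoidHom.mem_ker, map_mul, map_inv, hl,
      inv_mul_cancel]
  have := h σ _ hmem
  rw [mul_inv_cancel_left] at this
  exact this.symm

end Groth.Agent.GalCohAux.FiniteLevel
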