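import Mathlib.FieldTheory.Finite.GaloisField
import Mathlib.LinearAlgebra.Matrix.GeneralLinearGroup.Card
import Mathlib.LinearAlgebra.Determinant
import Mathlib.RingTheory.Norm.Defs
import Mathlib.LinearAlgebra.Matrix.ToLin
import Mathlib.GroupTheory.Perm.Cycle.Type

/-!
Subgroups of `GL₂(𝔽_p)` containing a non-split Cartan subgroup and an element of order `p`.
-/

open Matrix

namespace Groth.Agent.GalCohAux.GL2Gen

variable {p : ℕ} [hp : Fact p.Prime]

/-- The upper and lower elementary matrices. -/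
noncomputable def up (x : ZMod p) : GL (Fin 2) (ZMod p) :=
  GeneralLinearGroup.mkOfDetNeZero !![1, x; 0, 1] (by simp [det_fin_two_of])

/-- The lower elementary matrices. -/
noncomputable def low (x : ZMod p) : GL (Fin 2) (ZMod p) :=
  GeneralLinearGroup.mkOfDetNeZero !![1, 0; x, 1] (by simp [det_fin_two_of])

@[simp] theorem coe_up (x : ZMod p) : (up x : Matrix (Fin 2) (Fin 2) (ZMod p)) = !![1, x; 0, 1] := rfl
@[simp] theorem coe_low (x : ZMod p) : (low x : Matrix (Fin 2) (Fin 2) (ZMod p)) = !![1, 0; x, 1] := rfl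

theorem up_pow (x : ZMod p) (n : ℕ) : up x ^ n = up ((n : ZMod p) * x) := by
  induction n with
  | zero =>
    apply Units.ext
    simp [Matrix.one_fin_two]
  | succ n ih =>
    rw [pow_succ, ih]
    apply Units.ext
    simp [add_mul, add_comm]

theorem low_pow (x : ZMod p) (n : ℕ) : low x ^ n = low ((n : ZMod p) * x) := by
  induction n with
  | zero =>
    apply Units.ext
    simp [Matrix.one_fin_two]
  | succ n ih =>
    rw [pow_succ, ih]
    apply Units.ext
    simp [add_mul, add_comm]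

variable {H : Subgroup (GL (Fin 2) (ZMod p))}

theorem up_mem {x : ZMod p} (hx : x ≠ 0) (h : up x ∈ H) (y : ZMod p) : up y ∈ H := by
  have h' := H.pow_mem h (y / x).val
  rwa [up_pow, ZMod.natCast_zmod_val, div_mul_cancel₀ _ hx] at h'

theorem low_mem {x : ZMod p} (hx : x ≠ 0) (h : low x ∈ H) (y : ZMod p) : low y ∈ H := by
  have h' := H.pow_mem h (y / x).val
  rwa [low_pow, ZMod.natCast_zmod_val, div_mul_cancel₀ _ hx] at h'

theorem mem_of_det_one (hu : ∀ x, up x ∈ H) (hl : ∀ x, low x ∈ H) (g : GL (Fin 2) (ZMod p))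
    (hg : (g : Matrix (Fin 2) (Fin 2) (ZMod p)).det = 1) : g ∈ H := by
  have gen : ∀ g : GL (Fin 2) (ZMod p), (g : Matrix (Fin 2) (Fin 2) (ZMod p)).det = 1 →
      (g : Matrix (Fin 2) (Fin 2) (ZMod p)) 1 0 ≠ 0 → g ∈ H := by
    intro g hg hc
    obtain ⟨M, hM⟩ : ∃ M, M = (g : Matrix (Fin 2) (Fin 2) (ZMod p)) := ⟨_, rfl⟩
    rw [← hM] at hg hc
    rw [det_fin_two] at hg
    have e : g = up ((M 0 0 - 1) / M 1 0) * low (M 1 0) * up ((M 1 1 - 1) / M 1 0) := by
      apply Units.ext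
      simp only [Units.val_mul, coe_up, coe_low, ← hM, Matrix.mul_fin_two]
      ext i j
      fin_cases i <;> fin_cases j <;> simp <;> field_simp <;> first | ring1 | linear_combination hg | linear_combination -hg
    rw [e]
    exact H.mul_mem (H.mul_mem (hu _) (hl _)) (hu _)
  by_cases hc : (g : Matrix (Fin 2) (Fin 2) (ZMod p)) 1 0 = 0
  · have h00 : (g : Matrix (Fin 2) (Fin 2) (ZMod p)) 0 0 ≠ 0 := fun h => by
      rw [det_fin_two, h, hc] at hg
      simp at hg
    have h' : low 1 * g ∈ H := gen _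
      (by simp only [Units.val_mul, det_mul, hg, coe_low, det_fin_two_of]; ring)
      (by simp [Matrix.mul_apply, Fin.sum_univ_two, hc, h00])
    exact (H.mul_mem_cancel_left (hl 1)).1 h'
  · exact gen g hg hc

variable {C : Subgroup (GL (Fin 2) (ZMod p))}

theorem eq_top_of_cartan (hCH : C ≤ H) (E : Subring (Matrix (Fin 2) (Fin 2) (ZMod p))) (hE : IsField E)
    (hcard : Nat.card E = p ^ 2)
    (hC : (E : Set (Matrix (Fin 2) (Fin 2) (ZMod p))) =
      insert 0 ((fun g : GL (Fin 2) (ZMod p) => (g : Matrix (Fin 2) (Fin 2) (ZMod p))) ''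
        (C : Set (GL (Fin 2) (ZMod p)))))
    (hdvd : p ∣ Nat.card H) : H = ⊤ := by
  let E' : Subalgebra (ZMod p) (Matrix (Fin 2) (Fin 2) (ZMod p)) :=
    { E.toSubsemiring with
      algebraMap_mem' := fun a => by
        rw [← ZMod.natCast_zmod_val a, map_natCast]
        exact natCast_mem E _ }
  have hE' : IsField E' := hE
  let _ : Field E' := hE'.toField
  have hmem : ∀ e : E', e ≠ 0 → ∃ c ∈ C, (c : Matrix (Fin 2) (Fin 2) (ZMod p)) = e.1 := fun e he => by
    have h : e.1 ∈ (E : Set (Matrix (Fin 2) (Fin 2) (ZMod p))) := e.2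
    rw [hC] at h
    rcases h with h | ⟨c, hc, hc'⟩
    · exact absurd (Subtype.ext h) he
    · exact ⟨c, hc, hc'⟩
  have bij : ∀ v : Fin 2 → ZMod p, v ≠ 0 → ∃ φ : E' ≃ₗ[ZMod p] (Fin 2 → ZMod p),
      ∀ e, φ e = e.1 *ᵥ v := by
    intro v hv
    let f : E' →ₗ[ZMod p] (Fin 2 → ZMod p) :=
      { toFun := fun e => e.1 *ᵥ v
        map_add' := fun e e' => Matrix.add_mulVec _ _ _
        map_smul' := fun a e => Matrix.smul_mulVec _ _ _ }
    have hinj : Function.Injective f := by
      rw [← LinearMap.ker_eq_bot, LinearMap.ker_eq_bot']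
      intro e he
      by_contra he0
      obtain ⟨c, -, hc⟩ := hmem e he0
      apply hv
      have : (c : Matrix (Fin 2) (Fin 2) (ZMod p)) *ᵥ v = 0 := by rw [hc]; exact he
      simpa [Matrix.mulVec_mulVec] using
        congrArg (fun w => ((c⁻¹ : GL (Fin 2) (ZMod p)) : Matrix (Fin 2) (Fin 2) (ZMod p)) *ᵥ w) this
    refine ⟨LinearEquiv.ofBijective f (hinj.bijective_of_nat_card_le ?_), fun e => rfl⟩
    rw [show Nat.card E' = p ^ 2 from hcard]
    simp
  -- an element of order `p`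
  obtain ⟨⟨u, hu⟩, hord⟩ := exists_prime_orderOf_dvd_card' (G := H) p hdvd
  rw [Subgroup.orderOf_mk] at hord
  have hu1 : u ≠ 1 := fun h => hp.out.one_lt.ne' (by rw [← hord, h, orderOf_one])
  have hup : u ^ p = 1 := by
    have := pow_orderOf_eq_one u
    rwa [hord] at this
  have : CharP (Matrix (Fin 2) (Fin 2) (ZMod p)) p :=
    charP_of_injective_algebraMap (FaithfulSMul.algebraMap_injective (ZMod p) _) p
  have hnil : ((u : Matrix (Fin 2) (Fin 2) (ZMod p)) - 1) ^ p = 0 := by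
    rw [sub_pow_char_of_commute p (Commute.one_right _), one_pow, ← Units.val_pow_eq_pow_val, hup,
      Units.val_one, sub_self]
  have hdet : ((u : Matrix (Fin 2) (Fin 2) (ZMod p)) - 1).det = 0 := by
    have h := congrArg Matrix.det hnil
    rw [det_pow, Matrix.det_zero] at h
    exact pow_eq_zero_iff hp.out.ne_zero |>.1 h
  obtain ⟨v, hv, hv0⟩ := Matrix.exists_mulVec_eq_zero_iff.2 hdet
  have huv : (u : Matrix (Fin 2) (Fin 2) (ZMod p)) *ᵥ v = v := by
    rwa [Matrix.sub_mulVec, Matrix.one_mulVec, sub_eq_zero] at hv0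
  obtain ⟨φ, hφ⟩ := bij v hv
  -- conjugates of `u`
  have conj : ∀ w : Fin 2 → ZMod p, w ≠ 0 → ∃ m ∈ H, m ≠ 1 ∧ m ^ p = 1 ∧
      (m : Matrix (Fin 2) (Fin 2) (ZMod p)) *ᵥ w = w := by
    intro w hw
    have he : φ.symm w ≠ 0 := fun h => hw (by rw [← φ.apply_symm_apply w, h, map_zero])
    obtain ⟨c, hc, hce⟩ := hmem _ he
    have hcv : (c : Matrix (Fin 2) (Fin 2) (ZMod p)) *ᵥ v = w := by
      rw [hce, ← hφ, φ.apply_symm_apply]
    refine ⟨c * u * c⁻¹, H.mul_mem (H.mul_mem (hCH hc) hu) (H.inv_mem (hCH hc)),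
      fun h => hu1 (by simpa [mul_inv_eq_one] using h), by rw [conj_pow, hup, mul_one, mul_inv_cancel],
      ?_⟩
    rw [← hcv, Matrix.mulVec_mulVec, ← Units.val_mul, mul_assoc, inv_mul_cancel, mul_one, Units.val_mul,
      ← Matrix.mulVec_mulVec, huv]
  have hupall : ∀ x, up x ∈ H := by
    obtain ⟨m, hm, hm1, hmp, hmw⟩ := conj ![1, 0] (by simp)
    obtain ⟨M, hM⟩ : ∃ M, M = (m : Matrix (Fin 2) (Fin 2) (ZMod p)) := ⟨_, rfl⟩
    rw [← hM] at hmw
    have h00 : M 0 0 = 1 := by simpa [Matrix.mulVec, dotProduct, Fin.sum_univ_two] using congrFun hmw 0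
    have h10 : M 1 0 = 0 := by simpa [Matrix.mulVec, dotProduct, Fin.sum_univ_two] using congrFun hmw 1
    have h11 : M 1 1 = 1 := by
      have := congrArg (fun g : GL (Fin 2) (ZMod p) => (g : Matrix (Fin 2) (Fin 2) (ZMod p)).det) hmp
      simpa [det_pow, det_fin_two, ← hM, h00, h10, ZMod.pow_card] using this
    have e : m = up (M 0 1) := Units.ext (by
      rw [coe_up, ← hM]
      ext i j
      fin_cases i <;> fin_cases j <;> simp [h00, h10, h11])
    refine up_mem (x := M 0 1) (fun h => hm1 ?_) (e ▸ hm)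
    rw [e, h]
    exact Units.ext (by simp [Matrix.one_fin_two])
  have hlowall : ∀ x, low x ∈ H := by
    obtain ⟨m, hm, hm1, hmp, hmw⟩ := conj ![0, 1] (by simp)
    obtain ⟨M, hM⟩ : ∃ M, M = (m : Matrix (Fin 2) (Fin 2) (ZMod p)) := ⟨_, rfl⟩
    rw [← hM] at hmw
    have h01 : M 0 1 = 0 := by simpa [Matrix.mulVec, dotProduct, Fin.sum_univ_two] using congrFun hmw 0
    have h11 : M 1 1 = 1 := by simpa [Matrix.mulVec, dotProduct, Fin.sum_univ_two] using congrFun hmw 1
    have h00 : M 0 0 = 1 := by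
      have := congrArg (fun g : GL (Fin 2) (ZMod p) => (g : Matrix (Fin 2) (Fin 2) (ZMod p)).det) hmp
      simpa [det_pow, det_fin_two, ← hM, h01, h11, ZMod.pow_card] using this
    have e : m = low (M 1 0) := Units.ext (by
      rw [coe_low, ← hM]
      ext i j
      fin_cases i <;> fin_cases j <;> simp [h00, h01, h11])
    refine low_mem (x := M 1 0) (fun h => hm1 ?_) (e ▸ hm)
    rw [e, h]
    exact Units.ext (by simp [Matrix.one_fin_two])
  -- determinants
  have hnorm : ∀ e : E', Algebra.norm (ZMod p) e = e.1.det := by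
    intro e
    rw [Algebra.norm_apply, ← LinearMap.det_conj _ φ, ← LinearMap.det_toLin' e.1]
    congr 1
    refine LinearMap.ext fun w => ?_
    obtain ⟨e', rfl⟩ := φ.surjective w
    rw [LinearMap.comp_apply, LinearMap.comp_apply, LinearEquiv.coe_coe, LinearEquiv.coe_coe,
      φ.symm_apply_apply, Matrix.toLin'_apply, hφ, hφ, Matrix.mulVec_mulVec]
    rfl
  rw [eq_top_iff]
  intro g _
  obtain ⟨e, he⟩ := FiniteField.norm_surjective (ZMod p) E' (g : Matrix (Fin 2) (Fin 2) (ZMod p)).det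
  have hg0 : (g : Matrix (Fin 2) (Fin 2) (ZMod p)).det ≠ 0 :=
    ((Matrix.isUnit_iff_isUnit_det _).1 g.isUnit).ne_zero
  have he0 : e ≠ 0 := fun h => hg0 (by rw [← he, h, Algebra.norm_zero])
  obtain ⟨c, hc, hce⟩ := hmem e he0
  have hmem' : c⁻¹ * g ∈ H := by
    refine mem_of_det_one hupall hlowall _ ?_
    rw [Units.val_mul, det_mul, Matrix.coe_units_inv, det_nonsing_inv, Ring.inverse_eq_inv', hce,
      ← hnorm, he, inv_mul_cancel₀ hg0]
  exact (H.mul_mem_cancel_left (H.inv_mem (hCH hc))).1 hmem'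

theorem exists_cartan : ∃ (C : Subgroup (GL (Fin 2) (ZMod p)))
    (E : Subring (Matrix (Fin 2) (Fin 2) (ZMod p))),
      C ≤ ⊤ ∧ IsField E ∧ Nat.card E = p ^ 2 ∧
        (E : Set (Matrix (Fin 2) (Fin 2) (ZMod p))) =
          insert 0 ((fun g : GL (Fin 2) (ZMod p) => (g : Matrix (Fin 2) (Fin 2) (ZMod p))) ''
            (C : Set (GL (Fin 2) (ZMod p)))) := by
  let b := Module.finBasisOfFinrankEq (ZMod p) (GaloisField p 2) (GaloisField.finrank p two_ne_zero)
  let f : GaloisField p 2 →+* Matrix (Fin 2) (Fin 2) (ZMod p) := (Algebra.leftMulMatrix b).toRingHom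
  have hf : Function.Injective f := Algebra.leftMulMatrix_injective b
  let eF : GaloisField p 2 ≃+* f.range :=
    RingEquiv.ofBijective f.rangeRestrict
      ⟨fun x y h => hf (congrArg Subtype.val h), f.rangeRestrict_surjective⟩
  refine ⟨(Units.map f.toMonoidHom).range, f.range, le_top,
    MulEquiv.isField (Field.toIsField (GaloisField p 2)) eF.symm.toMulEquiv, ?_, ?_⟩
  · rw [← Nat.card_congr eF.toEquiv, GaloisField.card p 2 two_ne_zero]
  · ext m
    simp only [SetLike.mem_coe, RingHom.mem_range, Set.mem_insert_iff, Set.mem_image,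
      MonoidHom.mem_range]
    constructor
    · rintro ⟨x, rfl⟩
      rcases eq_or_ne x 0 with rfl | hx
      · exact Or.inl (map_zero f)
      · exact Or.inr ⟨_, ⟨Units.mk0 x hx, rfl⟩, rfl⟩
    · rintro (rfl | ⟨_, ⟨x, rfl⟩, rfl⟩)
      · exact ⟨0, map_zero f⟩
      · exact ⟨x, rfl⟩

theorem prime_dvd_card_top : p ∣ Nat.card (⊤ : Subgroup (GL (Fin 2) (ZMod p))) := by
  rw [Subgroup.card_top, Matrix.card_GL_field, Fin.prod_univ_two]
  refine Dvd.dvd.mul_left ?_ _
  simp only [ZMod.card, Fin.val_one, pow_one]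
  exact Nat.dvd_sub (dvd_pow_self p two_ne_zero) dvd_rfl

end Groth.Agent.GalCohAux.GL2Gen
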