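import Mathlib.NumberTheory.Padics.RingHoms
import Mathlib.LinearAlgebra.Matrix.GeneralLinearGroup.Defs
import Mathlib.Topology.Instances.Matrix
import Mathlib.Tactic.NoncommRing
import Mathlib.Analysis.SpecificLimits.Basic

/-!
Closed subgroups of `GL₂(ℤ_p)` surjecting modulo every power of `p`.
-/

universe u

open Matrix Filter Topology

namespace Groth.Agent.GalCohAux.GL2Padic

variable {p : ℕ} [hp : Fact p.Prime]

local notation "M₂" => Matrix (Fin 2) (Fin 2) ℤ_[p]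

/-- Reduction of matrices. -/
noncomputable def red : M₂ →+* Matrix (Fin 2) (Fin 2) (ZMod p) :=
  (PadicInt.toZMod (p := p)).mapMatrix

theorem red_smul_p (c : ℤ_[p]) (hc : (p : ℤ_[p]) ∣ c) (X : M₂) : red (c • X) = 0 := by
  obtain ⟨d, rfl⟩ := hc
  ext i j
  simp [red]

theorem exists_eq_smul_of_red_eq {X Y : M₂} (h : red X = red Y) : ∃ Z : M₂, X = Y + (p : ℤ_[p]) • Z := by
  have : ∀ i j, ∃ z, X i j = Y i j + (p : ℤ_[p]) * z := fun i j => by
    have h' : PadicInt.toZMod (X i j - Y i j) = 0 := by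
      rw [map_sub, sub_eq_zero]; exact congrFun (congrFun h i) j
    have h'' : X i j - Y i j ∈ RingHom.ker (PadicInt.toZMod (p := p)) := h'
    rw [PadicInt.ker_toZMod, PadicInt.maximalIdeal_eq_span_p, Ideal.mem_span_singleton] at h''
    obtain ⟨z, hz⟩ := h''
    exact ⟨z, by rw [← hz]; ring⟩
  choose z hz using this
  exact ⟨Matrix.of z, by ext i j; simp [hz i j]⟩

theorem red_surjective : Function.Surjective (red (p := p)) := fun Y =>
  ⟨Y.map fun y => ((y.val : ℕ) : ℤ_[p]), by ext i j; simp [red]⟩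

variable (H : Subgroup (GL (Fin 2) ℤ_[p]))

/-- The tangent space of `H` at level `n`. -/
def tangent (n : ℕ) (hn : 1 ≤ n) : AddSubmonoid (Matrix (Fin 2) (Fin 2) (ZMod p)) where
  carrier := {Y | ∃ h ∈ H, ∃ X : M₂, (h : M₂) = 1 + (p : ℤ_[p]) ^ n • X ∧ red X = Y}
  zero_mem' := ⟨1, H.one_mem, 0, by simp, map_zero _⟩
  add_mem' := by
    rintro _ _ ⟨h, hh, X, hX, rfl⟩ ⟨h', hh', X', hX', rfl⟩
    refine ⟨h * h', H.mul_mem hh hh', X + X' + (p : ℤ_[p]) ^ n • (X * X'), ?_, ?_⟩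
    · rw [Units.val_mul, hX, hX']
      simp only [mul_add, add_mul, one_mul, mul_one, smul_mul_assoc, mul_smul_comm, smul_add, smul_smul]
      abel
    · rw [map_add, map_add, red_smul_p _ (dvd_pow_self _ (by omega)), add_zero]

variable {H}

theorem tangent_conj {n : ℕ} {hn : 1 ≤ n} {Y : Matrix (Fin 2) (Fin 2) (ZMod p)} (hY : Y ∈ tangent H n hn)
    (hsurj : ∀ c : GL (Fin 2) (ZMod p), ∃ h ∈ H, GeneralLinearGroup.map (PadicInt.toZMod (p := p)) h = c)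
    (c : GL (Fin 2) (ZMod p)) :
    (c : Matrix (Fin 2) (Fin 2) (ZMod p)) * Y * ((c⁻¹ : GL (Fin 2) (ZMod p)) :
      Matrix (Fin 2) (Fin 2) (ZMod p)) ∈ tangent H n hn := by
  obtain ⟨h, hh, X, hX, rfl⟩ := hY
  obtain ⟨g, hg, rfl⟩ := hsurj c
  refine ⟨g * h * g⁻¹, H.mul_mem (H.mul_mem hg hh) (H.inv_mem hg),
    (g : M₂) * X * ((g⁻¹ : GL (Fin 2) ℤ_[p]) : M₂), ?_, ?_⟩
  · rw [Units.val_mul, Units.val_mul, hX, mul_add, mul_one, add_mul, Units.mul_inv,
      mul_smul_comm, smul_mul_assoc]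
  · rw [map_mul, map_mul, ← map_inv]
    rfl

/-- A conjugation-stable additive monoid containing `diag(x, 0)` is everything. -/
theorem eq_top_of_conj (S : AddSubmonoid (Matrix (Fin 2) (Fin 2) (ZMod p)))
    (hS : ∀ Y ∈ S, ∀ c : GL (Fin 2) (ZMod p), (c : Matrix (Fin 2) (Fin 2) (ZMod p)) * Y *
      ((c⁻¹ : GL (Fin 2) (ZMod p)) : Matrix (Fin 2) (Fin 2) (ZMod p)) ∈ S)
    {x : ZMod p} (hx : x ≠ 0) (h : !![x, 0; 0, 0] ∈ S) (Y : Matrix (Fin 2) (Fin 2) (ZMod p)) :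
    Y ∈ S := by
  have smem : ∀ (r : ZMod p) Z, Z ∈ S → r • Z ∈ S := fun r Z hZ => by
    rw [← ZMod.natCast_zmod_val r, Nat.cast_smul_eq_nsmul]
    exact S.nsmul_mem hZ _
  have e11 : !![(1 : ZMod p), 0; 0, 0] ∈ S := by
    have := smem x⁻¹ _ h
    simpa [Matrix.smul_of, hx] using this
  have conj : ∀ (c c' : Matrix (Fin 2) (Fin 2) (ZMod p)), c * c' = 1 → ∀ Z ∈ S, c * Z * c' ∈ S :=
    fun c c' h1 Z hZ => hS Z hZ ⟨c, c', h1, mul_eq_one_comm.1 h1⟩
  have e22 : !![(0 : ZMod p), 0; 0, 1] ∈ S := by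
    have eq : !![(0 : ZMod p), 1; 1, 0] * !![1, 0; 0, 0] * !![0, 1; 1, 0] = !![0, 0; 0, 1] := by
      ext i j; fin_cases i <;> fin_cases j <;> simp [Matrix.mul_apply]
    rw [← eq]
    exact conj _ _ (by simp [Matrix.one_fin_two]) _ e11
  have e12 : !![(0 : ZMod p), 1; 0, 0] ∈ S := by
    have h1 := conj !![1, -1; 0, 1] !![1, 1; 0, 1]
      (by simp [Matrix.mul_fin_two, Matrix.one_fin_two]) _ e11
    have h2 := S.add_mem h1 (smem (-1) _ e11)
    simpa [Matrix.mul_fin_two] using h2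
  have e21 : !![(0 : ZMod p), 0; 1, 0] ∈ S := by
    have eq : !![(0 : ZMod p), 1; 1, 0] * !![0, 1; 0, 0] * !![0, 1; 1, 0] = !![0, 0; 1, 0] := by
      ext i j; fin_cases i <;> fin_cases j <;> simp [Matrix.mul_apply]
    rw [← eq]
    exact conj _ _ (by simp [Matrix.one_fin_two]) _ e12
  have e : Y = Y 0 0 • !![(1 : ZMod p), 0; 0, 0] + Y 0 1 • !![(0 : ZMod p), 1; 0, 0] +
      Y 1 0 • !![(0 : ZMod p), 0; 1, 0] + Y 1 1 • !![(0 : ZMod p), 0; 0, 1] := by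
    ext i j; fin_cases i <;> fin_cases j <;> simp
  rw [e]
  exact S.add_mem (S.add_mem (S.add_mem (smem _ _ e11) (smem _ _ e12)) (smem _ _ e21)) (smem _ _ e22)

theorem exists_congr
    (hsurj : ∀ c : GL (Fin 2) (ZMod p), ∃ h ∈ H, GeneralLinearGroup.map (PadicInt.toZMod (p := p)) h = c)
    (hcong : ∀ n : ℕ, 1 ≤ n → ∃ h ∈ H, ∃ a b c d : ℤ_[p], ¬ ((p : ℤ_[p]) ∣ a) ∧
      (h : M₂) = !![1 + (p : ℤ_[p]) ^ n * a, (p : ℤ_[p]) ^ (n + 1) * b;
        (p : ℤ_[p]) ^ (n + 1) * c, 1 + (p : ℤ_[p]) ^ (n + 1) * d])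
    (g : GL (Fin 2) ℤ_[p]) : ∀ n, 1 ≤ n → ∃ h ∈ H, ∃ X : M₂, (g : M₂) = (h : M₂) + (p : ℤ_[p]) ^ n • X := by
  intro n hn
  induction n, hn using Nat.le_induction with
  | base =>
    obtain ⟨h, hh, e⟩ := hsurj (GeneralLinearGroup.map (PadicInt.toZMod (p := p)) g)
    obtain ⟨Z, hZ⟩ := exists_eq_smul_of_red_eq (X := (g : M₂)) (Y := (h : M₂))
      (congrArg Units.val e).symm
    exact ⟨h, hh, Z, by rw [pow_one]; exact hZ⟩
  | succ n hn ih =>
    obtain ⟨h₀, hh₀, X, hX⟩ := ih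
    obtain ⟨h₁, hh₁, a, b, c, d, ha, e1⟩ := hcong n hn
    have hdiag : !![PadicInt.toZMod a, 0; 0, 0] ∈ tangent H n hn := by
      refine ⟨h₁, hh₁, !![a, (p : ℤ_[p]) * b; (p : ℤ_[p]) * c, (p : ℤ_[p]) * d], ?_, ?_⟩
      · rw [e1]
        ext i j
        fin_cases i <;> fin_cases j <;> simp [pow_succ, mul_assoc]
      · ext i j
        fin_cases i <;> fin_cases j <;> simp [red]
    have ha' : PadicInt.toZMod a ≠ 0 := fun h => ha (by
      have h'' : a ∈ RingHom.ker (PadicInt.toZMod (p := p)) := h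
      rwa [PadicInt.ker_toZMod, PadicInt.maximalIdeal_eq_span_p, Ideal.mem_span_singleton] at h'')
    obtain ⟨h', hh', X', hX', e'⟩ := eq_top_of_conj (tangent H n hn)
      (fun Y hY c => tangent_conj hY hsurj c) ha' hdiag
      (red (((h₀⁻¹ : GL (Fin 2) ℤ_[p]) : M₂) * X))
    obtain ⟨Z, hZ⟩ := exists_eq_smul_of_red_eq e'.symm
    refine ⟨h₀ * h', H.mul_mem hh₀ hh', (h₀ : M₂) * Z, ?_⟩
    have hX0 : X = (h₀ : M₂) * X' + (p : ℤ_[p]) • ((h₀ : M₂) * Z) := by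
      rw [← mul_smul_comm, ← mul_add, ← hZ, ← mul_assoc, Units.mul_inv, one_mul]
    rw [hX, Units.val_mul, hX', hX0, pow_succ, mul_add, mul_one, mul_smul_comm, smul_add, smul_smul]
    abel

theorem surjective_iff {𝔊 : Type u} [Group 𝔊] [TopologicalSpace 𝔊] [CompactSpace 𝔊]
    (ϕ : 𝔊 →* GL (Fin 2) ℤ_[p]) (hϕ : Continuous fun g => ((ϕ g : GL (Fin 2) ℤ_[p]) : M₂)) :
    Function.Surjective ϕ ↔
      (Function.Surjective ((GeneralLinearGroup.map (n := Fin 2) (PadicInt.toZMod (p := p))).comp ϕ) ∧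
        ∀ n : ℕ, 1 ≤ n → ∃ (g : 𝔊) (a b c d : ℤ_[p]), ¬ ((p : ℤ_[p]) ∣ a) ∧
          ((ϕ g : GL (Fin 2) ℤ_[p]) : M₂) =
            !![1 + (p : ℤ_[p]) ^ n * a, (p : ℤ_[p]) ^ (n + 1) * b;
               (p : ℤ_[p]) ^ (n + 1) * c, 1 + (p : ℤ_[p]) ^ (n + 1) * d]) := by
  constructor
  · intro hs
    refine ⟨fun c => ?_, fun n hn => ?_⟩
    · obtain ⟨Y, hY⟩ := red_surjective (c : Matrix (Fin 2) (Fin 2) (ZMod p))
      have hu : IsUnit Y := by
        rw [Matrix.isUnit_iff_isUnit_det]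
        by_contra h
        have h0 : PadicInt.toZMod Y.det = 0 := by
          have h' : Y.det ∈ IsLocalRing.maximalIdeal ℤ_[p] := h
          rwa [← PadicInt.ker_toZMod] at h'
        rw [RingHom.map_det] at h0
        exact ((Matrix.isUnit_iff_isUnit_det _).1 c.isUnit).ne_zero
          (by rw [← hY]; exact h0)
      obtain ⟨g, hg⟩ := hs hu.unit
      refine ⟨g, Units.ext ?_⟩
      show red ((ϕ g : GL (Fin 2) ℤ_[p]) : M₂) = _
      rw [hg]; exact hY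
    · have hu : IsUnit !![1 + (p : ℤ_[p]) ^ n * 1, (p : ℤ_[p]) ^ (n + 1) * 0;
          (p : ℤ_[p]) ^ (n + 1) * 0, 1 + (p : ℤ_[p]) ^ (n + 1) * 0] := by
        rw [Matrix.isUnit_iff_isUnit_det, Matrix.det_fin_two_of]
        simp only [mul_zero, add_zero, mul_one, sub_zero]
        by_contra h
        have h' : (1 : ℤ_[p]) + (p : ℤ_[p]) ^ n ∈ IsLocalRing.maximalIdeal ℤ_[p] := h
        rw [PadicInt.maximalIdeal_eq_span_p, Ideal.mem_span_singleton] at h'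
        have := dvd_sub h' (dvd_pow_self (p : ℤ_[p]) (show n ≠ 0 by omega))
        rw [add_sub_cancel_right] at this
        exact PadicInt.p_nonunit (isUnit_of_dvd_one this)
      obtain ⟨g, hg⟩ := hs hu.unit
      exact ⟨g, 1, 0, 0, 0, fun h => PadicInt.p_nonunit (isUnit_of_dvd_one h), by rw [hg]; rfl⟩
  · rintro ⟨h1, h2⟩ g
    have hcl : IsClosed (Set.range fun x => ((ϕ x : GL (Fin 2) ℤ_[p]) : M₂)) :=
      (isCompact_range hϕ).isClosed
    have hlev : ∀ n, ∃ h ∈ ϕ.range, ∃ X : M₂,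
        (g : M₂) = (h : M₂) + (p : ℤ_[p]) ^ (n + 1) • X := fun n =>
      exists_congr (H := ϕ.range)
        (fun c => by obtain ⟨x, hx⟩ := h1 c; exact ⟨ϕ x, ⟨x, rfl⟩, hx⟩)
        (fun m hm => by
          obtain ⟨x, a, b, c, d, ha, e⟩ := h2 m hm
          exact ⟨ϕ x, ⟨x, rfl⟩, a, b, c, d, ha, e⟩) g (n + 1) (by omega)
    choose h hh X hX using hlev
    have hlim : Tendsto (fun n => (h n : M₂)) atTop (𝓝 (g : M₂)) := by
      refine tendsto_pi_nhds.2 fun i => tendsto_pi_nhds.2 fun j => ?_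
      have e : (fun n => (h n : M₂) i j) =
          fun n => (g : M₂) i j - (p : ℤ_[p]) ^ (n + 1) * X n i j := funext fun n => by
        rw [hX n, Matrix.add_apply, Matrix.smul_apply, smul_eq_mul, add_sub_cancel_right]
      rw [e]
      have h0 : Tendsto (fun n => (p : ℤ_[p]) ^ (n + 1) * X n i j) atTop (𝓝 0) := by
        refine squeeze_zero_norm (a := fun n => ((p : ℝ)⁻¹) ^ (n + 1)) (fun n => ?_) ?_
        · rw [norm_mul, norm_pow, PadicInt.norm_p]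
          exact mul_le_of_le_one_right (by positivity) (PadicInt.norm_le_one _)
        · exact (tendsto_pow_atTop_nhds_zero_of_lt_one (by positivity)
            (inv_lt_one_of_one_lt₀ (by exact_mod_cast hp.out.one_lt))).comp (tendsto_add_atTop_nat 1)
      simpa using h0.const_sub ((g : M₂) i j)
    obtain ⟨x, hx⟩ := hcl.mem_of_tendsto hlim (Eventually.of_forall fun n => by
      obtain ⟨x, hx⟩ := hh n
      exact ⟨x, by rw [← hx]⟩)
    exact ⟨x, Units.ext hx⟩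

end Groth.Agent.GalCohAux.GL2Padic
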