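import Groth.Prelude.Def_StGerb
import Groth.Agent.FibC.Based
import Groth.Agent.StkLib.Stack

/-!
Basic closure properties of `Gerb.IsGerbeOver`: composition, base change, descent, equivalences.
-/

set_option backward.isDefEq.respectTransparency false
set_option backward.isDefEq.respectTransparency.types false

universe v₅ u₅ v₄ u₄ v₃ u₃ v₂ u₂ v u

open CategoryTheory CategoryTheory.Functor Groth.Agent.FibC

namespace Groth.Agent.GalCohAux.GerbBasic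

variable {C : Type u} [Category.{v} C] {J : GrothendieckTopology C}
variable {𝒳 : BasedCategory.{v₂, u₂} C} {𝒴 : BasedCategory.{v₃, u₃} C} {𝒵 : BasedCategory.{v₄, u₄} C}

/-- `LocSurjObj`, at an object given over a named base object. -/
theorem locObj {F : 𝒳 ⥤ᵇ 𝒴} (h : Gerb.LocSurjObj J F) (y : 𝒴.obj) {U : C} (hy : 𝒴.p.obj y = U) :
    ∃ R ∈ J U, ∀ ⦃V : C⦄ (f : V ⟶ U), R f →
      ∃ (x : 𝒳.obj) (g : F.toFunctor.obj x ⟶ y), 𝒴.p.IsHomLift f g := by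
  subst hy
  exact h y

/-- `LocSurjHom`, for a morphism over the identity of a named base object. -/
theorem locHom {F : 𝒳 ⥤ᵇ 𝒴} (h : Gerb.LocSurjHom J F) (x x' : 𝒳.obj)
    (b : F.toFunctor.obj x ⟶ F.toFunctor.obj x') {U : C} [hb : 𝒴.p.IsHomLift (𝟙 U) b] :
    ∃ R ∈ J U, ∀ ⦃V : C⦄ (f : V ⟶ U), R f → ∃ (x₀ : 𝒳.obj) (φ : x₀ ⟶ x) (ψ : x₀ ⟶ x'),
      𝒳.p.IsHomLift f φ ∧ 𝒳.p.IsHomLift f ψ ∧ F.toFunctor.map φ ≫ b = F.toFunctor.map ψ := by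
  have hx : 𝒳.p.obj x = U := (F.w_obj x).symm.trans (IsHomLift.domain_eq 𝒴.p (𝟙 U) b)
  subst hx
  exact h x x' b hb

theorem base_dom {F : 𝒳 ⥤ᵇ 𝒴} {x : 𝒳.obj} {y : 𝒴.obj} {R S : C} (f : R ⟶ S)
    (b : F.toFunctor.obj x ⟶ y) [𝒴.p.IsHomLift f b] : 𝒳.p.obj x = R :=
  (F.w_obj x).symm.trans (IsHomLift.domain_eq 𝒴.p f b)

theorem base_cod {F : 𝒳 ⥤ᵇ 𝒴} {x : 𝒳.obj} {y : 𝒴.obj} {R S : C} (f : R ⟶ S)
    (b : y ⟶ F.toFunctor.obj x) [𝒴.p.IsHomLift f b] : 𝒳.p.obj x = S :=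
  (F.w_obj x).symm.trans (IsHomLift.codomain_eq 𝒴.p f b)

/-- A factorization through a lift, in a category fibred in groupoids. -/
theorem exists_fac {p : 𝒳.obj ⥤ C} (h : FibCat.IsFibGrpd p) {R S : C} {a b c : 𝒳.obj} (f : R ⟶ S)
    (φ : b ⟶ c) [p.IsHomLift f φ] (g : a ⟶ c) [p.IsHomLift f g] :
    ∃ θ : a ⟶ b, p.IsHomLift (𝟙 R) θ ∧ IsIso θ ∧ θ ≫ φ = g := by
  have := sc_of_fibGrpd h f φ
  obtain ⟨θ, ⟨hθ, hθ'⟩, -⟩ := IsStronglyCartesian.universal_property p f φ (𝟙 R) f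
    (Category.id_comp f).symm g
  exact ⟨θ, hθ, isIso_of_fibGrpd h (𝟙 R) θ, hθ'⟩

theorem comp_obj {F : 𝒳 ⥤ᵇ 𝒴} {G : 𝒴 ⥤ᵇ 𝒵} (hF : Gerb.LocSurjObj J F)
    (hG : Gerb.LocSurjObj J G) : Gerb.LocSurjObj J (BasedFunctor.comp F G) := by
  intro z
  obtain ⟨R, hR, hR'⟩ := hG z
  choose y g hg using hR'
  have key : ∀ ⦃V : C⦄ (f : V ⟶ 𝒵.p.obj z) (hf : R f), ∃ S ∈ J V, ∀ ⦃W : C⦄ (k : W ⟶ V), S k →
      ∃ (x : 𝒳.obj) (g' : F.toFunctor.obj x ⟶ y f hf), 𝒴.p.IsHomLift k g' := fun V f hf =>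
    locObj hF (y f hf) (have := hg f hf; base_dom (F := G) f (g f hf))
  choose S hS hS' using key
  refine ⟨Sieve.bind R.arrows (fun V f hf => S f hf), J.bind_covering hR (fun V f hf => hS f hf), ?_⟩
  rintro W h ⟨V, k, f, hf, hk, rfl⟩
  obtain ⟨x, g', hg'⟩ := hS' f hf k hk
  have := hg f hf
  exact ⟨x, G.toFunctor.map g' ≫ g f hf,
    (inferInstance : 𝒵.p.IsHomLift (k ≫ f) (G.toFunctor.map g' ≫ g f hf))⟩

theorem comp_hom (h𝒳 : FibCat.IsFibGrpd 𝒳.p) (h𝒴 : FibCat.IsFibGrpd 𝒴.p) {F : 𝒳 ⥤ᵇ 𝒴}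
    {G : 𝒴 ⥤ᵇ 𝒵} (hF : Gerb.LocSurjHom J F)
    (hG : Gerb.LocSurjHom J G) : Gerb.LocSurjHom J (BasedFunctor.comp F G) := by
  intro x x' (b : G.toFunctor.obj (F.toFunctor.obj x) ⟶ G.toFunctor.obj (F.toFunctor.obj x')) hb
  obtain ⟨R, hR, hR'⟩ := locHom hG _ _ b (U := 𝒳.p.obj x)
  have hx' : 𝒳.p.obj x' = 𝒳.p.obj x :=
    (F.w_obj x').symm.trans (base_cod (F := G) (𝟙 (𝒳.p.obj x)) b)
  have key : ∀ ⦃V : C⦄ (f : V ⟶ 𝒳.p.obj x), R f → ∃ S ∈ J V, ∀ ⦃W : C⦄ (k : W ⟶ V), S k →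
      ∃ (x₀ : 𝒳.obj) (φ : x₀ ⟶ x) (ψ : x₀ ⟶ x'), 𝒳.p.IsHomLift (k ≫ f) φ ∧
        𝒳.p.IsHomLift (k ≫ f) ψ ∧
          G.toFunctor.map (F.toFunctor.map φ) ≫ b = G.toFunctor.map (F.toFunctor.map ψ) := by
    intro V f hf
    obtain ⟨y₀, φ, ψ, hφ, hψ, e⟩ := hR' f hf
    obtain ⟨x₁, χ, hχ⟩ := exists_lift' h𝒳 (x := x) rfl f
    obtain ⟨x₁', χ', hχ'⟩ := exists_lift' h𝒳 (x := x') hx' f
    obtain ⟨θ, hθ, hiθ, hθe⟩ := exists_fac h𝒴 f (F.toFunctor.map χ) φ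
    obtain ⟨θ', hθ', hiθ', hθe'⟩ := exists_fac h𝒴 f (F.toFunctor.map χ') ψ
    obtain ⟨S, hS, hS'⟩ := locHom hF x₁ x₁' (inv θ ≫ θ') (U := V)
    refine ⟨S, hS, fun W k hk => ?_⟩
    obtain ⟨x₂, φ₂, ψ₂, hφ₂, hψ₂, e₂⟩ := hS' k hk
    refine ⟨x₂, φ₂ ≫ χ, ψ₂ ≫ χ', inferInstance, inferInstance, ?_⟩
    have eχ : F.toFunctor.map χ = inv θ ≫ φ := by rw [← hθe]; simp
    rw [F.toFunctor.map_comp, F.toFunctor.map_comp, eχ, ← e₂, Functor.map_comp, Functor.map_comp,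
      Category.assoc, Category.assoc, e]
    simp only [← Functor.map_comp, Category.assoc]
    rw [hθe']
  choose S hS hS' using key
  refine ⟨Sieve.bind R.arrows (fun V f hf => S f hf), J.bind_covering hR (fun V f hf => hS f hf), ?_⟩
  rintro W h ⟨V, k, f, hf, hk, rfl⟩
  exact hS' f hf k hk

theorem comp (h𝒳 : FibCat.IsFibGrpd 𝒳.p) (h𝒴 : FibCat.IsFibGrpd 𝒴.p)
    {F : 𝒳 ⥤ᵇ 𝒴} {G : 𝒴 ⥤ᵇ 𝒵} (hF : Gerb.IsGerbeOver J F) (hG : Gerb.IsGerbeOver J G) :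
    Gerb.IsGerbeOver J (BasedFunctor.comp F G) :=
  ⟨comp_obj hF.1 hG.1, comp_hom h𝒳 h𝒴 hF.2 hG.2⟩

section square

variable {𝒳' : BasedCategory.{v₅, u₅} C} {𝒴' : BasedCategory.{v₄, u₄} C}
variable {F : 𝒳 ⥤ᵇ 𝒴} {G : 𝒴' ⥤ᵇ 𝒴} {F' : 𝒳' ⥤ᵇ 𝒴'} {G' : 𝒳' ⥤ᵇ 𝒳}
  {e : BasedFunctor.comp F' G ≅ BasedFunctor.comp G' F}

theorem appe_hom (e : BasedFunctor.comp F' G ≅ BasedFunctor.comp G' F) (x : 𝒳'.obj) {U : C}
    (hx : 𝒳'.p.obj x = U) :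
    ∃ i : G.toFunctor.obj (F'.toFunctor.obj x) ≅ F.toFunctor.obj (G'.toFunctor.obj x),
      𝒴.p.IsHomLift (𝟙 U) i.hom ∧ i = appIso e x :=
  ⟨appIso e x, appIso_lift e hx, rfl⟩

theorem baseChange_obj (h𝒳' : FibCat.IsFibGrpd 𝒴'.p) (h𝒴 : FibCat.IsFibGrpd 𝒴.p)
    (hc : FibCat.IsTwoCartOver F' G' e) (hF : Gerb.LocSurjObj J F) : Gerb.LocSurjObj J F' := by
  intro y'
  obtain ⟨R, hR, hR'⟩ := locObj hF (G.toFunctor.obj y') (G.w_obj y')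
  refine ⟨R, hR, fun V f hf => ?_⟩
  obtain ⟨x, g, hg⟩ := hR' f hf
  obtain ⟨y₁, ν, hν⟩ := exists_lift' h𝒳' (x := y') rfl f
  obtain ⟨θ, hθ, hiθ, -⟩ := exists_fac h𝒴 f (G.toFunctor.map ν) g
  have hy₁ : 𝒴'.p.obj y₁ = V := IsHomLift.domain_eq 𝒴'.p f ν
  subst hy₁
  have hθi : 𝒴.p.IsHomLift (𝟙 (𝒴'.p.obj y₁)) (asIso θ).symm.hom :=
    (inferInstance : 𝒴.p.IsHomLift (𝟙 (𝒴'.p.obj y₁)) (inv θ))
  obtain ⟨ξ, ε, hε⟩ := essSurjOver_of_isEquivOver hc (fpMk G F y₁ x (asIso θ).symm hθi)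
  have h1 : 𝒴'.p.IsHomLift (𝟙 (𝒴'.p.obj y₁)) ε.hom.hom.fst := (fp_isHomLift_iff _ ε.hom).1 hε
  exact ⟨ξ, ε.hom.hom.fst ≫ ν, (inferInstance :
    𝒴'.p.IsHomLift f (ε.hom.hom.fst ≫ ν))⟩

theorem baseChange_hom (h𝒴' : FibCat.IsFibGrpd 𝒴'.p) (h𝒴 : FibCat.IsFibGrpd 𝒴.p)
    (hc : FibCat.IsTwoCartOver F' G' e) (hF : Gerb.LocSurjHom J F) : Gerb.LocSurjHom J F' := by
  intro x x' b hb
  have := full_of_isEquivOver hc
  have hx' : 𝒳'.p.obj x' = 𝒳'.p.obj x := base_cod (F := F') (𝟙 (𝒳'.p.obj x)) b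
  obtain ⟨ex, hex, hex'⟩ := appe_hom e x rfl
  obtain ⟨ex', hex₁, hex₁'⟩ := appe_hom e x' hx'
  obtain ⟨R, hR, hR'⟩ := locHom hF (G'.toFunctor.obj x) (G'.toFunctor.obj x')
    (ex.inv ≫ G.toFunctor.map b ≫ ex'.hom) (U := 𝒳'.p.obj x)
  refine ⟨R, hR, fun V f hf => ?_⟩
  obtain ⟨x₀, φ, ψ, hφ, hψ, e₀⟩ := hR' f hf
  obtain ⟨y₁, ν, hν⟩ := exists_lift' h𝒴' (x := F'.toFunctor.obj x) (F'.w_obj x) f
  obtain ⟨θ, hθ, hiθ, hθe⟩ := exists_fac h𝒴 f (G.toFunctor.map ν) (F.toFunctor.map φ ≫ ex.inv)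
  have hy₁ : 𝒴'.p.obj y₁ = V := IsHomLift.domain_eq 𝒴'.p f ν
  subst hy₁
  have hθi : 𝒴.p.IsHomLift (𝟙 (𝒴'.p.obj y₁)) (asIso θ).symm.hom :=
    (inferInstance : 𝒴.p.IsHomLift (𝟙 (𝒴'.p.obj y₁)) (inv θ))
  let P := fpMk G F y₁ x₀ (asIso θ).symm hθi
  have eν : G.toFunctor.map ν = inv θ ≫ F.toFunctor.map φ ≫ ex.inv := by rw [← hθe]; simp
  let a : P ⟶ (FibCat.fpLift F' G' e).toFunctor.obj x := fpHom ν φ (by
    show G.toFunctor.map ν ≫ (appIso e x).hom = inv θ ≫ F.toFunctor.map φ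
    rw [← hex', eν]; simp)
  let a' : P ⟶ (FibCat.fpLift F' G' e).toFunctor.obj x' := fpHom (ν ≫ b) ψ (by
    show G.toFunctor.map (ν ≫ b) ≫ (appIso e x').hom = inv θ ≫ F.toFunctor.map ψ
    rw [← hex₁', ← e₀, G.toFunctor.map_comp, eν]; simp)
  obtain ⟨ξ, ε, hε⟩ := essSurjOver_of_isEquivOver hc P
  have ha : (FibCat.fp G F).p.IsHomLift f a := (fp_isHomLift_iff f a).2 hν
  have ha' : (FibCat.fp G F).p.IsHomLift f a' :=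
    (fp_isHomLift_iff f a').2 (inferInstance : 𝒴'.p.IsHomLift f (ν ≫ b))
  have hε' : (FibCat.fp G F).p.IsHomLift (𝟙 (𝒴'.p.obj y₁)) ε.hom := hε
  obtain ⟨φ', hφ'⟩ := (FibCat.fpLift F' G' e).toFunctor.map_surjective (ε.hom ≫ a)
  obtain ⟨ψ', hψ'⟩ := (FibCat.fpLift F' G' e).toFunctor.map_surjective (ε.hom ≫ a')
  refine ⟨ξ, φ', ψ', ?_, ?_, ?_⟩
  · rw [← BasedFunctor.isHomLift_iff (FibCat.fpLift F' G' e), hφ']; infer_instance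
  · rw [← BasedFunctor.isHomLift_iff (FibCat.fpLift F' G' e), hψ']; infer_instance
  · have h1 : F'.toFunctor.map φ' = ε.hom.hom.fst ≫ ν := congrArg (fun t => t.hom.fst) hφ'
    have h2 : F'.toFunctor.map ψ' = ε.hom.hom.fst ≫ ν ≫ b := congrArg (fun t => t.hom.fst) hψ'
    rw [h1, h2, Category.assoc]

theorem baseChange (h𝒴' : FibCat.IsFibGrpd 𝒴'.p) (h𝒴 : FibCat.IsFibGrpd 𝒴.p)
    (hc : FibCat.IsTwoCartOver F' G' e) (hF : Gerb.IsGerbeOver J F) : Gerb.IsGerbeOver J F' :=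
  ⟨baseChange_obj h𝒴' h𝒴 hc hF.1, baseChange_hom h𝒴' h𝒴 hc hF.2⟩

theorem descend_obj (hG : Gerb.LocSurjObj J G) (hF' : Gerb.LocSurjObj J F')
    (e : BasedFunctor.comp F' G ≅ BasedFunctor.comp G' F) : Gerb.LocSurjObj J F := by
  intro y
  obtain ⟨R, hR, hR'⟩ := hG y
  choose y' g hg using hR'
  have key : ∀ ⦃V : C⦄ (f : V ⟶ 𝒴.p.obj y) (hf : R f), ∃ S ∈ J V, ∀ ⦃W : C⦄ (k : W ⟶ V), S k →
      ∃ (x : 𝒳'.obj) (g' : F'.toFunctor.obj x ⟶ y' f hf), 𝒴'.p.IsHomLift k g' := fun V f hf =>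
    locObj hF' (y' f hf) (have := hg f hf; base_dom (F := G) f (g f hf))
  choose S hS hS' using key
  refine ⟨Sieve.bind R.arrows (fun V f hf => S f hf), J.bind_covering hR (fun V f hf => hS f hf), ?_⟩
  rintro W h ⟨V, k, f, hf, hk, rfl⟩
  obtain ⟨x, g', hg'⟩ := hS' f hf k hk
  obtain ⟨i, hi, -⟩ := appe_hom e x (base_dom (F := F') k g')
  have := hg f hf
  exact ⟨G'.toFunctor.obj x, i.inv ≫ G.toFunctor.map g' ≫ g f hf, inferInstance⟩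

theorem descend_hom (h𝒳 : FibCat.IsFibGrpd 𝒳.p) (h𝒴 : FibCat.IsFibGrpd 𝒴.p)
    (hc : FibCat.IsTwoCartOver F' G' e) (hG : Gerb.LocSurjObj J G) (hF' : Gerb.LocSurjHom J F') :
    Gerb.LocSurjHom J F := by
  intro x x' b hb
  have hx' : 𝒳.p.obj x' = 𝒳.p.obj x := base_cod (F := F) (𝟙 (𝒳.p.obj x)) b
  obtain ⟨R, hR, hR'⟩ := locObj hG (F.toFunctor.obj x) (F.w_obj x)
  have key : ∀ ⦃V : C⦄ (f : V ⟶ 𝒳.p.obj x), R f → ∃ S ∈ J V, ∀ ⦃W : C⦄ (k : W ⟶ V), S k →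
      ∃ (x₀ : 𝒳.obj) (φ : x₀ ⟶ x) (ψ : x₀ ⟶ x'), 𝒳.p.IsHomLift (k ≫ f) φ ∧
        𝒳.p.IsHomLift (k ≫ f) ψ ∧ F.toFunctor.map φ ≫ b = F.toFunctor.map ψ := by
    intro V f hf
    obtain ⟨y', g, hg⟩ := hR' f hf
    obtain ⟨x₁, χ, hχ⟩ := exists_lift' h𝒳 (x := x) rfl f
    obtain ⟨x₁', χ', hχ'⟩ := exists_lift' h𝒳 (x := x') hx' f
    obtain ⟨θ, hθ, hiθ, hθe⟩ := exists_fac h𝒴 f (F.toFunctor.map χ) g
    obtain ⟨θ', hθ', hiθ', hθe'⟩ := exists_fac h𝒴 f (F.toFunctor.map χ') (g ≫ b)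
    have hy' : 𝒴'.p.obj y' = V := base_dom (F := G) f g
    subst hy'
    have h1 : 𝒴.p.IsHomLift (𝟙 (𝒴'.p.obj y')) (asIso θ).hom := hθ
    have h2 : 𝒴.p.IsHomLift (𝟙 (𝒴'.p.obj y')) (asIso θ').hom := hθ'
    obtain ⟨ξ, ε, hε⟩ := essSurjOver_of_isEquivOver hc (fpMk G F y' x₁ (asIso θ) h1)
    obtain ⟨ξ', ε', hε'⟩ := essSurjOver_of_isEquivOver hc (fpMk G F y' x₁' (asIso θ') h2)
    have l1 : (FibCat.fp G F).p.IsHomLift (𝟙 (𝒴'.p.obj y')) ε.hom := hε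
    have l2 : (FibCat.fp G F).p.IsHomLift (𝟙 (𝒴'.p.obj y')) ε'.hom := hε'
    have l3 : 𝒴'.p.IsHomLift (𝟙 (𝒴'.p.obj y')) ε.hom.hom.fst := fp_fst_isHomLift _ ε.hom
    have l4 : 𝒴'.p.IsHomLift (𝟙 (𝒴'.p.obj y')) ε'.inv.hom.fst := fp_fst_isHomLift _ ε'.inv
    have l5 : 𝒳.p.IsHomLift (𝟙 (𝒴'.p.obj y')) ε.hom.hom.snd := fp_snd_isHomLift _ ε.hom
    have l6 : 𝒳.p.IsHomLift (𝟙 (𝒴'.p.obj y')) ε'.hom.hom.snd := fp_snd_isHomLift _ ε'.hom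
    obtain ⟨S, hS, hS'⟩ := locHom hF' ξ ξ' (ε.hom.hom.fst ≫ ε'.inv.hom.fst) (U := 𝒴'.p.obj y')
    refine ⟨S, hS, fun W k hk => ?_⟩
    obtain ⟨x₀, φ₀, ψ₀, hφ₀, hψ₀, e₀⟩ := hS' k hk
    refine ⟨G'.toFunctor.obj x₀, G'.toFunctor.map φ₀ ≫ ε.hom.hom.snd ≫ χ,
      G'.toFunctor.map ψ₀ ≫ ε'.hom.hom.snd ≫ χ', inferInstance, inferInstance, ?_⟩
    have w : G.toFunctor.map ε.hom.hom.fst ≫ θ =
        (appIso e ξ).hom ≫ F.toFunctor.map ε.hom.hom.snd := ε.hom.hom.w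
    have w' : G.toFunctor.map ε'.hom.hom.fst ≫ θ' =
        (appIso e ξ').hom ≫ F.toFunctor.map ε'.hom.hom.snd := ε'.hom.hom.w
    have n1 : G.toFunctor.map (F'.toFunctor.map φ₀) ≫ (appIso e ξ).hom =
        (appIso e x₀).hom ≫ F.toFunctor.map (G'.toFunctor.map φ₀) :=
      e.hom.toNatTrans.naturality φ₀
    have n2 : G.toFunctor.map (F'.toFunctor.map ψ₀) ≫ (appIso e ξ').hom =
        (appIso e x₀).hom ≫ F.toFunctor.map (G'.toFunctor.map ψ₀) :=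
      e.hom.toNatTrans.naturality ψ₀
    have hc' : ε'.inv.hom.fst ≫ ε'.hom.hom.fst = 𝟙 y' :=
      congrArg (fun t => t.hom.fst) ε'.inv_hom_id
    rw [← cancel_epi (appIso e x₀).hom]
    calc (appIso e x₀).hom ≫ F.toFunctor.map (G'.toFunctor.map φ₀ ≫ ε.hom.hom.snd ≫ χ) ≫ b
        = G.toFunctor.map (F'.toFunctor.map φ₀) ≫ G.toFunctor.map ε.hom.hom.fst ≫
            θ ≫ F.toFunctor.map χ ≫ b := by
          simp only [Functor.map_comp, Category.assoc]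
          rw [← reassoc_of% n1, reassoc_of% w]
      _ = G.toFunctor.map (F'.toFunctor.map φ₀ ≫ ε.hom.hom.fst) ≫ g ≫ b := by
          rw [reassoc_of% hθe, Functor.map_comp, Category.assoc]
      _ = G.toFunctor.map (F'.toFunctor.map ψ₀ ≫ ε'.hom.hom.fst) ≫ g ≫ b := by
          rw [← e₀]
          simp only [Category.assoc]
          rw [hc', Category.comp_id]
      _ = (appIso e x₀).hom ≫ F.toFunctor.map (G'.toFunctor.map ψ₀ ≫ ε'.hom.hom.snd ≫ χ') := by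
          rw [← hθe']
          simp only [Functor.map_comp, Category.assoc]
          rw [← reassoc_of% n2, reassoc_of% w']
  choose S hS hS' using key
  refine ⟨Sieve.bind R.arrows (fun V f hf => S f hf), J.bind_covering hR (fun V f hf => hS f hf), ?_⟩
  rintro W h ⟨V, k, f, hf, hk, rfl⟩
  exact hS' f hf k hk

theorem descend (h𝒳 : FibCat.IsFibGrpd 𝒳.p) (h𝒴 : FibCat.IsFibGrpd 𝒴.p)
    (hc : FibCat.IsTwoCartOver F' G' e) (hG : Gerb.LocSurjObj J G)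
    (hF' : Gerb.IsGerbeOver J F') : Gerb.IsGerbeOver J F :=
  ⟨descend_obj hG hF'.1 e, descend_hom h𝒳 h𝒴 hc hG hF'.2⟩

end square

section equiv

variable {F : 𝒳 ⥤ᵇ 𝒴} (G : 𝒴 ⥤ᵇ 𝒵)

theorem comp_equiv_iff (hF : FibCat.IsEquivOver F) :
    Gerb.IsGerbeOver J (BasedFunctor.comp F G) ↔ Gerb.IsGerbeOver J G := by
  have := full_of_isEquivOver hF
  have := faithful_of_isEquivOver hF
  constructor
  · rintro ⟨ho, hh⟩
    refine ⟨fun z => ?_, fun y y' b hb => ?_⟩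
    · obtain ⟨R, hR, hR'⟩ := ho z
      refine ⟨R, hR, fun V f hf => ?_⟩
      obtain ⟨x, g, hg⟩ := hR' f hf
      exact ⟨F.toFunctor.obj x, g, hg⟩
    · obtain ⟨ξ, ε, hε⟩ := essSurjOver_of_isEquivOver hF y
      obtain ⟨ξ', ε', hε'⟩ := essSurjOver_of_isEquivOver hF y'
      have hy' : 𝒴.p.obj y' = 𝒴.p.obj y := base_cod (F := G) (𝟙 (𝒴.p.obj y)) b
      rw [hy'] at hε'
      obtain ⟨R, hR, hR'⟩ := locHom hh ξ ξ'
        (G.toFunctor.map ε.hom ≫ b ≫ G.toFunctor.map ε'.inv :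
          (BasedFunctor.comp F G).toFunctor.obj ξ ⟶ (BasedFunctor.comp F G).toFunctor.obj ξ')
        (U := 𝒴.p.obj y)
        (hb := (inferInstance : 𝒵.p.IsHomLift (𝟙 (𝒴.p.obj y))
          (G.toFunctor.map ε.hom ≫ b ≫ G.toFunctor.map ε'.inv)))
      refine ⟨R, hR, fun V f hf => ?_⟩
      obtain ⟨x₀, φ, ψ, hφ, hψ, e⟩ := hR' f hf
      refine ⟨F.toFunctor.obj x₀, F.toFunctor.map φ ≫ ε.hom, F.toFunctor.map ψ ≫ ε'.hom,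
        inferInstance, inferInstance, ?_⟩
      replace e : G.toFunctor.map (F.toFunctor.map φ) ≫ G.toFunctor.map ε.hom ≫ b ≫
          G.toFunctor.map ε'.inv = G.toFunctor.map (F.toFunctor.map ψ) := e
      rw [Functor.map_comp, Functor.map_comp, ← e]
      simp only [Category.assoc]
      rw [← G.toFunctor.map_comp, Iso.inv_hom_id, G.toFunctor.map_id, Category.comp_id]
  · rintro ⟨ho, hh⟩
    refine ⟨fun z => ?_, fun x x' b hb => ?_⟩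
    · obtain ⟨R, hR, hR'⟩ := ho z
      refine ⟨R, hR, fun V f hf => ?_⟩
      obtain ⟨y, g, hg⟩ := hR' f hf
      obtain ⟨ξ, ε, hε⟩ := essSurjOver_of_isEquivOver hF y
      rw [base_dom (F := G) f g] at hε
      exact ⟨ξ, G.toFunctor.map ε.hom ≫ g,
        (inferInstance : 𝒵.p.IsHomLift f (G.toFunctor.map ε.hom ≫ g))⟩
    · obtain ⟨R, hR, hR'⟩ := locHom hh (F.toFunctor.obj x) (F.toFunctor.obj x') b (U := 𝒳.p.obj x)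
      refine ⟨R, hR, fun V f hf => ?_⟩
      obtain ⟨y₀, φ, ψ, hφ, hψ, e⟩ := hR' f hf
      obtain ⟨ξ, ε, hε⟩ := essSurjOver_of_isEquivOver hF y₀
      rw [IsHomLift.domain_eq 𝒴.p f φ] at hε
      refine ⟨ξ, F.toFunctor.preimage (ε.hom ≫ φ), F.toFunctor.preimage (ε.hom ≫ ψ), ?_, ?_, ?_⟩
      · rw [← BasedFunctor.isHomLift_iff F, Functor.map_preimage]; infer_instance
      · rw [← BasedFunctor.isHomLift_iff F, Functor.map_preimage]; infer_instance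
      · show G.toFunctor.map (F.toFunctor.map _) ≫ b = G.toFunctor.map (F.toFunctor.map _)
        rw [Functor.map_preimage, Functor.map_preimage, Functor.map_comp, Functor.map_comp,
          Category.assoc, e]

theorem basedExt {𝒜 ℬ : BasedCategory C} {P Q : 𝒜 ⥤ᵇ ℬ} (h : P.toFunctor = Q.toFunctor) : P = Q := by
  obtain ⟨P, hP⟩ := P
  obtain ⟨Q, hQ⟩ := Q
  subst h
  rfl

theorem toSelf_comp (F : 𝒳 ⥤ᵇ 𝒴) : BasedFunctor.comp F (FibCat.toSelf 𝒴) = FibCat.toSelf 𝒳 :=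
  basedExt F.w

theorem isGerbe_iff (hF : FibCat.IsEquivOver F) : Gerb.IsGerbe J 𝒳 ↔ Gerb.IsGerbe J 𝒴 := by
  refine and_congr (StkLib.isStack_iff hF J) ?_
  rw [← toSelf_comp F]
  exact comp_equiv_iff _ hF

end equiv

end Groth.Agent.GalCohAux.GerbBasic
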