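import Groth.Prelude.Def_StGerb2
import Groth.Agent.GalCohAux.GerbBasic
import Groth.Agent.StkLib.Glue
import Groth.Agent.FibC.Fiber

/-!
Glueing morphisms in prestacks; functors between gerbes with a global object.
-/

set_option backward.isDefEq.respectTransparency false
set_option backward.isDefEq.respectTransparency.types false

universe v₄ u₄ v₃ u₃ v₂ u₂ v u

open CategoryTheory CategoryTheory.Functor Groth.Agent.FibC

namespace Groth.Agent.GalCohAux.GerbGlue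

variable {C : Type u} [Category.{v} C] {J : GrothendieckTopology C}
variable {𝒳 : BasedCategory.{v₂, u₂} C} {𝒴 : BasedCategory.{v₃, u₃} C}

theorem lift_of_lift {R S : C} {z x x' : 𝒳.obj} (f : R ⟶ S) (μ : z ⟶ x) [𝒳.p.IsHomLift f μ]
    (m : z ⟶ x') [𝒳.p.IsHomLift (𝒳.p.map μ) m] : 𝒳.p.IsHomLift f m := by
  subst_hom_lift 𝒳.p f μ
  assumption

/-- Morphisms over an identity given locally glue. -/
theorem exists_glue_hom (h : Stk.IsPrestack J 𝒳) {x x' : 𝒳.obj} (hx' : 𝒳.p.obj x' = 𝒳.p.obj x)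
    (R : Sieve (𝒳.p.obj x)) (hR : R ∈ J (𝒳.p.obj x))
    (m : ∀ ⦃z : 𝒳.obj⦄ (ν : z ⟶ x), R (𝒳.p.map ν) → (z ⟶ x'))
    (hm : ∀ ⦃z : 𝒳.obj⦄ (ν : z ⟶ x) (hν : R (𝒳.p.map ν)), 𝒳.p.IsHomLift (𝒳.p.map ν) (m ν hν))
    (hnat : ∀ ⦃z w : 𝒳.obj⦄ (k : w ⟶ z) (ν : z ⟶ x) (hν : R (𝒳.p.map ν))
      (hkν : R (𝒳.p.map (k ≫ ν))), m (k ≫ ν) hkν = k ≫ m ν hν) :
    ∃ φ : x ⟶ x', 𝒳.p.IsHomLift (𝟙 (𝒳.p.obj x)) φ ∧
      ∀ ⦃z : 𝒳.obj⦄ (ν : z ⟶ x) (hν : R (𝒳.p.map ν)), ν ≫ φ = m ν hν := by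
  obtain ⟨G, e, he⟩ := exists_overLift_fibGrpd h.1 x rfl
  obtain ⟨H, e', he'⟩ := exists_overLift_fibGrpd h.1 x' hx'
  have hH := preserves_overCat h.1 H
  have hμ : ∀ a : (Stk.sieveCat R).obj,
      𝒳.p.IsHomLift a.obj.hom (G.toFunctor.map (toTop a.obj) ≫ e.hom) := fun a => by
    have : 𝒳.p.IsHomLift a.obj.hom (G.toFunctor.map (toTop a.obj)) := map_lift G (toTop a.obj)
    exact IsHomLift.comp_lift_id_right' 𝒳.p _ _ (𝒳.p.obj x) _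
  have hμR : ∀ a : (Stk.sieveCat R).obj,
      R (𝒳.p.map (G.toFunctor.map (toTop a.obj) ≫ e.hom)) := fun a => by
    have := hμ a
    rw [IsHomLift.fac' 𝒳.p a.obj.hom (G.toFunctor.map (toTop a.obj) ≫ e.hom)]
    exact R.downward_closed (by simpa using a.property) _
  have hex : ∀ a : (Stk.sieveCat R).obj, ∃ c : G.toFunctor.obj a.obj ⟶ H.toFunctor.obj a.obj,
      𝒳.p.IsHomLift (𝟙 a.obj.left) c ∧
        c ≫ H.toFunctor.map (toTop a.obj) ≫ e'.hom =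
          m (G.toFunctor.map (toTop a.obj) ≫ e.hom) (hμR a) := fun a => by
    have := hμ a
    have h1 : 𝒳.p.IsHomLift a.obj.hom (m (G.toFunctor.map (toTop a.obj) ≫ e.hom) (hμR a)) := by
      have := hm _ (hμR a)
      exact lift_of_lift a.obj.hom (G.toFunctor.map (toTop a.obj) ≫ e.hom) _
    have : 𝒳.p.IsHomLift a.obj.hom (H.toFunctor.map (toTop a.obj)) := map_lift H (toTop a.obj)
    have h2 : 𝒳.p.IsHomLift a.obj.hom (H.toFunctor.map (toTop a.obj) ≫ e'.hom) :=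
      IsHomLift.comp_lift_id_right' 𝒳.p _ _ (𝒳.p.obj x) _
    obtain ⟨θ, hθ, -, hθ'⟩ := GerbBasic.exists_fac h.1 a.obj.hom
      (H.toFunctor.map (toTop a.obj) ≫ e'.hom) (m (G.toFunctor.map (toTop a.obj) ≫ e.hom) (hμR a))
    exact ⟨θ, hθ, hθ'⟩
  choose c hc hc' using hex
  let α : (Stk.resSieve R 𝒳).obj G ⟶ (Stk.resSieve R 𝒳).obj H :=
    { toNatTrans :=
        { app := c
          naturality := fun a b k => by
            show G.toFunctor.map k.hom ≫ c b = c a ≫ H.toFunctor.map k.hom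
            have := map_sc hH (toTop b.obj)
            have := map_lift G k.hom
            have := map_lift H k.hom
            have := hc a
            have := hc b
            have h1 : 𝒳.p.IsHomLift k.hom.left (G.toFunctor.map k.hom ≫ c b) := inferInstance
            have h2 : 𝒳.p.IsHomLift k.hom.left (c a ≫ H.toFunctor.map k.hom) := inferInstance
            apply IsStronglyCartesian.ext 𝒳.p (toTop b.obj).left (H.toFunctor.map (toTop b.obj))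
              k.hom.left
            rw [← cancel_mono e'.hom]
            have hk : k.hom ≫ toTop b.obj = toTop a.obj := Over.OverMorphism.ext (Over.w k.hom)
            have hG : G.toFunctor.map k.hom ≫ G.toFunctor.map (toTop b.obj) ≫ e.hom =
                G.toFunctor.map (toTop a.obj) ≫ e.hom := by
              rw [← Category.assoc, ← Functor.map_comp, hk]
            have hH' : H.toFunctor.map k.hom ≫ H.toFunctor.map (toTop b.obj) ≫ e'.hom =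
                H.toFunctor.map (toTop a.obj) ≫ e'.hom := by
              rw [← Category.assoc, ← Functor.map_comp, hk]
            simp only [Category.assoc]
            rw [hc', hH', hc', ← hnat (G.toFunctor.map k.hom) _ (hμR b)
              (by rw [hG]; exact hμR a)]
            congr 1 }
      isHomLift' := hc }
  obtain ⟨_, _⟩ := h.2 R hR
  obtain ⟨β, hβ⟩ := (Stk.resSieve R 𝒳).map_surjective α
  have hβlift : 𝒳.p.IsHomLift (𝟙 (𝒳.p.obj x)) (β.toNatTrans.app (overTop (𝒳.p.obj x))) :=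
    BasedNatTrans.isHomLift β rfl
  refine ⟨e.inv ≫ β.toNatTrans.app (overTop _) ≫ e'.hom, inferInstance, fun z ν hν => ?_⟩
  let a : (Stk.sieveCat R).obj := ⟨Over.mk (𝒳.p.map ν), hν⟩
  have hμa : 𝒳.p.IsHomLift (𝒳.p.map ν) (G.toFunctor.map (toTop a.obj) ≫ e.hom) := hμ a
  obtain ⟨θ, -, -, hθ⟩ := GerbBasic.exists_fac h.1 (𝒳.p.map ν)
    (G.toFunctor.map (toTop a.obj) ≫ e.hom) ν
  have hk : β.toNatTrans.app a.obj = c a :=
    congrArg (fun t => t.toNatTrans.app a) hβ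
  have key : (G.toFunctor.map (toTop a.obj) ≫ e.hom) ≫ e.inv ≫
      β.toNatTrans.app (overTop _) ≫ e'.hom = m (G.toFunctor.map (toTop a.obj) ≫ e.hom) (hμR a) := by
    rw [Category.assoc, Iso.hom_inv_id_assoc, reassoc_of% (β.toNatTrans.naturality (toTop a.obj)),
      hk, hc']
  calc ν ≫ e.inv ≫ β.toNatTrans.app (overTop _) ≫ e'.hom
      = θ ≫ m (G.toFunctor.map (toTop a.obj) ≫ e.hom) (hμR a) := by
        rw [← key]
        conv_lhs => rw [← hθ]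
        simp only [Category.assoc]
    _ = m ν hν := by
        rw [← hnat θ _ (hμR a) (by rw [hθ]; exact hν)]
        congr 1

/-- In a gerbe, two objects over one base object are locally connected. -/
theorem conn (h : Gerb.LocSurjHom J (FibCat.toSelf 𝒳)) (y y' : 𝒳.obj)
    (hy' : 𝒳.p.obj y' = 𝒳.p.obj y) :
    ∃ R ∈ J (𝒳.p.obj y), ∀ ⦃V : C⦄ (f : V ⟶ 𝒳.p.obj y), R f →
      ∃ (z : 𝒳.obj) (φ : z ⟶ y) (ψ : z ⟶ y'), 𝒳.p.IsHomLift f φ ∧ 𝒳.p.IsHomLift f ψ := by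
  obtain ⟨R, hR, hR'⟩ := h y y' (eqToHom hy'.symm)
    (IsHomLift.eqToHom_domain_lift_id (p := 𝟭 C) hy'.symm rfl)
  exact ⟨R, hR, fun V f hf =>
    let ⟨z, φ, ψ, h1, h2, _⟩ := hR' f hf
    ⟨z, φ, ψ, h1, h2⟩⟩

section lifts

variable (h𝒳 : FibCat.IsFibGrpd 𝒳.p) (x y : 𝒳.obj)

/-- The arrows into the base of `y` along which `y` maps to `x`. -/
def toSieve : Sieve (𝒳.p.obj y) where
  arrows V f := ∃ (z : 𝒳.obj) (ν : z ⟶ y), 𝒳.p.IsHomLift f ν ∧ Nonempty (z ⟶ x)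
  downward_closed := by
    rintro V W f ⟨z, ν, hν, ⟨c⟩⟩ g
    obtain ⟨w, k, hk⟩ := exists_lift' h𝒳 (x := z) (IsHomLift.domain_eq 𝒳.p f ν) g
    exact ⟨w, k ≫ ν, inferInstance, ⟨k ≫ c⟩⟩

variable {x y}

theorem nonempty_of_toSieve {z : 𝒳.obj} (ν : z ⟶ y) (h : toSieve h𝒳 x y (𝒳.p.map ν)) :
    Nonempty (z ⟶ x) := by
  obtain ⟨z', ν', hν', ⟨c⟩⟩ := h
  obtain ⟨θ, -, -, -⟩ := GerbBasic.exists_fac h𝒳 (𝒳.p.map ν) ν' ν
  exact ⟨θ ≫ c⟩

theorem toSieve_mem (h : Gerb.LocSurjHom J (FibCat.toSelf 𝒳))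
    (hT : Limits.IsTerminal (𝒳.p.obj x)) (y : 𝒳.obj) : toSieve h𝒳 x y ∈ J (𝒳.p.obj y) := by
  obtain ⟨x₁, c, hc⟩ := exists_lift' h𝒳 (x := x) rfl (hT.from (𝒳.p.obj y))
  obtain ⟨R, hR, hR'⟩ := conn h y x₁ (IsHomLift.domain_eq 𝒳.p (hT.from (𝒳.p.obj y)) c)
  refine J.superset_covering (fun V f hf => ?_) hR
  obtain ⟨z, φ, ψ, hφ, -⟩ := hR' f hf
  exact ⟨z, φ, hφ, ⟨ψ ≫ c⟩⟩

/-- The automorphism given by an isomorphism over an identity. -/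
noncomputable def autOf {z : 𝒳.obj} (θ : z ⟶ z) [IsIso θ] (hθ : 𝒳.p.IsHomLift (𝟙 (𝒳.p.obj z)) θ) :
    Gerb.AutO z :=
  fiberIso _ _ (asIso θ) hθ

@[simp] theorem autOf_hom {z : 𝒳.obj} (θ : z ⟶ z) [IsIso θ]
    (hθ : 𝒳.p.IsHomLift (𝟙 (𝒳.p.obj z)) θ) : (autOf θ hθ).hom.1 = θ := rfl

end lifts

/-- An endofunctor of a gerbe which is inner on the automorphisms of a global object is, on every
fibre, isomorphic to the identity. -/
theorem exists_fib_iso_id (h𝒳 : Gerb.IsGerbe J 𝒳) (φ : 𝒳 ⥤ᵇ 𝒳) (x : 𝒳.obj)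
    (hT : Limits.IsTerminal (𝒳.p.obj x)) (g : φ.obj x ⟶ x)
    (hg : 𝒳.p.IsHomLift (𝟙 (𝒳.p.obj x)) g)
    (hconj : ∀ (x' : 𝒳.obj) (c : x' ⟶ x) (g' : φ.obj x' ⟶ x'),
      𝒳.p.IsHomLift (𝟙 (𝒳.p.obj x')) g' → φ.map c ≫ g = g' ≫ c →
        ∀ α : Gerb.AutO x', φ.map α.hom.1 ≫ g' = g' ≫ α.hom.1) :
    ∃ ρ : ∀ y : 𝒳.obj, φ.obj y ⟶ y,
      (∀ y, IsIso (ρ y) ∧ 𝒳.p.IsHomLift (𝟙 (𝒳.p.obj y)) (ρ y)) ∧
      (∀ (y y' : 𝒳.obj) (f : y ⟶ y'), 𝒳.p.IsHomLift (𝟙 (𝒳.p.obj y)) f →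
        φ.map f ≫ ρ y' = ρ y ≫ f) := by
  have hG := h𝒳.1.1
  have hex : ∀ z : 𝒳.obj, Nonempty (z ⟶ x) → ∃ r : φ.obj z ⟶ z,
      𝒳.p.IsHomLift (𝟙 (𝒳.p.obj z)) r ∧ IsIso r ∧ ∀ c : z ⟶ x, φ.map c ≫ g = r ≫ c := by
    rintro z ⟨c⟩
    have hl : 𝒳.p.IsHomLift (𝒳.p.map c) (φ.toFunctor.map c ≫ g) :=
      IsHomLift.comp_lift_id_right' 𝒳.p _ _ (𝒳.p.obj x) _
    obtain ⟨r, hr, hri, hrc⟩ := GerbBasic.exists_fac hG (𝒳.p.map c) c (φ.toFunctor.map c ≫ g)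
    refine ⟨r, hr, hri, fun c' => ?_⟩
    have hc' : 𝒳.p.IsHomLift (𝒳.p.map c) c' := by
      rw [hT.hom_ext (𝒳.p.map c) (𝒳.p.map c')]; infer_instance
    obtain ⟨θ, hθ, hθi, hθc⟩ := GerbBasic.exists_fac hG (𝒳.p.map c) c c'
    have h1 := hconj z c r hr hrc.symm (autOf θ hθ)
    rw [autOf_hom] at h1
    rw [← hθc, Functor.map_comp, Category.assoc, ← hrc, reassoc_of% h1]
  choose r hr hri hrc using hex
  have nat : ∀ {z w : 𝒳.obj} (k : w ⟶ z) (hz : Nonempty (z ⟶ x)) (hw : Nonempty (w ⟶ x)),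
      φ.map k ≫ r z hz = r w hw ≫ k := by
    intro z w k hz hw
    obtain ⟨c⟩ := hz
    have := hr z ⟨c⟩
    have := hr w hw
    have h1 : 𝒳.p.IsHomLift (𝒳.p.map k) (φ.toFunctor.map k ≫ r z ⟨c⟩) :=
      IsHomLift.comp_lift_id_right' 𝒳.p _ _ (𝒳.p.obj z) _
    have h2 : 𝒳.p.IsHomLift (𝒳.p.map k) (r w hw ≫ k) :=
      IsHomLift.comp_lift_id_left' 𝒳.p (𝒳.p.obj w) _ _ _
    have := hG.isStronglyCartesian c
    apply IsStronglyCartesian.ext 𝒳.p (𝒳.p.map c) c (𝒳.p.map k)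
    rw [Category.assoc, ← hrc z ⟨c⟩ c, ← Category.assoc, ← Functor.map_comp, hrc w hw,
      Category.assoc]
  have hS := StkLib.isPrestack_of_isStack h𝒳.1
  have ne : ∀ {y z : 𝒳.obj} (ν : z ⟶ y), toSieve hG x y (𝒳.p.map ν) → Nonempty (z ⟶ x) :=
    fun ν => nonempty_of_toSieve hG ν
  have hglue : ∀ y : 𝒳.obj, ∃ t : y ⟶ φ.obj y, 𝒳.p.IsHomLift (𝟙 (𝒳.p.obj y)) t ∧
      ∀ ⦃z : 𝒳.obj⦄ (ν : z ⟶ y) (hν : toSieve hG x y (𝒳.p.map ν)),
        r z (ne ν hν) ≫ ν ≫ t = φ.map ν := by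
    intro y
    have i1 := fun z (h : Nonempty (z ⟶ x)) => hri z h
    obtain ⟨t, ht, ht'⟩ := exists_glue_hom hS (x' := φ.obj y) (φ.w_obj y) (toSieve hG x y)
      (toSieve_mem hG h𝒳.2.2 hT y)
      (fun z ν hν => @inv _ _ _ _ (r z (ne ν hν)) (i1 _ _) ≫ φ.map ν)
      (fun z ν hν => by
        have := hr z (ne ν hν)
        have := i1 z (ne ν hν)
        exact IsHomLift.comp_lift_id_left' 𝒳.p (𝒳.p.obj z) _ _ _)
      (fun z w k ν hν hkν => by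
        have := i1 z (ne ν hν)
        have := i1 w (ne (k ≫ ν) hkν)
        rw [IsIso.inv_comp_eq, ← reassoc_of% (nat k (ne ν hν) (ne _ hkν)), IsIso.hom_inv_id_assoc]
        exact φ.toFunctor.map_comp k ν)
    refine ⟨t, ht, fun z ν hν => ?_⟩
    have := i1 z (ne ν hν)
    rw [ht' ν hν, IsIso.hom_inv_id_assoc]
  choose t ht ht' using hglue
  have hti : ∀ y, IsIso (t y) := fun y =>
    have := ht y
    isIso_of_fibGrpd hG (𝟙 (𝒳.p.obj y)) (t y)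
  refine ⟨fun y => inv (t y), fun y => ⟨inferInstance, ?_⟩, fun y y' f hf => ?_⟩
  · have := ht y
    infer_instance
  · rw [IsIso.comp_inv_eq, Category.assoc, IsIso.eq_inv_comp]
    have hy' : 𝒳.p.obj y' = 𝒳.p.obj y := IsHomLift.codomain_eq 𝒳.p (𝟙 (𝒳.p.obj y)) f
    have := ht y
    have l0 : 𝒳.p.IsHomLift (𝟙 (𝒳.p.obj y)) (t y') := by have := ht y'; rwa [hy'] at this
    have : 𝒳.p.IsHomLift (𝟙 (𝒳.p.obj y)) (φ.toFunctor.map f) := inferInstance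
    refine StkLib.hom_ext_of_local hS (toSieve hG x y) (toSieve_mem hG h𝒳.2.2 hT y)
      (t y ≫ φ.toFunctor.map f) (f ≫ t y') (fun V k hk z ν hν => ?_)
    have hd := IsHomLift.domain_eq 𝒳.p k ν
    have h1 : toSieve hG x y (𝒳.p.map ν) := by
      rw [IsHomLift.fac' 𝒳.p k ν]
      exact (toSieve hG x y).downward_closed (by simpa using hk) _
    have h2 : toSieve hG x y' (𝒳.p.map (ν ≫ f)) :=
      ⟨z, ν ≫ f, inferInstance, ne ν h1⟩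
    have := hri z (ne ν h1)
    rw [← cancel_epi (r z (ne ν h1)), reassoc_of% (ht' y ν h1)]
    have := ht' y' (ν ≫ f) h2
    rw [Category.assoc] at this
    rw [this]
    exact (φ.toFunctor.map_comp ν f).symm

/-- A functor between gerbes which is surjective on the automorphisms of the restrictions of a
global object composed with a one-sided inverse is, on every fibre, isomorphic to the identity. -/
theorem exists_fib_iso_id_comp (h𝒳 : FibCat.IsFibGrpd 𝒳.p) (h𝒴 : Gerb.IsGerbe J 𝒴)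
    (φ : 𝒳 ⥤ᵇ 𝒴) (ψ : 𝒴 ⥤ᵇ 𝒳) (x : 𝒳.obj) (hT : Limits.IsTerminal (𝒳.p.obj x))
    (hφ : ∀ (x' : 𝒳.obj) (_ : x' ⟶ x), Function.Surjective (Gerb.autMap φ x'))
    (g : ψ.obj (φ.obj x) ⟶ x) (hg : 𝒳.p.IsHomLift (𝟙 (𝒳.p.obj x)) g)
    (hconj : ∀ (x' : 𝒳.obj) (c : x' ⟶ x) (g' : ψ.obj (φ.obj x') ⟶ x'),
      𝒳.p.IsHomLift (𝟙 (𝒳.p.obj x')) g' →
      ψ.map (φ.map c) ≫ g = g' ≫ c → ∀ α : Gerb.AutO x', ψ.map (φ.map α.hom.1) ≫ g' = g' ≫ α.hom.1) :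
    ∃ σ : ∀ z : 𝒴.obj, φ.obj (ψ.obj z) ⟶ z,
      (∀ z, IsIso (σ z) ∧ 𝒴.p.IsHomLift (𝟙 (𝒴.p.obj z)) (σ z)) ∧
      (∀ (z z' : 𝒴.obj) (f : z ⟶ z'), 𝒴.p.IsHomLift (𝟙 (𝒴.p.obj z)) f →
        φ.map (ψ.map f) ≫ σ z' = σ z ≫ f) := by
  have hY := h𝒴.1.1
  refine exists_fib_iso_id h𝒴 (BasedFunctor.comp ψ φ) (φ.obj x)
    (hT.ofIso (eqToIso (φ.w_obj x).symm)) (φ.toFunctor.map g) ?_ (fun z c g' hg' hc α => ?_)
  · rw [φ.w_obj x]; exact BasedFunctor.preserves_isHomLift φ _ g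
  · replace hc : φ.map (ψ.map c) ≫ φ.map g = g' ≫ c := hc
    show φ.map (ψ.map α.hom.1) ≫ g' = g' ≫ α.hom.1
    obtain ⟨x', c₀, hc₀⟩ := exists_lift' h𝒳 (x := x) rfl (𝒴.p.map c ≫ eqToHom (φ.w_obj x))
    have hcl : 𝒴.p.IsHomLift (𝒴.p.map c ≫ eqToHom (φ.w_obj x)) c :=
      IsHomLift.of_fac 𝒴.p _ _ rfl (φ.w_obj x) (by simp)
    obtain ⟨θ, hθ, hθi, hθc⟩ :=
      GerbBasic.exists_fac hY (𝒴.p.map c ≫ eqToHom (φ.w_obj x)) (φ.toFunctor.map c₀) c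
    have hx' : 𝒳.p.obj x' = 𝒴.p.obj z := IsHomLift.domain_eq 𝒳.p (𝒴.p.map c ≫ eqToHom (φ.w_obj x)) c₀
    have : 𝒳.p.IsHomLift (𝒴.p.map c ≫ eqToHom (φ.w_obj x))
        (ψ.toFunctor.map (φ.toFunctor.map c₀) ≫ g) :=
      IsHomLift.comp_lift_id_right' 𝒳.p _ _ (𝒳.p.obj x) _
    obtain ⟨g₀, hg₀, -, hg₀c⟩ := GerbBasic.exists_fac h𝒳 (𝒴.p.map c ≫ eqToHom (φ.w_obj x)) c₀
      (ψ.toFunctor.map (φ.toFunctor.map c₀) ≫ g)
    have hg₀' : 𝒳.p.IsHomLift (𝟙 (𝒳.p.obj x')) g₀ := by rw [hx']; exact hg₀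
    have hα : 𝒴.p.IsHomLift (𝟙 (𝒴.p.obj z)) α.hom.1 := α.hom.2
    have hh : 𝒴.p.IsHomLift (𝟙 (𝒴.p.obj (φ.obj x'))) (inv θ ≫ α.hom.1 ≫ θ) := by
      rw [φ.w_obj x', hx']; infer_instance
    let β : Gerb.AutO (φ.obj x') :=
      fiberIso _ _ ((asIso θ).symm ≪≫
        (Fiber.fiberInclusion.mapIso α : z ≅ z) ≪≫ asIso θ) hh
    obtain ⟨α₀, hα₀⟩ := hφ x' c₀ β
    have hb : φ.toFunctor.map α₀.hom.1 = inv θ ≫ α.hom.1 ≫ θ :=
      congrArg (fun t : Gerb.AutO (φ.obj x') => t.hom.1) hα₀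
    have h0 : ψ.toFunctor.map (φ.toFunctor.map α₀.hom.1) ≫ g₀ = g₀ ≫ α₀.hom.1 :=
      hconj x' c₀ g₀ hg₀' hg₀c.symm α₀
    have key : φ.toFunctor.map (ψ.toFunctor.map θ) ≫ φ.toFunctor.map g₀ = g' ≫ θ := by
      have l1 : 𝒴.p.IsHomLift (𝟙 (𝒴.p.obj z))
          (φ.toFunctor.map (ψ.toFunctor.map θ) ≫ φ.toFunctor.map g₀) := inferInstance
      have l2 : 𝒴.p.IsHomLift (𝟙 (𝒴.p.obj z)) (g' ≫ θ) := inferInstance
      have := sc_of_fibGrpd hY (𝒴.p.map c ≫ eqToHom (φ.w_obj x)) (φ.toFunctor.map c₀)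
      apply IsStronglyCartesian.ext 𝒴.p (𝒴.p.map c ≫ eqToHom (φ.w_obj x)) (φ.toFunctor.map c₀)
        (𝟙 (𝒴.p.obj z))
      rw [Category.assoc, Category.assoc, ← Functor.map_comp φ.toFunctor g₀, hg₀c,
        Functor.map_comp, ← Category.assoc,
        ← Functor.map_comp φ.toFunctor (ψ.toFunctor.map θ) (ψ.toFunctor.map (φ.toFunctor.map c₀)),
        ← Functor.map_comp ψ.toFunctor, hθc]
      exact hc
    have e1 : φ.toFunctor.map (ψ.toFunctor.map α.hom.1) ≫ φ.toFunctor.map (ψ.toFunctor.map θ) =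
        φ.toFunctor.map (ψ.toFunctor.map θ) ≫
          φ.toFunctor.map (ψ.toFunctor.map (φ.toFunctor.map α₀.hom.1)) := by
      rw [← Functor.map_comp, ← Functor.map_comp, ← Functor.map_comp, ← Functor.map_comp, hb,
        IsIso.hom_inv_id_assoc]
    rw [← cancel_mono θ, Category.assoc, Category.assoc, ← key, reassoc_of% e1,
      ← Functor.map_comp φ.toFunctor _ g₀, h0, Functor.map_comp, reassoc_of% key, hb,
      IsIso.hom_inv_id_assoc]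

/-- A functor between gerbes which is bijective on the automorphisms of the restrictions of a
global object is an equivalence. -/
theorem isEquivOver_of_bijective (h𝒳 : Gerb.IsGerbe J 𝒳) (h𝒴 : Gerb.IsGerbe J 𝒴)
    (φ : 𝒳 ⥤ᵇ 𝒴) (s : 𝒳.obj) (hT : Limits.IsTerminal (𝒳.p.obj s))
    (hφ : ∀ (x : 𝒳.obj) (_ : x ⟶ s), Function.Bijective (Gerb.autMap φ x)) :
    FibCat.IsEquivOver φ := by
  have hX := h𝒳.1.1
  have hY := h𝒴.1.1
  have hP := StkLib.isPrestack_of_isStack h𝒳.1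
  have hQ := StkLib.isPrestack_of_isStack h𝒴.1
  have := fibGrpd_isFibered hX
  -- injectivity on lifts of one morphism out of an object mapping to `s`
  have inj : ∀ {z y' : 𝒳.obj} (_ : z ⟶ s) {R T : C} (f : R ⟶ T) (a b : z ⟶ y')
      [𝒳.p.IsHomLift f a] [𝒳.p.IsHomLift f b], φ.toFunctor.map a = φ.toFunctor.map b → a = b := by
    intro z y' c R T f a b _ _ e
    have hz : 𝒳.p.obj z = R := IsHomLift.domain_eq 𝒳.p f a
    subst hz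
    obtain ⟨θ, hθ, hθi, hθe⟩ := GerbBasic.exists_fac hX f b a
    have h1 : φ.toFunctor.map θ = 𝟙 _ := by
      have := sc_of_fibGrpd hY f (φ.toFunctor.map b)
      have : 𝒴.p.IsHomLift (𝟙 (𝒳.p.obj z)) (𝟙 (φ.obj z)) := IsHomLift.id (φ.w_obj z)
      apply IsStronglyCartesian.ext 𝒴.p f (φ.toFunctor.map b) (𝟙 (𝒳.p.obj z))
      rw [← Functor.map_comp, hθe, e, Category.id_comp]
    have h2 : autOf θ hθ = 1 := by
      apply (hφ z c).1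
      rw [map_one]
      exact Aut.ext (Fiber.hom_ext h1)
    have h3 : θ = 𝟙 z := congrArg (fun t : Gerb.AutO z => t.hom.1) h2
    rw [← hθe, h3, Category.id_comp]
  -- on fibres: injective
  have finj : ∀ {y y' : 𝒳.obj} {U : C} (a b : y ⟶ y') [𝒳.p.IsHomLift (𝟙 U) a]
      [𝒳.p.IsHomLift (𝟙 U) b], φ.toFunctor.map a = φ.toFunctor.map b → a = b := by
    intro y y' U a b _ _ e
    have hy : 𝒳.p.obj y = U := IsHomLift.domain_eq 𝒳.p (𝟙 U) a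
    subst hy
    refine StkLib.hom_ext_of_local hP (toSieve hX s y) (toSieve_mem hX h𝒳.2.2 hT y) a b
      (fun V f hf z ν hν => ?_)
    have h1 : toSieve hX s y (𝒳.p.map ν) := by
      rw [IsHomLift.fac' 𝒳.p f ν]
      exact (toSieve hX s y).downward_closed (by simpa using hf) _
    obtain ⟨c⟩ := nonempty_of_toSieve hX ν h1
    exact inj c f (ν ≫ a) (ν ≫ b) (by rw [Functor.map_comp, Functor.map_comp, e])
  -- on fibres: surjective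
  have fsurj : ∀ {y y' : 𝒳.obj} (_ : 𝒳.p.obj y' = 𝒳.p.obj y) (b : φ.obj y ⟶ φ.obj y')
      [𝒴.p.IsHomLift (𝟙 (𝒳.p.obj y)) b],
      ∃ a : y ⟶ y', 𝒳.p.IsHomLift (𝟙 (𝒳.p.obj y)) a ∧ φ.toFunctor.map a = b := by
    intro y y' hy' b hb
    obtain ⟨R, hR, hR'⟩ := conn h𝒳.2.2 y y' hy'
    let S := toSieve hX s y ⊓ R
    have hSmem : S ∈ J (𝒳.p.obj y) := J.intersection_covering (toSieve_mem hX h𝒳.2.2 hT y) hR
    have hm : ∀ ⦃z : 𝒳.obj⦄ (ν : z ⟶ y), S (𝒳.p.map ν) → ∃ m : z ⟶ y',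
        𝒳.p.IsHomLift (𝒳.p.map ν) m ∧ φ.toFunctor.map m = φ.toFunctor.map ν ≫ b := by
      rintro z ν ⟨h1, h2⟩
      obtain ⟨c⟩ := nonempty_of_toSieve hX ν h1
      obtain ⟨z', p₁, p₂, hp₁, hp₂⟩ := hR' _ h2
      obtain ⟨θ, hθ, -, hθe⟩ := GerbBasic.exists_fac hX (𝒳.p.map ν) p₁ ν
      have : 𝒳.p.IsHomLift (𝒳.p.map ν) (θ ≫ p₂) :=
        IsHomLift.comp_lift_id_left' 𝒳.p (𝒳.p.obj z) _ _ _
      have : 𝒴.p.IsHomLift (𝒳.p.map ν) (φ.toFunctor.map ν ≫ b) :=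
        IsHomLift.comp_lift_id_right' 𝒴.p _ _ (𝒳.p.obj y) _
      obtain ⟨γ, hγ, hγi, hγe⟩ := GerbBasic.exists_fac hY (𝒳.p.map ν)
        (φ.toFunctor.map (θ ≫ p₂)) (φ.toFunctor.map ν ≫ b)
      obtain ⟨β, hβ⟩ := (hφ z c).2 (autOf γ (by rw [φ.w_obj z]; exact hγ))
      have hb' : φ.toFunctor.map β.hom.1 = γ :=
        congrArg (fun t : Gerb.AutO (φ.obj z) => t.hom.1) hβ
      have hβl : 𝒳.p.IsHomLift (𝟙 (𝒳.p.obj z)) β.hom.1 := β.hom.2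
      refine ⟨β.hom.1 ≫ θ ≫ p₂, IsHomLift.comp_lift_id_left' 𝒳.p (𝒳.p.obj z) _ _ _, ?_⟩
      rw [Functor.map_comp, hb', hγe]
    choose m hml hme using hm
    obtain ⟨a, ha, ha'⟩ := exists_glue_hom hP hy' S hSmem m hml (fun z w k ν hν hkν => by
      obtain ⟨c⟩ := nonempty_of_toSieve hX (k ≫ ν) hkν.1
      have := hml (k ≫ ν) hkν
      have := hml ν hν
      have : 𝒳.p.IsHomLift (𝒳.p.map (k ≫ ν)) (k ≫ m ν hν) := by
        rw [Functor.map_comp]; infer_instance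
      apply inj c (𝒳.p.map (k ≫ ν))
      rw [hme, Functor.map_comp, Functor.map_comp, hme, Category.assoc])
    refine ⟨a, ha, ?_⟩
    have hr : 𝒴.p.IsHomLift (𝟙 (𝒳.p.obj y)) (φ.toFunctor.map a) := inferInstance
    refine StkLib.hom_ext_of_local hQ S hSmem (φ.toFunctor.map a) b (fun V f hf w μ hμ => ?_)
    obtain ⟨z, ν, hν⟩ := exists_lift' hX (x := y) rfl f
    obtain ⟨θ, -, -, hθe⟩ := GerbBasic.exists_fac hY f (φ.toFunctor.map ν) μ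
    have h1 : S (𝒳.p.map ν) := by
      rw [IsHomLift.fac' 𝒳.p f ν]
      exact S.downward_closed (by simpa using hf) _
    rw [← hθe, Category.assoc, Category.assoc, ← Functor.map_comp, ha' ν h1, hme]
  have hfull : φ.toFunctor.Full := full_of_fiber φ (preservesSC_of_fibGrpd hY) (fun U => ⟨by
    rintro ⟨y, rfl⟩ ⟨y', hy'⟩ ⟨b, hb⟩
    obtain ⟨a, ha, hab⟩ := fsurj hy' b
    exact ⟨⟨a, ha⟩, Fiber.hom_ext hab⟩⟩)
  have hfaith : φ.toFunctor.Faithful := faithful_of_fiber φ (preservesSC_of_fibGrpd hY) (fun U => ⟨by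
    rintro ⟨y, hy⟩ ⟨y', hy'⟩ ⟨a, ha⟩ ⟨b, hb⟩ e
    exact Fiber.hom_ext (finj (U := U) a b (congrArg Subtype.val e))⟩)
  refine isEquivOver_of_fullyFaithful φ (fun η => ?_)
  obtain ⟨x₁, c, hc⟩ := exists_lift' hX (x := s) rfl (hT.from (𝒴.p.obj η))
  have hx₁ : 𝒴.p.obj (φ.obj x₁) = 𝒴.p.obj η :=
    (φ.w_obj x₁).trans (IsHomLift.domain_eq 𝒳.p (hT.from (𝒴.p.obj η)) c)
  obtain ⟨R, hR, hR'⟩ := conn h𝒴.2.2 η (φ.obj x₁) hx₁
  refine StkLib.inImage_of_local h𝒳.1 hQ φ η R hR (fun V f hf => ?_)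
  obtain ⟨w, p₁, p₂, hp₁, hp₂⟩ := hR' f hf
  obtain ⟨x, k, hk⟩ := exists_lift' hX (x := x₁)
    (IsHomLift.domain_eq 𝒳.p (hT.from (𝒴.p.obj η)) c) f
  obtain ⟨θ, hθ, hθi, -⟩ := GerbBasic.exists_fac hY f (φ.toFunctor.map k) p₂
  exact ⟨x, inv θ ≫ p₁, inferInstance⟩

end Groth.Agent.GalCohAux.GerbGlue
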