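import Groth.Prelude.Def_StGerb2
import Groth.Agent.GalCohAux.GerbGlue
import Mathlib.Algebra.Category.Grp.Limits
import Mathlib.Algebra.Group.Subgroup.Defs

/-!
The band of an abelian gerbe.
-/

set_option backward.isDefEq.respectTransparency false
set_option backward.isDefEq.respectTransparency.types false

universe v u

open CategoryTheory CategoryTheory.Functor Opposite Groth.Agent.FibC

namespace Groth.Agent.GalCohAux.GerbBand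

variable {C : Type u} [Category.{v} C] {J : GrothendieckTopology C}
variable {𝒮 : BasedCategory.{v, max u v} C}

/-- `a` and `b` are intertwined by `φ`. -/
def Comm {z x : 𝒮.obj} (a : Gerb.AutO z) (φ : z ⟶ x) (b : Gerb.AutO x) : Prop :=
  a.hom.1 ≫ φ = φ ≫ b.hom.1

theorem comm_mul {z x : 𝒮.obj} {a a' : Gerb.AutO z} {φ : z ⟶ x} {b b' : Gerb.AutO x}
    (h : Comm a φ b) (h' : Comm a' φ b') : Comm (a * a') φ (b * b') := by
  show (a'.hom.1 ≫ a.hom.1) ≫ φ = φ ≫ b'.hom.1 ≫ b.hom.1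
  rw [Category.assoc, h, ← Category.assoc, h', Category.assoc]

theorem comm_one {z x : 𝒮.obj} (φ : z ⟶ x) : Comm (1 : Gerb.AutO z) φ 1 :=
  (Category.id_comp φ).trans (Category.comp_id φ).symm

theorem comm_inv {z x : 𝒮.obj} {a : Gerb.AutO z} {φ : z ⟶ x} {b : Gerb.AutO x}
    (h : Comm a φ b) : Comm a⁻¹ φ b⁻¹ := by
  have e1 : a.inv.1 ≫ a.hom.1 = 𝟙 z := congrArg Subtype.val a.inv_hom_id
  have e2 : b.hom.1 ≫ b.inv.1 = 𝟙 x := congrArg Subtype.val b.hom_inv_id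
  show a.inv.1 ≫ φ = φ ≫ b.inv.1
  have : a.inv.1 ≫ (a.hom.1 ≫ φ) ≫ b.inv.1 = a.inv.1 ≫ (φ ≫ b.hom.1) ≫ b.inv.1 := by rw [h]
  rw [Category.assoc, ← Category.assoc, e1, Category.id_comp, Category.assoc, e2,
    Category.comp_id] at this
  exact this.symm

theorem comm_comp {w z x : 𝒮.obj} {a : Gerb.AutO w} {b : Gerb.AutO z} {c : Gerb.AutO x}
    {k : w ⟶ z} {φ : z ⟶ x} (h : Comm a k b) (h' : Comm b φ c) : Comm a (k ≫ φ) c := by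
  show a.hom.1 ≫ k ≫ φ = (k ≫ φ) ≫ c.hom.1
  rw [← Category.assoc, h, Category.assoc, h', Category.assoc]

theorem aut_lift_id {x : 𝒮.obj} (b : Gerb.AutO x) : 𝒮.p.IsHomLift (𝟙 (𝒮.p.obj x)) b.hom.1 := b.hom.2

theorem comm_unique (h : FibCat.IsFibGrpd 𝒮.p) {z x : 𝒮.obj} {a a' : Gerb.AutO z} {φ : z ⟶ x}
    {b : Gerb.AutO x} (e : Comm a φ b) (e' : Comm a' φ b) : a = a' := by
  have := aut_lift_id a
  have := aut_lift_id a'
  have := h.isStronglyCartesian φ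
  refine Aut.ext (Fiber.hom_ext ?_)
  exact IsStronglyCartesian.ext 𝒮.p (𝒮.p.map φ) φ (𝟙 (𝒮.p.obj z)) (e.trans e'.symm)

theorem comm_exists (h : FibCat.IsFibGrpd 𝒮.p) {z x : 𝒮.obj} (φ : z ⟶ x) (b : Gerb.AutO x) :
    ∃ a : Gerb.AutO z, Comm a φ b := by
  have := aut_lift_id b
  have : 𝒮.p.IsHomLift (𝒮.p.map φ) (φ ≫ b.hom.1) :=
    IsHomLift.comp_lift_id_right' 𝒮.p _ _ (𝒮.p.obj x) _
  obtain ⟨θ, hθ, hi, e⟩ := GerbBasic.exists_fac h (𝒮.p.map φ) φ (φ ≫ b.hom.1)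
  exact ⟨GerbGlue.autOf θ hθ, e⟩

theorem sieve_map {x z : 𝒮.obj} {R : Sieve (𝒮.p.obj x)} {V : C} {f : V ⟶ 𝒮.p.obj x} (ν : z ⟶ x)
    [𝒮.p.IsHomLift f ν] (hf : R f) : R (𝒮.p.map ν) := by
  rw [IsHomLift.fac' 𝒮.p f ν]
  exact R.downward_closed (by simpa using hf) _

/-- An automorphism is determined locally. -/
theorem aut_ext_local (hP : Stk.IsPrestack J 𝒮) {x : 𝒮.obj} (R : Sieve (𝒮.p.obj x))
    (hR : R ∈ J (𝒮.p.obj x)) (b b' : Gerb.AutO x)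
    (h : ∀ ⦃z : 𝒮.obj⦄ (ν : z ⟶ x), R (𝒮.p.map ν) → ∃ a : Gerb.AutO z, Comm a ν b ∧ Comm a ν b') :
    b = b' := by
  have := aut_lift_id b
  have := aut_lift_id b'
  refine Aut.ext (Fiber.hom_ext ?_)
  refine StkLib.hom_ext_of_local (𝒳 := 𝒮) hP R hR b.hom.1 b'.hom.1 (fun V f hf z ν hν => ?_)
  obtain ⟨a, e, e'⟩ := h ν (sieve_map (f := f) ν hf)
  exact e.symm.trans e'

/-- Automorphisms given locally glue. -/
theorem exists_aut_glue (hP : Stk.IsPrestack J 𝒮) {x : 𝒮.obj} (R : Sieve (𝒮.p.obj x))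
    (hR : R ∈ J (𝒮.p.obj x)) (β : ∀ ⦃z : 𝒮.obj⦄ (ν : z ⟶ x), R (𝒮.p.map ν) → Gerb.AutO z)
    (hβ : ∀ ⦃z w : 𝒮.obj⦄ (k : w ⟶ z) (ν : z ⟶ x) (hν : R (𝒮.p.map ν))
      (hkν : R (𝒮.p.map (k ≫ ν))), Comm (β (k ≫ ν) hkν) k (β ν hν)) :
    ∃ b : Gerb.AutO x, ∀ ⦃z : 𝒮.obj⦄ (ν : z ⟶ x) (hν : R (𝒮.p.map ν)), Comm (β ν hν) ν b := by
  obtain ⟨φ, hφ, hφ'⟩ := GerbGlue.exists_glue_hom hP (x' := x) rfl R hR
    (fun z ν hν => (β ν hν).hom.1 ≫ ν)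
    (fun z ν hν => by
      have := aut_lift_id (β ν hν)
      exact IsHomLift.comp_lift_id_left' 𝒮.p (𝒮.p.obj z) _ _ _)
    (fun z w k ν hν hkν => by rw [← Category.assoc, hβ k ν hν hkν, Category.assoc])
  have : IsIso φ := isIso_of_fibGrpd hP.1 (𝟙 (𝒮.p.obj x)) φ
  exact ⟨GerbGlue.autOf φ hφ, fun z ν hν => (hφ' ν hν).symm⟩

variable (𝒮) in
/-- Compatible families of automorphisms of the objects over `U`. -/
def famSubgroup (U : C) : Subgroup (∀ x : 𝒮.obj, (𝒮.p.obj x ⟶ U) → Gerb.AutO x) where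
  carrier := {γ | ∀ ⦃x' x : 𝒮.obj⦄ (φ : x' ⟶ x) (a : 𝒮.p.obj x ⟶ U),
    Comm (γ x' (𝒮.p.map φ ≫ a)) φ (γ x a)}
  mul_mem' h h' _ _ φ a := comm_mul (h φ a) (h' φ a)
  one_mem' _ _ φ _ := comm_one φ
  inv_mem' h _ _ φ a := comm_inv (h φ a)

variable (𝒮) in
/-- The presheaf of compatible families. -/
def band : Cᵒᵖ ⥤ GrpCat.{max u v} where
  obj U := GrpCat.of (famSubgroup 𝒮 U.unop)
  map {U V} f := GrpCat.ofHom
    { toFun := fun γ => ⟨fun x a => γ.1 x (a ≫ f.unop), fun x' x φ a => by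
        have := γ.2 φ (a ≫ f.unop)
        simpa [Category.assoc] using this⟩
      map_one' := rfl
      map_mul' := fun _ _ => rfl }
  map_id U := by
    refine GrpCat.hom_ext (MonoidHom.ext fun γ => Subtype.ext (funext fun x => funext fun a => ?_))
    show γ.1 x (a ≫ 𝟙 _) = _
    rw [Category.comp_id]
    rfl
  map_comp {U V W} f g := by
    refine GrpCat.hom_ext (MonoidHom.ext fun γ => Subtype.ext (funext fun x => funext fun a => ?_))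
    show γ.1 x (a ≫ g.unop ≫ f.unop) = γ.1 x ((a ≫ g.unop) ≫ f.unop)
    rw [Category.assoc]

theorem band_map_apply {U V : C} (f : V ⟶ U) (γ : (band 𝒮).obj (op U)) (x : 𝒮.obj)
    (a : 𝒮.p.obj x ⟶ V) : ((band 𝒮).map f.op γ).1 x a = γ.1 x (a ≫ f) := rfl

theorem band_isSheaf (hP : Stk.IsPrestack J 𝒮) : Presheaf.IsSheaf J (band 𝒮) := by
  rw [Presheaf.isSheaf_iff_isSheaf_forget J _ (forget GrpCat), isSheaf_iff_isSheaf_of_type]
  intro U R hR fam hfam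
  have compat : ∀ {W V : C} (g : W ⟶ V) (f : V ⟶ U) (hf : R f) (hgf : R (g ≫ f)) (x : 𝒮.obj)
      (a : 𝒮.p.obj x ⟶ W),
      (fam (g ≫ f) hgf : famSubgroup 𝒮 W).1 x a = (fam f hf : famSubgroup 𝒮 V).1 x (a ≫ g) := by
    intro W V g f hf hgf x a
    have h := hfam g (𝟙 W) hf hgf (Category.id_comp _).symm
    have h' := congrArg (fun t : famSubgroup 𝒮 W => t.1 x a) h
    refine Eq.trans ?_ h'.symm
    show _ = (fam (g ≫ f) hgf : famSubgroup 𝒮 W).1 x (a ≫ 𝟙 W)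
    rw [Category.comp_id]
  have compat' : ∀ {W V : C} (g : W ⟶ V) (f : V ⟶ U) (f' : W ⟶ U) (hf : R f) (hf' : R f')
      (_ : f' = g ≫ f) (x : 𝒮.obj) (a : 𝒮.p.obj x ⟶ W),
      (fam f' hf' : famSubgroup 𝒮 W).1 x a = (fam f hf : famSubgroup 𝒮 V).1 x (a ≫ g) := by
    rintro W V g f f' hf hf' rfl
    exact compat g f hf hf'
  let β : ∀ (x : 𝒮.obj) (a : 𝒮.p.obj x ⟶ U) ⦃z : 𝒮.obj⦄ (ν : z ⟶ x),
      R.pullback a (𝒮.p.map ν) → Gerb.AutO z :=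
    fun x a z ν hν => (fam (𝒮.p.map ν ≫ a) hν : famSubgroup 𝒮 (𝒮.p.obj z)).1 z (𝟙 _)
  have hex : ∀ (x : 𝒮.obj) (a : 𝒮.p.obj x ⟶ U), ∃ b : Gerb.AutO x,
      ∀ ⦃z : 𝒮.obj⦄ (ν : z ⟶ x) (hν : R.pullback a (𝒮.p.map ν)), Comm (β x a ν hν) ν b := by
    intro x a
    refine exists_aut_glue hP (R.pullback a) (J.pullback_stable a hR) (β x a) (fun z w k ν hν hkν => ?_)
    have e := compat' (𝒮.p.map k) (𝒮.p.map ν ≫ a) (𝒮.p.map (k ≫ ν) ≫ a) hν hkν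
      (by rw [Functor.map_comp, Category.assoc]) w (𝟙 _)
    show Comm ((fam _ hkν : famSubgroup 𝒮 (𝒮.p.obj w)).1 w (𝟙 _)) k _
    rw [e]
    have := (fam (𝒮.p.map ν ≫ a) hν : famSubgroup 𝒮 (𝒮.p.obj z)).2 k (𝟙 _)
    rw [Category.comp_id] at this
    rw [Category.id_comp]
    exact this
  choose δ hδ using hex
  have huniq : ∀ (x : 𝒮.obj) (a : 𝒮.p.obj x ⟶ U) (b : Gerb.AutO x),
      (∀ ⦃z : 𝒮.obj⦄ (ν : z ⟶ x) (hν : R.pullback a (𝒮.p.map ν)), Comm (β x a ν hν) ν b) →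
      b = δ x a := fun x a b hb =>
    aut_ext_local hP (R.pullback a) (J.pullback_stable a hR) b (δ x a)
      (fun z ν hν => ⟨β x a ν hν, hb ν hν, hδ x a ν hν⟩)
  have hδmem : δ ∈ famSubgroup 𝒮 U := by
    intro x' x φ a
    obtain ⟨b, hb⟩ := comm_exists hP.1 φ (δ x a)
    suffices b = δ x' (𝒮.p.map φ ≫ a) by rw [← this]; exact hb
    refine huniq x' _ b (fun z ν hν => ?_)
    have hνφ : R.pullback a (𝒮.p.map (ν ≫ φ)) := by
      show R (𝒮.p.map (ν ≫ φ) ≫ a)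
      rw [Functor.map_comp, Category.assoc]; exact hν
    have e : β x' (𝒮.p.map φ ≫ a) ν hν = β x a (ν ≫ φ) hνφ := by
      refine (compat' (𝟙 _) _ _ hνφ hν ?_ z _).trans ?_
      · rw [Category.id_comp, Functor.map_comp, Category.assoc]
      · rw [Category.id_comp]
    have h1 := hδ x a (ν ≫ φ) hνφ
    obtain ⟨c, hc⟩ := comm_exists hP.1 ν b
    have : c = β x a (ν ≫ φ) hνφ := comm_unique hP.1 (comm_comp hc hb) h1
    rw [e, ← this]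
    exact hc
  refine ⟨(⟨δ, hδmem⟩ : famSubgroup 𝒮 U), fun V f hf => ?_, fun t ht => ?_⟩
  · apply Subtype.ext
    funext x a
    show δ x (a ≫ f) = _
    refine (huniq x (a ≫ f) _ (fun z ν hν => ?_)).symm
    have e := compat' (𝒮.p.map ν ≫ a) f (𝒮.p.map ν ≫ a ≫ f) hf hν (Category.assoc _ _ _).symm z (𝟙 _)
    show Comm ((fam _ hν : famSubgroup 𝒮 (𝒮.p.obj z)).1 z (𝟙 _)) ν _
    rw [e, Category.id_comp]
    exact (fam f hf : famSubgroup 𝒮 V).2 ν a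
  · apply Subtype.ext
    funext x a
    refine huniq x a _ (fun z ν hν => ?_)
    have e := congrArg (fun s : famSubgroup 𝒮 (𝒮.p.obj z) => s.1 z (𝟙 _))
      (ht (𝒮.p.map ν ≫ a) hν)
    show Comm ((fam _ hν : famSubgroup 𝒮 (𝒮.p.obj z)).1 z (𝟙 _)) ν _
    rw [← e]
    show Comm ((t : famSubgroup 𝒮 U).1 z (𝟙 _ ≫ 𝒮.p.map ν ≫ a)) ν _
    rw [Category.id_comp]
    exact (t : famSubgroup 𝒮 U).2 ν a

section iso

variable (hP : Stk.IsPrestack J 𝒮) (hc : Gerb.LocSurjHom J (FibCat.toSelf 𝒮))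
  (hcomm : ∀ (x : 𝒮.obj) (α β : Gerb.AutO x), α * β = β * α)

/-- The arrows along which `y` maps to `x` over `a`. -/
def connSieve (h : FibCat.IsFibGrpd 𝒮.p) (x y : 𝒮.obj) (a : 𝒮.p.obj y ⟶ 𝒮.p.obj x) :
    Sieve (𝒮.p.obj y) where
  arrows V f := ∃ (z : 𝒮.obj) (ν : z ⟶ y) (ψ : z ⟶ x),
    𝒮.p.IsHomLift f ν ∧ 𝒮.p.IsHomLift (f ≫ a) ψ
  downward_closed := by
    rintro V W f ⟨z, ν, ψ, hν, hψ⟩ g
    obtain ⟨w, k, hk⟩ := exists_lift' h (x := z) (IsHomLift.domain_eq 𝒮.p f ν) g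
    exact ⟨w, k ≫ ν, k ≫ ψ, inferInstance, by rw [Category.assoc]; infer_instance⟩

include hc in
theorem connSieve_mem (h : FibCat.IsFibGrpd 𝒮.p) (x y : 𝒮.obj) (a : 𝒮.p.obj y ⟶ 𝒮.p.obj x) :
    connSieve h x y a ∈ J (𝒮.p.obj y) := by
  obtain ⟨x₁, c, hcl⟩ := exists_lift' h (x := x) rfl a
  obtain ⟨R, hR, hR'⟩ := GerbGlue.conn hc y x₁ (IsHomLift.domain_eq 𝒮.p a c)
  refine J.superset_covering (fun V f hf => ?_) hR
  obtain ⟨z, φ, ψ, hφ, hψ⟩ := hR' f hf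
  exact ⟨z, φ, ψ ≫ c, hφ, inferInstance⟩

theorem connSieve_spec (h : FibCat.IsFibGrpd 𝒮.p) {x y z : 𝒮.obj} {a : 𝒮.p.obj y ⟶ 𝒮.p.obj x}
    (ν : z ⟶ y) (hν : connSieve h x y a (𝒮.p.map ν)) :
    ∃ ψ : z ⟶ x, 𝒮.p.IsHomLift (𝒮.p.map ν ≫ a) ψ := by
  obtain ⟨z', ν', ψ, h1, h2⟩ := hν
  obtain ⟨θ, hθ, -, -⟩ := GerbBasic.exists_fac h (𝒮.p.map ν) ν' ν
  exact ⟨θ ≫ ψ, IsHomLift.comp_lift_id_left' 𝒮.p (𝒮.p.obj z) _ _ _⟩

include hcomm in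
/-- For commutative automorphisms, transport does not depend on the morphism over a given one. -/
theorem comm_indep (h : FibCat.IsFibGrpd 𝒮.p) {x z : 𝒮.obj} {α : Gerb.AutO x} {c c' : Gerb.AutO z}
    {R S : C} (f : R ⟶ S) (ψ ψ' : z ⟶ x) [𝒮.p.IsHomLift f ψ] [𝒮.p.IsHomLift f ψ']
    (e : Comm c ψ α) (e' : Comm c' ψ' α) : c = c' := by
  have hz : 𝒮.p.obj z = R := IsHomLift.domain_eq 𝒮.p f ψ
  subst hz
  obtain ⟨θ, hθ, hθi, he⟩ := GerbBasic.exists_fac h f ψ ψ'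
  have h1 : θ ≫ c'.hom.1 = c'.hom.1 ≫ θ :=
    congrArg (fun t : Gerb.AutO z => t.hom.1) (hcomm z c' (GerbGlue.autOf θ hθ))
  refine comm_unique h e ?_
  show c'.hom.1 ≫ ψ = ψ ≫ α.hom.1
  rw [← cancel_epi θ, reassoc_of% h1, reassoc_of% he, he]
  exact e'

include hP hc hcomm in
theorem eval_bijective (x : 𝒮.obj) :
    Function.Bijective (fun γ : (band 𝒮).obj (op (𝒮.p.obj x)) => γ.1 x (𝟙 _)) := by
  have h := hP.1
  constructor
  · intro γ γ' (e : γ.1 x (𝟙 _) = γ'.1 x (𝟙 _))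
    apply Subtype.ext
    funext y a
    refine aut_ext_local hP (connSieve h x y a) (connSieve_mem hc h x y a) _ _ (fun z ν hν => ?_)
    obtain ⟨ψ, hψ⟩ := connSieve_spec h ν hν
    have hp : 𝒮.p.map ψ ≫ 𝟙 _ = 𝒮.p.map ν ≫ a := by
      rw [Category.comp_id]; exact (IsHomLift.eq_of_isHomLift 𝒮.p (𝒮.p.map ν ≫ a) ψ).symm
    have h1 := γ.2 ψ (𝟙 _)
    have h2 := γ'.2 ψ (𝟙 _)
    rw [hp] at h1 h2
    rw [← e] at h2
    exact ⟨γ.1 z (𝒮.p.map ν ≫ a), γ.2 ν a, comm_unique h h2 h1 ▸ γ'.2 ν a⟩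
  · intro α
    have hβ : ∀ (y : 𝒮.obj) (a : 𝒮.p.obj y ⟶ 𝒮.p.obj x) ⦃z : 𝒮.obj⦄ (ν : z ⟶ y),
        connSieve h x y a (𝒮.p.map ν) → ∃ c : Gerb.AutO z, ∀ ψ : z ⟶ x,
          𝒮.p.IsHomLift (𝒮.p.map ν ≫ a) ψ → Comm c ψ α := by
      intro y a z ν hν
      obtain ⟨ψ, hψ⟩ := connSieve_spec h ν hν
      obtain ⟨c, hc⟩ := comm_exists h ψ α
      refine ⟨c, fun ψ' hψ' => ?_⟩
      obtain ⟨c', hc'⟩ := comm_exists h ψ' α
      rwa [comm_indep hcomm h (𝒮.p.map ν ≫ a) ψ ψ' hc hc']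
    choose β hβ' using hβ
    have hex : ∀ (y : 𝒮.obj) (a : 𝒮.p.obj y ⟶ 𝒮.p.obj x), ∃ b : Gerb.AutO y,
        ∀ ⦃z : 𝒮.obj⦄ (ν : z ⟶ y) (hν : connSieve h x y a (𝒮.p.map ν)),
          Comm (β y a ν hν) ν b := by
      intro y a
      refine exists_aut_glue hP (connSieve h x y a) (connSieve_mem hc h x y a) (β y a)
        (fun z w k ν hν hkν => ?_)
      obtain ⟨ψ, hψ⟩ := connSieve_spec h ν hν
      have : 𝒮.p.IsHomLift (𝒮.p.map (k ≫ ν) ≫ a) (k ≫ ψ) := by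
        rw [Functor.map_comp, Category.assoc]; infer_instance
      obtain ⟨c, hc1⟩ := comm_exists h k (β y a ν hν)
      have : c = β y a (k ≫ ν) hkν :=
        comm_unique h (comm_comp hc1 (hβ' y a ν hν ψ hψ)) (hβ' y a (k ≫ ν) hkν (k ≫ ψ) ‹_›)
      exact this ▸ hc1
    choose δ hδ using hex
    have hmem : δ ∈ famSubgroup 𝒮 (𝒮.p.obj x) := by
      intro y' y φ a
      obtain ⟨b, hb⟩ := comm_exists h φ (δ y a)
      suffices b = δ y' (𝒮.p.map φ ≫ a) by rw [← this]; exact hb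
      refine aut_ext_local hP (connSieve h x y' (𝒮.p.map φ ≫ a)) (connSieve_mem hc h x y' _) _ _
        (fun z ν hν => ⟨_, ?_, hδ y' _ ν hν⟩)
      obtain ⟨ψ, hψ⟩ := connSieve_spec h ν hν
      have hψ' : 𝒮.p.IsHomLift (𝒮.p.map (ν ≫ φ) ≫ a) ψ := by
        rw [Functor.map_comp, Category.assoc]; exact hψ
      have hνφ : connSieve h x y a (𝒮.p.map (ν ≫ φ)) := ⟨z, ν ≫ φ, ψ, inferInstance, hψ'⟩
      obtain ⟨c, hc2⟩ := comm_exists h ν b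
      have h1 : c = β y a (ν ≫ φ) hνφ := comm_unique h (comm_comp hc2 hb) (hδ y a (ν ≫ φ) hνφ)
      have h2 : β y a (ν ≫ φ) hνφ = β y' (𝒮.p.map φ ≫ a) ν hν :=
        comm_unique h (hβ' y a _ hνφ ψ hψ') (hβ' y' _ ν hν ψ hψ)
      rw [← h2, ← h1]
      exact hc2
    refine ⟨⟨δ, hmem⟩, ?_⟩
    show δ x (𝟙 _) = α
    have hx : connSieve h x x (𝟙 _) (𝒮.p.map (𝟙 x)) := ⟨x, 𝟙 x, 𝟙 x, inferInstance, by
      rw [Category.comp_id]; infer_instance⟩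
    have h1 := hδ x (𝟙 _) (𝟙 x) hx
    have h2 : Comm (β x (𝟙 _) (𝟙 x) hx) (𝟙 x) α :=
      hβ' x (𝟙 _) (𝟙 x) hx (𝟙 x) (by rw [Category.comp_id]; infer_instance)
    refine Aut.ext (Fiber.hom_ext ?_)
    have e3 := h1.symm.trans h2
    rw [Category.id_comp, Category.id_comp] at e3
    exact e3

include hP hc hcomm in
theorem nonempty_banding : Nonempty (Gerb.Banding 𝒮 (band 𝒮)) :=
  ⟨{ iso := fun x => MulEquiv.ofBijective
        ({ toFun := fun γ => γ.1 x (𝟙 _), map_one' := rfl, map_mul' := fun _ _ => rfl } :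
          (band 𝒮).obj (op (𝒮.p.obj x)) →* Gerb.AutO x)
        (eval_bijective hP hc hcomm x)
     natural := fun {x' x} φ γ => by
        show Comm (γ.1 x' (𝟙 _ ≫ 𝒮.p.map φ)) φ (γ.1 x (𝟙 _))
        have := γ.2 φ (𝟙 _)
        rw [Category.comp_id] at this
        rw [Category.id_comp]
        exact this }⟩

end iso

end Groth.Agent.GalCohAux.GerbBand
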