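import Groth.Prelude.Def_StCoarse
import Groth.Prelude.Def_StGerb
import Groth.Agent.GalCohAux.GerbBasic
import Groth.Agent.AlgSp.Basic
import Groth.Agent.StFib.Basic
import Groth.Agent.StkLib.Psh
import Mathlib.AlgebraicGeometry.AlgClosed.Basic

/-!
Coarse moduli spaces and gerbes.
-/

set_option backward.isDefEq.respectTransparency false
set_option backward.isDefEq.respectTransparency.types false

universe u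

open CategoryTheory CategoryTheory.Functor AlgebraicGeometry Opposite Groth.Agent.FibC

namespace Groth.Agent.GalCohAux.GerbCoarse

variable {S : Scheme.{u}}

/-- Over an algebraically closed field every fppf covering has a section. -/
theorem eq_top_of_mem {Ω : Type u} [Field Ω] [IsAlgClosed Ω] (t : Spec (CommRingCat.of Ω) ⟶ S)
    {T : Sieve (Over.mk t)} (hT : T ∈ AlgSp.J S (Over.mk t)) : T (𝟙 _) := by
  obtain ⟨R, hR, hR'⟩ := AlgSp.exists_cover_of_mem hT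
  rw [Scheme.fppfPrecoverage] at hR
  obtain ⟨_, _, hg₀, x, hx⟩ := hR.1 (IsLocalRing.closedPoint Ω)
  obtain ⟨hg⟩ := hg₀
  rename_i Y g
  change Y ⟶ Spec (CommRingCat.of Ω) at g
  have hP := hR.2 hg
  have : LocallyOfFinitePresentation g := hP.2
  have : JacobsonSpace Y := LocallyOfFiniteType.jacobsonSpace g
  obtain ⟨c, -, hc⟩ := nonempty_inter_closedPoints (X := Y) (Z := Set.univ) ⟨x, trivial⟩
    isClosed_univ.isLocallyClosed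
  let s : Over.mk t ⟶ Over.mk (g ≫ t) := Over.homMk (pointOfClosedPoint g c hc) (by
    show pointOfClosedPoint g c hc ≫ g ≫ t = t
    exact (pointOfClosedPoint_comp_assoc g c hc t).trans rfl)
  have e : s ≫ (Over.homMk g rfl : Over.mk (g ≫ t) ⟶ Over.mk t) = 𝟙 _ :=
    Over.OverMorphism.ext (pointOfClosedPoint_comp g c hc)
  rw [← e]
  exact T.downward_closed (hR' g hg) s

variable {𝒳 𝒴 : AlgSt.Cat S} {F : 𝒳 ⥤ᵇ 𝒴}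

theorem fibSec_secAt {M : AlgSp.Sp S} (π : 𝒳 ⥤ᵇ AlgSt.ofSp M) {T : Over S} (x : 𝒳.p.Fiber T) :
    AlgSt.fibSec π x = M.obj.map (eqToHom x.2.symm).op (StkLib.secAt π x.1) := by
  obtain ⟨x, rfl⟩ := x
  simp [AlgSt.fibSec, StkLib.secAt]

theorem fibSec_comp {M : AlgSp.Sp S} (π : 𝒴 ⥤ᵇ AlgSt.ofSp M) {T : Over S} (x : 𝒳.p.Fiber T)
    (y : 𝒴.p.Fiber T) (h : F.toFunctor.obj x.1 = y.1) :
    AlgSt.fibSec (BasedFunctor.comp F π) x = AlgSt.fibSec π y := by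
  obtain ⟨y, hy⟩ := y
  subst h
  rfl

theorem fibSec_hom {M : AlgSp.Sp S} (π : 𝒴 ⥤ᵇ AlgSt.ofSp M) {T : Over S} {y y' : 𝒴.p.Fiber T}
    (b : y ⟶ y') : AlgSt.fibSec π y = AlgSt.fibSec π y' := by
  obtain ⟨y, rfl⟩ := y
  obtain ⟨y', hy'⟩ := y'
  rw [fibSec_secAt, fibSec_secAt, ← StkLib.secAt_map π b.1]
  have hb := b.2
  rw [IsHomLift.fac' 𝒴.p (𝟙 (𝒴.p.obj y)) b.1]
  simp

theorem geomPtBij_of_iso {M : AlgSp.Sp S} {π π' : 𝒳 ⥤ᵇ AlgSt.ofSp M} (e : π ≅ π')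
    (h : AlgSt.GeomPtBij π) : AlgSt.GeomPtBij π' := by
  intro Ω _ _ t
  obtain ⟨h1, h2⟩ := h Ω t
  have key : ∀ x : 𝒳.p.Fiber (Over.mk t), AlgSt.fibSec π' x = AlgSt.fibSec π x := fun x => by
    rw [fibSec_secAt, fibSec_secAt, StkLib.secAt_eq e.hom]
  refine ⟨fun m => ?_, fun x y hxy => h2 x y (by rw [← key, ← key, hxy])⟩
  obtain ⟨x, hx⟩ := h1 m
  exact ⟨x, (key x).trans hx⟩

variable (h𝒳 : FibCat.IsFibGrpd 𝒳.p) (h𝒴 : FibCat.IsFibGrpd 𝒴.p)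
  (hF : Gerb.IsGerbeOver (QuotSh.J Scheme.fppfPrecoverage S) F)

include h𝒳 h𝒴 hF in
theorem geomPtBij_comp_iff {M : AlgSp.Sp S} (π : 𝒴 ⥤ᵇ AlgSt.ofSp M) :
    AlgSt.GeomPtBij (BasedFunctor.comp F π) ↔ AlgSt.GeomPtBij π := by
  refine forall_congr' fun Ω => forall_congr' fun _ => forall_congr' fun _ => forall_congr' fun t => ?_
  let T := Over.mk t
  have up : ∀ y : 𝒴.p.Fiber T, ∃ x : 𝒳.p.Fiber T,
      Nonempty (((FibCat.fiberFunctor F T).obj x) ≅ y) := by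
    rintro ⟨y, hy⟩
    obtain ⟨R, hR, hR'⟩ := GerbBasic.locObj hF.1 y hy
    obtain ⟨x, g, hg⟩ := hR' (𝟙 T) (eq_top_of_mem t hR)
    have : IsIso g := isIso_of_fibGrpd h𝒴 (𝟙 T) g
    exact ⟨⟨x, GerbBasic.base_dom (F := F) (𝟙 T) g⟩, ⟨fiberIso _ _ (asIso g) hg⟩⟩
  have down : ∀ x x' : 𝒳.p.Fiber T, Nonempty (((FibCat.fiberFunctor F T).obj x) ⟶
      (FibCat.fiberFunctor F T).obj x') → Nonempty (x ≅ x') := by
    rintro ⟨x, hx⟩ ⟨x', hx'⟩ ⟨⟨b, hb⟩⟩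
    have : 𝒴.p.IsHomLift (𝟙 T) b := hb
    obtain ⟨R, hR, hR'⟩ := GerbBasic.locHom hF.2 x x' b (U := T)
    obtain ⟨x₀, φ, ψ, hφ, hψ, -⟩ := hR' (𝟙 T) (eq_top_of_mem t hR)
    have : IsIso φ := isIso_of_fibGrpd h𝒳 (𝟙 T) φ
    have : IsIso ψ := isIso_of_fibGrpd h𝒳 (𝟙 T) ψ
    exact ⟨fiberIso _ _ ((asIso φ).symm ≪≫ asIso ψ)
      (inferInstance : 𝒳.p.IsHomLift (𝟙 T) (inv φ ≫ ψ))⟩
  have sec : ∀ x : 𝒳.p.Fiber T, AlgSt.fibSec (BasedFunctor.comp F π) x =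
      AlgSt.fibSec π ((FibCat.fiberFunctor F T).obj x) := fun x => fibSec_comp π x _ rfl
  constructor
  · rintro ⟨h1, h2⟩
    refine ⟨fun m => ?_, fun y y' hyy => ?_⟩
    · obtain ⟨x, hx⟩ := h1 m
      exact ⟨_, (sec x).symm.trans hx⟩
    · obtain ⟨x, ⟨e⟩⟩ := up y
      obtain ⟨x', ⟨e'⟩⟩ := up y'
      obtain ⟨i⟩ := h2 x x' (by
        rw [sec, sec, fibSec_hom π e.hom, fibSec_hom π e'.hom, hyy])
      exact ⟨e.symm ≪≫ (FibCat.fiberFunctor F T).mapIso i ≪≫ e'⟩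
  · rintro ⟨h1, h2⟩
    refine ⟨fun m => ?_, fun x x' hxx => ?_⟩
    · obtain ⟨y, hy⟩ := h1 m
      obtain ⟨x, ⟨e⟩⟩ := up y
      exact ⟨x, by rw [sec, fibSec_hom π e.hom]; exact hy⟩
    · rw [sec, sec] at hxx
      obtain ⟨i⟩ := h2 _ _ hxx
      exact down x x' ⟨i.hom⟩

variable (huniv : ∀ (N : AlgSp.Sp S), AlgSp.IsAlgSpace N → ∀ φ : 𝒳 ⥤ᵇ AlgSt.ofSp N,
      ∃ ψ : 𝒴 ⥤ᵇ AlgSt.ofSp N, Nonempty (BasedFunctor.comp F ψ ≅ φ) ∧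
        ∀ ψ' : 𝒴 ⥤ᵇ AlgSt.ofSp N, Nonempty (BasedFunctor.comp F ψ' ≅ φ) → Nonempty (ψ' ≅ ψ))

include huniv in
theorem isCatModuli_comp_iff {M : AlgSp.Sp S} (π : 𝒴 ⥤ᵇ AlgSt.ofSp M) :
    AlgSt.IsCatModuli (BasedFunctor.comp F π) ↔ AlgSt.IsCatModuli π := by
  refine and_congr_right fun _ => forall_congr' fun N => imp_congr_right fun hN => ?_
  constructor
  · intro h ψ
    obtain ⟨g, ⟨e⟩, hu⟩ := h (BasedFunctor.comp F ψ)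
    obtain ⟨ψ₀, -, hψ₀⟩ := huniv N hN (BasedFunctor.comp F ψ)
    obtain ⟨a⟩ := hψ₀ ψ ⟨Iso.refl _⟩
    obtain ⟨b⟩ := hψ₀ (BasedFunctor.comp π (AlgSt.ofSpMap g)) ⟨e⟩
    refine ⟨g, ⟨b ≪≫ a.symm⟩, fun g' hg' => hu g' ?_⟩
    obtain ⟨c⟩ := hg'
    exact ⟨StFib.isoWhiskerLeft F c⟩
  · intro h φ
    obtain ⟨ψ, ⟨a⟩, hψ⟩ := huniv N hN φ
    obtain ⟨g, ⟨e⟩, hu⟩ := h ψ
    refine ⟨g, ⟨StFib.isoWhiskerLeft F e ≪≫ a⟩, fun g' hg' => hu g' ?_⟩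
    exact hψ _ hg'

include h𝒳 h𝒴 hF huniv in
theorem main :
    ((∃ (M : AlgSp.Sp S) (π : 𝒴 ⥤ᵇ AlgSt.ofSp M), AlgSt.IsCoarseModuli π) ↔
        ∃ (M : AlgSp.Sp S) (π : 𝒳 ⥤ᵇ AlgSt.ofSp M), AlgSt.IsCoarseModuli π) ∧
      ∀ (M : AlgSp.Sp S) (π : 𝒴 ⥤ᵇ AlgSt.ofSp M), AlgSt.IsCoarseModuli π →
        AlgSt.IsCoarseModuli (BasedFunctor.comp F π) := by
  have key : ∀ (M : AlgSp.Sp S) (π : 𝒴 ⥤ᵇ AlgSt.ofSp M),
      AlgSt.IsCoarseModuli (BasedFunctor.comp F π) ↔ AlgSt.IsCoarseModuli π := fun M π =>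
    and_congr (isCatModuli_comp_iff huniv π) (geomPtBij_comp_iff h𝒳 h𝒴 hF π)
  refine ⟨⟨fun ⟨M, π, h⟩ => ⟨M, _, (key M π).2 h⟩, ?_⟩, fun M π h => (key M π).2 h⟩
  rintro ⟨M, π₀, ⟨hc, hg⟩⟩
  obtain ⟨π, ⟨e⟩, -⟩ := huniv M hc.1 π₀
  refine ⟨M, π, (key M π).1 ⟨⟨hc.1, fun N hN φ => ?_⟩, geomPtBij_of_iso e.symm hg⟩⟩
  obtain ⟨g, ⟨a⟩, hu⟩ := hc.2 N hN φ
  refine ⟨g, ⟨StFib.isoWhiskerRight e _ ≪≫ a⟩, fun g' hg' => hu g' ?_⟩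
  obtain ⟨b⟩ := hg'
  exact ⟨(StFib.isoWhiskerRight e _).symm ≪≫ b⟩

end Groth.Agent.GalCohAux.GerbCoarse
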