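import Groth.Prelude.Def_StGerb2
import Groth.Agent.GalCohAux.GerbBasic
import Groth.Agent.StkLib.Psh

/-!
The presheaf of isomorphism classes of a gerbe over a presheaf.
-/

set_option backward.isDefEq.respectTransparency false
set_option backward.isDefEq.respectTransparency.types false

universe w v₂ u₂ v u

open CategoryTheory CategoryTheory.Functor Opposite Groth.Agent.FibC

namespace Groth.Agent.GalCohAux.GerbIsoCl

variable {C : Type u} [Category.{v} C] {J : GrothendieckTopology C}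
variable {𝒳 : BasedCategory.{v₂, u₂} C}

theorem mk_pullFib [FibCat.IsFibGrpd 𝒳.p] {U V : C} (f : V ⟶ U) (a : 𝒳.p.Fiber U)
    (b : 𝒳.p.Fiber V) (ν : b.1 ⟶ a.1) (hν : 𝒳.p.IsHomLift f ν) :
    Quot.mk (Gerb.IsoRel 𝒳 V) (Gerb.pullFib 𝒳 f a) = Quot.mk (Gerb.IsoRel 𝒳 V) b := by
  obtain ⟨xa, rfl⟩ := a
  obtain ⟨χ, hχ, -⟩ := Gerb.exists_hom_pull 𝒳 xa (f ≫ eqToHom rfl) ν (by simpa using hν)
  exact (Quot.sound ⟨⟨χ, hχ⟩⟩).symm

variable {P : Cᵒᵖ ⥤ Type u₂} (π : 𝒳 ⥤ᵇ Stk.ofPsh P)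

/-- The section of an object of a fibre. -/
def secC {U : C} (a : 𝒳.p.Fiber U) : P.obj (op U) :=
  P.map (eqToHom a.2.symm).op (StkLib.secAt π a.1)

theorem secC_lift {U V : C} {a : 𝒳.p.Fiber U} {b : 𝒳.p.Fiber V} (f : V ⟶ U) (ν : b.1 ⟶ a.1)
    (hν : 𝒳.p.IsHomLift f ν) : P.map f.op (secC π a) = secC π b := by
  obtain ⟨xa, rfl⟩ := a
  obtain ⟨xb, rfl⟩ := b
  have e := IsHomLift.eq_of_isHomLift 𝒳.p f ν
  subst e
  simpa [secC] using StkLib.secAt_map π ν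

theorem secC_eq {U : C} {a b : 𝒳.p.Fiber U} (h : Gerb.IsoRel 𝒳 U a b) : secC π a = secC π b := by
  obtain ⟨φ⟩ := h
  have := secC_lift π (𝟙 U) φ.1 φ.2
  rw [op_id, P.map_id] at this
  exact this.symm

variable [FibCat.IsFibGrpd 𝒳.p]

/-- The comparison map. -/
noncomputable def cmp : Gerb.isoClPsh 𝒳 ⟶ P where
  app U := ↾Quot.lift (fun a => secC π a) (fun _ _ h => secC_eq π h)
  naturality U V f := by
    ext a
    obtain ⟨a⟩ := a
    refine (secC_lift π (a := a) (b := Gerb.pullFib 𝒳 f.unop a) f.unop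
      (Gerb.pullHom 𝒳 a.1 (f.unop ≫ eqToHom a.2.symm)) ?_).symm
    obtain ⟨xa, ha⟩ := a
    exact IsHomLift.of_fac' 𝒳.p _ _ (Gerb.pull_over 𝒳 xa _) ha (by rw [Gerb.pullHom_map])

theorem cmp_mk {U : C} (a : 𝒳.p.Fiber U) :
    (cmp π).app (op U) (Quot.mk (Gerb.IsoRel 𝒳 U) a) = secC π a := rfl

theorem cmp_fib (x : 𝒳.obj) :
    (cmp π).app (op (𝒳.p.obj x)) (Quot.mk _ (Gerb.fib x)) =
      P.map (eqToHom (π.w_obj x).symm).op (π.obj x).sec := by
  rw [cmp_mk]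
  simp [secC, StkLib.secAt]

theorem cmp_locallySurjective (h : Gerb.LocSurjObj J π) :
    Presheaf.IsLocallySurjective J (cmp π) := by
  constructor
  intro U s
  obtain ⟨R, hR, hR'⟩ := h (⟨U, s⟩ : Stk.EltObj P)
  refine J.superset_covering (fun V f hf => ?_) hR
  obtain ⟨x, g, hg⟩ := hR' f hf
  have hx : 𝒳.p.obj x = V := GerbBasic.base_dom (F := π) f g
  subst hx
  refine ⟨Quot.mk _ (Gerb.fib x), ?_⟩
  refine (cmp_fib π x).trans ?_
  have e : g.hom = eqToHom (π.w_obj x) ≫ f := by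
    have := IsHomLift.fac' (Stk.ofPsh P).p f g
    simpa using this
  show _ = P.map f.op s
  rw [← g.map_sec, e]
  show P.map _ (P.map (eqToHom (π.w_obj x) ≫ f).op s) = P.map f.op s
  rw [← Functor.map_comp_apply, ← op_comp, eqToHom_trans_assoc, eqToHom_refl, Category.id_comp]

theorem cmp_locallyInjective (h : Gerb.LocSurjHom J π) :
    Presheaf.IsLocallyInjective J (cmp π) := by
  constructor
  rintro ⟨U⟩ q q' hq
  change Gerb.IsoCl 𝒳 U at q q'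
  obtain ⟨⟨x, hx⟩, rfl⟩ := Quot.mk_surjective q
  obtain ⟨⟨x', hx'⟩, rfl⟩ := Quot.mk_surjective q'
  subst hx
  rw [cmp_mk, cmp_mk] at hq
  let d : π.obj x ⟶ π.obj x' := ⟨eqToHom ((π.w_obj x).trans (hx'.symm.trans (π.w_obj x').symm)), by
    have h' := congrArg (P.map (eqToHom (π.w_obj x)).op) hq
    simp only [secC, StkLib.secAt, ← Functor.map_comp_apply, ← op_comp, eqToHom_trans,
      eqToHom_refl, op_id, P.map_id] at h'
    simp only [ConcreteCategory.id_apply, ← Functor.map_comp_apply, ← op_comp, eqToHom_trans,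
      eqToHom_refl, op_id, P.map_id] at h'
    exact h'.symm⟩
  have hd : (Stk.ofPsh P).p.IsHomLift (𝟙 (𝒳.p.obj x)) d :=
    IsHomLift.of_fac' _ _ _ (π.w_obj x) ((π.w_obj x').trans hx') (by simp [d])
  obtain ⟨R, hR, hR'⟩ := h x x' d hd
  refine J.superset_covering (fun V f hf => ?_) hR
  obtain ⟨z, φ, ψ, hφ, hψ, -⟩ := hR' f hf
  let b : 𝒳.p.Fiber V := ⟨z, IsHomLift.domain_eq 𝒳.p f φ⟩
  exact (mk_pullFib f ⟨x, rfl⟩ b φ hφ).trans (mk_pullFib f ⟨x', hx'⟩ b ψ hψ).symm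

end Groth.Agent.GalCohAux.GerbIsoCl
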