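import Groth.Prelude.Def_StGerb
import Groth.Agent.GalCohAux.GerbBasic
import Groth.Agent.StkLib.Top

/-!
A gerbe over a stack is a gerbe over the site of that stack.
-/

set_option backward.isDefEq.respectTransparency false
set_option backward.isDefEq.respectTransparency.types false

universe v₃ u₃ v₂ u₂ v u

open CategoryTheory CategoryTheory.Functor Groth.Agent.FibC

namespace Groth.Agent.GalCohAux.GerbRestricted

variable {C : Type u} [Category.{v} C] {J : GrothendieckTopology C}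
variable {𝒳 : BasedCategory.{v₂, u₂} C} {𝒴 : BasedCategory.{v₃, u₃} C}

/-- The lifts in `𝒴` of the members of a sieve of `C`. -/
def over (y : 𝒴.obj) {U : C} (hy : 𝒴.p.obj y = U) (R : Sieve U) : Sieve y where
  arrows _ ν := R (𝒴.p.map ν ≫ eqToHom hy)
  downward_closed {a b ν} h k := by
    show R (𝒴.p.map (k ≫ ν) ≫ eqToHom hy)
    rw [Functor.map_comp, Category.assoc]
    exact R.downward_closed h _

theorem over_mem (h : FibCat.IsFibGrpd 𝒴.p) (y : 𝒴.obj) {U : C} (hy : 𝒴.p.obj y = U) (R : Sieve U)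
    (hR : R ∈ J U) : over y hy R ∈ 𝒴.p.restrictedTopology J y := by
  subst hy
  rw [StkLib.mem_restricted_iff h]
  refine J.superset_covering (fun V f hf => ?_) hR
  obtain ⟨w, ν, hν⟩ := exists_lift' h (x := y) rfl f
  rw [StkLib.push_iff h _ f ν]
  show R (𝒴.p.map ν ≫ eqToHom rfl)
  rw [IsHomLift.fac' 𝒴.p f ν]
  simpa using R.downward_closed hf (eqToHom (IsHomLift.domain_eq 𝒴.p f ν))

theorem over_iff {y w : 𝒴.obj} {U : C} {hy : 𝒴.p.obj y = U} {R : Sieve U} (ν : w ⟶ y) :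
    over y hy R ν ↔ R (𝒴.p.map ν ≫ eqToHom hy) := Iff.rfl

theorem lift_eqToHom {y w : 𝒴.obj} {U : C} (hy : 𝒴.p.obj y = U) (ν : w ⟶ y) :
    𝒴.p.IsHomLift (𝒴.p.map ν ≫ eqToHom hy) ν :=
  IsHomLift.of_fac 𝒴.p _ _ rfl hy (by simp)

/-- A gerbe over `𝒴` is, on the site of `𝒴`, locally nonempty and locally connected. -/
theorem toSelf (h𝒴 : FibCat.IsFibGrpd 𝒴.p) (F : 𝒳 ⥤ᵇ 𝒴) (hF : FibCat.IsFibGrpd F.toFunctor)
    (hg : Gerb.IsGerbeOver J F) :
    Gerb.IsGerbeOver (𝒴.p.restrictedTopology J)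
      (FibCat.toSelf (BasedCategory.ofFunctor F.toFunctor)) := by
  constructor
  · intro (y : 𝒴.obj)
    obtain ⟨R, hR, hR'⟩ := GerbBasic.locObj hg.1 y rfl
    refine ⟨over (𝒴 := 𝒴) y rfl R, over_mem h𝒴 y rfl R hR, fun w ν hν => ?_⟩
    obtain ⟨x, g, hgl⟩ := hR' _ hν
    have := lift_eqToHom (U := 𝒴.p.obj y) rfl ν
    obtain ⟨θ, -, -, hθ⟩ := GerbBasic.exists_fac h𝒴 (𝒴.p.map ν ≫ eqToHom rfl) g ν
    obtain ⟨x₁, μ, hμ⟩ := exists_lift' hF (x := x) rfl θ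
    have hw : F.toFunctor.obj x₁ = w := IsHomLift.domain_eq F.toFunctor θ μ
    exact ⟨x₁, eqToHom hw ≫ ν,
      IsHomLift.of_fac (𝟭 𝒴.obj) ν (eqToHom hw ≫ ν) hw rfl (by simp)⟩
  · intro (x : 𝒳.obj) (x' : 𝒳.obj) (b : F.toFunctor.obj x ⟶ F.toFunctor.obj x') hb
    have hb' : (𝟭 𝒴.obj).IsHomLift (𝟙 (F.toFunctor.obj x)) b := hb
    have hxx : F.toFunctor.obj x' = F.toFunctor.obj x :=
      IsHomLift.codomain_eq (𝟭 𝒴.obj) (𝟙 (F.toFunctor.obj x)) b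
    have hbe : b = eqToHom hxx.symm := by
      have := IsHomLift.fac' (𝟭 𝒴.obj) (𝟙 (F.toFunctor.obj x)) b
      simpa using this
    have hbl : 𝒴.p.IsHomLift (𝟙 (𝒳.p.obj x)) b := by
      rw [hbe]
      exact IsHomLift.eqToHom_domain_lift_id hxx.symm (F.w_obj x)
    obtain ⟨R, hR, hR'⟩ := GerbBasic.locHom hg.2 x x' b (U := 𝒳.p.obj x)
    refine ⟨over (F.toFunctor.obj x) (F.w_obj x) R, over_mem h𝒴 _ _ R hR, fun w ν hν => ?_⟩
    obtain ⟨x₀, φ, ψ, hφ, hψ, e⟩ := hR' _ hν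
    have := lift_eqToHom (F.w_obj x) ν
    obtain ⟨θ, -, -, hθ⟩ :=
      GerbBasic.exists_fac h𝒴 (𝒴.p.map ν ≫ eqToHom (F.w_obj x)) (F.toFunctor.map φ) ν
    obtain ⟨x₁, μ, hμ⟩ := exists_lift' hF (x := x₀) rfl θ
    have e1 : F.toFunctor.map μ =
        eqToHom (IsHomLift.domain_eq F.toFunctor θ μ) ≫ θ := by
      have := IsHomLift.fac' F.toFunctor θ μ
      simpa using this
    refine ⟨x₁, μ ≫ φ, μ ≫ ψ,
      IsHomLift.of_fac' F.toFunctor ν (μ ≫ φ) (IsHomLift.domain_eq F.toFunctor θ μ) rfl ?_,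
      IsHomLift.of_fac' F.toFunctor ν (μ ≫ ψ) (IsHomLift.domain_eq F.toFunctor θ μ) hxx ?_, ?_⟩
    · rw [Functor.map_comp, e1, Category.assoc, hθ]
      simp
    · rw [Functor.map_comp, e1, ← e, Category.assoc, reassoc_of% hθ, hbe]
    · show F.toFunctor.map (μ ≫ φ) ≫ b = F.toFunctor.map (μ ≫ ψ)
      rw [Functor.map_comp, Functor.map_comp, Category.assoc, e]

end Groth.Agent.GalCohAux.GerbRestricted
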