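import Groth.Agent.GalCohAux.KerDivisible
import Mathlib.RingTheory.Henselian
import Mathlib.RingTheory.LocalRing.ResidueField.Basic
import Mathlib.Algebra.Ring.GeomSum
import Mathlib.Algebra.CharP.Basic

/-!
Principal units of a henselian local ring are uniquely divisible away from the residue characteristic.
-/

open Polynomial IsLocalRing

namespace Groth.Agent.GalCohAux.HenselUnits

universe u

variable {R : Type u} [CommRing R] [HenselianLocalRing R]

theorem exists_root {N : ℕ} (hN : IsUnit (N : R)) (x : Rˣ) (hx : residue R x = 1) :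
    ∃ y : Rˣ, residue R y = 1 ∧ y ^ N = x := by
  have hN0 : N ≠ 0 := fun h => by simp [h] at hN
  obtain ⟨a, ha, ha1⟩ := HenselianLocalRing.is_henselian (X ^ N - C (x : R))
    (monic_X_pow_sub_C _ hN0) 1
    (by rw [← residue_eq_zero_iff]; simp [hx])
    (by simpa [derivative_X_pow] using hN)
  have hr : residue R a = 1 := by
    rw [← residue_eq_zero_iff, map_sub, map_one, sub_eq_zero] at ha1
    exact ha1
  have hu : IsUnit a := (residue_ne_zero_iff_isUnit a).1 (by rw [hr]; exact one_ne_zero)
  refine ⟨hu.unit, hr, Units.ext ?_⟩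
  simpa [sub_eq_zero] using ha

theorem eq_one_of_pow_eq_one {N : ℕ} (hN : IsUnit (N : R)) (x : Rˣ) (hx : residue R x = 1)
    (h : x ^ N = 1) : x = 1 := by
  have hS : IsUnit (∑ i ∈ Finset.range N, (x : R) ^ i) := by
    rw [← residue_ne_zero_iff_isUnit, map_sum]
    simpa [hx] using (residue_ne_zero_iff_isUnit _).2 hN
  have e := geom_sum_mul (x : R) N
  rw [← Units.val_pow_eq_pow_val, h, Units.val_one, sub_self] at e
  apply Units.ext
  exact sub_eq_zero.1 (hS.mul_right_eq_zero.1 e)

theorem isUnit_natCast {p N : ℕ} [CharP (ResidueField R) p] (hN : ¬ p ∣ N) : IsUnit (N : R) := by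
  rw [← residue_ne_zero_iff_isUnit, map_natCast, Ne, CharP.cast_eq_zero_iff (ResidueField R) p]
  exact hN

end Groth.Agent.GalCohAux.HenselUnits
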