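import Groth.Agent.GalCohAux.GroupCohHomotopy
import Mathlib.RepresentationTheory.Homological.GroupCohomology.LongExactSequence

/-!
Surjections with uniquely divisible kernel induce isomorphisms in positive degree cohomology.
-/

universe u

open CategoryTheory groupCohomology

namespace Groth.Agent.GalCohAux.KerDivisible

variable {k G : Type u} [CommRing k] [Group G] [Finite G]

theorem functor_map_bijective {A B : Rep.{u} k G} (f : A ⟶ B) (hf : Function.Surjective f.hom)
    (hdiv : ∀ a : A, f.hom a = 0 → ∃ b : A, f.hom b = 0 ∧ Nat.card G • b = a)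
    (huniq : ∀ a : A, f.hom a = 0 → Nat.card G • a = 0 → a = 0) (n : ℕ) :
    Function.Bijective ((groupCohomology.functor k G (n + 1)).map f).hom := by
  let _ := Fintype.ofFinite G
  let W : Submodule k A := LinearMap.ker f.hom.toLinearMap
  have hW : ∀ g, W ≤ W.comap (A.ρ g) := fun g a (ha : f.hom a = 0) => by
    show f.hom (A.ρ g a) = 0
    rw [Rep.hom_comm_apply, ha, map_zero]
  let K := Rep.subrepresentation A W hW
  let X : ShortComplex (Rep k G) :=
    ShortComplex.mk (Rep.subtype A W hW) f (Rep.hom_ext (by ext a; exact a.2))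
  have hX : X.ShortExact :=
    { exact := by
        rw [← ShortComplex.exact_map_iff_of_faithful X (forget₂ (Rep k G) (ModuleCat k)),
          ShortComplex.moduleCat_exact_iff]
        intro a ha
        exact ⟨(⟨a, ha⟩ : W), rfl⟩
      mono_f := (Rep.mono_iff_injective X.f).2 Subtype.val_injective
      epi_g := (Rep.epi_iff_surjective X.g).2 hf }
  have hK : ∀ m, Subsingleton (groupCohomology X.X₁ (m + 1)) := fun m => by
    refine GroupCohHomotopy.subsingleton_of_natCard_bijective X.X₁ ⟨fun a b e => ?_, fun a => ?_⟩ m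
    · apply Subtype.ext
      have e' : Nat.card G • a.1 = Nat.card G • b.1 := congrArg Subtype.val e
      refine sub_eq_zero.1 (huniq _ ?_ ?_)
      · exact (a - b : W).2
      · rw [nsmul_sub, e', sub_self]
    · obtain ⟨b, hb, hb'⟩ := hdiv a.1 a.2
      exact ⟨(⟨b, hb⟩ : W), Subtype.ext hb'⟩
  constructor
  · refine (injective_iff_map_eq_zero _).2 fun x hx => ?_
    obtain ⟨y, rfl⟩ :=
      (ShortComplex.moduleCat_exact_iff _).1 (mapShortComplex₂_exact hX (n + 1)) x hx
    rw [(hK n).elim y 0]
    exact map_zero _
  · intro z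
    exact (ShortComplex.moduleCat_exact_iff _).1
      (mapShortComplex₃_exact hX (i := n + 1) rfl) z ((hK (n + 1)).elim _ _)

end Groth.Agent.GalCohAux.KerDivisible
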