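import Groth.Agent.GalCohAux.LangGen
import Groth.Agent.GalCohAux.FiniteFieldCocycle
import Groth.Prelude.Def_GalTw

/-!
Points of short exact sequences of smooth groups over finite fields.
-/

set_option autoImplicit false

universe u

open CategoryTheory CategoryTheory.Limits MonoidalCategory CartesianMonoidalCategory MonObj AlgebraicGeometry

namespace Groth.Agent.GalCohAux.LangExact

open StackLevels

variable {k : Type u} [Field k]

/-- A scheme of finite type over `k` has finitely many points in a finite level. -/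
theorem finite_pts [Finite k] {k' : Type u} [Field k'] [Algebra k k'] {kb : Type u} [Field kb] [Algebra k kb]
    [Algebra k' kb] [IsScalarTower k k' kb] (L : IntermediateField k' kb) [Finite L]
    (X : Over (Spec (CommRingCat.of k))) [LocallyOfFiniteType X.hom] [QuasiCompact X.hom] :
    Finite (ptL k L ⟶ X) := by
  classical
  have : CompactSpace X.left := QuasiCompact.compactSpace_of_compactSpace X.hom
  obtain ⟨t, ht⟩ := isCompact_univ.elim_finite_subcover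
    (fun U : X.left.affineOpens => (U.1 : Set X.left)) (fun U => U.1.isOpen) (fun x _ => by
      obtain ⟨U, hU, hxU, -⟩ := exists_isAffineOpen_mem_and_subset (x := x) (U := ⊤) trivial
      exact Set.mem_iUnion.2 ⟨⟨U, hU⟩, hxU⟩)
  let Z : t → Over (Spec (CommRingCat.of k)) := fun U => Over.mk (U.1.1.ι ≫ X.hom)
  have hfin : ∀ U : t, Finite (ptL k L ⟶ Z U) := fun U => by
    have : IsAffine (Z U).left := U.1.2
    have : LocallyOfFiniteType (Z U).hom := inferInstanceAs (LocallyOfFiniteType (U.1.1.ι ≫ X.hom))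
    exact StackLevels.finite_pts (k := k) L
  let f : (Σ U : t, (ptL k L ⟶ Z U)) → (ptL k L ⟶ X) := fun p => p.2 ≫ Over.homMk p.1.1.1.ι rfl
  refine Finite.of_surjective f fun x => ?_
  have hp : Subsingleton (ptL k L).left :=
    inferInstanceAs (Subsingleton (PrimeSpectrum ↥(L.restrictScalars k)))
  let p : (ptL k L).left := ⟨⊥, Ideal.isPrime_bot⟩
  obtain ⟨U, hUt, hU⟩ := Set.mem_iUnion₂.1 (ht (Set.mem_univ (x.left p)))
  have hr : Set.range x.left ⊆ Set.range U.1.ι := by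
    rintro _ ⟨q, rfl⟩
    rw [Subsingleton.elim q p, Scheme.Opens.range_ι]
    exact hU
  let l := IsOpenImmersion.lift U.1.ι x.left hr
  refine ⟨⟨⟨U, hUt⟩, Over.homMk l ?_⟩, Over.OverMorphism.ext (IsOpenImmersion.lift_fac _ _ hr)⟩
  show l ≫ U.1.ι ≫ X.hom = _
  rw [← Category.assoc, IsOpenImmersion.lift_fac, Over.w]

/-- A continuous cocycle with a prescribed value at the Frobenius. -/
theorem exists_cocycle [Finite k] {kb : Type u} [Field kb] [Algebra k kb] [IsGalois k kb] [IsSepClosed kb]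
    {G : Over (Spec (CommRingCat.of k))} [GrpObj G] [Smooth G.hom] [QuasiCompact G.hom]
    {σ : kb ≃ₐ[k] kb} (hσ : ∀ x : kb, σ x = x ^ Nat.card k) (a : SGA7.Pts kb G) :
    ∃ z : GpH1.OneCocycleLC (kb ≃ₐ[k] kb) (SGA7.Pts kb G), z.1 σ = a := by
  obtain ⟨L₀, hL₀, ha₀⟩ := exists_isAt (k' := k) a
  obtain ⟨L, hL, hgal, hle, -⟩ := exists_common_level L₀ L₀
  obtain ⟨w, hw⟩ := isAt_mono hle ha₀
  haveI : Finite L := Module.finite_of_finite k
  haveI : Finite (ptL k L ⟶ G) := finite_pts (k := k) L G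
  let φ : (ptL k L ⟶ G) →* SGA7.Pts kb G :=
    MonoidHom.mk' (fun w => (jL k L ≫ w : SGA7.Pts kb G)) fun w w' => MonObj.comp_mul _ w w'
  refine FiniteFieldCocycle.exists_cocycle hσ (fun a => StackFrob.isOpen_stabilizer a) a φ.range
    (Set.finite_range φ) ⟨w, hw⟩ ?_
  rintro τ _ ⟨w, rfl⟩
  refine ⟨galL k L (AlgEquiv.restrictNormalHom L τ) ≫ w, ?_⟩
  show jL k L ≫ galL k L (AlgEquiv.restrictNormalHom L τ) ≫ w = gal k τ ≫ jL k L ≫ w
  rw [← Category.assoc (gal k τ), gal_jL, Category.assoc]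

variable {A B C : Over (Spec (CommRingCat.of k))} [GrpObj A] [GrpObj B] [GrpObj C]
variable {i : A ⟶ B} {π : B ⟶ C} [IsMonHom i] [IsMonHom π]
variable (hex : NonAbH1.IsExactSeq Scheme.fppfPrecoverage i π)

include hex

omit [IsMonHom i] [IsMonHom π] in
theorem i_π {T : Over (Spec (CommRingCat.of k))} (a : T ⟶ A) : (a ≫ i) ≫ π = 1 := by
  rw [Category.assoc, hex.2.2.1, MonObj.comp_one]

omit [IsMonHom i] [IsMonHom π] in
theorem i_injective {T : Over (Spec (CommRingCat.of k))} {a a' : T ⟶ A} (h : a ≫ i = a' ≫ i) : a = a' := by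
  have e : lift (1 : T ⟶ B) a = lift (1 : T ⟶ B) a' := hex.2.2.2.1.hom_ext (by rw [lift_fst, lift_fst]) (by
    rw [lift_whiskerLeft_assoc, lift_whiskerLeft_assoc, h])
  simpa using congrArg (· ≫ snd B A) e

omit [IsMonHom i] in
theorem exists_of_π {T : Over (Spec (CommRingCat.of k))} (v : T ⟶ B) (h : v ≫ π = 1) :
    ∃ a : T ⟶ A, a ≫ i = v := by
  let w := hex.2.2.2.1.lift (1 : T ⟶ B) v (by rw [MonObj.one_comp, h])
  refine ⟨w ≫ snd B A, ?_⟩
  have h1 : w ≫ fst B A = 1 := hex.2.2.2.1.lift_fst _ _ _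
  have h2 : w ≫ (B ◁ i) ≫ μ[B] = v := hex.2.2.2.1.lift_snd _ _ _
  have ew : w = lift (w ≫ fst B A) (w ≫ snd B A) := by
    apply CartesianMonoidalCategory.hom_ext <;> simp
  rw [ew, lift_whiskerLeft_assoc, h1, ← Hom.mul_def, _root_.one_mul] at h2
  exact h2

/-- The conjugation action on the kernel. -/
theorem exists_conj : ∃ c : B ⊗ A ⟶ A, c ≫ i = fst B A * (snd B A ≫ i) * (fst B A)⁻¹ :=
  exists_of_π hex _ (by
    rw [MonObj.mul_comp, MonObj.mul_comp, i_π hex, GrpObj.inv_comp, _root_.mul_one, mul_inv_cancel])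

variable {kb : Type u} [Field kb] [Algebra k kb] [IsAlgClosed kb]

omit [IsMonHom i] [IsMonHom π] in
/-- Surjectivity on geometric points. -/
theorem surjective_π [LocallyOfFiniteType B.hom] (c : SGA7.pt (K := k) kb ⟶ C) :
    ∃ b : SGA7.pt (K := k) kb ⟶ B, b ≫ π = c := by
  obtain ⟨R, hR, hsec⟩ := hex.2.2.2.2
  obtain ⟨hj, hfl⟩ := hR
  obtain ⟨p⟩ : Nonempty ↥(SGA7.pt (K := k) kb).left := ⟨⟨⊥, Ideal.isPrime_bot⟩⟩
  obtain ⟨Y, f, hf, y, hy⟩ :=
    (Presieve.mem_comap_jointlySurjectivePrecoverage_iff Scheme.forget).mp hj (c.left p)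
  have : LocallyOfFinitePresentation f := (hfl hf).2
  obtain ⟨s, hs⟩ := hsec f hf
  have : Nonempty ↥(pullback f c.left) := by
    obtain ⟨v, -, -⟩ := Scheme.Pullback.exists_preimage_pullback (f := f) (g := c.left) y p hy
    exact ⟨v⟩
  obtain ⟨q, hq⟩ := StackTorsor.exists_algebraic_point (k' := kb) (kb := kb) (pullback f c.left)
    (pullback.snd f c.left)
  rw [Algebra.algebraMap_self, CommRingCat.ofHom_id, Spec.map_id] at hq
  have h2 : (q ≫ pullback.fst f c.left ≫ s) ≫ π.left = c.left := by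
    rw [Category.assoc, Category.assoc, show s ≫ π.left = f from hs, pullback.condition, reassoc_of% hq]
  refine ⟨Over.homMk (q ≫ pullback.fst f c.left ≫ s) ?_, Over.OverMorphism.ext h2⟩
  rw [← Over.w π, ← Category.assoc, h2, Over.w]

variable [Finite k] [Smooth A.hom] [ConnectedSpace A.left]

/-- Twisted Lang theorem for the kernel. -/
theorem twisted_lang {σ : kb ≃ₐ[k] kb} (hσ : ∀ x : kb, σ x = x ^ Nat.card k)
    (b : SGA7.pt (K := k) kb ⟶ B) (a : SGA7.pt (K := k) kb ⟶ A) :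
    ∃ u : SGA7.pt (K := k) kb ⟶ A, (a ≫ i) * b = (u ≫ i) * b * (gal k σ ≫ u ≫ i)⁻¹ := by
  obtain ⟨c, hc⟩ := exists_conj hex
  let P := SGA7.pt (K := k) kb
  let C₀ : A ⊗ P ⟶ A := (lift (snd A P ≫ b) (fst A P) ≫ c)⁻¹
  obtain ⟨g, g', h⟩ := LangGen.exists_meet ((snd A P ≫ a) * C₀) C₀
  have hC : ∀ h : P ⟶ A, (lift h (𝟙 P) ≫ C₀) ≫ i = b * (h ≫ i)⁻¹ * b⁻¹ := fun h => by
    simp only [C₀]
    rw [GrpObj.comp_inv, GrpObj.inv_comp, Category.assoc, Category.assoc, hc, comp_lift_assoc, lift_snd_assoc,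
      lift_fst, Category.id_comp, MonObj.comp_mul, MonObj.comp_mul, GrpObj.comp_inv, lift_snd_assoc, lift_fst,
      mul_inv_rev, mul_inv_rev, inv_inv, ← _root_.mul_assoc]
  rw [MonObj.comp_mul, lift_snd_assoc, Category.id_comp] at h
  have h' := congrArg (· ≫ i) h
  simp only [MonObj.mul_comp] at h'
  rw [hC, hC, LangGen.frob_pt A hσ, LangGen.frob_pt A hσ] at h'
  refine ⟨g⁻¹ * g', ?_⟩
  have e : gal k σ ≫ (g⁻¹ * g') ≫ i = (gal k σ ≫ g ≫ i)⁻¹ * (gal k σ ≫ g' ≫ i) := by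
    rw [MonObj.mul_comp, MonObj.comp_mul, GrpObj.inv_comp, GrpObj.comp_inv]
  rw [e, MonObj.mul_comp, GrpObj.inv_comp]
  rw [Category.assoc, Category.assoc] at h'
  set G₁ := g ≫ i
  set G₂ := g' ≫ i
  set F₁ := gal k σ ≫ G₁
  set F₂ := gal k σ ≫ G₂
  calc (a ≫ i) * b = G₁⁻¹ * (G₁ * ((a ≫ i) * (b * F₁⁻¹ * b⁻¹))) * (b * F₁) := by group
    _ = G₁⁻¹ * (G₂ * (b * F₂⁻¹ * b⁻¹)) * (b * F₁) := by rw [h']
    _ = G₁⁻¹ * G₂ * b * (F₁⁻¹ * F₂)⁻¹ := by group

/-- Lifting of twisted conjugates along the quotient map. -/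
theorem exists_twisted_lift {σ : kb ≃ₐ[k] kb} (hσ : ∀ x : kb, σ x = x ^ Nat.card k)
    [LocallyOfFiniteType B.hom] (b b' : SGA7.pt (K := k) kb ⟶ B) (g : SGA7.pt (K := k) kb ⟶ C)
    (h : b' ≫ π = g * (b ≫ π) * (gal k σ ≫ g)⁻¹) :
    ∃ g' : SGA7.pt (K := k) kb ⟶ B, g' ≫ π = g ∧ b' = g' * b * (gal k σ ≫ g')⁻¹ := by
  obtain ⟨g₀, rfl⟩ := surjective_π hex g
  let w := g₀ * b * (gal k σ ≫ g₀)⁻¹
  obtain ⟨a, ha⟩ := exists_of_π hex (b' * w⁻¹) (by
    simp only [w, MonObj.mul_comp, GrpObj.inv_comp, h, Category.assoc]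
    group)
  obtain ⟨u, hu⟩ := twisted_lang hex hσ w a
  refine ⟨(u ≫ i) * g₀, by rw [MonObj.mul_comp, i_π hex, _root_.one_mul], ?_⟩
  rw [ha, inv_mul_cancel_right] at hu
  rw [hu, MonObj.comp_mul]
  simp only [w]
  group

open StackCount StackTorsor

theorem sm_i (c : AlgGrp.Action B A) (hc : c.act ≫ i = fst B A * (snd B A ≫ i) * (fst B A)⁻¹)
    {T : Over (Spec (CommRingCat.of k))} (b : T ⟶ B) (a : T ⟶ A) :
    sm c b a ≫ i = b * (a ≫ i) * b⁻¹ := by
  rw [sm, Category.assoc, hc, MonObj.comp_mul, MonObj.comp_mul, GrpObj.comp_inv, lift_snd_assoc, lift_fst]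

variable [IsGalois k kb] [Smooth B.hom] [Smooth C.hom]

/-- The points of the inner form: extension of those of the quotient by those of the twist. -/
theorem card_cent {σ : kb ≃ₐ[k] kb} (hσ : ∀ x : kb, σ x = x ^ Nat.card k)
    (c : AlgGrp.Action B A) (hc : c.act ≫ i = fst B A * (snd B A ≫ i) * (fst B A)⁻¹)
    (z : GpH1.OneCocycleLC (kb ≃ₐ[k] kb) (SGA7.Pts kb B)) (y : GpH1.OneCocycleLC (kb ≃ₐ[k] kb) (SGA7.Pts kb C))
    (hy : ∀ τ, y.1 τ = z.1 τ ≫ π) :
    Nat.card (cent (k' := k) (fun τ => z.1 τ)) =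
      Nat.card (Fix c (fun τ => z.1 τ)) * Nat.card (cent (k' := k) (fun τ => y.1 τ)) := by
  have hmem : ∀ g : cent (k' := k) (fun τ => z.1 τ), g.1 ≫ π ∈ cent (k' := k) (fun τ => y.1 τ) := fun g τ => by
    show y.1 τ * _ = _ * y.1 τ
    rw [hy, ← Category.assoc, ← MonObj.mul_comp, g.2 τ, MonObj.mul_comp]
  let φ : cent (k' := k) (fun τ => z.1 τ) →* cent (k' := k) (fun τ => y.1 τ) :=
    MonoidHom.mk' (fun g => ⟨g.1 ≫ π, hmem g⟩) fun g g' => Subtype.ext (MonObj.mul_comp g.1 g'.1 π)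
  have hφ : Function.Surjective φ := by
    rintro ⟨h, hh⟩
    have e : y.1 σ * (gal k σ ≫ h) = h * y.1 σ := hh σ
    rw [hy] at e
    obtain ⟨g, hgπ, hg⟩ := exists_twisted_lift hex hσ (z.1 σ) (z.1 σ) h (eq_mul_inv_iff_mul_eq.2 e)
    exact ⟨⟨g, (StackFrob.cent_iff hσ z g).2 hg.symm⟩, Subtype.ext hgπ⟩
  have hiff : ∀ a : SGA7.pt (K := k) kb ⟶ A,
      a ≫ i ∈ cent (k' := k) (fun τ => z.1 τ) ↔ ∀ τ, sm c (z.1 τ) (gal k τ ≫ a) = a := fun a => by
    refine forall_congr' fun τ => ⟨fun h => i_injective hex ?_, fun h => ?_⟩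
    · rw [sm_i hex c hc, Category.assoc]
      exact mul_inv_eq_iff_eq_mul.2 h
    · have h1 : sm c (z.1 τ) (gal k τ ≫ a) ≫ i = a ≫ i := congrArg (· ≫ i) h
      rw [sm_i hex c hc, Category.assoc] at h1
      exact mul_inv_eq_iff_eq_mul.1 h1
  let e : Fix c (fun τ => z.1 τ) → φ.ker := fun a =>
    ⟨⟨a.1 ≫ i, (hiff a.1).2 a.2⟩, MonoidHom.mem_ker.2 (Subtype.ext (i_π hex a.1))⟩
  have he : Function.Bijective e := by
    constructor
    · intro a a' h
      exact Subtype.ext (i_injective hex (congrArg (fun t : φ.ker => t.1.1) h))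
    · intro g
      obtain ⟨a, ha⟩ := exists_of_π hex g.1.1 (congrArg Subtype.val (MonoidHom.mem_ker.1 g.2))
      exact ⟨⟨a, (hiff a).1 (ha ▸ g.1.2)⟩, Subtype.ext (Subtype.ext ha)⟩
  rw [Nat.card_congr (Equiv.ofBijective e he),
    ← Nat.card_congr (QuotientGroup.quotientKerEquivOfSurjective φ hφ).toEquiv,
    _root_.mul_comm, ← Subgroup.card_eq_card_quotient_mul_card_subgroup]

end Groth.Agent.GalCohAux.LangExact
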