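import Groth.Agent.GalCohAux.GroupCohHomotopy
import Mathlib.RepresentationTheory.Homological.GroupCohomology.LongExactSequence
import Mathlib.RingTheory.RootsOfUnity.EnoughRootsOfUnity
import Mathlib.FieldTheory.IsSepClosed
import Mathlib.RingTheory.RootsOfUnity.AlgebraicallyClosed

/-!
Schur multipliers: `H²(Q, kˣ) = 0` if `H³(Q, ℤ) = 0`.
-/

universe u

open CategoryTheory groupCohomology

namespace Groth.Agent.GalCohAux.RootsH2

instance functor_additive {k G : Type u} [CommRing k] [Group G] (n : ℕ) :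
    (groupCohomology.functor k G n).Additive where
  map_add {A B f g} := by
    show HomologicalComplex.homologyMap ((cochainsFunctor k G).map (f + g)) n =
      HomologicalComplex.homologyMap ((cochainsFunctor k G).map f) n +
        HomologicalComplex.homologyMap ((cochainsFunctor k G).map g) n
    rw [Functor.map_add, HomologicalComplex.homologyMap_add]

theorem map_nsmul_id {k G : Type u} [CommRing k] [Group G] [Finite G] (A : Rep.{u} k G) (f : A ⟶ A)
    (hf : ∀ a : A, f.hom a = Nat.card G • a) (n : ℕ) (x : groupCohomology A (n + 1)) :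
    ((groupCohomology.functor k G (n + 1)).map f).hom x = 0 := by
  let _ := Fintype.ofFinite G
  have e : f = Nat.card G • 𝟙 A := by
    refine Rep.hom_ext ?_
    refine Representation.IntertwiningMap.ext (LinearMap.ext fun a => ?_)
    rw [Rep.nsmul_hom]
    show f.hom a = Nat.card G • a
    exact hf a
  rw [e, Functor.map_nsmul, CategoryTheory.Functor.map_id]
  exact GroupCohHomotopy.natCard_smul_eq_zero A n x

theorem shortExact_of {k G : Type u} [CommRing k] [Group G] (X : ShortComplex (Rep.{u} k G))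
    (hi : Function.Injective X.f.hom) (hs : Function.Surjective X.g.hom)
    (he : ∀ a, X.g.hom a = 0 → ∃ b, X.f.hom b = a) : X.ShortExact where
  exact := by
    rw [← ShortComplex.exact_map_iff_of_faithful X (forget₂ (Rep k G) (ModuleCat k)),
      ShortComplex.moduleCat_exact_iff]
    exact he
  mono_f := (Rep.mono_iff_injective X.f).2 hi
  epi_g := (Rep.epi_iff_surjective X.g).2 hs

variable {Q : Type} [Group Q]

/-- A morphism of trivial representations. -/
noncomputable def trivHom {V W : Type} [AddCommGroup V] [AddCommGroup W] (f : V →+ W) :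
    Rep.trivial ℤ Q V ⟶ Rep.trivial ℤ Q W :=
  Rep.ofHom ⟨f.toIntLinearMap, fun g => by ext v; simp⟩

theorem subsingleton_H2 [Finite Q] (hQ : Subsingleton (groupCohomology (Rep.trivial ℤ Q ℤ) 3))
    (k : Type) [Field k] [IsSepClosed k] (hN : ((Nat.card Q : ℕ) : k) ≠ 0) :
    Subsingleton (groupCohomology (Rep.trivial ℤ Q (Additive kˣ)) 2) := by
  set N := Nat.card Q with hNdef
  have : NeZero (N : k) := ⟨hN⟩
  have hroot : ∀ x : kˣ, ∃ y : kˣ, y ^ N = x := fun x => by
    obtain ⟨z, hz⟩ := IsSepClosed.exists_pow_nat_eq (x : k) N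
    have hz0 : z ≠ 0 := fun h => x.ne_zero (by rw [← hz, h, zero_pow (Nat.card_pos).ne'])
    exact ⟨Units.mk0 z hz0, Units.ext hz⟩
  obtain ⟨ζ₀, hζ₀⟩ := HasEnoughRootsOfUnity.exists_primitiveRoot k N
  obtain ⟨ζ, rfl⟩ : ∃ ζ : kˣ, (ζ : k) = ζ₀ :=
    ⟨(hζ₀.isUnit Nat.card_pos.ne').unit, rfl⟩
  have hζ : IsPrimitiveRoot ζ N := IsPrimitiveRoot.coe_units_iff.1 hζ₀
  obtain ⟨η, hη⟩ := hroot ζ
  let A := Rep.trivial ℤ Q (Additive kˣ)
  let Z := Rep.trivial ℤ Q ℤ
  let mulN : A ⟶ A := trivHom (nsmulAddMonoidHom N : Additive kˣ →+ Additive kˣ)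
  have hmulN : ∀ a : Additive kˣ, (mulN.hom (a : A) : Additive kˣ) = N • a := fun a => rfl
  let W : Submodule ℤ A := LinearMap.ker mulN.hom.toLinearMap
  have hW : ∀ g, W ≤ W.comap (A.ρ g) := fun g a (ha : mulN.hom a = 0) => by
    show mulN.hom (A.ρ g a) = 0
    rw [Rep.hom_comm_apply, ha, map_zero]
  let K := Rep.subrepresentation A W hW
  let X : ShortComplex (Rep ℤ Q) :=
    ShortComplex.mk (Rep.subtype A W hW) mulN
      (Rep.hom_ext (Representation.IntertwiningMap.ext (LinearMap.ext fun a => a.2)))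
  have hX : X.ShortExact := shortExact_of X Subtype.val_injective
    (fun a => by
      obtain ⟨y, hy⟩ := hroot (Additive.toMul (a : Additive kˣ))
      exact ⟨Additive.ofMul y, (hmulN _).trans (congrArg Additive.ofMul hy)⟩)
    (fun a ha => ⟨(⟨a, ha⟩ : W), rfl⟩)
  let zm : ℤ →+ Additive kˣ := zmultiplesHom (Additive kˣ) (Additive.ofMul ζ)
  have hζW : ∀ m : ℤ, ((trivHom (Q := Q) zm).hom m : A) ∈ W := fun m => by
    show N • (m • (Additive.ofMul ζ : Additive kˣ)) = 0
    rw [← natCast_zsmul, smul_smul, mul_comm, mul_smul, natCast_zsmul,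
      show N • (Additive.ofMul ζ : Additive kˣ) = 0 from congrArg Additive.ofMul hζ.pow_eq_one,
      zsmul_zero]
  let ψ : Z ⟶ K := Rep.ofHom ⟨LinearMap.codRestrict W (trivHom (Q := Q) zm).hom.toLinearMap hζW,
    fun g => LinearMap.ext fun m => rfl⟩
  let mulZ : Z ⟶ Z := trivHom (nsmulAddMonoidHom N : ℤ →+ ℤ)
  let Y : ShortComplex (Rep ℤ Q) := ShortComplex.mk mulZ ψ
    (Rep.hom_ext (Representation.IntertwiningMap.ext (LinearMap.ext fun m => Subtype.ext (by
    show (N • (m : ℤ)) • (Additive.ofMul ζ : Additive kˣ) = 0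
    rw [nsmul_eq_mul, mul_comm, mul_smul, natCast_zsmul,
      show N • (Additive.ofMul ζ : Additive kˣ) = 0 from congrArg Additive.ofMul hζ.pow_eq_one,
      zsmul_zero]))))
  have hY : Y.ShortExact := by
    refine shortExact_of Y (fun a b e => ?_) (fun z => ?_) (fun m hm => ?_)
    · have e' : N • (a : ℤ) = N • (b : ℤ) := e
      exact smul_right_injective ℤ Nat.card_pos.ne' e'
    · let z' : Additive kˣ := z.1
      have h₀ : N • z' = 0 := z.2
      have h' : (Additive.toMul z') ^ N = 1 := congrArg Additive.toMul h₀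
      have : NeZero N := ⟨Nat.card_pos.ne'⟩
      obtain ⟨i, -, hi⟩ := hζ₀.eq_pow_of_pow_eq_one (congrArg Units.val h')
      refine ⟨(i : ℤ), Subtype.ext ?_⟩
      show ((i : ℤ) • (Additive.ofMul ζ : Additive kˣ)) = z'
      rw [natCast_zsmul]
      exact congrArg Additive.ofMul (Units.ext hi : ζ ^ i = Additive.toMul z')
    · have h' : ζ ^ (m : ℤ) = 1 := congrArg (fun z : W => Additive.toMul (z.1 : Additive kˣ)) hm
      obtain ⟨c, hc⟩ := (hζ.zpow_eq_one_iff_dvd _).1 h'
      refine ⟨c, ?_⟩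
      show N • (c : ℤ) = m
      rw [nsmul_eq_mul]; exact hc.symm
  refine subsingleton_of_forall_eq 0 fun x => ?_
  obtain ⟨y, rfl⟩ := (ShortComplex.moduleCat_exact_iff _).1 (mapShortComplex₂_exact hX 2) x
    (map_nsmul_id A mulN hmulN 1 x)
  obtain ⟨z, rfl⟩ := (ShortComplex.moduleCat_exact_iff _).1
    (mapShortComplex₃_exact hY (i := 2) (j := 3) rfl) y (hQ.elim _ _)
  have e : ψ ≫ Rep.subtype A W hW =
      mulZ ≫ trivHom (zmultiplesHom (Additive kˣ) (Additive.ofMul η)) := by
    refine Rep.hom_ext (Representation.IntertwiningMap.ext (LinearMap.ext_ring ?_))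
    show (1 : ℤ) • (Additive.ofMul ζ : Additive kˣ) = (N • (1 : ℤ)) • (Additive.ofMul η : Additive kˣ)
    rw [one_smul, nsmul_eq_mul, mul_one, natCast_zsmul]
    exact congrArg Additive.ofMul hη.symm
  show (((groupCohomology.functor ℤ Q 2).map ψ) ≫
    (groupCohomology.functor ℤ Q 2).map (Rep.subtype A W hW)).hom z = 0
  rw [← Functor.map_comp, e, Functor.map_comp, ModuleCat.comp_apply,
    map_nsmul_id Z mulZ (fun _ => rfl) 1 z, map_zero]

end Groth.Agent.GalCohAux.RootsH2
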