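import Groth.Agent.GalCohAux.AlgUnitsH1
import Groth.Agent.CSA.RedNorm
import Mathlib.FieldTheory.Galois.Basic

/-!
`H¹` of the norm one units of a split central simple algebra.
-/

universe u v w

open TensorProduct Module

namespace Groth.Agent.GalCohAux.SL1H1

attribute [local instance] CSAGal.tensorAction GpH1.unitsAction

variable {k : Type u} [Field k] {K : Type v} [Field K] [Algebra k K] [FiniteDimensional k K]
variable {A : Type w} [Ring A] [Algebra k A] [Algebra.IsCentral k A] [IsSimpleRing A] [FiniteDimensional k A]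
variable {n : ℕ} (φ : K ⊗[k] A ≃ₐ[K] Matrix (Fin n) (Fin n) K)
variable {N : A →* k} (hN : CSAGal.IsRedNorm k A N)
variable {NK : (K ⊗[k] A) →* K} (hNK : CSAGal.IsRedNorm K (K ⊗[k] A) NK)

theorem isCentral_tensor (hn : n ≠ 0) (ψ : K ⊗[k] A ≃ₐ[K] Matrix (Fin n) (Fin n) K) :
    Algebra.IsCentral K (K ⊗[k] A) := by
  have : NeZero n := ⟨hn⟩
  refine ⟨fun z hz => ?_⟩
  rw [Subalgebra.mem_center_iff] at hz
  have h : ψ z ∈ Subalgebra.center K (Matrix (Fin n) (Fin n) K) := by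
    rw [Subalgebra.mem_center_iff]
    intro M
    obtain ⟨y, rfl⟩ := ψ.surjective M
    rw [← map_mul, ← map_mul, hz y]
  rw [Algebra.IsCentral.center_eq_bot, Algebra.mem_bot] at h
  obtain ⟨c, hc⟩ := h
  rw [Algebra.mem_bot]
  exact ⟨c, ψ.injective (by rw [AlgEquiv.commutes, hc])⟩

include φ in
theorem finrank_tensor : Module.finrank K (K ⊗[k] A) = n ^ 2 := by
  rw [φ.toLinearEquiv.finrank_eq, Module.finrank_matrix, Module.finrank_self]
  simp [sq]

include φ in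
theorem finrank_alg : Module.finrank k A = n ^ 2 := by
  rw [← Module.finrank_baseChange (R := K), finrank_tensor φ]

include hNK in
/-- The reduced norm of the split algebra is a determinant in any representation. -/
theorem eq_det (hn : n ≠ 0) (ψ : K ⊗[k] A ≃ₐ[K] Matrix (Fin n) (Fin n) K)
    (f : K ⊗[k] A →ₐ[K] Matrix (Fin n) (Fin n) K) (z : K ⊗[k] A) : NK z = (f z).det := by
  have := isCentral_tensor hn ψ
  have : IsSimpleRing (K ⊗[k] A) := CSA.isSimpleRing_tensor_right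
  have h := CSA.redNorm_eq_det hNK (finrank_tensor ψ) f z
  rwa [Algebra.algebraMap_self, RingHom.id_apply] at h

include hNK in
theorem equivariant (hn : n ≠ 0) (ψ : K ⊗[k] A ≃ₐ[K] Matrix (Fin n) (Fin n) K) (σ : K ≃ₐ[k] K) (z : K ⊗[k] A) :
    NK (σ • z) = σ (NK z) := by
  let g : K ⊗[k] A →ₐ[K] Matrix (Fin n) (Fin n) K :=
    { toFun := fun y => (ψ (σ⁻¹ • y)).map σ
      map_one' := by rw [smul_one, map_one, Matrix.map_one _ (map_zero σ) (map_one σ)]
      map_mul' := fun y y' => by rw [smul_mul', map_mul, Matrix.map_mul]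
      map_zero' := by rw [smul_zero, map_zero, Matrix.map_zero _ (map_zero σ)]
      map_add' := fun y y' => by rw [smul_add, map_add, Matrix.map_add _ (map_add σ)]
      commutes' := fun c => by
        rw [Algebra.algebraMap_eq_smul_one, AlgUnitsH1.smul_smul_eq, smul_one, map_smul, map_one]
        ext i j
        by_cases hij : i = j <;>
          simp [Matrix.algebraMap_matrix_apply, Matrix.one_apply, hij, smul_eq_mul] }
  have h1 := eq_det hNK hn ψ g (σ • z)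
  have h2 : g (σ • z) = (σ : K →+* K).mapMatrix (ψ z) := by
    show (ψ (σ⁻¹ • σ • z)).map σ = _
    rw [inv_smul_smul]
    rfl
  rw [h1, h2, ← RingHom.map_det]
  exact congrArg σ (eq_det hNK hn ψ ψ.toAlgHom z).symm

include hN hNK in
theorem compat (hn : n ≠ 0) (ψ : K ⊗[k] A ≃ₐ[K] Matrix (Fin n) (Fin n) K) (a : A) :
    NK ((1 : K) ⊗ₜ[k] a) = algebraMap k K (N a) := by
  rw [eq_det hNK hn ψ ψ.toAlgHom, CSA.redNorm_eq_det hN (finrank_alg ψ)
    ((ψ.toAlgHom.restrictScalars k).comp Algebra.TensorProduct.includeRight)]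
  rfl

theorem tmul_one_inj {a b : A} (h : (1 : K) ⊗ₜ[k] a = (1 : K) ⊗ₜ[k] b) : a = b := by
  exact Algebra.TensorProduct.includeRight_injective (RingHom.injective (algebraMap k K)) h

theorem smul_units_coe (σ : K ≃ₐ[k] K) (b : (K ⊗[k] A)ˣ) :
    ((σ • b : (K ⊗[k] A)ˣ) : K ⊗[k] A) = σ • (b : K ⊗[k] A) := rfl

include φ hN hNK in
theorem main [IsGalois k K] (hn : n ≠ 0) :
    (∀ a : GpH1.OneCocycle (K ≃ₐ[k] K) (K ⊗[k] A)ˣ, (∀ σ, NK (a σ : K ⊗[k] A) = 1) →
        ∃ (c : kˣ) (b : (K ⊗[k] A)ˣ), NK (b : K ⊗[k] A) = algebraMap k K (c : k) ∧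
          ∀ σ : K ≃ₐ[k] K, a σ = b⁻¹ * σ • b) ∧
    (∀ (c c' : kˣ) (b b' : (K ⊗[k] A)ˣ),
        NK (b : K ⊗[k] A) = algebraMap k K (c : k) → NK (b' : K ⊗[k] A) = algebraMap k K (c' : k) →
        ((∃ s : (K ⊗[k] A)ˣ, NK (s : K ⊗[k] A) = 1 ∧
            ∀ σ : K ≃ₐ[k] K, b'⁻¹ * σ • b' = s⁻¹ * (b⁻¹ * σ • b) * σ • s) ↔
          ∃ x : Aˣ, (c' : k) = N (x : A) * (c : k))) := by
  refine ⟨fun a ha => ?_, fun c c' b b' hb hb' => ⟨?_, ?_⟩⟩
  · obtain ⟨u, hu⟩ := AlgUnitsH1.exists_unit (a := fun σ => a σ) (fun σ τ => a.2 σ τ)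
    have hσ : ∀ σ : K ≃ₐ[k] K, a σ = (u⁻¹)⁻¹ * σ • u⁻¹ := fun σ => by
      rw [inv_inv, smul_inv', eq_mul_inv_iff_mul_eq]
      exact hu σ
    have hfix : ∀ σ : K ≃ₐ[k] K, σ (NK ((u⁻¹ : (K ⊗[k] A)ˣ) : K ⊗[k] A)) = NK ((u⁻¹ : (K ⊗[k] A)ˣ) : K ⊗[k] A) :=
      fun σ => by
        have e : σ • u⁻¹ = u⁻¹ * a σ := by rw [hσ σ, inv_inv, inv_mul_cancel_left]
        rw [← equivariant hNK hn φ, ← smul_units_coe, e, Units.val_mul, map_mul, ha, mul_one]
    obtain ⟨c, hc⟩ := IntermediateField.mem_bot.1 ((IsGalois.mem_bot_iff_fixed _).2 hfix)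
    have hne : NK ((u⁻¹ : (K ⊗[k] A)ˣ) : K ⊗[k] A) ≠ 0 := ((u⁻¹ : (K ⊗[k] A)ˣ).isUnit.map NK).ne_zero
    have hc0 : c ≠ 0 := fun h => hne (by rw [← hc, h, map_zero])
    exact ⟨Units.mk0 c hc0, u⁻¹, hc.symm, hσ⟩
  · rintro ⟨s, hs1, hs⟩
    have hfix : ∀ σ : K ≃ₐ[k] K, σ • (b' * (b * s)⁻¹) = b' * (b * s)⁻¹ := fun σ => by
      have e : σ • b' = b' * (b * s)⁻¹ * σ • (b * s) := by
        have := congrArg (b' * ·) (hs σ)
        simp only [mul_inv_cancel_left] at this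
        rw [this, smul_mul']
        group
      rw [smul_mul', smul_inv', e, mul_assoc, mul_inv_cancel, mul_one]
    obtain ⟨x, hx⟩ := Forms.exists_tmul_of_fixed ((b' * (b * s)⁻¹ : (K ⊗[k] A)ˣ) : K ⊗[k] A)
      fun σ => by rw [← smul_units_coe, hfix]
    obtain ⟨y, hy⟩ := Forms.exists_tmul_of_fixed (((b' * (b * s)⁻¹)⁻¹ : (K ⊗[k] A)ˣ) : K ⊗[k] A)
      fun σ => by rw [← smul_units_coe, smul_inv', hfix]
    have hxy : x * y = 1 := tmul_one_inj (K := K) (by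
      have := Units.mul_inv (b' * (b * s)⁻¹)
      rw [← hx, ← hy, Algebra.TensorProduct.tmul_mul_tmul, one_mul] at this
      rw [this, Algebra.TensorProduct.one_def])
    have hyx : y * x = 1 := tmul_one_inj (K := K) (by
      have := Units.inv_mul (b' * (b * s)⁻¹)
      rw [← hx, ← hy, Algebra.TensorProduct.tmul_mul_tmul, one_mul] at this
      rw [this, Algebra.TensorProduct.one_def])
    refine ⟨⟨x, y, hxy, hyx⟩, (algebraMap k K).injective ?_⟩
    rw [map_mul, ← hb, ← hb', ← compat hN hNK hn φ, hx]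
    have : (b' : K ⊗[k] A) = ((b' * (b * s)⁻¹ : (K ⊗[k] A)ˣ) : K ⊗[k] A) * b * s := by
      rw [← Units.val_mul, ← Units.val_mul]
      congr 1
      group
    conv_lhs => rw [this, map_mul, map_mul, hs1, mul_one]
  · rintro ⟨x, hx⟩
    let X : (K ⊗[k] A)ˣ := Units.map (Algebra.TensorProduct.includeRight : A →ₐ[k] K ⊗[k] A).toMonoidHom x
    have hX : ∀ σ : K ≃ₐ[k] K, σ • X = X := fun σ => Units.ext (AlgUnitsH1.smul_one_tmul σ _)
    refine ⟨b⁻¹ * X⁻¹ * b', ?_, fun σ => ?_⟩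
    · have h1 : NK ((X * b : (K ⊗[k] A)ˣ) : K ⊗[k] A) * NK ((b⁻¹ * X⁻¹ * b' : (K ⊗[k] A)ˣ) : K ⊗[k] A) =
          NK (b' : K ⊗[k] A) := by
        rw [← map_mul, ← Units.val_mul]
        congr 2
        group
      have h2 : NK ((X * b : (K ⊗[k] A)ˣ) : K ⊗[k] A) = NK (b' : K ⊗[k] A) := by
        rw [Units.val_mul, map_mul, hb, hb', hx, map_mul]
        congr 1
        exact compat hN hNK hn φ _
      rw [h2] at h1
      exact mul_left_cancel₀ (b'.isUnit.map NK).ne_zero (by rw [h1, mul_one])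
    · rw [smul_mul', smul_mul', smul_inv', smul_inv', hX]
      group

end Groth.Agent.GalCohAux.SL1H1
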