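import Groth.Agent.GalCohAux.StackCount

/-!
Objects of quotient stacks over an algebraically closed field, and morphisms to their models.
-/

universe u

open CategoryTheory CategoryTheory.Limits MonoidalCategory CartesianMonoidalCategory MonObj AlgebraicGeometry

namespace Groth.Agent.GalCohAux.StackClosed

open StackLevels StackTorsor

variable {k : Type u} [Field k] {k' : Type u} [Field k'] [Algebra k k']
variable {kb : Type u} [Field kb] [Algebra k kb] [Algebra k' kb] [IsScalarTower k k' kb]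
variable {G : Over (Spec (CommRingCat.of k))} [GrpObj G]
variable {X : Over (Spec (CommRingCat.of k))} {aX : AlgGrp.Action G X}

theorem ι_self : StackLevels.ι k kb kb = 𝟙 _ :=
  Over.OverMorphism.ext (Spec.map_id _)

theorem aut_self (σ : kb ≃ₐ[kb] kb) : σ = 1 := AlgEquiv.ext fun x => σ.commutes x

theorem aut_level_self (L : IntermediateField kb kb) (τ : L ≃ₐ[kb] L) : τ = 1 :=
  AlgEquiv.ext fun x => by
    have e : algebraMap kb L (x : kb) = x := Subtype.ext rfl
    rw [← e]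
    exact τ.commutes _

variable (kb) in
/-- A based point from a section. -/
noncomputable def ofSection (A : Fib kb aX) (t : SGA7.pt (K := k) kb ⟶ A.1.P)
    (ht : t ≫ A.1.π = eqToHom A.2.symm) : BasedPt kb A :=
  ⟨t, by
    rw [ι_self]
    show t ≫ A.1.π ≫ eqToHom A.2 = 𝟙 _
    rw [← Category.assoc, ht]
    exact eqToHom_trans _ _⟩

theorem π_eq_of_based {A : Fib kb aX} (t : BasedPt kb A) : t.pt ≫ A.1.π = eqToHom A.2.symm := by
  have h : (t.pt ≫ A.1.π) ≫ (eqToHom A.2 : A.1.base ⟶ SGA7.pt (K := k) kb) =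
      eqToHom A.2.symm ≫ eqToHom A.2 := by
    rw [Category.assoc]
    exact (t.over.trans ι_self).trans (eqToHom_trans A.2.symm A.2).symm
  exact (cancel_mono (eqToHom A.2 : A.1.base ⟶ SGA7.pt (K := k) kb)).1 h

/-- A torsor over an algebraically closed field has a section. -/
theorem exists_section [IsAlgClosed kb] (A : Fib kb aX) : Nonempty (BasedPt kb A) := by
  obtain ⟨R, hR, hsec⟩ := A.1.loc
  obtain ⟨p⟩ : Nonempty ↥(SGA7.pt (K := k) kb).left := ⟨⟨⊥, Ideal.isPrime_bot⟩⟩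
  let pb : A.1.base.left := (eqToHom A.2.symm : SGA7.pt (K := k) kb ⟶ A.1.base).left p
  obtain ⟨hj, he⟩ := hR
  obtain ⟨Y, f, hf, y, -⟩ := (Presieve.mem_comap_jointlySurjectivePrecoverage_iff Scheme.forget).mp hj pb
  have : Etale f := he hf
  obtain ⟨s, hs⟩ := hsec f hf
  let fb : Y ⟶ (SGA7.pt (K := k) kb).left := f ≫ (eqToHom A.2 : A.1.base ⟶ SGA7.pt (K := k) kb).left
  have : Nonempty ↥Y := ⟨y⟩
  have : IsIso (eqToHom A.2 : A.1.base ⟶ SGA7.pt (K := k) kb).left :=
    inferInstanceAs (IsIso ((Over.forget _).map (eqToHom A.2 : A.1.base ⟶ SGA7.pt (K := k) kb)))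
  have : LocallyOfFiniteType fb :=
    inferInstanceAs (LocallyOfFiniteType (f ≫ (eqToHom A.2 : A.1.base ⟶ SGA7.pt (K := k) kb).left))
  obtain ⟨q, hq⟩ := exists_algebraic_point (k' := kb) (kb := kb) Y fb
  have h1 : (q ≫ s) ≫ A.1.π.left ≫ (eqToHom A.2 : A.1.base ⟶ SGA7.pt (K := k) kb).left =
      (StackLevels.ι k kb kb).left := by
    rw [Category.assoc, ← Category.assoc s, show s ≫ A.1.π.left = f from hs]
    exact hq
  refine ⟨⟨Over.homMk (q ≫ s) ?_, Over.OverMorphism.ext h1⟩⟩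
  have h2 : A.1.P.hom = A.1.π.left ≫ (eqToHom A.2 : A.1.base ⟶ SGA7.pt (K := k) kb).left ≫
      (SGA7.pt (K := k) kb).hom := by
    rw [Over.w (eqToHom A.2 : A.1.base ⟶ SGA7.pt (K := k) kb), Over.w A.1.π]
  rw [h2, ← Category.assoc A.1.π.left, ← Category.assoc (q ≫ s), h1]
  exact Over.w (StackLevels.ι k kb kb)

variable [Smooth G.hom]

theorem isAt_any (L : IntermediateField kb kb) {Y : Over (Spec (CommRingCat.of k))}
    (x : SGA7.pt (K := k) kb ⟶ Y) : IsAt L x := by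
  have : IsGalois kb kb := IsGalois.self kb
  exact StackCount.isAt_of_fixed L x fun σ _ => by rw [aut_self σ, gal_one, Category.id_comp]

theorem coc_self {A : Fib kb aX} (t : BasedPt kb A) (σ : kb ≃ₐ[kb] kb) : coc t σ = 1 := by
  refine (eq_div A.1 _ ?_).symm
  rw [aut_self σ, gal_one, Category.id_comp, one_sm]

theorem iso_iff [IsAlgClosed kb] {A B : Fib kb aX} (tA : BasedPt kb A) (tB : BasedPt kb B) :
    Nonempty (A ≅ B) ↔ ∃ g, sm aX g (tA.pt ≫ A.1.φ) = tB.pt ≫ B.1.φ := by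
  have : IsGalois kb kb := IsGalois.self kb
  constructor
  · rintro ⟨f⟩
    let u := StackHom.mapPt f.hom tA
    have h : tB.pt ≫ B.1.π = u.pt ≫ B.1.π := by rw [π_eq_iff, tB.over, u.over]
    refine ⟨div B.1 tB.pt u.pt h, ?_⟩
    rw [← StackHom.φ_mapPt f.hom tA, ← sm_φ]
    exact congrArg (· ≫ B.1.φ) (div_sm B.1 tB.pt u.pt h)
  · rintro ⟨g, hg⟩
    obtain ⟨f, -⟩ := StackHom.exists_hom (L := (⊥ : IntermediateField kb kb)) tA (tB.translate kb g⁻¹)
      (isAt_any _ _) (isAt_any _ _) (fun σ => by rw [coc_self, coc_self])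
      (by show sm _ g⁻¹ tB.pt ≫ _ = _; rw [sm_φ, ← hg, inv_sm_sm])
    exact ⟨f⟩

theorem exists_point [IsAlgClosed kb] [IsAffineHom G.hom] [LocallyOfFiniteType X.hom]
    (x : SGA7.pt (K := k) kb ⟶ X) :
    ∃ (A : Fib kb aX) (t : BasedPt kb A), t.pt ≫ A.1.φ = x := by
  have : IsGalois kb kb := IsGalois.self kb
  obtain ⟨xL, hxL⟩ := isAt_any (⊥ : IntermediateField kb kb) x
  have hc : StackObj.IsCocycle (fun _ : (⊥ : IntermediateField kb kb) ≃ₐ[kb] (⊥ : IntermediateField kb kb) =>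
      (1 : ptL k (⊥ : IntermediateField kb kb) ⟶ G)) := fun σ τ => by rw [MonObj.comp_one, _root_.mul_one]
  obtain ⟨A, t', h1, h2, -⟩ := StackObj.exists_obj hc aX (xL := xL) fun σ => by
    rw [aut_level_self _ σ, galL_one, Category.id_comp, one_sm]
  refine ⟨A, ⟨jL k (⊥ : IntermediateField kb kb) ≫ t', by rw [Category.assoc, h1, jL_ιL]⟩, ?_⟩
  rw [Category.assoc, h2, hxL]

omit [Smooth G.hom] in
/-- A morphism to a model, over `Spec kb ⟶ Spec k'`. -/
theorem exists_over {A : Fib kb aX} {B : Fib k' aX} (t : BasedPt kb A) (u : BasedPt kb B)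
    (hφ : u.pt ≫ B.1.φ = t.pt ≫ A.1.φ) :
    ∃ h : A.1 ⟶ B.1, h.base = eqToHom A.2 ≫ StackLevels.ι k k' kb ≫ eqToHom B.2.symm := by
  have hπ : ∀ {T : Over (Spec (CommRingCat.of k))} (p : T ⟶ A.1.P),
      p ≫ A.1.π = ((p ≫ πb A) ≫ t.pt) ≫ A.1.π := fun p => by
    rw [π_eq_iff, Category.assoc (p ≫ πb A), t.over, ι_self, Category.comp_id]
  let d {T : Over (Spec (CommRingCat.of k))} (p : T ⟶ A.1.P) : T ⟶ G :=
    div A.1 p ((p ≫ πb A) ≫ t.pt) (hπ p)
  let F : A.1.P ⟶ B.1.P := sm B.1.act (d (𝟙 _)) (πb A ≫ u.pt)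
  have hF : ∀ {T : Over (Spec (CommRingCat.of k))} (p : T ⟶ A.1.P),
      p ≫ F = sm B.1.act (d p) ((p ≫ πb A) ≫ u.pt) := fun p => by
    simp only [F, d, comp_sm, comp_div, Category.comp_id, Category.id_comp, Category.assoc]
  have hact : ∀ {T : Over (Spec (CommRingCat.of k))} (g : T ⟶ G) (p : T ⟶ A.1.P),
      sm A.1.act g p ≫ F = sm B.1.act g (p ≫ F) := fun g p => by
    have e : sm A.1.act g p ≫ πb A = p ≫ πb A := (π_eq_iff A).1 (sm_π A.1 g p)
    have h2 : d (sm A.1.act g p) = g * d p := (eq_div A.1 _ (by rw [e, mul_sm, div_sm])).symm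
    rw [hF, hF, h2, mul_sm, e]
  have hFπ : ∀ {T : Over (Spec (CommRingCat.of k))} (p : T ⟶ A.1.P),
      (p ≫ F) ≫ πb B = (p ≫ πb A) ≫ StackLevels.ι k k' kb := fun p => by
    rw [hF, show sm B.1.act (d p) ((p ≫ πb A) ≫ u.pt) ≫ πb B = ((p ≫ πb A) ≫ u.pt) ≫ πb B from
      (π_eq_iff B).1 (sm_π B.1 _ _), Category.assoc, u.over]
  let b : A.1.base ⟶ B.1.base := eqToHom A.2 ≫ StackLevels.ι k k' kb ≫ eqToHom B.2.symm
  have hb : b ≫ (eqToHom B.2 : B.1.base ⟶ SGA7.pt (K := k) k') = eqToHom A.2 ≫ StackLevels.ι k k' kb := by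
    simp only [b, Category.assoc]
    erw [eqToHom_trans, eqToHom_refl, Category.comp_id]
    rfl
  refine ⟨{ base := b, top := F, eqv := ?_, cart := ?_, wφ := ?_ }, rfl⟩
  · have h := hact (fst G A.1.P) (snd G A.1.P)
    rw [sm, sm, lift_fst_snd, Category.id_comp] at h
    rw [h]
    congr 1
  · refine IsPullback.mk' ?_ (fun T p p' h1 h2 => ?_) (fun T q v h => ?_)
    · rw [← cancel_mono (eqToHom B.2 : B.1.base ⟶ SGA7.pt (K := k) k'), Category.assoc, Category.assoc, hb]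
      have := hFπ (𝟙 A.1.P)
      rw [Category.id_comp, Category.id_comp] at this
      exact this.trans (Category.assoc _ _ _)
    · have e : p ≫ πb A = p' ≫ πb A := (π_eq_iff A).1 h2
      rw [hF, hF, ← e] at h1
      have := sm_left_inj B.1 h1
      rw [← div_sm A.1 p _ (hπ p), ← div_sm A.1 p' _ (hπ p')]
      show sm A.1.act (d p) _ = sm A.1.act (d p') _
      rw [this, e]
    · let v' : T ⟶ SGA7.pt (K := k) kb := v ≫ eqToHom A.2
      have hq : q ≫ B.1.π = (v' ≫ u.pt) ≫ B.1.π := by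
        rw [π_eq_iff, Category.assoc v', u.over]
        show q ≫ B.1.π ≫ _ = _
        rw [← Category.assoc q, h, Category.assoc, hb]
        exact (Category.assoc _ _ _).symm
      let w : T ⟶ G := div B.1 q (v' ≫ u.pt) hq
      let p : T ⟶ A.1.P := sm A.1.act w (v' ≫ t.pt)
      have e : p ≫ πb A = v' := by
        rw [show p ≫ πb A = (v' ≫ t.pt) ≫ πb A from (π_eq_iff A).1 (sm_π A.1 _ _), Category.assoc, t.over,
          ι_self, Category.comp_id]
      refine ⟨p, ?_, ?_⟩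
      · rw [hF, show d p = w from (eq_div A.1 _ (by rw [e])).symm, e]
        exact div_sm B.1 _ _ hq
      · have e' : (p ≫ A.1.π) ≫ (eqToHom A.2 : A.1.base ⟶ SGA7.pt (K := k) kb) = v ≫ eqToHom A.2 :=
          (Category.assoc _ _ _).trans e
        exact (cancel_mono (eqToHom A.2 : A.1.base ⟶ SGA7.pt (K := k) kb)).1 e'
  · have := hF (𝟙 A.1.P)
    rw [Category.id_comp] at this
    rw [this, sm_φ, Category.assoc, hφ, ← Category.assoc, ← sm_φ, div_sm, Category.id_comp]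

end Groth.Agent.GalCohAux.StackClosed
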