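import Groth.Agent.GalCohAux.StackClosed
import Groth.Agent.GalCohAux.StackFrob

/-!
Models over finite subfields of objects over the algebraic closure.
-/

universe u

open CategoryTheory CategoryTheory.Limits MonoidalCategory CartesianMonoidalCategory MonObj AlgebraicGeometry

namespace Groth.Agent.GalCohAux.StackModel

open StackLevels StackTorsor

theorem eqToHom_sandwich {C : Type*} [Category C] {a b c d : C} (p : a = b) (q : b = a) (f : a ⟶ c) (r : c = d)
    (r' : d = c) : eqToHom p ≫ (eqToHom q ≫ f ≫ eqToHom r) ≫ eqToHom r' = f := by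
  subst p r; simp

variable {k : Type u} [Field k] {k' : Type u} [Field k'] [Algebra k k']
variable {kb : Type u} [Field kb] [Algebra k kb] [Algebra k' kb] [IsScalarTower k k' kb]
variable {G : Over (Spec (CommRingCat.of k))} [GrpObj G]
variable {X : Over (Spec (CommRingCat.of k))} {aX : AlgGrp.Action G X}

theorem fixed_of_model {A : Fib kb aX} (tA : BasedPt kb A) {B : Fib k' aX} (h : A.1 ⟶ B.1)
    (hbase : h.base = eqToHom A.2 ≫ StackLevels.ι k k' kb ≫ eqToHom B.2.symm) (σ : kb ≃ₐ[k'] kb) :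
    ∃ g, sm aX g (tA.pt ≫ A.1.φ) = gal k σ ≫ tA.pt ≫ A.1.φ := by
  let u : BasedPt kb B := ⟨tA.pt ≫ h.top, by
    show (tA.pt ≫ h.top) ≫ B.1.π ≫ eqToHom B.2 = _
    rw [Category.assoc, ← Category.assoc h.top, h.cart.w, hbase, Category.assoc, ← Category.assoc tA.pt,
      StackClosed.π_eq_of_based]
    exact eqToHom_sandwich _ _ _ _ _⟩
  refine ⟨(coc u σ)⁻¹, ?_⟩
  have h1 := coc_φ u σ
  rw [show u.pt ≫ B.1.φ = tA.pt ≫ A.1.φ from (Category.assoc _ _ _).trans (congrArg (tA.pt ≫ ·) h.wφ)] at h1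
  conv_lhs => rw [← h1]
  exact inv_sm_sm aX _ _

variable [Finite k] [Finite k'] [Module.Finite k k'] [IsGalois k' kb] [IsAlgClosed kb]
variable [Smooth G.hom] [IsAffineHom G.hom] [LocallyOfFiniteType X.hom]

theorem model_of_fixed {A : Fib kb aX} (tA : BasedPt kb A)
    (h : ∀ σ : kb ≃ₐ[k'] kb, ∃ g, sm aX g (tA.pt ≫ A.1.φ) = gal k σ ≫ tA.pt ≫ A.1.φ) :
    ∃ (B : Fib k' aX) (h : A.1 ⟶ B.1),
      h.base = eqToHom A.2 ≫ StackLevels.ι k k' kb ≫ eqToHom B.2.symm := by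
  have := Fintype.ofFinite k'
  let π : kb ≃ₐ[k'] kb := FiniteField.frobeniusAlgEquivOfAlgebraic k' kb
  have hπ : ∀ x, π x = x ^ Nat.card k' := fun x => by
    rw [Nat.card_eq_fintype_card]; rfl
  obtain ⟨g, hg⟩ := h π
  obtain ⟨z, hz⟩ := StackFrob.exists_cocycle (k := k) (G := G) hπ g⁻¹
  have hx : sm aX (z.1 π) (gal k π ≫ tA.pt ≫ A.1.φ) = tA.pt ≫ A.1.φ := by
    rw [hz, ← hg]
    exact inv_sm_sm aX _ _
  obtain ⟨B, u, -, hu⟩ := StackCount.exists_based aX (StackFrob.isLCCocycle z)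
    ⟨tA.pt ≫ A.1.φ, StackFrob.fix_of_frobenius aX hπ (StackFrob.isLCCocycle z) hx⟩
  obtain ⟨h, hh⟩ := StackClosed.exists_over tA u hu
  exact ⟨B, h, hh⟩

end Groth.Agent.GalCohAux.StackModel
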