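import Groth.Agent.GalCohAux.StackCount
import Groth.Prelude.Def_GalTw2

/-!
Rational points of twists.
-/

universe u

open CategoryTheory CategoryTheory.Limits MonoidalCategory CartesianMonoidalCategory MonObj AlgebraicGeometry

namespace Groth.Agent.GalCohAux.StackTwistPts

open StackLevels StackTorsor StackCount

variable {k : Type u} [Field k] {kb : Type u} [Field kb] [Algebra k kb]
variable {X Y : Over (Spec (CommRingCat.of k))}

/-- A section of `X_K` as a point. -/
noncomputable def ofSec (s : 𝟙_ (Over (Spec (CommRingCat.of kb))) ⟶ GalTw.bcK kb X) : SGA7.pt (K := k) kb ⟶ X :=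
  Over.homMk (s.left ≫ pullback.fst X.hom (SGA7.pt (K := k) kb).hom) (by
    rw [Category.assoc, pullback.condition, ← Category.assoc]
    refine (congrArg (· ≫ (SGA7.pt (K := k) kb).hom) (Over.w s)).trans ?_
    exact Category.id_comp _)

theorem ofSec_secOfPt (x : SGA7.pt (K := k) kb ⟶ X) : ofSec (GalTw.secOfPt kb x) = x :=
  Over.OverMorphism.ext (pullback.lift_fst _ _ _)

theorem secOfPt_ofSec (s : 𝟙_ (Over (Spec (CommRingCat.of kb))) ⟶ GalTw.bcK kb X) :
    GalTw.secOfPt kb (ofSec s) = s := by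
  apply Over.OverMorphism.ext
  apply pullback.hom_ext
  · exact pullback.lift_fst _ _ _
  · exact (pullback.lift_snd _ _ _).trans (Over.w s).symm

theorem secOfPt_map (x : SGA7.pt (K := k) kb ⟶ X) (f : X ⟶ Y) :
    GalTw.secOfPt kb x ≫ (Over.pullback (SGA7.pt (K := k) kb).hom).map f = GalTw.secOfPt kb (x ≫ f) := by
  apply Over.OverMorphism.ext
  apply pullback.hom_ext
  · rw [Over.comp_left, Category.assoc]
    refine (congrArg (_ ≫ ·) (pullback.lift_fst _ _ _)).trans ?_
    rw [← Category.assoc]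
    exact (congrArg (· ≫ f.left) (pullback.lift_fst _ _ _)).trans (pullback.lift_fst _ _ _).symm
  · rw [Over.comp_left, Category.assoc]
    exact (congrArg (_ ≫ ·) (pullback.lift_snd _ _ _)).trans
      ((pullback.lift_snd _ _ _).trans (pullback.lift_snd _ _ _).symm)

theorem secOfPt_mul {G : Over (Spec (CommRingCat.of k))} [GrpObj G] (x y : SGA7.pt (K := k) kb ⟶ G) :
    GalTw.secOfPt kb (x * y) = GalTw.secOfPt kb x * GalTw.secOfPt kb y := by
  let F := Over.pullback (SGA7.pt (K := k) kb).hom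
  have h : lift (GalTw.secOfPt kb x) (GalTw.secOfPt kb y) ≫ Functor.LaxMonoidal.μ F G G =
      GalTw.secOfPt kb (lift x y) := by
    rw [← cancel_mono (Functor.OplaxMonoidal.δ F G G), Category.assoc, Functor.Monoidal.μ_δ, Category.comp_id]
    apply CartesianMonoidalCategory.hom_ext
    · rw [lift_fst, Category.assoc, Functor.OplaxMonoidal.δ_fst, secOfPt_map, lift_fst]
    · rw [lift_snd, Category.assoc, Functor.OplaxMonoidal.δ_snd, secOfPt_map, lift_snd]
  rw [Hom.mul_def, Hom.mul_def, Functor.obj.μ_def, ← Category.assoc, h, secOfPt_map]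

variable (φ : GalTw.bcK kb Y ≅ GalTw.bcK kb X)

/-- The map on points of a trivialisation. -/
noncomputable def transfer : (SGA7.pt (K := k) kb ⟶ Y) ≃ (SGA7.pt (K := k) kb ⟶ X) where
  toFun y := ofSec (GalTw.secOfPt kb y ≫ φ.hom)
  invFun x := ofSec (GalTw.secOfPt kb x ≫ φ.inv)
  left_inv y := by simp only []; rw [secOfPt_ofSec, Category.assoc, φ.hom_inv_id, Category.comp_id, ofSec_secOfPt]
  right_inv x := by simp only []; rw [secOfPt_ofSec, Category.assoc, φ.inv_hom_id, Category.comp_id, ofSec_secOfPt]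

theorem secOfPt_smul_left (σ : kb ≃ₐ[k] kb) (y : SGA7.pt (K := k) kb ⟶ Y) :
    (GalTw.secOfPt kb (gal k σ ≫ y)).left =
      GalTw.specMap kb σ ≫ (GalTw.secOfPt kb y).left ≫ GalTw.galMap kb σ⁻¹ Y := by
  apply pullback.hom_ext
  · rw [Category.assoc, Category.assoc, GalTw.galMap_fst]
    exact (pullback.lift_fst _ _ _).trans (congrArg (GalTw.specMap kb σ ≫ ·) (pullback.lift_fst _ _ _)).symm
  · rw [Category.assoc, Category.assoc, GalTw.galMap_snd]
    refine (pullback.lift_snd _ _ _).trans ?_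
    rw [← Category.assoc ((GalTw.secOfPt kb y).left)]
    show 𝟙 _ = GalTw.specMap kb σ ≫ ((GalTw.secOfPt kb y).left ≫ pullback.snd _ _) ≫ GalTw.specMap kb σ⁻¹
    rw [show (GalTw.secOfPt kb y).left ≫ pullback.snd _ _ = 𝟙 (Spec (CommRingCat.of kb)) from
      pullback.lift_snd _ _ _]
    refine Eq.trans ?_ (congrArg (GalTw.specMap kb σ ≫ ·) (Category.id_comp (GalTw.specMap kb σ⁻¹))).symm
    rw [← GalTw.specMap_mul, mul_inv_cancel, GalTw.specMap_one]

theorem transfer_smul (σ : kb ≃ₐ[k] kb) (y : SGA7.pt (K := k) kb ⟶ Y) :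
    transfer φ (gal k σ ≫ y) =
      ofSec (GalTw.secOfPt kb (gal k σ ≫ transfer φ y) ≫ (GalTw.cocycle φ σ).hom) := by
  show ofSec _ = ofSec _
  congr 1
  apply Over.OverMorphism.ext
  rw [Over.comp_left, Over.comp_left, secOfPt_smul_left, secOfPt_smul_left, GalTw.cocycle_apply_hom]
  rw [show GalTw.secOfPt kb (transfer φ y) = GalTw.secOfPt kb y ≫ φ.hom from secOfPt_ofSec _, Over.comp_left,
    Over.comp_left, GalTw.twIso_inv, GalTw.twHom_left]
  simp only [Category.assoc, GalTw.galMap_mul_assoc, inv_mul_cancel, GalTw.galMap_one, Category.id_comp,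
    Over.hom_left_inv_left_assoc]

theorem ofSec_actK {G : Over (Spec (CommRingCat.of k))} [GrpObj G] (a : AlgGrp.Action G X)
    (g : SGA7.pt (K := k) kb ⟶ G) (x : SGA7.pt (K := k) kb ⟶ X) :
    ofSec (GalTw.secOfPt kb x ≫ GalTw.actK kb a g) = sm a g x := by
  apply Over.OverMorphism.ext
  show ((GalTw.secOfPt kb x).left ≫ pullback.lift _ _ _) ≫ pullback.fst _ _ = _
  rw [Category.assoc, pullback.lift_fst]
  let z : SGA7.pt (K := k) kb ⟶ X ⊗ SGA7.pt (K := k) kb := lift x (𝟙 _)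
  have hz : z.left = (GalTw.secOfPt kb x).left := by
    apply pullback.hom_ext
    · show (z ≫ fst X (SGA7.pt (K := k) kb)).left = _
      rw [lift_fst]
      exact (pullback.lift_fst _ _ _).symm
    · show (z ≫ snd X (SGA7.pt (K := k) kb)).left = _
      rw [lift_snd]
      exact (pullback.lift_snd _ _ _).symm
  rw [← hz, ← Over.comp_left]
  congr 1
  rw [sm, ← Category.assoc]
  congr 1
  apply CartesianMonoidalCategory.hom_ext <;> simp [z]

theorem ofSec_innK {G : Over (Spec (CommRingCat.of k))} [GrpObj G]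
    (g x : SGA7.pt (K := k) kb ⟶ G) :
    ofSec (GalTw.secOfPt kb x ≫ GalTw.innK kb g) = g * x * g⁻¹ := by
  have h : GalTw.secOfPt kb x ≫ GalTw.innK kb g =
      GalTw.secOfPt kb g * GalTw.secOfPt kb x * (GalTw.secOfPt kb g)⁻¹ := by
    rw [GalTw.innK, AGF.conjBy, MonObj.comp_mul, MonObj.comp_mul, GrpObj.comp_inv, Category.comp_id,
      ← Category.assoc, toUnit_unique (GalTw.secOfPt kb x ≫ toUnit _) (𝟙 _), Category.id_comp]
  let Ψ : (SGA7.pt (K := k) kb ⟶ G) →* (𝟙_ (Over (Spec (CommRingCat.of kb))) ⟶ GalTw.bcK kb G) :=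
    MonoidHom.mk' (GalTw.secOfPt kb) secOfPt_mul
  have h2 : GalTw.secOfPt kb (g * x * g⁻¹) =
      GalTw.secOfPt kb g * GalTw.secOfPt kb x * (GalTw.secOfPt kb g)⁻¹ := by
    show Ψ _ = Ψ g * Ψ x * (Ψ g)⁻¹
    rw [map_mul, map_mul, map_inv]
  rw [h, ← h2, ofSec_secOfPt]

variable [IsGalois k kb]

/-- Fixed points are rational points. -/
theorem card_pts_eq (Y : Over (Spec (CommRingCat.of k))) :
    Nat.card (SGA7.Pts k Y) =
      Nat.card {y : SGA7.pt (K := k) kb ⟶ Y // ∀ σ : kb ≃ₐ[k] kb, gal k σ ≫ y = y} := by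
  have : Flat (StackLevels.ι k k kb).left := by
    show Flat (Spec.map (CommRingCat.ofHom (algebraMap k kb)))
    rw [HasRingHomProperty.Spec_iff (P := @Flat), CommRingCat.hom_ofHom]
    exact RingHom.flat_algebraMap_iff.2 inferInstance
  have : Surjective (StackLevels.ι k k kb).left :=
    ⟨fun _ => ⟨⟨⊥, Ideal.isPrime_bot⟩, Subsingleton.elim (α := PrimeSpectrum k) _ _⟩⟩
  have : Epi (StackLevels.ι k k kb).left := Flat.epi_of_flat_of_surjective _
  have : Epi (StackLevels.ι k k kb) := Over.epi_of_epi_left _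
  refine Nat.card_congr (Equiv.ofBijective
    (fun y => ⟨StackLevels.ι k k kb ≫ y, fun σ => by rw [gal_ι_assoc]⟩) ⟨fun y y' h => ?_, fun y => ?_⟩)
  · exact (cancel_epi (StackLevels.ι k k kb)).1 (congrArg Subtype.val h)
  · obtain ⟨y₀, hy₀⟩ := exists_rational (k' := k) y.1 y.2
    exact ⟨y₀, Subtype.ext hy₀⟩

variable {G : Over (Spec (CommRingCat.of k))} [GrpObj G] [Smooth G.hom]

theorem card_actTwist (a : AlgGrp.Action G X) (z : GpH1.OneCocycle (kb ≃ₐ[k] kb) (SGA7.Pts kb G))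
    (h : GalTw.IsActTwist kb a z Y) :
    Nat.card (SGA7.Pts k Y) = Nat.card (Fix a (fun σ => z σ)) := by
  obtain ⟨φ, hφ⟩ := h
  rw [card_pts_eq (kb := kb) Y]
  refine Nat.card_congr (Equiv.subtypeEquiv (transfer φ) fun y => forall_congr' fun σ => ?_)
  rw [← (transfer φ).injective.eq_iff, transfer_smul, hφ, ofSec_actK]

theorem card_innTwist (z : GpH1.OneCocycle (kb ≃ₐ[k] kb) (SGA7.Pts kb G)) (Gz : Over (Spec (CommRingCat.of k)))
    [GrpObj Gz] (h : GalTw.IsInnTwist kb G z Gz) :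
    Nat.card (SGA7.Pts k Gz) = Nat.card (cent (k' := k) (fun σ => z σ)) := by
  obtain ⟨φ, -, hφ⟩ := h
  rw [card_pts_eq (kb := kb) Gz]
  refine Nat.card_congr (Equiv.subtypeEquiv (transfer φ) fun y => forall_congr' fun σ => ?_)
  rw [← (transfer φ).injective.eq_iff, transfer_smul, hφ, ofSec_innK]
  exact mul_inv_eq_iff_eq_mul

end Groth.Agent.GalCohAux.StackTwistPts
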