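import Mathlib.RepresentationTheory.Basic
import Mathlib.LinearAlgebra.TensorProduct.Basis
import Mathlib.LinearAlgebra.FreeModule.Basic
import Mathlib.LinearAlgebra.Dimension.Free
import Mathlib.RingTheory.TensorProduct.Free
import Mathlib.Data.ZMod.Basic
import Mathlib.Algebra.Field.ZMod
import Mathlib.LinearAlgebra.FiniteDimensional.Defs

/-!
The sequence `0 → V → S²V → Λ²V → 0` for a representation over the field with two elements.
-/

universe u v w

open TensorProduct

namespace Groth.Agent.GalCohAux.SymExt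

variable {G : Type u} [Group G] {V : Type v} [AddCommGroup V] [Module (ZMod 2) V]

variable (V) in
abbrev Na : Submodule (ZMod 2) (V ⊗[ZMod 2] V) :=
  Submodule.span (ZMod 2) (Set.range fun v : V => v ⊗ₜ[ZMod 2] v)

variable (V) in
abbrev Ns : Submodule (ZMod 2) (V ⊗[ZMod 2] V) :=
  Submodule.span (ZMod 2) (Set.range fun p : V × V => p.1 ⊗ₜ[ZMod 2] p.2 + p.2 ⊗ₜ[ZMod 2] p.1)

theorem sq_mem_Na (x : V) : x ⊗ₜ[ZMod 2] x ∈ Na V := Submodule.subset_span ⟨x, rfl⟩

theorem symm_mem_Ns (x y : V) : x ⊗ₜ[ZMod 2] y + y ⊗ₜ[ZMod 2] x ∈ Ns V :=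
  Submodule.subset_span ⟨(x, y), rfl⟩

theorem Ns_le_Na : Ns V ≤ Na V := by
  refine Submodule.span_le.2 ?_
  rintro _ ⟨⟨x, y⟩, rfl⟩
  have h := (Na V).sub_mem ((Na V).sub_mem (sq_mem_Na (x + y)) (sq_mem_Na x)) (sq_mem_Na y)
  simp only [add_tmul, tmul_add] at h
  change x ⊗ₜ[ZMod 2] y + y ⊗ₜ[ZMod 2] x ∈ Na V
  convert h using 1
  abel

theorem tprod_mem_Ns (ρ : Representation (ZMod 2) G V) (g : G) {t : V ⊗[ZMod 2] V} (h : t ∈ Ns V) :
    ρ.tprod ρ g t ∈ Ns V := by
  induction h using Submodule.span_induction with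
  | mem x hx =>
    obtain ⟨⟨a, b⟩, rfl⟩ := hx
    rw [map_add]
    exact symm_mem_Ns _ _
  | zero => rw [map_zero]; exact zero_mem _
  | add x y _ _ hx hy => rw [map_add]; exact add_mem hx hy
  | smul c x _ hx => rw [map_smul]; exact Submodule.smul_mem _ _ hx

theorem tprod_mem_Na (ρ : Representation (ZMod 2) G V) (g : G) {t : V ⊗[ZMod 2] V} (h : t ∈ Na V) :
    ρ.tprod ρ g t ∈ Na V := by
  induction h using Submodule.span_induction with
  | mem x hx =>
    obtain ⟨a, rfl⟩ := hx
    exact sq_mem_Na _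
  | zero => rw [map_zero]; exact zero_mem _
  | add x y _ _ hx hy => rw [map_add]; exact add_mem hx hy
  | smul c x _ hx => rw [map_smul]; exact Submodule.smul_mem _ _ hx

theorem neg_eq_self' (x : V ⊗[ZMod 2] V) : -x = x := by
  rw [← neg_one_smul (ZMod 2) x, show (-1 : ZMod 2) = 1 from rfl, one_smul]

/-- The quadratic tensor `u ⊗ u + u ⊗ v + v ⊗ v` of a plane. -/
def quad (u v : V) : V ⊗[ZMod 2] V := u ⊗ₜ u + u ⊗ₜ v + v ⊗ₜ v

theorem coeff_quad : ∀ a b c d : ZMod 2, a * d + b * c = 1 →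
    a + a * c + c = 1 ∧ b + b * d + d = 1 := by decide

theorem sq_eq : ∀ a : ZMod 2, a * a = a := by decide

/-- `quad u v` is invariant modulo `Ns` under invertible substitutions in the plane. -/
theorem quad_subst (u v : V) (a b c d : ZMod 2) (h : a * d + b * c = 1) :
    quad (a • u + b • v) (c • u + d • v) - quad u v ∈ Ns V := by
  obtain ⟨h1, h2⟩ := coeff_quad a b c d h
  have e : quad (a • u + b • v) (c • u + d • v) - quad u v =
      (a + a * c + c - 1) • (u ⊗ₜ[ZMod 2] u) + (b + b * d + d - 1) • (v ⊗ₜ[ZMod 2] v) +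
      (a * d + b * c - 1) • (u ⊗ₜ[ZMod 2] v) +
      (a * b + b * c + c * d) • (u ⊗ₜ[ZMod 2] v + v ⊗ₜ[ZMod 2] u) +
      (-(b * c) - b * c) • (u ⊗ₜ[ZMod 2] v) := by
    simp only [quad, add_tmul, tmul_add, smul_tmul', tmul_smul, smul_add, smul_smul, add_smul,
      sub_smul, one_smul, sq_eq, neg_smul, mul_comm b a, mul_comm d c, mul_comm c a, mul_comm d b,
      mul_comm c b, mul_comm d a]
    abel
  have h3 : -(b * c) - b * c = 0 := (show ∀ x : ZMod 2, -x - x = 0 by decide) _
  rw [e, h1, h2, h, h3]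
  simp only [sub_self, zero_smul, zero_add, add_zero]
  exact Submodule.smul_mem _ _ (symm_mem_Ns u v)

theorem exists_split_of_finrank_two (hV : Module.finrank (ZMod 2) V = 2)
    (ρ : Representation (ZMod 2) G V) :
    ∃ W : Submodule (ZMod 2) (V ⊗[ZMod 2] V),
      (∀ g : G, ∀ w ∈ W, ρ.tprod ρ g w ∈ W) ∧ W ⊓ Na V = Ns V ∧ W ⊔ Na V = ⊤ := by
  haveI : Module.Finite (ZMod 2) V := Module.finite_of_finrank_eq_succ hV
  let B := Module.finBasisOfFinrankEq (ZMod 2) V hV
  let φ : V ⊗[ZMod 2] V →ₗ[ZMod 2] ZMod 2 := TensorProduct.lift (LinearMap.mk₂ (ZMod 2)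
    (fun x y => B.repr x 0 * B.repr y 1 - B.repr x 1 * B.repr y 0)
    (by intros; simp; ring) (by intros; simp; ring) (by intros; simp; ring) (by intros; simp; ring))
  have hφ : ∀ t ∈ Na V, φ t = 0 := by
    intro t ht
    induction ht using Submodule.span_induction with
    | mem x hx => obtain ⟨a, rfl⟩ := hx; simp [φ]; ring
    | zero => exact map_zero _
    | add x y _ _ hx hy => rw [map_add, hx, hy, add_zero]
    | smul c x _ hx => rw [map_smul, hx, smul_zero]
  have hs : φ (quad (B 0) (B 1)) = 1 := by simp [φ, quad]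
  refine ⟨Ns V ⊔ Submodule.span (ZMod 2) {quad (B 0) (B 1)}, fun g w hw => ?_, ?_, ?_⟩
  · obtain ⟨n, hn, m, hm, rfl⟩ := Submodule.mem_sup.1 hw
    obtain ⟨c, rfl⟩ := Submodule.mem_span_singleton.1 hm
    rw [map_add, map_smul]
    refine add_mem (Submodule.mem_sup_left (tprod_mem_Ns ρ g hn)) (Submodule.smul_mem _ _ ?_)
    have hexp : ∀ x, x = B.repr x 0 • B 0 + B.repr x 1 • B 1 := fun x => by
      conv_lhs => rw [← B.sum_repr x, Fin.sum_univ_two]
    have hdet : B.repr (ρ g (B 0)) 0 * B.repr (ρ g (B 1)) 1 +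
        B.repr (ρ g (B 0)) 1 * B.repr (ρ g (B 1)) 0 = 1 := by
      have h := fun x => congrArg (fun y => B.repr y) (show ρ g⁻¹ (ρ g x) = x by simp)
      have h0 := congrArg (fun f => f 0) (h (B 0))
      have h1 := congrArg (fun f => f 1) (h (B 0))
      have h2 := congrArg (fun f => f 1) (h (B 1))
      have h3 := congrArg (fun f => f 0) (h (B 1))
      rw [hexp (ρ g (B 0))] at h0 h1
      rw [hexp (ρ g (B 1))] at h2 h3
      simp at h0 h1 h2 h3
      revert h0 h1 h2 h3
      generalize B.repr (ρ g (B 0)) 0 = a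
      generalize B.repr (ρ g (B 0)) 1 = b
      generalize B.repr (ρ g (B 1)) 0 = c
      generalize B.repr (ρ g (B 1)) 1 = d
      generalize B.repr (ρ g⁻¹ (B 0)) 0 = a'
      generalize B.repr (ρ g⁻¹ (B 0)) 1 = b'
      generalize B.repr (ρ g⁻¹ (B 1)) 0 = c'
      generalize B.repr (ρ g⁻¹ (B 1)) 1 = d'
      revert a b c d a' b' c' d'
      decide
    have hq := quad_subst (B 0) (B 1) _ _ _ _ hdet
    rw [← hexp, ← hexp] at hq
    have himg : ρ.tprod ρ g (quad (B 0) (B 1)) = quad (ρ g (B 0)) (ρ g (B 1)) := by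
      simp [quad]
    rw [himg, ← sub_add_cancel (quad (ρ g (B 0)) (ρ g (B 1))) (quad (B 0) (B 1))]
    exact add_mem (Submodule.mem_sup_left hq)
      (Submodule.mem_sup_right (Submodule.mem_span_singleton_self _))
  · refine le_antisymm ?_ (le_inf le_sup_left Ns_le_Na)
    rintro t ⟨ht, hta⟩
    obtain ⟨n, hn, m, hm, rfl⟩ := Submodule.mem_sup.1 ht
    obtain ⟨c, rfl⟩ := Submodule.mem_span_singleton.1 hm
    have h := hφ _ hta
    rw [map_add, hφ n (Ns_le_Na hn), map_smul, hs, zero_add, smul_eq_mul, mul_one] at h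
    rw [h, zero_smul, add_zero]
    exact hn
  · rw [eq_top_iff, ← (B.tensorProduct B).span_eq, Submodule.span_le]
    rintro _ ⟨⟨i, j⟩, rfl⟩
    rw [Module.Basis.tensorProduct_apply]
    set W := (Ns V ⊔ Submodule.span (ZMod 2) {quad (B 0) (B 1)}) ⊔ Na V
    have huu : ∀ x, x ⊗ₜ[ZMod 2] x ∈ W := fun x => Submodule.mem_sup_right (sq_mem_Na x)
    have huv : B 0 ⊗ₜ[ZMod 2] B 1 ∈ W := by
      have h : quad (B 0) (B 1) ∈ W :=
        Submodule.mem_sup_left (Submodule.mem_sup_right (Submodule.mem_span_singleton_self _))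
      have h' := W.sub_mem (W.sub_mem h (huu (B 0))) (huu (B 1))
      convert h' using 1
      simp only [quad]
      abel
    fin_cases i <;> fin_cases j
    · exact huu _
    · exact huv
    · have h := W.sub_mem (show B 0 ⊗ₜ[ZMod 2] B 1 + B 1 ⊗ₜ[ZMod 2] B 0 ∈ W from
        Submodule.mem_sup_left (Submodule.mem_sup_left (symm_mem_Ns _ _))) huv
      simpa using h
    · exact huu _

theorem exists_lift_of_finrank_three (hV : Module.finrank (ZMod 2) V = 3)
    (ρ : Representation (ZMod 2) G V) (t : V ⊗[ZMod 2] V)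
    (ht : ∀ g : G, ρ.tprod ρ g t - t ∈ Na V) :
    ∃ t' : V ⊗[ZMod 2] V, t' - t ∈ Na V ∧ ∀ g : G, ρ.tprod ρ g t' - t' ∈ Ns V := by
  by_cases h0 : t ∈ Na V
  · exact ⟨0, by simpa using h0, fun g => by simp⟩
  haveI : Module.Finite (ZMod 2) V := Module.finite_of_finrank_eq_succ hV
  obtain ⟨a, b, c, hli, hab⟩ : ∃ a b c : V, LinearIndependent (ZMod 2) ![a, b, c] ∧
      a ⊗ₜ[ZMod 2] b - t ∈ Na V := by
    let E := Module.finBasisOfFinrankEq (ZMod 2) V hV
    have hx : ∃ x y z : ZMod 2,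
        t - (x • (E 0 ⊗ₜ[ZMod 2] E 1) + y • (E 0 ⊗ₜ[ZMod 2] E 2) + z • (E 1 ⊗ₜ[ZMod 2] E 2)) ∈ Na V := by
      clear ht h0
      have hb : ∀ i j : Fin 3, E i ⊗ₜ[ZMod 2] E j - E j ⊗ₜ[ZMod 2] E i ∈ Na V := fun i j => by
        rw [sub_eq_add_neg, neg_eq_self']
        exact Ns_le_Na (symm_mem_Ns _ _)
      induction t using TensorProduct.induction_on with
      | zero => exact ⟨0, 0, 0, by simp⟩
      | add p q hp hq =>
        obtain ⟨x, y, z, hp⟩ := hp
        obtain ⟨x', y', z', hq⟩ := hq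
        refine ⟨x + x', y + y', z + z', ?_⟩
        have := add_mem hp hq
        simp only [add_smul]
        convert this using 1
        abel
      | tmul p q =>
        refine ⟨E.repr p 0 * E.repr q 1 + E.repr p 1 * E.repr q 0,
          E.repr p 0 * E.repr q 2 + E.repr p 2 * E.repr q 0,
          E.repr p 1 * E.repr q 2 + E.repr p 2 * E.repr q 1, ?_⟩
        conv => congr; rfl; arg 1; rw [← E.sum_repr p, ← E.sum_repr q, Fin.sum_univ_three, Fin.sum_univ_three]
        have h := add_mem (add_mem (add_mem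
          ((Na V).smul_mem (E.repr p 0 * E.repr q 0) (sq_mem_Na (E 0)))
          ((Na V).smul_mem (E.repr p 1 * E.repr q 1) (sq_mem_Na (E 1))))
          ((Na V).smul_mem (E.repr p 2 * E.repr q 2) (sq_mem_Na (E 2))))
          (add_mem (add_mem
          ((Na V).smul_mem (E.repr p 1 * E.repr q 0) (hb 1 0))
          ((Na V).smul_mem (E.repr p 2 * E.repr q 0) (hb 2 0)))
          ((Na V).smul_mem (E.repr p 2 * E.repr q 1) (hb 2 1)))
        simp only [add_tmul, tmul_add, smul_tmul', tmul_smul, smul_add, smul_smul, smul_sub,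
          add_smul, mul_comm (E.repr q _) (E.repr p _)] at h ⊢
        convert h using 1
        abel
    obtain ⟨x, y, z, hxyz⟩ := hx
    have key : ∀ a b c : V, LinearIndependent (ZMod 2) ![a, b, c] →
        a ⊗ₜ[ZMod 2] b - (x • (E 0 ⊗ₜ[ZMod 2] E 1) + y • (E 0 ⊗ₜ[ZMod 2] E 2) +
          z • (E 1 ⊗ₜ[ZMod 2] E 2)) ∈ Na V →
        ∃ a b c : V, LinearIndependent (ZMod 2) ![a, b, c] ∧ a ⊗ₜ[ZMod 2] b - t ∈ Na V := by
      intro a b c hli h
      refine ⟨a, b, c, hli, ?_⟩
      have := (Na V).sub_mem h hxyz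
      simpa using this
    have two : ∀ w : ZMod 2, w = 0 ∨ w = 1 := by decide
    rcases two x with rfl | rfl
    · rcases two y with rfl | rfl
      · rcases two z with rfl | rfl
        · exact absurd (by simpa using hxyz) h0
        · refine key (E 1) (E 2) (E 0) ?_ (by simp)
          rw [Fintype.linearIndependent_iff]
          intro g hg
          have e := fun i => congrArg (fun v => E.repr v i) hg
          have e0 := e 0; have e1 := e 1; have e2 := e 2
          simp [Fin.sum_univ_three] at e0 e1 e2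
          intro i; fin_cases i <;> simp_all
      · refine key (E 0 + z • E 1) (E 2) (E 1) ?_ (by simp [add_tmul, smul_tmul'])
        rw [Fintype.linearIndependent_iff]
        intro g hg
        have e := fun i => congrArg (fun v => E.repr v i) hg
        have e0 := e 0; have e1 := e 1; have e2 := e 2
        simp [Fin.sum_univ_three] at e0 e1 e2
        intro i; fin_cases i <;> simp_all
    · refine key (E 0 + z • E 2) (E 1 + y • E 2) (E 2) ?_ ?_
      · rw [Fintype.linearIndependent_iff]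
        intro g hg
        have e := fun i => congrArg (fun v => E.repr v i) hg
        have e0 := e 0; have e1 := e 1; have e2 := e 2
        simp [Fin.sum_univ_three] at e0 e1 e2
        intro i; fin_cases i <;> simp_all
      · have h := add_mem ((Na V).smul_mem (z * y) (sq_mem_Na (E 2)))
          ((Na V).smul_mem z (Ns_le_Na (symm_mem_Ns (E 1) (E 2))))
        have h2 : z • (E 1 ⊗ₜ[ZMod 2] E 2) + z • (E 1 ⊗ₜ[ZMod 2] E 2) = 0 := by
          rw [add_eq_zero_iff_eq_neg, neg_eq_self']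
        convert h using 1
        simp only [add_tmul, tmul_add, smul_tmul', tmul_smul, smul_add, smul_smul, one_smul]
          at h2 ⊢
        rw [← sub_eq_zero]
        rw [← neg_eq_zero, ← h2]
        simp only [mul_comm y z]
        abel
  let B := basisOfLinearIndependentOfCardEqFinrank hli (by simp [hV])
  have hB : ⇑B = ![a, b, c] := coe_basisOfLinearIndependentOfCardEqFinrank _ _
  let Φ : V → V ⊗[ZMod 2] V →ₗ[ZMod 2] ZMod 2 := fun x => TensorProduct.lift
    (LinearMap.mk₂ (ZMod 2) (fun y z =>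
      B.repr x 0 * (B.repr y 1 * B.repr z 2 - B.repr y 2 * B.repr z 1) -
      B.repr x 1 * (B.repr y 0 * B.repr z 2 - B.repr y 2 * B.repr z 0) +
      B.repr x 2 * (B.repr y 0 * B.repr z 1 - B.repr y 1 * B.repr z 0))
    (by intros; simp; ring) (by intros; simp; ring) (by intros; simp; ring) (by intros; simp; ring))
  have hΦ : ∀ x, ∀ s ∈ Na V, Φ x s = 0 := by
    intro x s hs
    induction hs using Submodule.span_induction with
    | mem s hs => obtain ⟨y, rfl⟩ := hs; simp [Φ]; ring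
    | zero => exact map_zero _
    | add p q _ _ hp hq => rw [map_add, hp, hq, add_zero]
    | smul r p _ hp => rw [map_smul, hp, smul_zero]
  have ha : a = B 0 := by rw [hB]; rfl
  have hb : b = B 1 := by rw [hB]; rfl
  refine ⟨quad a b, ?_, fun g => ?_⟩
  · have h := add_mem (add_mem (sq_mem_Na a) (sq_mem_Na b)) hab
    convert h using 1
    rw [quad]
    abel
  have hgab : ρ g a ⊗ₜ[ZMod 2] ρ g b - a ⊗ₜ[ZMod 2] b ∈ Na V := by
    have h1 := tprod_mem_Na ρ g hab
    rw [map_sub] at h1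
    have h2 := (Na V).sub_mem ((Na V).add_mem h1 (ht g)) hab
    convert h2 using 1
    simp only [Representation.tprod_apply, TensorProduct.map_tmul]
    abel
  have hcoord : ∀ x, Φ x (a ⊗ₜ[ZMod 2] b) = B.repr x 2 := fun x => by
    rw [ha, hb]; simp [Φ]
  have hza : B.repr (ρ g a) 2 = 0 := by
    have := hΦ (ρ g a) _ hgab
    rw [map_sub, hcoord, sub_eq_zero] at this
    rw [← this]
    simp [Φ]; ring
  have hzb : B.repr (ρ g b) 2 = 0 := by
    have := hΦ (ρ g b) _ hgab
    rw [map_sub, hcoord, sub_eq_zero] at this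
    rw [← this]
    simp [Φ]; ring
  have hdet : B.repr (ρ g a) 0 * B.repr (ρ g b) 1 + B.repr (ρ g a) 1 * B.repr (ρ g b) 0 = 1 := by
    have := hΦ (B 2) _ hgab
    rw [map_sub, hcoord, sub_eq_zero, B.repr_self, Finsupp.single_eq_same] at this
    rw [← this]
    simp [Φ, sub_eq_add_neg, show ∀ w : ZMod 2, -w = w by decide]
  have hexp : ∀ x, B.repr x 2 = 0 → x = B.repr x 0 • a + B.repr x 1 • b := fun x hx => by
    conv_lhs => rw [← B.sum_repr x, Fin.sum_univ_three, hx, zero_smul, add_zero, ← ha, ← hb]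
  have hq := quad_subst a b _ _ _ _ hdet
  rw [← hexp _ hza, ← hexp _ hzb] at hq
  convert hq using 1
  simp [quad]

theorem exists_split_of_permutation (ρ : Representation (ZMod 2) G V) {ι : Type w}
    (b : Module.Basis ι (ZMod 2) V) (hb : ∀ g : G, ∀ i : ι, ∃ j : ι, ρ g (b i) = b j) :
    ∃ W : Submodule (ZMod 2) (V ⊗[ZMod 2] V),
      (∀ g : G, ∀ w ∈ W, ρ.tprod ρ g w ∈ W) ∧ W ⊓ Na V = Ns V ∧ W ⊔ Na V = ⊤ := by
  classical
  let O : Submodule (ZMod 2) (V ⊗[ZMod 2] V) :=
    Submodule.span (ZMod 2) ((fun p : ι × ι => b p.1 ⊗ₜ[ZMod 2] b p.2) '' {p | p.1 ≠ p.2})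
  let P : V ⊗[ZMod 2] V →ₗ[ZMod 2] V ⊗[ZMod 2] V :=
    (b.tensorProduct b).constr (ZMod 2) fun p => if p.1 = p.2 then b p.1 ⊗ₜ[ZMod 2] b p.2 else 0
  have hP : ∀ i j, P (b i ⊗ₜ[ZMod 2] b j) = if i = j then b i ⊗ₜ[ZMod 2] b j else 0 := fun i j => by
    have := (b.tensorProduct b).constr_basis (ZMod 2)
      (fun p => if p.1 = p.2 then b p.1 ⊗ₜ[ZMod 2] b p.2 else 0) (i, j)
    rwa [Module.Basis.tensorProduct_apply] at this
  have hPsymm : P ∘ₗ (TensorProduct.comm (ZMod 2) V V).toLinearMap = P := by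
    refine (b.tensorProduct b).ext fun ⟨i, j⟩ => ?_
    rw [Module.Basis.tensorProduct_apply]
    simp only [LinearMap.comp_apply, LinearEquiv.coe_coe, TensorProduct.comm_tmul, hP]
    rcases eq_or_ne i j with rfl | h
    · rfl
    · rw [if_neg h, if_neg (Ne.symm h)]
  have hPNs : ∀ t ∈ Ns V, P t = 0 := by
    intro t ht
    induction ht using Submodule.span_induction with
    | mem x hx =>
      obtain ⟨⟨x, y⟩, rfl⟩ := hx
      rw [map_add, show P (y ⊗ₜ[ZMod 2] x) = P (x ⊗ₜ[ZMod 2] y) from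
        LinearMap.congr_fun hPsymm (x ⊗ₜ[ZMod 2] y), add_eq_zero_iff_eq_neg, neg_eq_self']
    | zero => exact map_zero _
    | add x y _ _ hx hy => rw [map_add, hx, hy, add_zero]
    | smul c x _ hx => rw [map_smul, hx, smul_zero]
  have hPNa : ∀ t ∈ Na V, t - P t ∈ Ns V := by
    intro t ht
    induction ht using Submodule.span_induction with
    | mem x hx =>
      obtain ⟨v, rfl⟩ := hx
      change v ⊗ₜ[ZMod 2] v - P (v ⊗ₜ[ZMod 2] v) ∈ Ns V
      induction b.mem_span v using Submodule.span_induction with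
      | mem x hx => obtain ⟨i, rfl⟩ := hx; simp [hP]
      | zero => simp
      | add x y _ _ hx hy =>
        have h := add_mem (add_mem hx hy) (symm_mem_Ns x y)
        have h0 := hPNs _ (symm_mem_Ns x y)
        simp only [add_tmul, tmul_add, map_add] at h h0 ⊢
        convert h using 1
        rw [add_eq_zero_iff_eq_neg] at h0
        rw [h0]
        abel
      | smul c x _ hx =>
        simp only [← smul_tmul', tmul_smul, smul_smul, map_smul, ← smul_sub]
        exact Submodule.smul_mem _ _ hx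
    | zero => simp
    | add x y _ _ hx hy => rw [map_add, add_sub_add_comm]; exact add_mem hx hy
    | smul c x _ hx => rw [map_smul, ← smul_sub]; exact Submodule.smul_mem _ _ hx
  refine ⟨Ns V ⊔ O, fun g w hw => ?_, ?_, ?_⟩
  · obtain ⟨n, hn, m, hm, rfl⟩ := Submodule.mem_sup.1 hw
    rw [map_add]
    refine add_mem (Submodule.mem_sup_left (tprod_mem_Ns ρ g hn)) (Submodule.mem_sup_right ?_)
    clear hw
    induction hm using Submodule.span_induction with
    | mem x hx =>
      obtain ⟨⟨i, j⟩, hij, rfl⟩ := hx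
      obtain ⟨i', hi⟩ := hb g i
      obtain ⟨j', hj⟩ := hb g j
      refine Submodule.subset_span ⟨(i', j'), fun h : i' = j' => hij ?_, by simp [hi, hj]⟩
      apply b.injective
      have h' : ρ g (b i) = ρ g (b j) := by rw [hi, hj, h]
      simpa using congrArg (ρ g⁻¹) h'
    | zero => rw [map_zero]; exact zero_mem _
    | add x y _ _ hx hy => rw [map_add]; exact add_mem hx hy
    | smul c x _ hx => rw [map_smul]; exact Submodule.smul_mem _ _ hx
  · refine le_antisymm ?_ (le_inf le_sup_left Ns_le_Na)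
    rintro t ⟨ht, hta⟩
    have hPt : P t = 0 := by
      obtain ⟨n, hn, m, hm, rfl⟩ := Submodule.mem_sup.1 ht
      rw [map_add, hPNs n hn, zero_add]
      refine LinearMap.mem_ker.1 ((Submodule.span_le (p := LinearMap.ker P)).2 ?_ hm)
      rintro _ ⟨⟨i, j⟩, hij, rfl⟩
      exact (hP i j).trans (if_neg hij)
    simpa [hPt] using hPNa t hta
  · rw [eq_top_iff, ← (b.tensorProduct b).span_eq, Submodule.span_le]
    rintro _ ⟨⟨i, j⟩, rfl⟩
    rw [Module.Basis.tensorProduct_apply]
    rcases eq_or_ne i j with rfl | h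
    · exact Submodule.mem_sup_right (sq_mem_Na _)
    · exact Submodule.mem_sup_left (Submodule.mem_sup_right (Submodule.subset_span ⟨(i, j), h, rfl⟩))

theorem exists_permutation_basis_of_card_two (hG : Nat.card G = 2) [Module.Finite (ZMod 2) V]
    (ρ : Representation (ZMod 2) G V) :
    ∃ (ι : Type v) (b : Module.Basis ι (ZMod 2) V), ∀ g : G, ∀ i : ι, ∃ j : ι, ρ g (b i) = b j := by
  classical
  obtain ⟨g₀, hg₀⟩ : ∃ g₀ : G, g₀ ≠ 1 := by
    haveI := Nat.finite_of_card_ne_zero (show Nat.card G ≠ 0 by omega)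
    haveI := Finite.one_lt_card_iff_nontrivial.1 (show 1 < Nat.card G by omega)
    exact exists_ne 1
  have hall : ∀ g : G, g = 1 ∨ g = g₀ := by
    obtain ⟨x, y, hxy, huniv⟩ := Nat.card_eq_two_iff.1 hG
    intro g
    have h1 : (1 : G) ∈ ({x, y} : Set G) := huniv ▸ Set.mem_univ _
    have h2 : g₀ ∈ ({x, y} : Set G) := huniv ▸ Set.mem_univ _
    have h3 : g ∈ ({x, y} : Set G) := huniv ▸ Set.mem_univ _
    simp only [Set.mem_insert_iff, Set.mem_singleton_iff] at h1 h2 h3
    grind
  have hinv : ∀ x, ρ g₀ (ρ g₀ x) = x := fun x => by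
    have : g₀ * g₀ = 1 := (hall _).resolve_right fun h => hg₀ (mul_eq_left.1 h)
    rw [← Module.End.mul_apply, ← map_mul, this, map_one]; rfl
  have h2V : ∀ x : V, x + x = 0 := fun x => by
    rw [← two_smul (ZMod 2) x, show (2 : ZMod 2) = 0 from rfl, zero_smul]
  let N : V →ₗ[ZMod 2] V := LinearMap.id + ρ g₀
  have hNN : LinearMap.range N ≤ LinearMap.ker N := by
    rintro _ ⟨x, rfl⟩
    simp only [N, LinearMap.mem_ker, LinearMap.add_apply, LinearMap.id_apply, map_add, hinv]
    rw [add_add_add_comm, add_comm (ρ g₀ x) x]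
    exact h2V _
  obtain ⟨U, hU⟩ := Submodule.exists_isCompl (LinearMap.ker N)
  obtain ⟨Z₀, hZ⟩ := Submodule.exists_isCompl (LinearMap.range N)
  let Z : Submodule (ZMod 2) V := Z₀ ⊓ LinearMap.ker N
  let T : (U × U) × Z →ₗ[ZMod 2] V :=
    (U.subtype.coprod (ρ g₀ ∘ₗ U.subtype)).coprod Z.subtype
  have hUker : ∀ x : U, N x = 0 → x = 0 := fun x hx => by
    have : (x : V) ∈ LinearMap.ker N ⊓ U := ⟨hx, x.2⟩
    rw [hU.inf_eq_bot, Submodule.mem_bot] at this
    exact Subtype.ext this
  have hTinj : Function.Injective T := by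
    rw [← LinearMap.ker_eq_bot, LinearMap.ker_eq_bot']
    rintro ⟨⟨a, a'⟩, z⟩ h
    have h' : (a : V) + ρ g₀ a' + z = 0 := h
    have hN : N (a + a' : U) = 0 := by
      have h1 := congrArg N h'
      rw [map_add, LinearMap.mem_ker.1 z.2.2, add_zero, map_zero, map_add] at h1
      have h2 : N (ρ g₀ a') = N a' := by
        simp only [N, LinearMap.add_apply, LinearMap.id_apply, hinv]; exact add_comm _ _
      rw [h2] at h1
      rw [Submodule.coe_add, map_add]
      exact h1
    have ha : a' = a := by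
      have h1 := hUker _ hN
      apply Subtype.ext
      have h2 := congrArg Subtype.val h1
      rw [Submodule.coe_add, Submodule.coe_zero] at h2
      calc (a' : V) = (a + a) + a' := by rw [h2V, zero_add]
        _ = a + (a + a') := add_assoc _ _ _
        _ = a := by rw [h2, add_zero]
    subst ha
    have hz : (z : V) = 0 := by
      have : (z : V) ∈ LinearMap.range N ⊓ Z₀ := by
        refine ⟨⟨a', ?_⟩, z.2.1⟩
        change (a' : V) + ρ g₀ a' = z
        calc (a' : V) + ρ g₀ a' = (a' + ρ g₀ a') + ((z : V) + z) := by rw [h2V, add_zero]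
          _ = (a' + ρ g₀ a' + z) + z := (add_assoc _ _ _).symm
          _ = z := by rw [h', zero_add]
      rw [hZ.inf_eq_bot, Submodule.mem_bot] at this
      exact this
    rw [hz, add_zero] at h'
    have : a' = 0 := hUker _ h'
    exact Prod.ext (Prod.ext this this) (Subtype.ext hz)
  have hTsurj : Function.Surjective T := by
    intro x
    obtain ⟨c, hc, a, ha, rfl⟩ := Submodule.mem_sup.1
      (show x ∈ LinearMap.ker N ⊔ U by rw [hU.sup_eq_top]; trivial)
    obtain ⟨r, hr, z, hz, rfl⟩ := Submodule.mem_sup.1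
      (show c ∈ LinearMap.range N ⊔ Z₀ by rw [hZ.sup_eq_top]; trivial)
    obtain ⟨y, rfl⟩ := hr
    have hzker : z ∈ LinearMap.ker N := by
      have := (LinearMap.ker N).sub_mem hc (hNN ⟨y, rfl⟩)
      simpa using this
    obtain ⟨c', hc', a', ha', rfl⟩ := Submodule.mem_sup.1
      (show y ∈ LinearMap.ker N ⊔ U by rw [hU.sup_eq_top]; trivial)
    refine ⟨((⟨a, ha⟩ + ⟨a', ha'⟩, ⟨a', ha'⟩), ⟨z, hz, hzker⟩), ?_⟩
    change (a + a') + ρ g₀ a' + z = N (c' + a') + z + a
    rw [map_add N, LinearMap.mem_ker.1 hc', zero_add]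
    simp only [N, LinearMap.add_apply, LinearMap.id_apply]
    abel
  let bU := Module.Free.chooseBasis (ZMod 2) U
  let bZ := Module.Free.chooseBasis (ZMod 2) Z
  let b := ((bU.prod bU).prod bZ).map (LinearEquiv.ofBijective T ⟨hTinj, hTsurj⟩)
  refine ⟨_, b, fun g i => ?_⟩
  rcases hall g with rfl | rfl
  · exact ⟨i, by rw [map_one]; rfl⟩
  rcases i with (i | i) | i
  · exact ⟨.inl (.inr i), by simp [b, T]⟩
  · exact ⟨.inl (.inl i), by simp [b, T, hinv]⟩
  · refine ⟨.inr i, ?_⟩
    have hz : N (bZ i : V) = 0 := (bZ i).2.2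
    have : ρ g (bZ i : V) = (bZ i : V) := by
      have h' : (bZ i : V) + ρ g (bZ i : V) = 0 := hz
      rw [← add_zero (ρ g (bZ i : V)), ← h2V (bZ i : V), ← add_assoc, add_comm (ρ g _) _, h',
        zero_add]
    simp [b, T, this]

end Groth.Agent.GalCohAux.SymExt
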