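import Groth.Agent.CiFields.Tsen
import Groth.Agent.CiFields.Brauer
import Groth.Agent.CiFields.AlgExt
import Mathlib.FieldTheory.Galois.Basic
import Mathlib.GroupTheory.IndexNormal
import Mathlib.GroupTheory.Sylow
import Mathlib.RingTheory.Norm.Transitivity

/-!
Norms of Galois extensions of C₁ fields: surjectivity and the kernel of the norm.
-/

set_option autoImplicit false

universe u

namespace Groth.Agent.GalCohAux.TsenNorm

open MvPolynomial

/-- Norms of finite extensions of C₁ fields are surjective. -/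
theorem norm_surjective {M L : Type u} [Field M] [Field L] [Algebra M L] [FiniteDimensional M L]
    (hM : Curves.IsCi M 1) : Function.Surjective (Algebra.norm M : L → M) := by
  classical
  intro a
  rcases eq_or_ne a 0 with rfl | ha
  · exact ⟨0, by simp⟩
  set n := Module.finrank M L
  have hn : 0 < n := Module.finrank_pos
  let b := Module.finBasis M L
  let f : MvPolynomial (Option (Fin n)) M :=
    rename some (CiFields.genMat b).det - C a * X none ^ n
  have h0 : ((CiFields.genMat b).det).IsHomogeneous n := by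
    have := CiFields.det_isHomogeneous (CiFields.genMat b) 1 fun i j => by
      simp only [CiFields.genMat, Matrix.of_apply]
      exact IsHomogeneous.sum _ _ _ fun l _ => (isHomogeneous_X M l).C_mul _
    simpa using this
  have hf : f.IsHomogeneous n :=
    h0.rename_isHomogeneous.sub ((isHomogeneous_X_pow (R := M) none n).C_mul a)
  obtain ⟨v, hv, hz⟩ := CiFields.isCr_exists (CiFields.isCr_of_isCi hM) f n hf hn (by simp)
  simp only [f, map_sub, map_mul, eval_C, map_pow, eval_X, eval_rename, sub_eq_zero] at hz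
  have hN : eval (v ∘ some) (CiFields.genMat b).det = Algebra.norm M (∑ l, v (some l) • b l) := by
    rw [RingHom.map_det, CiFields.genMat_eval, LinearMap.det_toMatrix, Algebra.norm_apply]
    rfl
  rcases eq_or_ne (v none) 0 with h | h
  · rw [h, zero_pow hn.ne', mul_zero] at hz
    refine absurd hz (CiFields.genMat_det_eval_ne_zero b fun e => hv (funext fun o => ?_))
    cases o with
    | none => exact h
    | some l => exact congrFun e l
  · refine ⟨(v none)⁻¹ • ∑ l, v (some l) • b l, ?_⟩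
    rw [Algebra.smul_def, map_mul, Algebra.norm_algebraMap, ← hN, hz, inv_pow]
    field_simp
    ring

variable {K L : Type u} [Field K] [Field L] [Algebra K L]

/-- The action on units. -/
abbrev act (g : L ≃ₐ[K] L) : Lˣ →* Lˣ := Units.map (g : L →* L)

theorem act_mul (g h : L ≃ₐ[K] L) (u : Lˣ) : act (g * h) u = act g (act h u) := Units.ext rfl

theorem act_one (u : Lˣ) : act (1 : L ≃ₐ[K] L) u = u := Units.ext rfl

/-- The subgroup generated by the `w / g w`. -/
def aug (P : Subgroup (L ≃ₐ[K] L)) : Subgroup Lˣ :=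
  Subgroup.closure {v | ∃ w : Lˣ, ∃ g ∈ P, v = w / act g w}

theorem aug_mono {P Q : Subgroup (L ≃ₐ[K] L)} (h : P ≤ Q) : aug P ≤ aug Q :=
  Subgroup.closure_mono fun _ ⟨w, g, hg, e⟩ => ⟨w, g, h hg, e⟩

theorem mem_aug {P : Subgroup (L ≃ₐ[K] L)} (w : Lˣ) {g : L ≃ₐ[K] L} (hg : g ∈ P) :
    w / act g w ∈ aug P := Subgroup.subset_closure ⟨w, g, hg, rfl⟩

variable [FiniteDimensional K L]

/-- The norm of a subgroup. -/
noncomputable def nrm (P : Subgroup (L ≃ₐ[K] L)) : Lˣ →* Lˣ :=
  letI := Fintype.ofFinite P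
  ∏ h : P, act (h : L ≃ₐ[K] L)

theorem nrm_apply (P : Subgroup (L ≃ₐ[K] L)) [Fintype P] (u : Lˣ) :
    nrm P u = ∏ h : P, act (h : L ≃ₐ[K] L) u := by
  obtain rfl : ‹Fintype P› = Fintype.ofFinite P := Subsingleton.elim _ _
  rw [nrm, MonoidHom.finsetProd_apply]

theorem exists_nrm_eq (hK : Curves.IsCi K 1) [IsGalois K L] (P : Subgroup (L ≃ₐ[K] L)) (m : Lˣ)
    (hm : ∀ h ∈ P, act h m = m) : ∃ w : Lˣ, nrm P w = m := by
  classical
  let M := IntermediateField.fixedField P
  have hmem : (m : L) ∈ M := (IntermediateField.mem_fixedField_iff _ _).2 fun h hh => congrArg Units.val (hm h hh)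
  obtain ⟨x, hx⟩ := norm_surjective (M := M) (L := L) (CiFields.isCi_of_finite hK) ⟨m, hmem⟩
  have hx0 : x ≠ 0 := by
    rintro rfl
    rw [Algebra.norm_zero] at hx
    exact m.ne_zero (congrArg Subtype.val hx).symm
  refine ⟨Units.mk0 x hx0, Units.ext ?_⟩
  rw [nrm_apply, Units.coe_prod]
  have h1 := Algebra.norm_eq_prod_automorphisms M x
  rw [hx] at h1
  refine Eq.trans ?_ h1.symm
  exact Fintype.prod_equiv (IntermediateField.subgroupEquivAlgEquiv P).toEquiv _ _ fun h => rfl

/-- Fixed elements of a normalised subgroup. -/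
def Fixed (H : Subgroup (L ≃ₐ[K] L)) (x : L) : Prop := ∀ h ∈ H, h x = x

omit [FiniteDimensional K L] in
theorem fixed_apply {H : Subgroup (L ≃ₐ[K] L)} {g : L ≃ₐ[K] L} (hg : ∀ h ∈ H, g⁻¹ * h * g ∈ H) {x : L}
    (hx : Fixed H x) : Fixed H (g x) := fun h hh => by
  have := hx _ (hg h hh)
  apply g⁻¹.injective
  show g⁻¹ (h (g x)) = (g⁻¹ * g) x
  rw [inv_mul_cancel]
  exact this

omit [FiniteDimensional K L] in
theorem fixed_pow {H : Subgroup (L ≃ₐ[K] L)} {g : L ≃ₐ[K] L} (hg : ∀ h ∈ H, g⁻¹ * h * g ∈ H) {x : L}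
    (hx : Fixed H x) (n : ℕ) : Fixed H ((g ^ n) x) := by
  induction n with
  | zero => exact hx
  | succ n ih =>
    rw [pow_succ']
    exact fixed_apply hg ih

theorem nrm_fixed (H : Subgroup (L ≃ₐ[K] L)) (u : Lˣ) : Fixed H (nrm H u : L) := by
  classical
  intro h hh
  have : act h (nrm H u) = nrm H u := by
    rw [nrm_apply, map_prod]
    exact Fintype.prod_equiv (Equiv.mulLeft (⟨h, hh⟩ : H)) _ _ fun x => (act_mul _ _ _).symm
  exact congrArg Units.val this

theorem nrm_comm {H : Subgroup (L ≃ₐ[K] L)} {g : L ≃ₐ[K] L} (hg : ∀ h ∈ H, g⁻¹ * h * g ∈ H) (u : Lˣ) :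
    nrm H (act g u) = act g (nrm H u) := by
  classical
  rw [nrm_apply, nrm_apply, map_prod]
  let c : H → H := fun h => ⟨g⁻¹ * h * g, hg h h.2⟩
  have hc : Function.Injective c := fun h h' e => Subtype.ext (by
    have := congrArg (fun t : H => g * (t : L ≃ₐ[K] L) * g⁻¹) e
    simpa [c, mul_assoc] using this)
  refine Fintype.prod_bijective c (Finite.injective_iff_bijective.1 hc) _ _ fun h => ?_
  rw [← act_mul, ← act_mul]
  congr 1
  simp [c, mul_assoc]

/-- Hilbert 90 for the cyclic layer. -/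
theorem exists_div_eq [IsGalois K L] {p : ℕ} (hp : 0 < p) {H : Subgroup (L ≃ₐ[K] L)} {g : L ≃ₐ[K] L}
    (hg : ∀ h ∈ H, g⁻¹ * h * g ∈ H) (hgp : g ^ p ∈ H)
    (hinj : ∀ i j : Fin p, (g ^ (j : ℕ))⁻¹ * g ^ (i : ℕ) ∈ H → i = j)
    (m : Lˣ) (hm : Fixed H (m : L)) (hprod : ∏ i ∈ Finset.range p, act (g ^ i) m = 1) :
    ∃ v : Lˣ, Fixed H (v : L) ∧ m = v / act g v := by
  classical
  let c : ℕ → L := fun i => ∏ j ∈ Finset.range i, ((g ^ j) (m : L))
  have hc0 : c 0 = 1 := Finset.prod_range_zero _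
  have hcp : c p = 1 := by
    have := congrArg Units.val hprod
    rwa [Units.coe_prod] at this
  have hcs : ∀ i, c (i + 1) = (m : L) * g (c i) := fun i => by
    show ∏ j ∈ Finset.range (i + 1), _ = _ * g (∏ j ∈ Finset.range i, _)
    rw [Finset.prod_range_succ', map_prod, pow_zero, mul_comm]
    congr 1
    exact Finset.prod_congr rfl fun j _ => by rw [pow_succ']; rfl
  have hcfix : ∀ i, Fixed H (c i) := fun i h hh => by
    simp only [c, map_prod]
    exact Finset.prod_congr rfl fun j _ => fixed_pow hg hm j h hh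
  let M := IntermediateField.fixedField H
  let f : Fin p → (M →* L) := fun i =>
    ((g ^ (i : ℕ) : L ≃ₐ[K] L) : L →* L).comp (M.val : M →* L)
  have hf : Function.Injective f := fun i j e => hinj i j (by
    rw [← IntermediateField.fixingSubgroup_fixedField H, IntermediateField.mem_fixingSubgroup_iff]
    intro x hx
    apply (g ^ (j : ℕ)).injective
    show (g ^ (j : ℕ) * ((g ^ (j : ℕ))⁻¹ * g ^ (i : ℕ))) x = (g ^ (j : ℕ)) x
    rw [mul_inv_cancel_left]
    exact DFunLike.congr_fun e ⟨x, hx⟩)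
  obtain ⟨θ, hθ⟩ : ∃ θ : M, ∑ i : Fin p, c i * (g ^ (i : ℕ)) (θ : L) ≠ 0 := by
    by_contra hall
    push Not at hall
    have hli := (linearIndependent_monoidHom M L).comp f hf
    have := Fintype.linearIndependent_iff.1 hli (fun i => c i) (funext fun θ => by
      simpa [Finset.sum_apply, f] using hall θ) ⟨0, hp⟩
    simp [hc0] at this
  rw [Fin.sum_univ_eq_sum_range (fun i => c i * (g ^ i) (θ : L))] at hθ
  refine ⟨Units.mk0 _ hθ, fun h hh => ?_, ?_⟩
  · rw [Units.val_mk0, map_sum]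
    refine Finset.sum_congr rfl fun i _ => ?_
    rw [map_mul, hcfix i h hh,
      fixed_pow hg ((IntermediateField.mem_fixedField_iff _ _).1 θ.2) i h hh]
  · rw [eq_div_iff_mul_eq']
    apply Units.ext
    rw [Units.val_mul]
    show (m : L) * g (∑ i ∈ Finset.range p, c i * (g ^ i) (θ : L)) = ∑ i ∈ Finset.range p, c i * (g ^ i) (θ : L)
    rw [map_sum, Finset.mul_sum]
    have hterm : ∀ i, (m : L) * g (c i * (g ^ i) (θ : L)) = c (i + 1) * (g ^ (i + 1)) (θ : L) := fun i => by
      rw [map_mul, ← mul_assoc, ← hcs, pow_succ']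
      rfl
    simp only [hterm]
    have h1 := Finset.sum_range_succ' (fun i => c i * (g ^ i) (θ : L)) p
    have h2 := Finset.sum_range_succ (fun i => c i * (g ^ i) (θ : L)) p
    simp only [hcp, hc0, pow_zero, one_mul,
      show (g ^ p) (θ : L) = θ from (IntermediateField.mem_fixedField_iff _ _).1 θ.2 _ hgp] at h1 h2
    rw [h2] at h1
    exact (add_right_cancel h1).symm

theorem mem_aug_pGroup (hK : Curves.IsCi K 1) [IsGalois K L] {p : ℕ} [hp : Fact p.Prime] :
    ∀ (n : ℕ) (P : Subgroup (L ≃ₐ[K] L)), Nat.card P = p ^ n → ∀ u : Lˣ, nrm P u = 1 → u ∈ aug P := by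
  classical
  intro n
  induction n with
  | zero =>
    intro P hP u hu
    rw [pow_zero, Nat.card_eq_one_iff_unique] at hP
    haveI := hP.1
    haveI : Unique P := uniqueOfSubsingleton 1
    rw [nrm_apply, Fintype.prod_unique, Subsingleton.elim (default : P) 1, Subgroup.coe_one, act_one] at hu
    rw [hu]
    exact one_mem _
  | succ n ih =>
    intro P hP u hu
    obtain ⟨H₀, hH₀⟩ := Sylow.exists_subgroup_card_pow_prime p (n := n) (G := P)
      (hP ▸ pow_dvd_pow p n.le_succ)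
    have hidx : H₀.index = p := by
      have := H₀.card_mul_index
      rw [hH₀, hP, pow_succ] at this
      exact Nat.eq_of_mul_eq_mul_left (pow_pos hp.out.pos n) this
    have hnorm : H₀.Normal := Subgroup.normal_of_index_eq_minFac_card (by
      rw [hidx, hP, Nat.pow_minFac n.succ_ne_zero, hp.out.minFac_eq])
    let H := H₀.map P.subtype
    have hH : Nat.card H = p ^ n := by
      rw [Subgroup.card_map_of_injective P.subtype_injective, hH₀]
    have hHP : H ≤ P := Subgroup.map_subtype_le H₀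
    obtain ⟨g, hg⟩ : ∃ g : P, g ∉ H₀ := by
      by_contra hall
      push Not at hall
      rw [(eq_top_iff.2 fun x _ => hall x : H₀ = ⊤), Subgroup.index_top] at hidx
      exact hp.out.one_lt.ne hidx
    have hord : orderOf (QuotientGroup.mk' H₀ g) = p := by
      refine orderOf_eq_prime ?_ fun e => hg ((QuotientGroup.eq_one_iff g).1 e)
      rw [← hidx, Subgroup.index]
      exact pow_card_eq_one'
    have hgH : ∀ h ∈ H, (g : L ≃ₐ[K] L)⁻¹ * h * g ∈ H := by
      rintro _ ⟨h, hh, rfl⟩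
      refine ⟨g⁻¹ * h * g, ?_, rfl⟩
      simpa using hnorm.conj_mem h hh g⁻¹
    have hpow : ∀ x : P, (x : L ≃ₐ[K] L) ∈ H ↔ x ∈ H₀ := fun x =>
      ⟨fun ⟨y, hy, e⟩ => Subtype.ext e ▸ hy, fun hx => ⟨x, hx, rfl⟩⟩
    have hgp : (g : L ≃ₐ[K] L) ^ p ∈ H := by
      rw [← SubgroupClass.coe_pow, hpow, ← QuotientGroup.eq_one_iff]
      exact (map_pow (QuotientGroup.mk' H₀) g p).trans (hord ▸ pow_orderOf_eq_one _)
    have hinj : ∀ i j : Fin p, ((g : L ≃ₐ[K] L) ^ (j : ℕ))⁻¹ * (g : L ≃ₐ[K] L) ^ (i : ℕ) ∈ H → i = j := by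
      intro i j hij
      rw [← SubgroupClass.coe_pow, ← SubgroupClass.coe_pow, ← InvMemClass.coe_inv, ← MulMemClass.coe_mul,
        hpow, ← QuotientGroup.eq] at hij
      apply Fin.ext
      refine pow_injOn_Iio_orderOf (x := QuotientGroup.mk' H₀ g) ?_ ?_ ?_
      · simp only [Set.mem_Iio, hord]; exact i.2
      · simp only [Set.mem_Iio, hord]; exact j.2
      · simpa using hij.symm
    let e : Fin p × H → P := fun x => g ^ (x.1 : ℕ) * ⟨x.2, hHP x.2.2⟩
    have he : Function.Bijective e := by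
      rw [Fintype.bijective_iff_injective_and_card]
      refine ⟨fun x y hxy => ?_, ?_⟩
      · have h1 : ((g : L ≃ₐ[K] L) ^ (x.1 : ℕ)) * x.2 = (g : L ≃ₐ[K] L) ^ (y.1 : ℕ) * y.2 :=
          congrArg Subtype.val hxy
        have h2 : ((g : L ≃ₐ[K] L) ^ (y.1 : ℕ))⁻¹ * (g : L ≃ₐ[K] L) ^ (x.1 : ℕ) = y.2 * (x.2 : L ≃ₐ[K] L)⁻¹ := by
          rw [eq_mul_inv_iff_mul_eq, mul_assoc, h1, inv_mul_cancel_left]
        have h3 := hinj x.1 y.1 (h2 ▸ mul_mem y.2.2 (inv_mem x.2.2))
        rw [h3] at h1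
        exact Prod.ext h3 (Subtype.ext (mul_left_cancel h1))
      · rw [Fintype.card_prod, Fintype.card_fin, ← Nat.card_eq_fintype_card, ← Nat.card_eq_fintype_card, hH, hP,
          pow_succ']
    let m := nrm H u
    have hm : Fixed H (m : L) := nrm_fixed H u
    have hprod : ∏ i ∈ Finset.range p, act ((g : L ≃ₐ[K] L) ^ i) m = 1 := by
      rw [← hu, nrm_apply, ← (Equiv.ofBijective e he).prod_comp, Fintype.prod_prod_type,
        ← Fin.prod_univ_eq_prod_range (fun i => act ((g : L ≃ₐ[K] L) ^ i) m)]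
      refine Finset.prod_congr rfl fun i _ => ?_
      rw [show m = _ from nrm_apply H u, map_prod]
      exact Finset.prod_congr rfl fun h _ => (act_mul _ _ _).symm
    obtain ⟨v, hv, hmv⟩ := exists_div_eq hp.out.pos hgH hgp hinj m hm hprod
    obtain ⟨w, hw⟩ := exists_nrm_eq hK H v fun h hh => Units.ext (hv h hh)
    have h1 : u / (w / act (g : L ≃ₐ[K] L) w) ∈ aug H := ih H hH _ (by
      rw [map_div, map_div, hw, nrm_comm hgH, hw]
      exact div_eq_one.2 hmv)
    have := mul_mem (aug_mono hHP h1) (mem_aug w g.2)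
    rwa [div_mul_cancel] at this

theorem mem_aug_top (hK : Curves.IsCi K 1) [IsGalois K L] (u : Lˣ) (hu : nrm (⊤ : Subgroup (L ≃ₐ[K] L)) u = 1) :
    u ∈ aug (⊤ : Subgroup (L ≃ₐ[K] L)) := by
  classical
  let q := QuotientGroup.mk' (aug (⊤ : Subgroup (L ≃ₐ[K] L))) u
  suffices ∀ p : ℕ, p.Prime → ¬ p ∣ orderOf q by
    have h1 : orderOf q = 1 := Nat.eq_one_iff_not_exists_prime_dvd.2 this
    exact (QuotientGroup.eq_one_iff u).1 (orderOf_eq_one_iff.1 h1)
  intro p hp hdvd
  haveI : Fact p.Prime := ⟨hp⟩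
  let P : Sylow p (L ≃ₐ[K] L) := default
  obtain ⟨n, hn⟩ := IsPGroup.iff_card.1 P.2
  let P' : Subgroup (L ≃ₐ[K] L) := P
  letI : Fintype ((L ≃ₐ[K] L) ⧸ P') := Fintype.ofFinite _
  let v := ∏ c : (L ≃ₐ[K] L) ⧸ P', act c.out⁻¹ u
  let e : P' × ((L ≃ₐ[K] L) ⧸ P') → (⊤ : Subgroup (L ≃ₐ[K] L)) := fun x =>
    ⟨x.1 * x.2.out⁻¹, Subgroup.mem_top _⟩
  have he : Function.Bijective e := by
    rw [Fintype.bijective_iff_injective_and_card]
    refine ⟨fun x y hxy => ?_, ?_⟩
    · have h1 : (x.1 : L ≃ₐ[K] L) * x.2.out⁻¹ = y.1 * y.2.out⁻¹ := congrArg Subtype.val hxy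
      have h2 : x.2 = y.2 := by
        rw [← QuotientGroup.out_eq' x.2, ← QuotientGroup.out_eq' y.2, QuotientGroup.eq]
        have : (x.2.out)⁻¹ * y.2.out = (x.1 : L ≃ₐ[K] L)⁻¹ * y.1 := by
          rw [eq_inv_mul_iff_mul_eq, ← mul_assoc, h1, inv_mul_cancel_right]
        rw [this]
        exact mul_mem (inv_mem x.1.2) y.1.2
      rw [h2] at h1
      exact Prod.ext (Subtype.ext (mul_right_cancel h1)) h2
    · rw [Fintype.card_prod, ← Nat.card_eq_fintype_card, ← Nat.card_eq_fintype_card,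
        ← Nat.card_eq_fintype_card, Subgroup.card_top, mul_comm]
      exact (Subgroup.card_eq_card_quotient_mul_card_subgroup P').symm
  have hv : nrm P' v = 1 := by
    rw [← hu, nrm_apply, nrm_apply, ← (Equiv.ofBijective e he).prod_comp, Fintype.prod_prod_type]
    refine Finset.prod_congr rfl fun h _ => ?_
    rw [map_prod]
    exact Finset.prod_congr rfl fun c _ => (act_mul _ _ _).symm
  have h1 := aug_mono le_top (mem_aug_pGroup hK n P' hn v hv)
  have h2 : q ^ P'.index = 1 := by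
    rw [← map_pow]
    refine (QuotientGroup.eq_one_iff _).2 ?_
    have h3 : (∏ c : (L ≃ₐ[K] L) ⧸ P', u / act c.out⁻¹ u) * v ∈ aug (⊤ : Subgroup (L ≃ₐ[K] L)) :=
      mul_mem (prod_mem fun c _ => mem_aug u (Subgroup.mem_top _)) h1
    rwa [Finset.prod_div_distrib, div_mul_cancel, Finset.prod_const, Finset.card_univ,
      ← Nat.card_eq_fintype_card, ← Subgroup.index] at h3
  exact P.not_dvd_index (hdvd.trans (orderOf_dvd_of_pow_eq_one h2))

theorem nrm_top [IsGalois K L] (u : Lˣ) : (nrm (⊤ : Subgroup (L ≃ₐ[K] L)) u : L) = algebraMap K L (Algebra.norm K (u : L)) := by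
  classical
  rw [Algebra.norm_eq_prod_automorphisms, nrm_apply, Units.coe_prod]
  exact Fintype.prod_equiv Subgroup.topEquiv.toEquiv _ _ fun _ => rfl

end Groth.Agent.GalCohAux.TsenNorm
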